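/-
Upper bounds for the index of a subgroup from a double coset enumeration, checked by the kernel: the cosets are
described up to the action of the subgroup, and the facts are checked for one representative of each orbit.
-/
import Cfsg.Agent.Lib.Compute.TCChain2

set_option autoImplicit false

namespace Cfsg.Agent.Lib.Compute.DCoset

open Cfsg.Agent.Lib.Compute.ToddCoxeterCore Cfsg.Agent.Lib.Compute.TCChain

/-- The image of a point under a product of tabulated elements. -/
noncomputable def evL (S : ℕ → ℕ → ℕ) (l : List ℕ) : ℕ → ℕ :=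
  List.rec (motive := fun _ => ℕ → ℕ) (fun a => a) (fun j _ ih a => frc (ih a) (S j)) l

theorem evL_nil (S : ℕ → ℕ → ℕ) (a : ℕ) : evL S [] a = a := rfl

theorem evL_cons (S : ℕ → ℕ → ℕ) (j : ℕ) (l : List ℕ) (a : ℕ) :
    evL S (j :: l) a = S j (evL S l a) := by
  show frc (evL S l a) (S j) = _
  rw [frc_eq]

/-- How a fact is derived. -/
inductive Rl
  /-- the definition of a name -/
  | df
  /-- an element of the subgroup fixes the base point -/
  | gn
  /-- the inverse of an edge -/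
  | inv (a : ℕ)
  /-- moving the source of an edge -/
  | t1 (a b : ℕ)
  /-- moving the target of an edge -/
  | t2 (a b : ℕ)
  /-- two edges with the same source and letter -/
  | cc (a b : ℕ)
  /-- composition of equalities -/
  | cmp (a b : ℕ)
  /-- inverse of an equality -/
  | einv (a : ℕ)
  /-- a stabiliser moves along an edge -/
  | sk (a b : ℕ)
  /-- a relator, with the walks from both of its ends -/
  | rel (ρ : ℕ) (h0 : List ℕ) (r k : ℕ) (w1 w2 : List ℕ)

/-- A fact: if `e` then `x c • W i = g • W j` else `W i = g • W j`. -/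
structure Fct where
  /-- whether the fact is an edge -/
  e : Bool
  /-- the source name -/
  i : ℕ
  /-- the letter -/
  c : ℕ
  /-- the target name -/
  j : ℕ
  /-- the element -/
  g : List ℕ
  /-- the derivation -/
  r : Rl

/-- A tree of facts. -/
inductive FT
  /-- one fact -/
  | leaf (f : Fct)
  /-- the facts below `k` on the left, the others on the right -/
  | node (k : ℕ) (l r : FT)

/-- Reading a tree of facts. -/
noncomputable def FT.get (t : FT) (f : ℕ) : Fct :=
  FT.rec (motive := fun _ => Fct) (fun a => a) (fun k _ _ il ir => Bool.rec il ir (Nat.ble k f)) t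

/-- The data of a double coset enumeration. -/
structure DC where
  /-- the number of letters -/
  n : ℕ
  /-- the check that a product of tabulated elements moves a letter to a letter -/
  la : List ℕ → ℕ → ℕ → Bool
  /-- the number of points of a faithful action -/
  m : ℕ
  /-- the tables of the tabulated elements on these points -/
  R : ℕ → ℕ → ℕ
  /-- the base points of the subgroup -/
  base : List ℕ
  /-- the inverse letters -/
  invl : ℕ → ℕ
  /-- the names, as words in the letters -/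
  path : ℕ → List ℕ
  /-- the facts -/
  F : ℕ → Fct
  /-- the relators: letters in the order of application, and the value -/
  rels : ℕ → List ℕ × List ℕ

/-- equality of lists of naturals -/
def lbeq : List ℕ → List ℕ → Bool
  | [], [] => true
  | a :: l, b :: l' => Nat.beq a b && lbeq l l'
  | _, _ => false

theorem lbeq_spec : ∀ {l l' : List ℕ}, lbeq l l' = true → l = l'
  | [], [], _ => rfl
  | a :: l, b :: l', h => by
    simp only [lbeq, Bool.and_eq_true] at h
    rw [beq_iff.1 h.1, lbeq_spec h.2]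
  | [], _ :: _, h => by simp [lbeq] at h
  | _ :: _, [], h => by simp [lbeq] at h

namespace DC

variable (d : DC)

/-- the two elements have the same images on the base -/
noncomputable def eqB (l1 l2 : List ℕ) : Bool :=
  d.base.all (fun b => Nat.beq (evL d.R l1 b) (evL d.R l2 b))

/-- walking along facts -/
noncomputable def walk (bd : ℕ) : List ℕ → (List ℕ → ℕ → List ℕ → Bool) → List ℕ → ℕ → List ℕ → Bool
  | [], k, l, m, ls => k l m ls
  | a :: ws, k, l, m, ls =>
    blt a bd && (Nat.beq (d.F a).i m &&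
      (match (d.F a).e with
       | true =>
         (match ls with
          | [] => false
          | b :: ls' => d.la l (d.F a).c b && walk bd ws k (l ++ (d.F a).g) (d.F a).j ls')
       | false => walk bd ws k (l ++ (d.F a).g) (d.F a).j ls))

/-- the check of a fact derived from a relator -/
noncomputable def chkRel (f : ℕ) (fa : Fct) (ρ : ℕ) (h0 : List ℕ) (r k : ℕ) (w1 w2 : List ℕ) : Bool :=
  (d.rels ρ).1.all (fun b => blt b d.n) &&
  walk d f w1 (fun l1 n1 ls1 => ls1.isEmpty &&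
    walk d f w2 (fun l2 n2 ls2 => ls2.isEmpty && Nat.beq fa.i n1 && Nat.beq fa.j n2 &&
        d.eqB (l1 ++ fa.g) l2 &&
        (match fa.e with
         | true => blt fa.c d.n &&
            (match (d.rels ρ).1.drop k with
             | [] => false
             | b :: _ => d.la l1 fa.c b)
         | false => true))
      ((d.rels ρ).2 ++ h0) r
      ((((d.rels ρ).1.drop (match fa.e with | true => k + 1 | false => k)).reverse).map d.invl))
    h0 r ((d.rels ρ).1.take k)

/-- the check of a fact -/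
noncomputable def chk (f : ℕ) : Bool :=
  match d.F f with
  | fa =>
  match fa.r with
  | .df => fa.e && blt fa.c d.n && lbeq fa.g [] && lbeq (d.path fa.j) (fa.c :: d.path fa.i)
  | .gn => !fa.e && lbeq (d.path fa.i) [] && lbeq (d.path fa.j) []
  | .inv a =>
    blt a f && (d.F a).e && fa.e && blt fa.c d.n && Nat.beq fa.i (d.F a).j && Nat.beq fa.j (d.F a).i &&
      d.la (d.F a).g fa.c (d.invl (d.F a).c) && d.eqB ((d.F a).g ++ fa.g) []
  | .t1 a b =>
    blt a f && blt b f && (d.F a).e && !(d.F b).e && fa.e && blt fa.c d.n &&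
      Nat.beq (d.F a).i (d.F b).i && Nat.beq fa.i (d.F b).j && Nat.beq fa.j (d.F a).j &&
      d.la (d.F b).g fa.c (d.F a).c && d.eqB ((d.F b).g ++ fa.g) (d.F a).g
  | .t2 a b =>
    blt a f && blt b f && (d.F a).e && !(d.F b).e && fa.e &&
      Nat.beq (d.F a).j (d.F b).i && Nat.beq fa.i (d.F a).i && Nat.beq fa.c (d.F a).c &&
      Nat.beq fa.j (d.F b).j && d.eqB ((d.F a).g ++ (d.F b).g) fa.g
  | .cc a b =>
    blt a f && blt b f && (d.F a).e && (d.F b).e && !fa.e &&
      Nat.beq (d.F a).i (d.F b).i && Nat.beq (d.F a).c (d.F b).c &&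
      Nat.beq fa.i (d.F a).j && Nat.beq fa.j (d.F b).j && d.eqB ((d.F a).g ++ fa.g) (d.F b).g
  | .cmp a b =>
    blt a f && blt b f && !(d.F a).e && !(d.F b).e && !fa.e &&
      Nat.beq (d.F a).j (d.F b).i && Nat.beq fa.i (d.F a).i && Nat.beq fa.j (d.F b).j &&
      d.eqB ((d.F a).g ++ (d.F b).g) fa.g
  | .einv a =>
    blt a f && !(d.F a).e && !fa.e && Nat.beq fa.i (d.F a).j && Nat.beq fa.j (d.F a).i &&
      d.eqB ((d.F a).g ++ fa.g) []
  | .sk a b =>
    blt a f && blt b f && (d.F a).e && !(d.F b).e && !fa.e &&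
      Nat.beq (d.F b).i (d.F a).i && Nat.beq (d.F b).j (d.F a).i &&
      d.la (d.F b).g (d.F a).c (d.F a).c &&
      Nat.beq fa.i (d.F a).j && Nat.beq fa.j (d.F a).j &&
      d.eqB ((d.F a).g ++ fa.g) ((d.F b).g ++ (d.F a).g)
  | .rel ρ h0 r k w1 w2 => chkRel d f fa ρ h0 r k w1 w2

end DC

universe u v w

section Sem

variable {G : Type u} {P : Type v} {Q : Type w} [Group G] [Group P] [MulAction G Q]

/-- the value of a list of tabulated elements -/
def vl (val : ℕ → P) (l : List ℕ) : P := (l.map val).prod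

theorem vl_nil (val : ℕ → P) : vl val [] = 1 := rfl

theorem vl_cons (val : ℕ → P) (j : ℕ) (l : List ℕ) : vl val (j :: l) = val j * vl val l := by
  simp [vl]

theorem vl_append (val : ℕ → P) (a b : List ℕ) : vl val (a ++ b) = vl val a * vl val b := by
  simp [vl]

/-- applying letters in turn -/
def apLs (x : ℕ → G) (ls : List ℕ) (q : Q) : Q := ls.foldl (fun q b => x b • q) q

theorem apLs_nil (x : ℕ → G) (q : Q) : apLs x [] q = q := rfl

theorem apLs_cons (x : ℕ → G) (b : ℕ) (ls : List ℕ) (q : Q) :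
    apLs x (b :: ls) q = apLs x ls (x b • q) := rfl

theorem apLs_append (x : ℕ → G) (a b : List ℕ) (q : Q) :
    apLs x (a ++ b) q = apLs x b (apLs x a q) := by
  simp [apLs, List.foldl_append]

variable (d : DC) (e : P →* G) (φ : P →* Equiv.Perm (Fin d.n)) (ψ : P →* Equiv.Perm (Fin d.m)) (x : ℕ → G) (p0 : Q)
  (val : ℕ → P)

/-- The hypotheses on the data of an enumeration. -/
structure Ok : Prop where
  hS : ∀ l a b (ha : a < d.n), d.la l a b = true → (φ (vl val l) ⟨a, ha⟩ : ℕ) = b
  hR : ∀ j a (ha : a < d.m), d.R j a = ψ (val j) ⟨a, ha⟩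
  hx : ∀ (h : P) (c : ℕ) (hc : c < d.n), e h * x c * (e h)⁻¹ = x (φ h ⟨c, hc⟩)
  hinv : ∀ c, c < d.n → x (d.invl c) = (x c)⁻¹
  hinvlt : ∀ c, c < d.n → d.invl c < d.n
  hrig : ∀ h : P, (∀ b (hb : b < d.m), b ∈ d.base → ψ h ⟨b, hb⟩ = ⟨b, hb⟩) → h = 1
  hbase : ∀ b ∈ d.base, b < d.m
  h0 : ∀ h : P, e h • p0 = p0
  hrel : ∀ ρ (q : Q), apLs x (d.rels ρ).1 q = e (vl val (d.rels ρ).2) • q

/-- Reading letters from a table. -/
theorem evL_table {S : ℕ → ℕ → ℕ} (hS : ∀ j a (ha : a < d.n), S j a = φ (val j) ⟨a, ha⟩) (a : ℕ)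
    (ha : a < d.n) (l : List ℕ) : evL S l a = φ (vl val l) ⟨a, ha⟩ := by
  induction l with
  | nil => simp [evL_nil, vl_nil]
  | cons j l h0 =>
    have h1 : evL S l a < d.n := by rw [h0]; exact Fin.is_lt _
    rw [evL_cons, vl_cons, map_mul, Equiv.Perm.mul_apply, hS j _ h1]
    congr 2
    exact Fin.ext h0

/-- The check of letters by a table. -/
theorem la_of_table {S : ℕ → ℕ → ℕ} (hS : ∀ j a (ha : a < d.n), S j a = φ (val j) ⟨a, ha⟩) (l : List ℕ) (a b : ℕ)
    (ha : a < d.n) (h : Nat.beq (evL S l a) b = true) : (φ (vl val l) ⟨a, ha⟩ : ℕ) = b := by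
  rw [← beq_iff.1 h]
  exact (evL_table d φ val hS a ha l).symm

/-- The name as a group element applied to the base point. -/
def W (i : ℕ) : Q := ((d.path i).map x).prod • p0

/-- The meaning of a fact. -/
def Holds (fa : Fct) : Prop :=
  (fa.e = true → fa.c < d.n ∧ x fa.c • W d x p0 fa.i = e (vl val fa.g) • W d x p0 fa.j) ∧
  (fa.e = false → W d x p0 fa.i = e (vl val fa.g) • W d x p0 fa.j)

variable {d e φ ψ x p0 val}

theorem Ok.evR_spec (H : Ok d e φ ψ x p0 val) (l : List ℕ) (a : ℕ) (ha : a < d.m) :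
    evL d.R l a = ψ (vl val l) ⟨a, ha⟩ := by
  induction l with
  | nil => simp [evL_nil, vl_nil]
  | cons j l ih =>
    rw [evL_cons, vl_cons, map_mul, Equiv.Perm.mul_apply]
    have h1 : evL d.R l a < d.m := by rw [ih]; exact Fin.is_lt _
    rw [H.hR j _ h1]
    congr 2
    exact Fin.ext ih

theorem Ok.eqB_spec (H : Ok d e φ ψ x p0 val) {l1 l2 : List ℕ} (h : d.eqB l1 l2 = true) :
    vl val l1 = vl val l2 := by
  have h1 := H.hrig ((vl val l2)⁻¹ * vl val l1) (by
    intro b hb hm
    have h2 := List.all_eq_true.1 h b hm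
    have h3 := beq_iff.1 h2
    rw [H.evR_spec l1 b hb, H.evR_spec l2 b hb] at h3
    rw [map_mul, Equiv.Perm.mul_apply, map_inv, Equiv.Perm.inv_eq_iff_eq]
    exact Fin.ext h3)
  exact (inv_mul_eq_one.1 h1).symm

theorem Ok.smul_x (H : Ok d e φ ψ x p0 val) {l : List ℕ} {c b : ℕ} (hc : c < d.n)
    (hb : d.la l c b = true) (q : Q) :
    x b • e (vl val l) • q = e (vl val l) • x c • q := by
  have h1 := H.hx (vl val l) c hc
  have h2 : x b = x (φ (vl val l) ⟨c, hc⟩) := by
    rw [H.hS l c b hc hb]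
  rw [h2, ← h1, smul_smul, smul_smul]
  congr 1
  group

/-- the walk semantics -/
theorem Ok.walk_spec (H : Ok d e φ ψ x p0 val) {bd : ℕ}
    (IH : ∀ a, a < bd → Holds d e x p0 val (d.F a)) (ws : List ℕ)
    (k : List ℕ → ℕ → List ℕ → Bool) (l : List ℕ) (m : ℕ) (ls : List ℕ)
    (h : d.walk bd ws k l m ls = true) :
    ∃ l' m' ls', k l' m' ls' = true ∧
      apLs x ls (e (vl val l) • W d x p0 m) = apLs x ls' (e (vl val l') • W d x p0 m') := by
  induction ws generalizing l m ls with
  | nil => exact ⟨l, m, ls, h, rfl⟩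
  | cons a ws ih =>
    unfold DC.walk at h
    simp only [Bool.and_eq_true] at h
    obtain ⟨h1, h2, h3⟩ := h
    have ha := IH a (blt_iff.1 h1)
    have hm := beq_iff.1 h2
    cases he : (d.F a).e with
    | true =>
      rw [he] at h3
      cases ls with
      | nil => simp at h3
      | cons b ls' =>
        simp only [Bool.and_eq_true] at h3
        obtain ⟨h4, h5⟩ := h3
        obtain ⟨l', m', ls'', h6, h7⟩ := ih _ _ _ h5
        refine ⟨l', m', ls'', h6, ?_⟩
        rw [← h7, apLs_cons]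
        obtain ⟨hc, hf⟩ := ha.1 he
        rw [H.smul_x hc h4, ← hm, hf, vl_append, map_mul, mul_smul]
    | false =>
      rw [he] at h3
      obtain ⟨l', m', ls'', h6, h7⟩ := ih _ _ _ h3
      refine ⟨l', m', ls'', h6, ?_⟩
      rw [← h7]
      have hf := ha.2 he
      rw [← hm, hf, vl_append, map_mul, mul_smul]

theorem apLs_inv (H : Ok d e φ ψ x p0 val) (ls : List ℕ) (hls : ∀ b ∈ ls, b < d.n) (q : Q) :
    apLs x ((ls.reverse).map d.invl) (apLs x ls q) = q := by
  induction ls generalizing q with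
  | nil => rfl
  | cons b ls ih =>
    rw [List.reverse_cons, List.map_append, apLs_append, apLs_cons]
    rw [ih (fun c hc => hls c (by simp [hc]))]
    simp only [List.map_cons, List.map_nil, apLs_cons, apLs_nil]
    rw [H.hinv b (hls b (by simp)), inv_smul_smul]

theorem Ok.chkRel_spec (H : Ok d e φ ψ x p0 val) {f : ℕ}
    (IH : ∀ a, a < f → Holds d e x p0 val (d.F a)) {fa : Fct} {ρ : ℕ} {h0 : List ℕ} {r k : ℕ}
    {w1 w2 : List ℕ} (h : d.chkRel f fa ρ h0 r k w1 w2 = true) :
    Holds d e x p0 val fa := by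
  unfold DC.chkRel at h
  simp only [Bool.and_eq_true] at h
  obtain ⟨hlt, h⟩ := h
  have hL : ∀ b ∈ (d.rels ρ).1, b < d.n := fun b hb => blt_iff.1 (List.all_eq_true.1 hlt b hb)
  obtain ⟨l1, n1, ls1, h1, h2⟩ := H.walk_spec IH _ _ _ _ _ h
  simp only [Bool.and_eq_true] at h1
  obtain ⟨h3, h4⟩ := h1
  obtain ⟨l2, n2, ls2, h5, h6⟩ := H.walk_spec IH _ _ _ _ _ h4
  simp only [Bool.and_eq_true] at h5
  obtain ⟨⟨⟨⟨h7, h8⟩, h9⟩, h10⟩, h11⟩ := h5
  have hls1 : ls1 = [] := List.isEmpty_iff.1 h3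
  have hls2 : ls2 = [] := List.isEmpty_iff.1 h7
  subst hls1 hls2
  rw [apLs_nil] at h2 h6
  have hn1 := beq_iff.1 h8
  have hn2 := beq_iff.1 h9
  have hg := H.eqB_spec h10
  rw [vl_append] at hg
  set q0 := e (vl val h0) • W d x p0 r with hq0
  have hE : apLs x (d.rels ρ).1 q0 = e (vl val ((d.rels ρ).2 ++ h0)) • W d x p0 r := by
    rw [H.hrel, vl_append, map_mul, mul_smul]
  have hL0 := List.take_append_drop k (d.rels ρ).1
  constructor
  · intro he
    rw [he] at h11 h6
    simp only [Bool.and_eq_true] at h11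
    obtain ⟨h12, h13⟩ := h11
    have hc := blt_iff.1 h12
    refine ⟨hc, ?_⟩
    cases hdr : (d.rels ρ).1.drop k with
    | nil => rw [hdr] at h13; simp at h13
    | cons b tl =>
      rw [hdr] at h13
      simp only [] at h13
      have hdr2 : (d.rels ρ).1.drop (k + 1) = tl := by
        have : (d.rels ρ).1.drop (k + 1) = ((d.rels ρ).1.drop k).drop 1 := by
          rw [List.drop_drop]
        rw [this, hdr]
        rfl
      simp only [] at h6
      rw [hdr2] at h6
      have hsplit : (d.rels ρ).1 = (d.rels ρ).1.take k ++ b :: tl := by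
        rw [← hdr, hL0]
      have hstep : apLs x (b :: tl) (e (vl val l1) • W d x p0 n1) = e (vl val ((d.rels ρ).2 ++ h0)) • W d x p0 r := by
        rw [← hE, ← h2]
        rw [← apLs_append, ← hsplit]
      rw [apLs_cons] at hstep
      have hback := apLs_inv H tl (fun c hc => hL c (by
        rw [hsplit]; simp [hc])) (x b • e (vl val l1) • W d x p0 n1)
      rw [hstep, h6] at hback
      rw [H.smul_x hc h13] at hback
      rw [hn1, hn2]
      rw [← hg, map_mul, mul_smul] at hback
      exact (smul_left_cancel _ hback).symm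
  · intro he
    rw [he] at h6
    simp only [] at h6
    have hstep : apLs x ((d.rels ρ).1.drop k) (e (vl val l1) • W d x p0 n1) = e (vl val ((d.rels ρ).2 ++ h0)) • W d x p0 r := by
      rw [← hE, ← h2, ← apLs_append, hL0]
    have hback := apLs_inv H ((d.rels ρ).1.drop k) (fun c hc => hL c (List.mem_of_mem_drop hc))
      (e (vl val l1) • W d x p0 n1)
    rw [hstep, h6] at hback
    rw [hn1, hn2]
    rw [← hg, map_mul, mul_smul] at hback
    exact (smul_left_cancel _ hback).symm

theorem Ok.x_smul_of_fix (H : Ok d e φ ψ x p0 val) {s : List ℕ} {c : ℕ} (hc : c < d.n)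
    (hfx : d.la s c c = true) (q : Q) (hq : q = e (vl val s) • q) :
    e (vl val s) • x c • q = x c • q := by
  rw [← H.smul_x hc hfx, ← hq]

/-- All facts hold. -/
theorem Ok.holds (H : Ok d e φ ψ x p0 val) {N : ℕ} (hN : ∀ f, f < N → d.chk f = true) :
    ∀ f, f < N → Holds d e x p0 val (d.F f) := by
  intro f
  induction f using Nat.strong_induction_on with
  | _ f ih =>
    intro hf
    have IH : ∀ a, a < f → Holds d e x p0 val (d.F a) := fun a ha => ih a ha (by omega)
    have hc := hN f hf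
    unfold DC.chk at hc
    generalize hfa : d.F f = fa at hc ⊢
    cases hr : fa.r with
    | df =>
      simp only [hr, Bool.and_eq_true] at hc
      obtain ⟨⟨⟨h1, h2⟩, h3⟩, h4⟩ := hc
      constructor
      · intro _
        refine ⟨blt_iff.1 h2, ?_⟩
        rw [lbeq_spec h3, vl_nil, map_one, one_smul]
        unfold W
        rw [lbeq_spec h4]
        simp [mul_smul]
      · intro h
        rw [h] at h1
        cases h1
    | gn =>
      simp only [hr, Bool.and_eq_true, Bool.not_eq_true'] at hc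
      obtain ⟨⟨h1, h2⟩, h3⟩ := hc
      constructor
      · intro h
        rw [h] at h1
        cases h1
      · intro _
        unfold W
        rw [lbeq_spec h2, lbeq_spec h3]
        simp [H.h0]
    | inv a =>
      simp only [hr, Bool.and_eq_true] at hc
      obtain ⟨⟨⟨⟨⟨⟨⟨h1, h2⟩, h3⟩, h4⟩, h5⟩, h6⟩, h7⟩, h8⟩ := hc
      obtain ⟨hc0, hfe⟩ := (IH a (blt_iff.1 h1)).1 h2
      constructor
      · intro _
        refine ⟨blt_iff.1 h4, ?_⟩
        have hv := H.eqB_spec h8
        rw [vl_append, vl_nil] at hv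
        rw [beq_iff.1 h5, beq_iff.1 h6]
        have h9 : x (d.invl (d.F a).c) • e (vl val (d.F a).g) • W d x p0 (d.F a).j =
            e (vl val (d.F a).g) • x fa.c • W d x p0 (d.F a).j :=
          H.smul_x (blt_iff.1 h4) h7 _
        rw [H.hinv _ hc0, ← hfe, inv_smul_smul] at h9
        rw [eq_inv_of_mul_eq_one_right hv, map_inv]
        exact (inv_smul_eq_iff.2 h9).symm
      · intro h
        rw [h] at h3
        cases h3
    | t1 a b =>
      simp only [hr, Bool.and_eq_true, Bool.not_eq_true'] at hc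
      obtain ⟨⟨⟨⟨⟨⟨⟨⟨⟨⟨h1, h2⟩, h3⟩, h4⟩, h5⟩, h6⟩, h7⟩, h8⟩, h9⟩, h10⟩, h11⟩ := hc
      obtain ⟨hc0, hfe⟩ := (IH a (blt_iff.1 h1)).1 h3
      have hfb := (IH b (blt_iff.1 h2)).2 h4
      constructor
      · intro _
        refine ⟨blt_iff.1 h6, ?_⟩
        have hv := H.eqB_spec h11
        rw [vl_append] at hv
        rw [beq_iff.1 h7] at hfe
        rw [hfb] at hfe
        rw [H.smul_x (blt_iff.1 h6) h10] at hfe
        rw [← hv, map_mul, mul_smul] at hfe
        rw [beq_iff.1 h8, beq_iff.1 h9]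
        exact smul_left_cancel _ hfe
      · intro h
        rw [h] at h5
        cases h5
    | t2 a b =>
      simp only [hr, Bool.and_eq_true, Bool.not_eq_true'] at hc
      obtain ⟨⟨⟨⟨⟨⟨⟨⟨⟨h1, h2⟩, h3⟩, h4⟩, h5⟩, h6⟩, h7⟩, h8⟩, h9⟩, h10⟩ := hc
      obtain ⟨hc0, hfe⟩ := (IH a (blt_iff.1 h1)).1 h3
      have hfb := (IH b (blt_iff.1 h2)).2 h4
      constructor
      · intro _
        rw [beq_iff.1 h8]
        refine ⟨hc0, ?_⟩
        have hv := H.eqB_spec h10
        rw [vl_append] at hv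
        rw [beq_iff.1 h7, hfe, beq_iff.1 h6, hfb, ← hv, map_mul, mul_smul, beq_iff.1 h9]
      · intro h
        rw [h] at h5
        cases h5
    | cc a b =>
      simp only [hr, Bool.and_eq_true, Bool.not_eq_true'] at hc
      obtain ⟨⟨⟨⟨⟨⟨⟨⟨⟨h1, h2⟩, h3⟩, h4⟩, h5⟩, h6⟩, h7⟩, h8⟩, h9⟩, h10⟩ := hc
      obtain ⟨hc0, hfe⟩ := (IH a (blt_iff.1 h1)).1 h3
      obtain ⟨hc1, hfe1⟩ := (IH b (blt_iff.1 h2)).1 h4
      constructor
      · intro h
        rw [h] at h5
        cases h5
      · intro _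
        have hv := H.eqB_spec h10
        rw [vl_append] at hv
        rw [beq_iff.1 h6, beq_iff.1 h7] at hfe
        rw [hfe1, ← hv, map_mul, mul_smul] at hfe
        rw [beq_iff.1 h8, beq_iff.1 h9]
        exact (smul_left_cancel _ hfe).symm
    | cmp a b =>
      simp only [hr, Bool.and_eq_true, Bool.not_eq_true'] at hc
      obtain ⟨⟨⟨⟨⟨⟨⟨⟨h1, h2⟩, h3⟩, h4⟩, h5⟩, h6⟩, h7⟩, h8⟩, h9⟩ := hc
      have hfa' := (IH a (blt_iff.1 h1)).2 h3
      have hfb := (IH b (blt_iff.1 h2)).2 h4
      constructor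
      · intro h
        rw [h] at h5
        cases h5
      · intro _
        have hv := H.eqB_spec h9
        rw [vl_append] at hv
        rw [beq_iff.1 h7, hfa', beq_iff.1 h6, hfb, ← hv, map_mul, mul_smul, beq_iff.1 h8]
    | einv a =>
      simp only [hr, Bool.and_eq_true, Bool.not_eq_true'] at hc
      obtain ⟨⟨⟨⟨⟨h1, h2⟩, h3⟩, h4⟩, h5⟩, h6⟩ := hc
      have hfa' := (IH a (blt_iff.1 h1)).2 h2
      constructor
      · intro h
        rw [h] at h3
        cases h3
      · intro _
        have hv := H.eqB_spec h6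
        rw [vl_append, vl_nil] at hv
        rw [beq_iff.1 h4, beq_iff.1 h5, eq_inv_of_mul_eq_one_right hv, map_inv, hfa', inv_smul_smul]
    | sk a b =>
      simp only [hr, Bool.and_eq_true, Bool.not_eq_true'] at hc
      obtain ⟨⟨⟨⟨⟨⟨⟨⟨⟨⟨h1, h2⟩, h3⟩, h4⟩, h5⟩, h6⟩, h7⟩, h8⟩, h9⟩, h10⟩, h11⟩ := hc
      obtain ⟨hc0, hfe⟩ := (IH a (blt_iff.1 h1)).1 h3
      have hfb := (IH b (blt_iff.1 h2)).2 h4
      constructor
      · intro h
        rw [h] at h5
        cases h5
      · intro _
        have hv := H.eqB_spec h11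
        rw [vl_append, vl_append] at hv
        rw [beq_iff.1 h6, beq_iff.1 h7] at hfb
        have h12 := H.x_smul_of_fix hc0 h8 _ hfb
        rw [hfe, smul_smul, ← map_mul, ← hv, map_mul, mul_smul] at h12
        rw [beq_iff.1 h9, beq_iff.1 h10]
        exact (smul_left_cancel _ h12).symm
    | rel ρ h0 r k w1 w2 =>
      simp only [hr] at hc
      exact H.chkRel_spec IH hc

end Sem

section Closure

variable {G : Type u} {P : Type v} {Q : Type w} [Group G] [Group P] [MulAction G Q]
variable {d : DC} {e : P →* G} {φ : P →* Equiv.Perm (Fin d.n)} {ψ : P →* Equiv.Perm (Fin d.m)} {x : ℕ → G} {p0 : Q} {val : ℕ → P}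

/-- membership in a list of naturals -/
def memB : List ℕ → ℕ → Bool
  | [], _ => false
  | a :: l, r => Nat.beq a r || memB l r

theorem memB_spec : ∀ {l : List ℕ} {r : ℕ}, memB l r = true → r ∈ l
  | [], _, h => by simp [memB] at h
  | a :: l, r, h => by
    simp only [memB, Bool.or_eq_true] at h
    rcases h with h | h
    · rw [beq_iff.1 h]; simp
    · exact List.mem_cons_of_mem _ (memB_spec h)

/-- the coverage of a letter at a name: `Tr r c` holds a fact and a parent letter (`0xFFFF` for a root). -/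
noncomputable def DC.cov (d : DC) (N : ℕ) (Lv : List ℕ) (Tr : ℕ → ℕ → ℕ) : ℕ → ℕ → ℕ → Bool
  | 0, _, _ => false
  | fuel + 1, r, c =>
    blt (Nat.shiftRight (Tr r c) 16) N &&
    (Nat.beq (d.F (Nat.shiftRight (Tr r c) 16)).i r &&
      (match Nat.beq (Nat.land (Tr r c) 0xFFFF) 0xFFFF with
       | true =>
         (d.F (Nat.shiftRight (Tr r c) 16)).e && Nat.beq (d.F (Nat.shiftRight (Tr r c) 16)).c c &&
           memB Lv (d.F (Nat.shiftRight (Tr r c) 16)).j
       | false =>
         !(d.F (Nat.shiftRight (Tr r c) 16)).e && Nat.beq (d.F (Nat.shiftRight (Tr r c) 16)).j r &&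
           blt (Nat.land (Tr r c) 0xFFFF) d.n &&
           d.la (d.F (Nat.shiftRight (Tr r c) 16)).g (Nat.land (Tr r c) 0xFFFF) c &&
           DC.cov d N Lv Tr fuel r (Nat.land (Tr r c) 0xFFFF)))

/-- the union of the orbits of the names -/
def Orb (d : DC) (e : P →* G) (x : ℕ → G) (p0 : Q) (Lv : List ℕ) : Set Q :=
  {q | ∃ s ∈ Lv, ∃ h : P, q = e h • W d x p0 s}

theorem Orb_smul {Lv : List ℕ} {q : Q} (hq : q ∈ Orb d e x p0 Lv) (h : P) :
    e h • q ∈ Orb d e x p0 Lv := by
  obtain ⟨s, hs, h', rfl⟩ := hq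
  exact ⟨s, hs, h * h', by rw [map_mul, mul_smul]⟩

theorem Ok.cov_spec (H : Ok d e φ ψ x p0 val) {N : ℕ} (hN : ∀ f, f < N → d.chk f = true)
    {Lv : List ℕ} {Tr : ℕ → ℕ → ℕ} (fuel : ℕ) (r c : ℕ) (h : d.cov N Lv Tr fuel r c = true) :
    x c • W d x p0 r ∈ Orb d e x p0 Lv := by
  induction fuel generalizing c with
  | zero => simp [DC.cov] at h
  | succ fuel ih =>
    unfold DC.cov at h
    simp only [Bool.and_eq_true] at h
    obtain ⟨h1, h2, h3⟩ := h
    have hf := H.holds hN _ (blt_iff.1 h1)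
    generalize (d.F (Nat.shiftRight (Tr r c) 16)) = fa at h2 h3 hf
    have hi := beq_iff.1 h2
    cases hb : Nat.beq (Nat.land (Tr r c) 0xFFFF) 0xFFFF with
    | true =>
      rw [hb] at h3
      simp only [Bool.and_eq_true] at h3
      obtain ⟨⟨h4, h5⟩, h6⟩ := h3
      obtain ⟨-, h7⟩ := hf.1 h4
      rw [← hi, ← beq_iff.1 h5, h7]
      exact ⟨_, memB_spec h6, _, rfl⟩
    | false =>
      rw [hb] at h3
      simp only [Bool.and_eq_true, Bool.not_eq_true'] at h3
      obtain ⟨⟨⟨⟨h4, h5⟩, h6⟩, h7⟩, h8⟩ := h3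
      have h9 := hf.2 h4
      rw [hi, beq_iff.1 h5] at h9
      have h10 := ih _ h8
      have h12 : x c • e (vl val fa.g) • W d x p0 r =
          e (vl val fa.g) • x (Nat.land (Tr r c) 0xFFFF) • W d x p0 r :=
        H.smul_x (blt_iff.1 h6) h7 _
      rw [← h9] at h12
      rw [h12]
      exact Orb_smul h10 _

/-- Every point is in the union of the orbits of the names, once the orbits are closed under the letters. -/
theorem Ok.all_in_orb' (H : Ok d e φ ψ x p0 val) {Lv : List ℕ}
    (hcov : ∀ r ∈ Lv, ∀ c, c < d.n → x c • W d x p0 r ∈ Orb d e x p0 Lv)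
    (h00 : 0 ∈ Lv) (hp0 : d.path 0 = [])
    (hgen : Subgroup.closure (Set.range e ∪ x '' {c | c < d.n}) = ⊤) (g : G) :
    g • p0 ∈ Orb d e x p0 Lv := by
  have hx : ∀ c, c < d.n → ∀ q ∈ Orb d e x p0 Lv, x c • q ∈ Orb d e x p0 Lv := by
    intro c hc q hq
    obtain ⟨s, hs, h, rfl⟩ := hq
    -- `x c • e h • W s = e h • x c' • W s`
    have hc' : ((φ h⁻¹ ⟨c, hc⟩ : Fin d.n) : ℕ) < d.n := Fin.is_lt _
    have h1 := H.hx h _ hc'
    have h2 : φ h ⟨((φ h⁻¹ ⟨c, hc⟩ : Fin d.n) : ℕ), hc'⟩ = ⟨c, hc⟩ := by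
      rw [Fin.eta, map_inv]
      simp
    rw [h2] at h1
    have h3 : x c • e h • W d x p0 s = e h • x ((φ h⁻¹ ⟨c, hc⟩ : Fin d.n) : ℕ) • W d x p0 s := by
      rw [← h1, smul_smul, smul_smul]
      congr 1
      group
    rw [h3]
    exact Orb_smul (hcov s hs _ hc') _
  let T : Subgroup G :=
    { carrier := {g | ∀ q, q ∈ Orb d e x p0 Lv ↔ g • q ∈ Orb d e x p0 Lv}
      mul_mem' := by
        intro a b ha hb q
        rw [mul_smul, hb q, ha (b • q)]
      one_mem' := by intro q; rw [one_smul]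
      inv_mem' := by
        intro a ha q
        rw [ha (a⁻¹ • q), smul_inv_smul] }
  have hT : T = ⊤ := by
    rw [eq_top_iff, ← hgen, Subgroup.closure_le]
    rintro a (⟨h, rfl⟩ | ⟨c, hc, rfl⟩)
    · intro q
      refine ⟨fun hq => Orb_smul hq h, fun hq => ?_⟩
      have h1 := Orb_smul hq h⁻¹
      rwa [smul_smul, ← map_mul, inv_mul_cancel, map_one, one_smul] at h1
    · intro q
      refine ⟨fun hq => hx c hc q hq, fun hq => ?_⟩
      have hc' : c < d.n := hc
      have h1 := hx _ (H.hinvlt c hc') _ hq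
      rwa [H.hinv c hc', inv_smul_smul] at h1
  have h0 : p0 ∈ Orb d e x p0 Lv := ⟨0, h00, 1, by
    unfold W
    rw [hp0]
    simp⟩
  have hg : g ∈ T := by rw [hT]; trivial
  exact (hg p0).1 h0

/-- Every point is in the union of the orbits of the names. -/
theorem Ok.all_in_orb (H : Ok d e φ ψ x p0 val) {N : ℕ} (hN : ∀ f, f < N → d.chk f = true)
    {Lv : List ℕ} {Tr : ℕ → ℕ → ℕ} {fuel : ℕ}
    (hcov : ∀ r ∈ Lv, ∀ c, c < d.n → d.cov N Lv Tr fuel r c = true)
    (h00 : 0 ∈ Lv) (hp0 : d.path 0 = [])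
    (hgen : Subgroup.closure (Set.range e ∪ x '' {c | c < d.n}) = ⊤) (g : G) :
    g • p0 ∈ Orb d e x p0 Lv :=
  H.all_in_orb' (fun r hr c hc => H.cov_spec hN fuel r c (hcov r hr c hc)) h00 hp0 hgen g

/-- The coverage of a letter at a name, without recursion: `Tr r c` holds a depth (8 bits), a parent letter (24 bits,
`0xFFFFFF` for a root) and a fact. -/
noncomputable def DC.covB (d : DC) (Lv : List ℕ) (Tr : ℕ → ℕ → ℕ) (r c v p : ℕ) (fa : Fct) : Bool :=
  Fct.rec (motive := fun _ => Bool) (fun fe fi fc fj fg _ =>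
    Nat.beq fi r &&
    (match Nat.beq p 0xFFFFFF with
     | true => fe && Nat.beq fc c && memB Lv fj
     | false =>
       !fe && Nat.beq fj r && blt p d.n && d.la fg p c &&
         blt (Nat.land (Tr r p) 255) (Nat.land v 255))) fa

/-- The coverage of a letter. -/
noncomputable def DC.cov2 (d : DC) (N : ℕ) (Lv : List ℕ) (Tr : ℕ → ℕ → ℕ) (r c : ℕ) : Bool :=
  frc (Tr r c) fun v =>
  frc (Nat.land (Nat.shiftRight v 8) 0xFFFFFF) fun p =>
  blt (Nat.shiftRight v 32) N && d.covB Lv Tr r c v p (d.F (Nat.shiftRight v 32))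

theorem Ok.cov2_spec (H : Ok d e φ ψ x p0 val) {N : ℕ} (hN : ∀ f, f < N → d.chk f = true)
    {Lv : List ℕ} {Tr : ℕ → ℕ → ℕ} (r : ℕ) (hall : ∀ c, c < d.n → d.cov2 N Lv Tr r c = true) :
    ∀ c, c < d.n → x c • W d x p0 r ∈ Orb d e x p0 Lv := by
  have key : ∀ δ c, Nat.land (Tr r c) 255 = δ → c < d.n → x c • W d x p0 r ∈ Orb d e x p0 Lv := by
    intro δ
    induction δ using Nat.strong_induction_on with
    | _ δ ih =>
      intro c hδ hc
      have h := hall c hc
      unfold DC.cov2 at h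
      rw [frc_eq, frc_eq, Bool.and_eq_true] at h
      obtain ⟨h1, h2⟩ := h
      have hf := H.holds hN _ (blt_iff.1 h1)
      generalize (d.F (Nat.shiftRight (Tr r c) 32)) = fa at h2 hf
      obtain ⟨fe, fi, fc, fj, fg, fr⟩ := fa
      change (Nat.beq fi r && _) = true at h2
      rw [Bool.and_eq_true] at h2
      obtain ⟨h2, h3⟩ := h2
      have hi := beq_iff.1 h2
      cases hb : Nat.beq (Nat.land (Nat.shiftRight (Tr r c) 8) 0xFFFFFF) 0xFFFFFF with
      | true =>
        rw [hb] at h3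
        simp only [Bool.and_eq_true] at h3
        obtain ⟨⟨h4, h5⟩, h6⟩ := h3
        obtain ⟨-, h7⟩ := hf.1 h4
        rw [← hi, ← beq_iff.1 h5, h7]
        exact ⟨_, memB_spec h6, _, rfl⟩
      | false =>
        rw [hb] at h3
        simp only [Bool.and_eq_true, Bool.not_eq_true'] at h3
        obtain ⟨⟨⟨⟨h4, h5⟩, h6⟩, h7⟩, h8⟩ := h3
        have h9 := hf.2 h4
        rw [hi, beq_iff.1 h5] at h9
        have h10 := ih _ (by rw [← hδ]; exact blt_iff.1 h8) _ rfl (blt_iff.1 h6)
        have h12 : x c • e (vl val fg) • W d x p0 r =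
            e (vl val fg) • x (Nat.land (Nat.shiftRight (Tr r c) 8) 0xFFFFFF) • W d x p0 r :=
          H.smul_x (blt_iff.1 h6) h7 _
        rw [← h9] at h12
        rw [h12]
        exact Orb_smul h10 _
  exact fun c hc => key _ c rfl hc

/-- The elements of the subgroup fixing a point. -/
def Kst (e : P →* G) (q : Q) : Subgroup P where
  carrier := {h | e h • q = q}
  mul_mem' := by
    intro a b ha hb
    simp only [Set.mem_ofPred_eq] at ha hb ⊢
    rw [map_mul, mul_smul, hb, ha]
  one_mem' := by simp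
  inv_mem' := by
    intro a ha
    simp only [Set.mem_ofPred_eq] at ha ⊢
    rw [map_inv, inv_smul_eq_iff, ha]

theorem ncard_range_le_index (e : P →* G) (q : Q) [Finite P] :
    (Set.range (fun h : P => e h • q)).ncard ≤ (Kst e q).index := by
  classical
  let f : P ⧸ Kst e q → Q := Quotient.lift (fun h : P => e h • q) (by
    intro a b hab
    have h1 : a⁻¹ * b ∈ Kst e q := QuotientGroup.leftRel_apply.1 hab
    have h2 : e (a⁻¹ * b) • q = q := h1
    show e a • q = e b • q
    rw [map_mul, map_inv, mul_smul, inv_smul_eq_iff] at h2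
    exact h2.symm)
  have h1 : Set.range (fun h : P => e h • q) ⊆ f '' Set.univ := by
    rintro _ ⟨h, rfl⟩
    exact ⟨(h : P ⧸ Kst e q), trivial, rfl⟩
  have h2 : (f '' Set.univ).Finite := Set.toFinite _
  calc (Set.range (fun h : P => e h • q)).ncard ≤ (f '' Set.univ).ncard := Set.ncard_le_ncard h1 h2
    _ ≤ (Set.univ : Set (P ⧸ Kst e q)).ncard := Set.ncard_image_le (Set.toFinite _)
    _ = (Kst e q).index := by rw [Set.ncard_univ]; rfl

theorem ncard_range_le_div (e : P →* G) (q : Q) [Finite P] {c : ℕ} (hc : 0 < c)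
    (hcK : c ≤ Nat.card (Kst e q)) :
    (Set.range (fun h : P => e h • q)).ncard ≤ Nat.card P / c := by
  refine le_trans (ncard_range_le_index e q) ?_
  rw [Nat.le_div_iff_mul_le hc]
  calc (Kst e q).index * c ≤ (Kst e q).index * Nat.card (Kst e q) := Nat.mul_le_mul_left _ hcK
    _ = Nat.card P := by rw [mul_comm]; exact Subgroup.card_mul_index _

omit [Group P] in
theorem union_bound (A : ℕ → Set Q) (hA : ∀ s, (A s).Finite) (a : ℕ → ℕ) (l : List ℕ)
    (h : ∀ s ∈ l, (A s).ncard ≤ a s) :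
    ({q | ∃ s ∈ l, q ∈ A s} : Set Q).Finite ∧ ({q | ∃ s ∈ l, q ∈ A s} : Set Q).ncard ≤ (l.map a).sum := by
  induction l with
  | nil => simp
  | cons b l ih =>
    obtain ⟨h1, h2⟩ := ih (fun s hs => h s (by simp [hs]))
    have h3 : ({q | ∃ s ∈ b :: l, q ∈ A s} : Set Q) = A b ∪ {q | ∃ s ∈ l, q ∈ A s} := by
      ext q
      simp
    rw [h3]
    refine ⟨(hA b).union h1, ?_⟩
    rw [List.map_cons, List.sum_cons]
    exact le_trans (Set.ncard_union_le _ _) (Nat.add_le_add (h b (by simp)) h2)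

/-- The generators of the stabiliser of a name: an element, its inverse, and the fact. -/
abbrev KG := List (List ℕ × List ℕ × ℕ)

/-- The check of the generators of the stabiliser of a name. -/
noncomputable def DC.keChk (d : DC) (N r : ℕ) (k : KG) : Bool :=
  k.all (fun t => blt t.2.2 N && !(d.F t.2.2).e && Nat.beq (d.F t.2.2).i r && Nat.beq (d.F t.2.2).j r &&
    lbeq (d.F t.2.2).g t.1 && d.eqB (t.1 ++ t.2.1) [])

/-- The evaluation of the generators of a stabiliser. -/
noncomputable def DC.evK (d : DC) (k : KG) (j : ℕ) (s : Bool) (a : ℕ) : ℕ :=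
  match s with
  | true => evL d.R (k.getD j ([], [], 0)).1 a
  | false => evL d.R (k.getD j ([], [], 0)).2.1 a

/-- The lower bound for the order of the stabiliser of a name by a chain. -/
theorem Ok.chain_bound (H : Ok d e φ ψ x p0 val) {N : ℕ} (hN : ∀ f, f < N → d.chk f = true)
    {r : ℕ} {k : KG} (hk : d.keChk N r k = true) {ls : List Lvl}
    (hc : chainChk d.m ls (d.evK k) = true) :
    (ls.map (·.n)).prod ≤ Nat.card (Kst e (W d x p0 r)) := by
  classical
  let el : ℕ → Equiv.Perm (Fin d.m) := fun j => ψ (vl val (k.getD j ([], [], 0)).1)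
  have hk' : ∀ t ∈ k, (blt t.2.2 N && !(d.F t.2.2).e && Nat.beq (d.F t.2.2).i r &&
      Nat.beq (d.F t.2.2).j r && lbeq (d.F t.2.2).g t.1 && d.eqB (t.1 ++ t.2.1) []) = true :=
    fun t ht => List.all_eq_true.1 hk t ht
  have hent : ∀ j, (∃ t ∈ k, k.getD j ([], [], 0) = t) ∨ k.getD j ([], [], 0) = ([], [], 0) := by
    intro j
    by_cases hj : j < k.length
    · left
      exact ⟨k[j], List.getElem_mem hj, by rw [List.getD_eq_getElem _ _ hj]⟩
    · right
      rw [List.getD_eq_default _ _ (by omega)]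
  have hev : EvOK el (d.evK k) := by
    intro j i
    constructor
    · show evL d.R _ i = _
      exact H.evR_spec _ _ i.2
    · show evL d.R _ i = _
      rw [H.evR_spec _ _ i.2]
      have h1 : vl val (k.getD j ([], [], 0)).2.1 = (vl val (k.getD j ([], [], 0)).1)⁻¹ := by
        rcases hent j with ⟨t, ht, h2⟩ | h2
        · rw [h2]
          have h3 := hk' t ht
          simp only [Bool.and_eq_true] at h3
          have h4 := H.eqB_spec h3.2
          rw [vl_append, vl_nil] at h4
          exact eq_inv_of_mul_eq_one_right h4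
        · rw [h2]
          simp [vl_nil]
      rw [h1]
      simp only [el, map_inv]
  have h1 := chain_card ls hev hc
  have hle : KOf el ≤ (Kst e (W d x p0 r)).map ψ := by
    rw [Subgroup.closure_le]
    rintro _ ⟨j, rfl⟩
    refine ⟨_, ?_, rfl⟩
    rcases hent j with ⟨t, ht, h2⟩ | h2
    · rw [h2]
      have h3 := hk' t ht
      simp only [Bool.and_eq_true, Bool.not_eq_true'] at h3
      obtain ⟨⟨⟨⟨⟨h4, h5⟩, h6⟩, h7⟩, h8⟩, -⟩ := h3
      have h9 := (H.holds hN _ (blt_iff.1 h4)).2 h5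
      rw [beq_iff.1 h6, beq_iff.1 h7, lbeq_spec h8] at h9
      exact h9.symm
    · rw [h2]
      exact one_mem _
  have hinj : Function.Injective ψ := by
    rw [injective_iff_map_eq_one]
    intro h hh
    exact H.hrig h (fun b hb _ => by rw [hh]; rfl)
  calc (ls.map (·.n)).prod ≤ Nat.card (KOf el) := h1
    _ ≤ Nat.card ((Kst e (W d x p0 r)).map ψ) := Subgroup.card_le_of_le hle
    _ = Nat.card (Kst e (W d x p0 r)) :=
      (Nat.card_congr (Subgroup.equivMapOfInjective _ ψ hinj).toEquiv).symm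

/-- The bound on the number of points from a double coset enumeration, once the orbits are closed under the letters. -/
theorem Ok.card_le' (H : Ok d e φ ψ x p0 val) [Finite P] {N : ℕ} (hN : ∀ f, f < N → d.chk f = true)
    {Lv : List ℕ}
    (hcov : ∀ r ∈ Lv, ∀ c, c < d.n → x c • W d x p0 r ∈ Orb d e x p0 Lv)
    (h00 : 0 ∈ Lv) (hp0 : d.path 0 = [])
    (hgen : Subgroup.closure (Set.range e ∪ x '' {c | c < d.n}) = ⊤)
    (htrans : ∀ q : Q, ∃ g : G, q = g • p0)
    {kg : ℕ → KG} {kls : ℕ → List Lvl}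
    (hk1 : ∀ r ∈ Lv, d.keChk N r (kg r) = true)
    (hk2 : ∀ r ∈ Lv, chainChk d.m (kls r) (d.evK (kg r)) = true)
    (hk3 : ∀ r ∈ Lv, 0 < ((kls r).map (·.n)).prod) :
    Finite Q ∧ Nat.card Q ≤ (Lv.map (fun s => Nat.card P / ((kls s).map (·.n)).prod)).sum := by
  classical
  let A : ℕ → Set Q := fun s => Set.range (fun h : P => e h • W d x p0 s)
  have hA : ∀ s, (A s).Finite := fun s => Set.finite_range _
  obtain ⟨h1, h2⟩ := union_bound A hA (fun s => Nat.card P / ((kls s).map (·.n)).prod) Lv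
    (fun s hs => ncard_range_le_div e _ (hk3 s hs) (H.chain_bound hN (hk1 s hs) (hk2 s hs)))
  have huniv : ({q | ∃ s ∈ Lv, q ∈ A s} : Set Q) = Set.univ := by
    rw [Set.eq_univ_iff_forall]
    intro q
    obtain ⟨g, rfl⟩ := htrans q
    obtain ⟨s, hs, h, h3⟩ := H.all_in_orb' hcov h00 hp0 hgen g
    exact ⟨s, hs, h, h3.symm⟩
  rw [huniv] at h1 h2
  have hfin : Finite Q := Set.finite_univ_iff.1 h1
  refine ⟨hfin, ?_⟩
  rwa [Set.ncard_univ] at h2

/-- The bound on the number of points from a double coset enumeration. -/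
theorem Ok.card_le (H : Ok d e φ ψ x p0 val) [Finite P] {N : ℕ} (hN : ∀ f, f < N → d.chk f = true)
    {Lv : List ℕ} {Tr : ℕ → ℕ → ℕ} {fuel : ℕ}
    (hcov : ∀ r ∈ Lv, ∀ c, c < d.n → d.cov N Lv Tr fuel r c = true)
    (h00 : 0 ∈ Lv) (hp0 : d.path 0 = [])
    (hgen : Subgroup.closure (Set.range e ∪ x '' {c | c < d.n}) = ⊤)
    (htrans : ∀ q : Q, ∃ g : G, q = g • p0)
    {kg : ℕ → KG} {kls : ℕ → List Lvl}
    (hk1 : ∀ r ∈ Lv, d.keChk N r (kg r) = true)
    (hk2 : ∀ r ∈ Lv, chainChk d.m (kls r) (d.evK (kg r)) = true)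
    (hk3 : ∀ r ∈ Lv, 0 < ((kls r).map (·.n)).prod) :
    Finite Q ∧ Nat.card Q ≤ (Lv.map (fun s => Nat.card P / ((kls s).map (·.n)).prod)).sum :=
  H.card_le' hN (fun r hr c hc => H.cov_spec hN fuel r c (hcov r hr c hc)) h00 hp0 hgen htrans hk1 hk2 hk3

end Closure

section Letters

variable {G : Type u} {P : Type v} [Group G] [Group P]

/-- The conjugates of an element, indexed by the points of a transitive action of the subgroup, when the stabiliser
of the first point centralises the element. -/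
theorem letters_exist {n : ℕ} (hn : 0 < n) (e : P →* G) (φ : P →* Equiv.Perm (Fin n)) (t : G)
    (htr : ∀ c : Fin n, ∃ h : P, φ h ⟨0, hn⟩ = c)
    (hst : ∀ h : P, φ h ⟨0, hn⟩ = ⟨0, hn⟩ → e h * t * (e h)⁻¹ = t) :
    ∃ x : ℕ → G, (∀ (h : P) (c : ℕ) (hc : c < n), e h * x c * (e h)⁻¹ = x (φ h ⟨c, hc⟩)) ∧
      (∀ h : P, x (φ h ⟨0, hn⟩) = e h * t * (e h)⁻¹) := by
  classical
  have hk : ∀ a b : P, φ a ⟨0, hn⟩ = φ b ⟨0, hn⟩ → e a * t * (e a)⁻¹ = e b * t * (e b)⁻¹ := by
    intro a b hab
    have h1 : φ (b⁻¹ * a) ⟨0, hn⟩ = ⟨0, hn⟩ := by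
      rw [map_mul, Equiv.Perm.mul_apply, hab, map_inv]
      simp
    have h2 := hst _ h1
    rw [map_mul, map_inv] at h2
    calc e a * t * (e a)⁻¹ = e b * ((e b)⁻¹ * e a * t * ((e b)⁻¹ * e a)⁻¹) * (e b)⁻¹ := by group
      _ = e b * t * (e b)⁻¹ := by rw [h2]
  let τ : Fin n → P := fun c => Classical.choose (htr c)
  have hτ : ∀ c, φ (τ c) ⟨0, hn⟩ = c := fun c => Classical.choose_spec (htr c)
  let x : ℕ → G := fun c => if hc : c < n then e (τ ⟨c, hc⟩) * t * (e (τ ⟨c, hc⟩))⁻¹ else 1
  have hx1 : ∀ (c : ℕ) (hc : c < n), x c = e (τ ⟨c, hc⟩) * t * (e (τ ⟨c, hc⟩))⁻¹ := fun c hc => dif_pos hc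
  have hx2 : ∀ h : P, x (φ h ⟨0, hn⟩) = e h * t * (e h)⁻¹ := by
    intro h
    rw [hx1 _ (Fin.is_lt _)]
    apply hk
    rw [hτ]
  refine ⟨x, ?_, hx2⟩
  intro h c hc
  have h1 : φ (h * τ ⟨c, hc⟩) ⟨0, hn⟩ = φ h ⟨c, hc⟩ := by
    rw [map_mul, Equiv.Perm.mul_apply, hτ]
  rw [← h1, hx2, hx1 c hc, map_mul]
  group

end Letters

/-- When sets cover and their bounds add up to the size of the whole, the bounds are exact and the sets are different. -/
theorem cover_exact {Q : Type w} [Finite Q] {k : ℕ} (A : ℕ → Set Q) (sz : ℕ → ℕ)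
    (hle : ∀ d, d < k → (A d).ncard ≤ sz d) (hcov : ∀ q, ∃ d, d < k ∧ q ∈ A d)
    (hsum : ∑ d ∈ Finset.range k, sz d = Nat.card Q) (hpos : ∀ d, d < k → 0 < sz d) :
    (∀ d, d < k → (A d).ncard = sz d) ∧ (∀ d d', d < k → d' < k → d ≠ d' → A d ≠ A d') := by
  classical
  haveI : Fintype Q := Fintype.ofFinite Q
  let B : ℕ → Finset Q := fun d => (A d).toFinset
  have hB : ∀ d, (B d).card = (A d).ncard := fun d => by
    rw [Set.ncard_eq_toFinset_card']
  have huniv : (Finset.univ : Finset Q) ⊆ (Finset.range k).biUnion B := by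
    intro q _
    obtain ⟨d, hd, hq⟩ := hcov q
    exact Finset.mem_biUnion.2 ⟨d, Finset.mem_range.2 hd, Set.mem_toFinset.2 hq⟩
  have hQ : Nat.card Q = Fintype.card Q := Nat.card_eq_fintype_card
  constructor
  · intro d hd
    by_contra hne
    have hlt : (A d).ncard < sz d := lt_of_le_of_ne (hle d hd) hne
    have h1 : ∑ i ∈ Finset.range k, (B i).card < ∑ i ∈ Finset.range k, sz i := by
      apply Finset.sum_lt_sum
      · intro i hi
        rw [hB]
        exact hle i (Finset.mem_range.1 hi)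
      · exact ⟨d, Finset.mem_range.2 hd, by rw [hB]; exact hlt⟩
    have h2 := Finset.card_le_card huniv
    have h3 : ((Finset.range k).biUnion B).card ≤ ∑ i ∈ Finset.range k, (B i).card :=
      Finset.card_biUnion_le
    rw [Finset.card_univ] at h2
    omega
  · intro d d' hd hd' hne heq
    have hsub : (Finset.univ : Finset Q) ⊆ ((Finset.range k).erase d').biUnion B := by
      intro q _
      obtain ⟨i, hi, hq⟩ := hcov q
      by_cases hid : i = d'
      · subst hid
        refine Finset.mem_biUnion.2 ⟨d, Finset.mem_erase.2 ⟨hne, Finset.mem_range.2 hd⟩, ?_⟩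
        rw [Set.mem_toFinset, heq]
        exact hq
      · exact Finset.mem_biUnion.2 ⟨i, Finset.mem_erase.2 ⟨hid, Finset.mem_range.2 hi⟩, Set.mem_toFinset.2 hq⟩
    have h2 := Finset.card_le_card hsub
    have h3 : (((Finset.range k).erase d').biUnion B).card ≤ ∑ i ∈ (Finset.range k).erase d', (B i).card :=
      Finset.card_biUnion_le
    have h4 : ∑ i ∈ (Finset.range k).erase d', (B i).card ≤ ∑ i ∈ (Finset.range k).erase d', sz i := by
      apply Finset.sum_le_sum
      intro i hi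
      rw [hB]
      exact hle i (Finset.mem_range.1 (Finset.mem_of_mem_erase hi))
    have h5 := Finset.add_sum_erase (Finset.range k) sz (Finset.mem_range.2 hd')
    have h6 := hpos d' hd'
    rw [Finset.card_univ] at h2
    omega


end Cfsg.Agent.Lib.Compute.DCoset
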