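/-
Letters of a double coset enumeration described as blocks of points of a small faithful action:
a closed family of distinct blocks carries an action of the group, and the check of a letter is a comparison of masks.
-/
import Cfsg.Agent.Lib.Compute.DCoset

set_option autoImplicit false

namespace Cfsg.Agent.Lib.Compute.BlockAct

open Cfsg.Agent.Lib.Compute.ToddCoxeterCore Cfsg.Agent.Lib.Compute.DCoset

/-- A byte of a packed word. -/
def byte (v i : ℕ) : ℕ := Nat.land (Nat.shiftRight v (Nat.mul i 8)) 255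

/-- The mask of the images of the first `k` bytes of a word. -/
noncomputable def blk (f : ℕ → ℕ) (v k : ℕ) : ℕ :=
  Nat.rec (motive := fun _ => ℕ) 0 (fun i ih => Nat.lor (Nat.shiftLeft 1 (f (byte v i))) ih) k

theorem blk_zero (f : ℕ → ℕ) (v : ℕ) : blk f v 0 = 0 := rfl

theorem blk_succ (f : ℕ → ℕ) (v k : ℕ) :
    blk f v (k + 1) = Nat.lor (Nat.shiftLeft 1 (f (byte v k))) (blk f v k) := rfl

/-- The images of the first `k` bytes of a word, as a set. -/
def setB (f : ℕ → ℕ) (v k : ℕ) : Set ℕ := {q | ∃ i, i < k ∧ f (byte v i) = q}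

theorem testBit_blk (f : ℕ → ℕ) (v k q : ℕ) : Nat.testBit (blk f v k) q = true ↔ q ∈ setB f v k := by
  induction k with
  | zero =>
    simp [blk_zero, setB]
  | succ k ih =>
    rw [blk_succ]
    have h1 : Nat.lor (Nat.shiftLeft 1 (f (byte v k))) (blk f v k) =
        2 ^ (f (byte v k)) ||| blk f v k := by
      show (1 <<< (f (byte v k))) ||| blk f v k = _
      rw [Nat.one_shiftLeft]
    rw [h1, Nat.testBit_or, Bool.or_eq_true, ih, Nat.testBit_two_pow]
    simp only [setB, Set.mem_setOf_eq, decide_eq_true_eq]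
    constructor
    · rintro (h | ⟨i, hi, h⟩)
      · exact ⟨k, by omega, h⟩
      · exact ⟨i, by omega, h⟩
    · rintro ⟨i, hi, h⟩
      by_cases hk : i = k
      · subst hk
        exact Or.inl h
      · exact Or.inr ⟨i, by omega, h⟩

theorem blk_eq_iff (f f' : ℕ → ℕ) (v v' k k' : ℕ) :
    blk f v k = blk f' v' k' ↔ setB f v k = setB f' v' k' := by
  constructor
  · intro h
    ext q
    rw [← testBit_blk, ← testBit_blk, h]
  · intro h
    apply Nat.eq_of_testBit_eq
    intro q
    have h1 := testBit_blk f v k q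
    have h2 := testBit_blk f' v' k' q
    rw [h] at h1
    cases h3 : Nat.testBit (blk f v k) q <;> cases h4 : Nat.testBit (blk f' v' k') q
    · rfl
    · exact absurd (h1.2 (h2.1 h4)) (by simp [h3])
    · exact absurd (h2.2 (h1.1 h3)) (by simp [h4])
    · rfl

theorem setB_congr {f f' : ℕ → ℕ} {v k : ℕ} (h : ∀ i, i < k → f (byte v i) = f' (byte v i)) :
    setB f v k = setB f' v k := by
  ext q
  simp only [setB, Set.mem_setOf_eq]
  constructor
  · rintro ⟨i, hi, rfl⟩
    exact ⟨i, hi, (h i hi).symm⟩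
  · rintro ⟨i, hi, rfl⟩
    exact ⟨i, hi, h i hi⟩

theorem setB_comp (f h : ℕ → ℕ) (v k : ℕ) : setB (fun p => f (h p)) v k = f '' setB h v k := by
  ext q
  simp only [setB, Set.mem_setOf_eq, Set.mem_image]
  constructor
  · rintro ⟨i, hi, rfl⟩
    exact ⟨_, ⟨i, hi, rfl⟩, rfl⟩
  · rintro ⟨_, ⟨i, hi, rfl⟩, rfl⟩
    exact ⟨i, hi, rfl⟩

section Perm

variable {m : ℕ}

/-- A permutation as a function on the naturals. -/
def fnP (g : Equiv.Perm (Fin m)) (p : ℕ) : ℕ := if h : p < m then g ⟨p, h⟩ else p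

theorem fnP_lt (g : Equiv.Perm (Fin m)) {p : ℕ} (h : p < m) : fnP g p = g ⟨p, h⟩ := dif_pos h

theorem fnP_one (p : ℕ) : fnP (1 : Equiv.Perm (Fin m)) p = p := by
  unfold fnP
  split <;> rfl

theorem fnP_mul (g g' : Equiv.Perm (Fin m)) (p : ℕ) : fnP (g * g') p = fnP g (fnP g' p) := by
  by_cases h : p < m
  · rw [fnP_lt _ h, fnP_lt _ h, fnP_lt _ (Fin.is_lt _)]
    rfl
  · simp [fnP, h]

end Perm

section Rep

variable {P : Type*} [Group P] {n m k : ℕ} (ψ : P →* Equiv.Perm (Fin m)) (pt : ℕ → ℕ)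

/-- An element moves a block to a block. -/
def Mv (k : ℕ) (pt : ℕ → ℕ) (g : Equiv.Perm (Fin m)) (a b : ℕ) : Prop :=
  setB (fnP g) (pt a) k = setB (fun p => p) (pt b) k

theorem Mv.one (a : ℕ) (hlt : ∀ i, i < k → byte (pt a) i < m) : Mv k pt (1 : Equiv.Perm (Fin m)) a a := by
  apply setB_congr
  intro i _
  exact fnP_one _

theorem Mv.mul {g g' : Equiv.Perm (Fin m)} {a b c : ℕ} (h1 : Mv k pt g a b) (h2 : Mv k pt g' b c) :
    Mv k pt (g' * g) a c := by
  unfold Mv at *
  have h3 : setB (fnP (g' * g)) (pt a) k = fnP g' '' setB (fnP g) (pt a) k := by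
    rw [← setB_comp]
    apply setB_congr
    intro i _
    exact fnP_mul _ _ _
  have h4 : fnP g' '' setB (fun p => p) (pt b) k = setB (fnP g') (pt b) k := by
    rw [← setB_comp]
  rw [h3, h1, h4, h2]

theorem Mv.uniq {g : Equiv.Perm (Fin m)} {a b b' : ℕ} (h1 : Mv k pt g a b) (h2 : Mv k pt g a b')
    (hinj : blk (fun p => p) (pt b) k = blk (fun p => p) (pt b') k → b = b') : b = b' := by
  apply hinj
  rw [blk_eq_iff, ← h1, h2]

/-- A closed family of different blocks carries an action. -/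
theorem block_rep [Finite P] (S : Set P) (hgen : Subgroup.closure S = ⊤)
    (hlt : ∀ a, a < n → ∀ i, i < k → byte (pt a) i < m)
    (hS : ∀ s ∈ S, ∀ a, a < n → ∃ b, b < n ∧ Mv k pt (ψ s) a b)
    (hinj : ∀ a b, a < n → b < n → blk (fun p => p) (pt a) k = blk (fun p => p) (pt b) k → a = b) :
    ∃ φ : P →* Equiv.Perm (Fin n), ∀ h (a : Fin n), Mv k pt (ψ h) a (φ h a) := by
  classical
  have hmul : ∀ g h : P, (∀ a, a < n → ∃ b, b < n ∧ Mv k pt (ψ g) a b) →
      (∀ a, a < n → ∃ b, b < n ∧ Mv k pt (ψ h) a b) → ∀ a, a < n → ∃ b, b < n ∧ Mv k pt (ψ (g * h)) a b := by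
    intro g h hg hh a ha
    obtain ⟨b, hb, h1⟩ := hh a ha
    obtain ⟨c, hc, h2⟩ := hg b hb
    refine ⟨c, hc, ?_⟩
    rw [map_mul]
    exact Mv.mul pt h1 h2
  have hone : ∀ a, a < n → ∃ b, b < n ∧ Mv k pt (ψ (1 : P)) a b := by
    intro a ha
    refine ⟨a, ha, ?_⟩
    rw [map_one]
    exact Mv.one pt a (hlt a ha)
  have hpow : ∀ (g : P) (e : ℕ), (∀ a, a < n → ∃ b, b < n ∧ Mv k pt (ψ g) a b) →
      ∀ a, a < n → ∃ b, b < n ∧ Mv k pt (ψ (g ^ e)) a b := by
    intro g e hg
    induction e with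
    | zero => simpa using hone
    | succ e ih =>
      rw [pow_succ]
      exact hmul _ _ ih hg
  have hcl : ∀ h : P, ∀ a, a < n → ∃ b, b < n ∧ Mv k pt (ψ h) a b := by
    intro h
    have hm : h ∈ Subgroup.closure S := by rw [hgen]; trivial
    induction hm using Subgroup.closure_induction with
    | mem x hx => exact hS x hx
    | one => exact hone
    | mul x y _ _ hx hy => exact hmul x y hx hy
    | inv x _ hx =>
      have h1 : x⁻¹ = x ^ (orderOf x - 1) := by
        rw [inv_eq_iff_mul_eq_one, ← pow_succ', Nat.sub_add_cancel (orderOf_pos x), pow_orderOf_eq_one]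
      rw [h1]
      exact hpow x _ hx
  let f : P → Fin n → Fin n := fun h a =>
    ⟨Classical.choose (hcl h a.1 a.2), (Classical.choose_spec (hcl h a.1 a.2)).1⟩
  have hf : ∀ h a, Mv k pt (ψ h) a.1 (f h a).1 := fun h a => (Classical.choose_spec (hcl h a.1 a.2)).2
  have huniq : ∀ (h : P) (a b : Fin n), Mv k pt (ψ h) a.1 b.1 → f h a = b := by
    intro h a b hb
    apply Fin.ext
    exact Mv.uniq pt (hf h a) hb (fun h2 => hinj _ _ (f h a).2 b.2 h2)
  have hf1 : ∀ a, f 1 a = a := by
    intro a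
    apply huniq
    rw [map_one]
    exact Mv.one pt a.1 (hlt a.1 a.2)
  have hfm : ∀ g h a, f (g * h) a = f g (f h a) := by
    intro g h a
    apply huniq
    rw [map_mul]
    exact Mv.mul pt (hf h a) (hf g (f h a))
  let φ : P →* Equiv.Perm (Fin n) := MonoidHom.mk' (fun h => 
    { toFun := f h
      invFun := f h⁻¹
      left_inv := fun a => by rw [← hfm, inv_mul_cancel, hf1]
      right_inv := fun a => by rw [← hfm, mul_inv_cancel, hf1] }) (by
    intro g h
    ext a
    exact congrArg Fin.val (hfm g h a))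
  exact ⟨φ, hf⟩

/-- A product of tabulated elements as a function. -/
theorem evL_fnP {val : ℕ → P} {R : ℕ → ℕ → ℕ} (hR : ∀ j a (ha : a < m), R j a = ψ (val j) ⟨a, ha⟩)
    (l : List ℕ) (a : ℕ) (ha : a < m) : evL R l a = fnP (ψ (vl val l)) a := by
  induction l with
  | nil => simp [evL_nil, vl_nil, fnP_one]
  | cons j l ih =>
    rw [evL_cons, vl_cons, map_mul, fnP_mul, ih]
    have h1 : fnP (ψ (vl val l)) a < m := by
      rw [fnP_lt _ ha]
      exact Fin.is_lt _
    rw [hR j _ h1, fnP_lt _ h1]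

/-- The check of a letter by masks. -/
theorem mv_of_chk {val : ℕ → P} {R : ℕ → ℕ → ℕ} (hR : ∀ j a (ha : a < m), R j a = ψ (val j) ⟨a, ha⟩)
    (hlt : ∀ a, a < n → ∀ i, i < k → byte (pt a) i < m)
    (l : List ℕ) (a b : ℕ) (ha : a < n)
    (h : (blt b n && Nat.beq (frc (pt a) (fun v => blk (evL R l) v k)) (frc (pt b) (fun v => blk (fun p => p) v k))) = true) :
    b < n ∧ Mv k pt (ψ (vl val l)) a b := by
  rw [Bool.and_eq_true, frc_eq, frc_eq] at h
  obtain ⟨h1, h2⟩ := h
  have hb := blt_iff.1 h1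
  have h3 := beq_iff.1 h2
  rw [blk_eq_iff] at h3
  refine ⟨hb, ?_⟩
  unfold Mv
  rw [← h3]
  apply setB_congr
  intro i hi
  exact (evL_fnP ψ hR l _ (hlt a ha i hi)).symm

/-- The check of a letter by masks, for an action on the blocks. -/
theorem la_of_block {val : ℕ → P} {R : ℕ → ℕ → ℕ} (hR : ∀ j a (ha : a < m), R j a = ψ (val j) ⟨a, ha⟩)
    {φ : P →* Equiv.Perm (Fin n)} (hφ : ∀ h (a : Fin n), Mv k pt (ψ h) a (φ h a))
    (hlt : ∀ a, a < n → ∀ i, i < k → byte (pt a) i < m)
    (hinj : ∀ a b, a < n → b < n → blk (fun p => p) (pt a) k = blk (fun p => p) (pt b) k → a = b)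
    (l : List ℕ) (a b : ℕ) (ha : a < n)
    (h : (blt b n && Nat.beq (frc (pt a) (fun v => blk (evL R l) v k)) (frc (pt b) (fun v => blk (fun p => p) v k))) = true) :
    (φ (vl val l) ⟨a, ha⟩ : ℕ) = b := by
  obtain ⟨hb, h4⟩ := mv_of_chk ψ pt hR hlt l a b ha h
  have h5 := hφ (vl val l) ⟨a, ha⟩
  exact Mv.uniq pt h5 h4 (fun h6 => hinj _ _ (Fin.is_lt _) hb h6)

end Rep

/-! ### The checks on the data -/

/-- All bytes of a block are points. -/
noncomputable def ptChk (pt : ℕ → ℕ) (m k a : ℕ) : Bool := frc (pt a) fun v => allFrom (fun i => blt (byte v i) m) k 0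

theorem ptChk_spec {pt : ℕ → ℕ} {m k n : ℕ} (h : allFrom (ptChk pt m k) n 0 = true) :
    ∀ a, a < n → ∀ i, i < k → byte (pt a) i < m := by
  intro a ha i hi
  have h1 := allFrom_spec h a (Nat.zero_le _) (by omega)
  unfold ptChk at h1
  rw [frc_eq] at h1
  exact blt_iff.1 (allFrom_spec h1 i (Nat.zero_le _) (by omega))

/-- The masks increase. -/
noncomputable def srtChk (pt : ℕ → ℕ) (k a : ℕ) : Bool :=
  blt (frc (pt a) fun v => blk (fun p => p) v k) (frc (pt (Nat.succ a)) fun v => blk (fun p => p) v k)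

/-- The first mask differs. -/
noncomputable def difChk (pt : ℕ → ℕ) (k a : ℕ) : Bool :=
  !(Nat.beq (frc (pt 0) fun v => blk (fun p => p) v k) (frc (pt a) fun v => blk (fun p => p) v k))

/-- The different blocks from the checks. -/
theorem inj_of_chk {pt : ℕ → ℕ} {k n : ℕ} (hn : 2 ≤ n) (h1 : allFrom (srtChk pt k) (n - 2) 1 = true)
    (h2 : allFrom (difChk pt k) (n - 1) 1 = true) :
    ∀ a b, a < n → b < n → blk (fun p => p) (pt a) k = blk (fun p => p) (pt b) k → a = b := by
  let μ : ℕ → ℕ := fun a => blk (fun p => p) (pt a) k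
  have hs : ∀ a, 1 ≤ a → a + 1 < n → μ a < μ (a + 1) := by
    intro a ha ha'
    have h3 := allFrom_spec h1 a ha (by omega)
    unfold srtChk at h3
    rw [frc_eq, frc_eq] at h3
    exact blt_iff.1 h3
  have hd : ∀ a, 1 ≤ a → a < n → μ 0 ≠ μ a := by
    intro a ha ha'
    have h3 := allFrom_spec h2 a ha (by omega)
    unfold difChk at h3
    rw [frc_eq, frc_eq] at h3
    intro h4
    have h5 : Nat.beq (μ 0) (μ a) = true := beq_iff.2 h4
    simp only [μ] at h5
    rw [h5] at h3
    cases h3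
  have hlt : ∀ a b, 1 ≤ a → a < b → b < n → μ a < μ b := by
    intro a b ha hab hb
    induction b, hab using Nat.le_induction with
    | base => exact hs a ha hb
    | succ b hab ih => exact lt_trans (ih (by omega)) (hs b (by omega) hb)
  intro a b ha hb h
  have h' : μ a = μ b := h
  rcases Nat.eq_zero_or_pos a with rfl | ha0
  · rcases Nat.eq_zero_or_pos b with rfl | hb0
    · rfl
    · exact absurd h' (hd b hb0 hb)
  · rcases Nat.eq_zero_or_pos b with rfl | hb0
    · exact absurd h'.symm (hd a ha0 ha)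
    · rcases lt_trichotomy a b with h3 | h3 | h3
      · exact absurd h' (hlt a b ha0 h3 hb).ne
      · exact h3
      · exact absurd h'.symm (hlt b a hb0 h3 ha).ne

/-- The tree of the letters. -/
noncomputable def paChk (T : ℕ → ℕ → ℕ) (pa : ℕ → ℕ) (n L c : ℕ) : Bool :=
  frc (pa c) fun v =>
  frc (Nat.land (Nat.shiftRight v 8) 0xFFFFFF) fun p =>
    match Nat.beq p 0xFFFFFF with
    | true => Nat.beq c 0
    | false =>
      blt p n && blt (Nat.shiftRight v 32) L && Nat.beq (T (Nat.shiftRight v 32) p) c &&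
        blt (Nat.land (pa p) 255) (Nat.land v 255)

/-- A transitive action from a tree. -/
theorem trans_of_tree {P : Type*} [Group P] {n L : ℕ} (hn : 0 < n) (φ : P →* Equiv.Perm (Fin n)) (g : ℕ → P)
    {T : ℕ → ℕ → ℕ} {pa : ℕ → ℕ} (hT : ∀ s, s < L → ∀ a (ha : a < n), (φ (g s) ⟨a, ha⟩ : ℕ) = T s a)
    (hpa : ∀ c, c < n → paChk T pa n L c = true) (c : Fin n) : ∃ h : P, φ h ⟨0, hn⟩ = c := by
  have key : ∀ δ c, Nat.land (pa c) 255 = δ → ∀ hc : c < n, ∃ h : P, φ h ⟨0, hn⟩ = ⟨c, hc⟩ := by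
    intro δ
    induction δ using Nat.strong_induction_on with
    | _ δ ih =>
      intro c hδ hc
      have h := hpa c hc
      unfold paChk at h
      rw [frc_eq, frc_eq] at h
      cases hb : Nat.beq (Nat.land (Nat.shiftRight (pa c) 8) 0xFFFFFF) 0xFFFFFF with
      | true =>
        rw [hb] at h
        have h0 : c = 0 := beq_iff.1 h
        subst h0
        exact ⟨1, by rw [map_one]; rfl⟩
      | false =>
        rw [hb] at h
        simp only [Bool.and_eq_true] at h
        obtain ⟨⟨⟨h1, h2⟩, h3⟩, h4⟩ := h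
        have hp := blt_iff.1 h1
        obtain ⟨h5, h6⟩ := ih _ (by rw [← hδ]; exact blt_iff.1 h4) _ rfl hp
        refine ⟨g (Nat.shiftRight (pa c) 32) * h5, ?_⟩
        rw [map_mul, Equiv.Perm.mul_apply, h6]
        apply Fin.ext
        rw [hT _ (blt_iff.1 h2) _ hp]
        exact beq_iff.1 h3
  exact key _ c.1 rfl c.2

/-! ### The tabulated elements -/

/-- How a tabulated element is obtained. -/
inductive SE
  /-- a generator -/
  | lt (i : ℕ)
  /-- a product of earlier elements -/
  | prod (w : List ℕ)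
  /-- the inverse of an earlier element -/
  | inv (k : ℕ)

/-- The check of a tabulated element. -/
noncomputable def SE.chk (R : ℕ → ℕ → ℕ) (m : ℕ) (ev : ℕ → ℕ → ℕ) (j : ℕ) : SE → Bool
  | .lt i => allFrom (fun a => Nat.beq (R j a) (ev i a)) m 0
  | .prod w => w.all (fun x => blt x j) && allFrom (fun a => Nat.beq (R j a) (evL R w a)) m 0
  | .inv k => blt k j && allFrom (fun a => Nat.beq (R j (R k a)) a) m 0

/-- All tabulated elements come from the group. -/
theorem exists_val {P : Type*} [Group P] {m : ℕ} (ψ : P →* Equiv.Perm (Fin m)) (gen : ℕ → P) {ev : ℕ → ℕ → ℕ}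
    (hev : ∀ i a (ha : a < m), ev i a = ψ (gen i) ⟨a, ha⟩) {R : ℕ → ℕ → ℕ} {E : ℕ → SE} {M : ℕ}
    (hE : ∀ j, j < M → (E j).chk R m ev j = true) (hbig : ∀ j a, ¬ j < M → R j a = a) :
    ∃ val : ℕ → P, ∀ j a (ha : a < m), R j a = ψ (val j) ⟨a, ha⟩ := by
  have key : ∀ j, ∃ h : P, ∀ a (ha : a < m), R j a = ψ h ⟨a, ha⟩ := by
    intro j
    induction j using Nat.strong_induction_on with
    | _ j ih =>
      by_cases hj : j < M
      · have h := hE j hj
        cases hEj : E j with
        | lt i =>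
          rw [hEj] at h
          refine ⟨gen i, fun a ha => ?_⟩
          have h1 := allFrom_spec h a (Nat.zero_le _) (by omega)
          rw [beq_iff.1 h1, hev]
        | prod w =>
          rw [hEj] at h
          simp only [SE.chk, Bool.and_eq_true] at h
          obtain ⟨h1, h2⟩ := h
          have hw : ∀ w' : List ℕ, (∀ x ∈ w', x < j) → ∃ h : P, ∀ a (ha : a < m), evL R w' a = ψ h ⟨a, ha⟩ := by
            intro w' hw'
            induction w' with
            | nil => exact ⟨1, fun a ha => by simp [evL_nil]⟩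
            | cons x w' ih2 =>
              obtain ⟨u, hu⟩ := ih2 (fun y hy => hw' y (by simp [hy]))
              obtain ⟨v, hv⟩ := ih x (hw' x (by simp))
              refine ⟨v * u, fun a ha => ?_⟩
              rw [evL_cons, hu a ha, hv _ (Fin.is_lt _), map_mul]
              rfl
          obtain ⟨u, hu⟩ := hw w (fun x hx => blt_iff.1 (List.all_eq_true.1 h1 x hx))
          refine ⟨u, fun a ha => ?_⟩
          have h3 := allFrom_spec h2 a (Nat.zero_le _) (by omega)
          rw [beq_iff.1 h3, hu a ha]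
        | inv k =>
          rw [hEj] at h
          simp only [SE.chk, Bool.and_eq_true] at h
          obtain ⟨h1, h2⟩ := h
          obtain ⟨u, hu⟩ := ih k (blt_iff.1 h1)
          refine ⟨u⁻¹, fun a ha => ?_⟩
          let b : Fin m := (ψ u)⁻¹ ⟨a, ha⟩
          have h3 := allFrom_spec h2 b.1 (Nat.zero_le _) (by have := b.2; omega)
          have h4 : R k b.1 = a := by
            rw [hu b.1 b.2]
            have : (ψ u) b = ⟨a, ha⟩ := by simp [b]
            rw [show (⟨b.1, b.2⟩ : Fin m) = b from rfl, this]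
          rw [h4] at h3
          rw [beq_iff.1 h3, map_inv]
      · exact ⟨1, fun a ha => by rw [hbig j a hj, map_one]; rfl⟩
  choose val hval using key
  exact ⟨val, hval⟩

end Cfsg.Agent.Lib.Compute.BlockAct
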