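/-
A faithful action with a checked stabiliser chain: an element fixing the base points is trivial.
-/
import Cfsg.Agent.Lib.Compute.TCChain2

set_option autoImplicit false

namespace Cfsg.Agent.Lib.Compute.TCChain3

open Cfsg.Agent.Lib.Compute.ToddCoxeterCore Cfsg.Agent.Lib.Compute.ToddCoxeterPresented
  Cfsg.Agent.Lib.Compute.TCFast Cfsg.Agent.Lib.Compute.TCChain

universe u

variable {α : Type u} [DecidableEq α] {D : Data α} {c : Cfg} {R : Set (FreeGroup α)}
  (hR : ∀ r, r ∈ R ↔ r ∈ D.rs) (hs : Small D c) (hb : Big D c) (hgens : ∀ a, (a, true) ∈ D.lets)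

include hR hs hb hgens

/-- An element fixing the base points of a stabiliser chain is trivial. -/
theorem rigid_of_base (hinj : Function.Injective (phiG hR hs hb hgens)) [Finite (PresentedGroup R)]
    (next0 : List PE) (ls : List Lvl) (hfix0 : fixAll (ev0 c) 0 next0 = true)
    (hchain : chainChk c.N ls (evN (ev0 c) next0) = true)
    (hle : Nat.card (PresentedGroup R) ≤ c.N * (ls.map (·.n)).prod) (g : PresentedGroup R)
    (h : ∀ p : Fin c.N, (p : ℕ) ∈ 0 :: ls.map (·.b) → phiG hR hs hb hgens g p = p) : g = 1 := by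
  have hev := ev0_ok hR hs hb hgens
  set φ := phiG hR hs hb hgens with hφ
  have hn : c.N ≤ (MulAction.orbit φ.range (⟨0, hs.hN⟩ : Fin c.N)).ncard := by
    have h1 : MulAction.orbit φ.range (⟨0, hs.hN⟩ : Fin c.N) = Set.univ := by
      ext ⟨i, hi⟩
      simp only [Set.mem_univ, iff_true]
      obtain ⟨g, hg⟩ := phi_trans hR hs hb hgens i hi
      exact ⟨⟨φ g, ⟨g, rfl⟩⟩, hg⟩
    rw [h1, Set.ncard_univ, Nat.card_fin]
  have hle' : KOf (elN (fun j => φ (elG D R j)) next0) ≤ φ.range := by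
    rw [Subgroup.closure_le]
    rintro _ ⟨j, rfl⟩
    simp only [elN, SetLike.mem_coe]
    exact PE.el_mem φ.range (fun i => ⟨elG D R i, rfl⟩) _
  have hc := chain_card ls (evN_ok hev next0) hchain
  have hrange : Nat.card φ.range ≤ c.N * (ls.map (·.n)).prod :=
    le_trans (Nat.card_le_card_of_surjective _ φ.rangeRestrict_surjective) hle
  obtain ⟨h5, h6⟩ := stab_step (⟨0, hs.hN⟩ : Fin c.N) hle'
    (elN_fix hev (b := ⟨0, hs.hN⟩) hfix0) hn hrange hc
  apply hinj
  rw [map_one]
  have h7 := h5 (φ g) ⟨g, rfl⟩ (h _ (by simp))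
  exact chain_rigid ls (evN_ok hev next0) hchain h6 _ h7 (fun l hl i hi => h i (by
    rw [hi]
    simp only [List.mem_cons, List.mem_map]
    exact Or.inr ⟨l, hl, rfl⟩))

end Cfsg.Agent.Lib.Compute.TCChain3
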