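/-
The group on the Coxeter diagram of the Fischer group Fi₂₃ with the relation (a b c d e f h)^9 = 1, and without the
spider relation: its order is bounded by a double coset enumeration over the subgroup on a, b, c, d, e, f, g, j, h,
whose letters are blocks of nine points of an action on 255 points.
-/
import Cfsg.Agent.Lib.Compute.TC.FqDC.Final
import Cfsg.Agent.Lib.Compute.TC.FqU0.Final
import Cfsg.Agent.Lib.Compute.TC.FqU1.Final
import Cfsg.Agent.Lib.Compute.TC.FqU2.Final
import Cfsg.Agent.Lib.Compute.TC.Fi23U4.Final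
import Cfsg.Agent.Lib.Compute.TCChain3
import Cfsg.Prelude.Def_Spor_Fi23

set_option autoImplicit false
set_option maxRecDepth 100000

namespace Cfsg.Agent.Lib.Compute.FqUp

open Cfsg.Agent.Lib.Compute.ToddCoxeterCore Cfsg.Agent.Lib.Compute.ToddCoxeterPresented
  Cfsg.Agent.Lib.Compute.TCFast Cfsg.Agent.Lib.Compute.TCChain Cfsg.Agent.Lib.Compute.DCoset
  Cfsg.Agent.Lib.Compute.BlockAct
open Cfsg.Agent.Lib.Compute.TC
open Cfsg.Spor.Fi23

/-! ### The order of the subgroup -/

/-- the generators of a step -/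
def g1 (i : Fin 8) : Fin 9 := List.getD [0, 1, 2, 3, 4, 5, 6, 8] i 0

theorem rel1 : ∀ r ∈ FqU1.D.rs, FreeGroup.map g1 r ∈ FqU0.D.rs := by decide +kernel

/-- the generators of a step -/
def g2 (i : Fin 7) : Fin 8 := List.getD [0, 1, 2, 3, 4, 5, 7] i 0

theorem rel2 : ∀ r ∈ FqU2.D.rs, FreeGroup.map g2 r ∈ FqU1.D.rs := by decide +kernel

/-- the generators of a step -/
def g3 (i : Fin 6) : Fin 7 := List.getD [0, 1, 2, 3, 4, 5] i 0

theorem rel3 : ∀ r ∈ Fi23U4.D.rs, FreeGroup.map g3 r ∈ FqU2.D.rs := by decide +kernel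

theorem up3 : Finite (PresentedGroup Fi23U4.RR) ∧ Nat.card (PresentedGroup Fi23U4.RR) ≤ 5040 := by
  have h := card_of_index rfl Fi23U4.index
  exact ⟨Nat.finite_of_card_ne_zero (by omega), h.le⟩

theorem up2 : Finite (PresentedGroup FqU2.RR) ∧ Nat.card (PresentedGroup FqU2.RR) ≤ 288 * 5040 := by
  refine card_le_presented g3 (fun r hr => rel3 r hr) ?_ FqU2.index (by norm_num) up3
  intro x
  simp [FqU2.D, g3, Fin.exists_fin_succ]

theorem up1 : Finite (PresentedGroup FqU1.RR) ∧ Nat.card (PresentedGroup FqU1.RR) ≤ 128 * (288 * 5040) := by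
  refine card_le_presented g2 (fun r hr => rel2 r hr) ?_ FqU1.index (by norm_num) up2
  intro x
  simp [FqU1.D, g2, Fin.exists_fin_succ]

theorem up0 : Finite (PresentedGroup FqU0.RR) ∧
    Nat.card (PresentedGroup FqU0.RR) ≤ 255 * (128 * (288 * 5040)) := by
  refine card_le_presented g1 (fun r hr => rel1 r hr) ?_ FqU0.index (by norm_num) up1
  intro x
  simp [FqU0.D, g1, Fin.exists_fin_succ]

/-- the subgroup -/
abbrev PP : Type := PresentedGroup FqU0.RR

instance finP : Finite PP := up0.1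

theorem inj : Function.Injective (phiG FqU0.hR FqU0.small FqU0.big FqU0.hgens) ∧
    Nat.card PP = 47377612800 :=
  phi_inj FqU0.hR FqU0.small FqU0.big FqU0.hgens (n := 47377612800) (by simpa using up0.2)
    FqDC.next0 FqDC.ls FqDC.fix0 FqDC.chainOK (le_of_eq FqDC.prodEq.symm)

/-- the action on the points -/
noncomputable def psi : PP →* Equiv.Perm (Fin FqDC.d.m) := phiG FqU0.hR FqU0.small FqU0.big FqU0.hgens

theorem psi_inj : Function.Injective psi := inj.1

/-- the generators of the subgroup -/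
noncomputable def gP (i : ℕ) : PP := elG FqU0.D FqU0.RR i

theorem hev : ∀ i a (ha : a < FqDC.d.m), ev0 FqU0.cfg i true a = psi (gP i) ⟨a, ha⟩ :=
  fun i a ha => (ev0_ok FqU0.hR FqU0.small FqU0.big FqU0.hgens i ⟨a, ha⟩).1

theorem Rbig (j a : ℕ) (hj : ¬ j < FqDC.M) : FqDC.R j a = a := by
  have h1 : blt j FqDC.M = false := by
    cases h : blt j FqDC.M with
    | false => rfl
    | true => exact absurd (blt_iff.1 h) hj
  show Bool.rec (motive := fun _ => ℕ) a _ (blt j FqDC.M) = a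
  rw [h1]

theorem exVal : ∃ val : ℕ → PP, ∀ j a (ha : a < FqDC.d.m), FqDC.R j a = psi (val j) ⟨a, ha⟩ :=
  exists_val psi gP (ev := fun i a => ev0 FqU0.cfg i true a) hev
    (E := fun j => FqDC.Es.getD j (.prod [])) (M := FqDC.M)
    (fun j hj => allFrom_spec FqDC.slpAll j (Nat.zero_le _) (show j < 0 + 143 by
      have : FqDC.M = 143 := rfl
      omega)) Rbig

/-- the tabulated elements -/
noncomputable def valP : ℕ → PP := Classical.choose exVal

theorem hR : ∀ j a (ha : a < FqDC.d.m), FqDC.R j a = psi (valP j) ⟨a, ha⟩ := Classical.choose_spec exVal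

theorem Es_lt (i : ℕ) (hi : i < 9) : FqDC.Es.getD i (.prod []) = .lt i := by
  interval_cases i <;> rfl

theorem valP_gP (i : ℕ) (hi : i < 9) : valP i = gP i := by
  apply psi_inj
  ext ⟨a, ha⟩
  have h := allFrom_spec FqDC.slpAll i (Nat.zero_le _) (show i < 0 + 143 by omega)
  simp only [Es_lt i hi, SE.chk] at h
  have h1 := allFrom_spec h a (Nat.zero_le _) (show a < 0 + 255 by
    have : FqDC.d.m = 255 := rfl
    omega)
  have h2 := beq_iff.1 h1
  rw [hev i a ha, hR i a ha] at h2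
  exact h2

theorem letter_gP (b : Fin 9) : letterOf FqU0.D.lets (b, true) = b := by
  revert b
  decide +kernel

theorem gP_of (b : Fin 9) : gP b = PresentedGroup.of b := by
  have h := elG_letterOf FqU0.hR FqU0.small FqU0.hgens (b, true)
  rw [letter_gP] at h
  exact h

theorem valP_of (b : Fin 9) : valP b = PresentedGroup.of b := by
  rw [valP_gP b b.2, gP_of]

theorem gen_inv (b : Fin 9) : (PresentedGroup.of b : PP) * PresentedGroup.of b = 1 := by
  have h : ((FreeGroup.of b) * (FreeGroup.of b)) ^ 1 ∈ FqU0.RR := by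
    show _ ∈ FqU0.rsL
    revert b
    decide +kernel
  have h1 := PresentedGroup.one_of_mem h
  rw [pow_one, map_mul] at h1
  exact h1

/-! ### The letters as blocks -/

theorem hlt : ∀ a, a < FqDC.d.n → ∀ i, i < 9 → byte (FqDC.pt a) i < FqDC.d.m :=
  ptChk_spec FqDC.ptlAll

theorem hinj : ∀ a b, a < FqDC.d.n → b < FqDC.d.n →
    blk (fun p => p) (FqDC.pt a) 9 = blk (fun p => p) (FqDC.pt b) 9 → a = b :=
  inj_of_chk (by decide +kernel) FqDC.srtAll FqDC.dfrAll

theorem clAll (s : ℕ) (hs : s < 9) (a : ℕ) (ha : a < FqDC.d.n) : FqDC.d.la [s] a (FqDC.T s a) = true := by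
  have ha' : a < 130560 := ha
  interval_cases s
  · exact allFrom_spec FqDC.cl0All a (Nat.zero_le _) (by simpa using ha')
  · exact allFrom_spec FqDC.cl1All a (Nat.zero_le _) (by simpa using ha')
  · exact allFrom_spec FqDC.cl2All a (Nat.zero_le _) (by simpa using ha')
  · exact allFrom_spec FqDC.cl3All a (Nat.zero_le _) (by simpa using ha')
  · exact allFrom_spec FqDC.cl4All a (Nat.zero_le _) (by simpa using ha')
  · exact allFrom_spec FqDC.cl5All a (Nat.zero_le _) (by simpa using ha')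
  · exact allFrom_spec FqDC.cl6All a (Nat.zero_le _) (by simpa using ha')
  · exact allFrom_spec FqDC.cl7All a (Nat.zero_le _) (by simpa using ha')
  · exact allFrom_spec FqDC.cl8All a (Nat.zero_le _) (by simpa using ha')

theorem vl_single (j : ℕ) : vl valP [j] = valP j := by
  simp [vl]

theorem hS0 : Subgroup.closure {x : PP | ∃ s, s < 9 ∧ x = valP s} = ⊤ := by
  rw [eq_top_iff, ← PresentedGroup.closure_range_of FqU0.RR, Subgroup.closure_le]
  rintro _ ⟨b, rfl⟩
  exact Subgroup.subset_closure ⟨b, b.2, (valP_of b).symm⟩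

theorem rep : ∃ φ : PP →* Equiv.Perm (Fin FqDC.d.n), ∀ h (a : Fin FqDC.d.n), Mv 9 FqDC.pt (psi h) a (φ h a) := by
  refine block_rep psi FqDC.pt _ hS0 hlt ?_ hinj
  rintro _ ⟨s, hs, rfl⟩ a ha
  obtain ⟨h1, h2⟩ := mv_of_chk psi FqDC.pt hR hlt [s] a _ ha (clAll s hs a ha)
  rw [vl_single] at h2
  exact ⟨_, h1, h2⟩

/-- the action on the letters -/
noncomputable def phi : PP →* Equiv.Perm (Fin FqDC.d.n) := Classical.choose rep

theorem hphi : ∀ h (a : Fin FqDC.d.n), Mv 9 FqDC.pt (psi h) a (phi h a) := Classical.choose_spec rep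

theorem hS : ∀ l a b (ha : a < FqDC.d.n), FqDC.d.la l a b = true → (phi (vl valP l) ⟨a, ha⟩ : ℕ) = b :=
  fun l a b ha h => la_of_block psi FqDC.pt hR hphi hlt hinj l a b ha h

theorem hT : ∀ s, s < 9 → ∀ a (ha : a < FqDC.d.n), (phi (valP s) ⟨a, ha⟩ : ℕ) = FqDC.T s a := by
  intro s hs a ha
  have h := hS [s] a _ ha (clAll s hs a ha)
  rwa [vl_single] at h

theorem hn0 : 0 < FqDC.d.n := by decide +kernel

theorem htr (c : Fin FqDC.d.n) : ∃ h : PP, phi h ⟨0, hn0⟩ = c :=
  trans_of_tree hn0 phi valP hT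
    (fun c hc => allFrom_spec FqDC.trnAll c (Nat.zero_le _) (show c < 0 + 130560 by
      have : FqDC.d.n = 130560 := rfl
      omega)) c

/-! ### The group -/

/-- the further relation -/
abbrev w0 : FreeGroup Gen := (a * b * c * d * e * f * h) ^ 9

/-- the relators -/
def rsQ : List (FreeGroup Gen) := coxList edges ++ [w0]

/-- the relators -/
abbrev RQ : Set (FreeGroup Gen) := Cfsg.Spor.coxRelators edges ∪ {r | r ∈ [w0]}

theorem hRQ : ∀ r, r ∈ RQ ↔ r ∈ rsQ := fun r => mem_coxR _ _ r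

/-- the group -/
abbrev QQ : Type := PresentedGroup RQ

/-- the generators of the subgroup in the group -/
def gmap (i : Fin 9) : Gen := List.getD [Gen.a, Gen.b, Gen.c, Gen.d, Gen.e, Gen.f, Gen.g, Gen.j, Gen.h] i Gen.a

theorem relP : ∀ r ∈ FqU0.rsL, FreeGroup.map gmap r ∈ rsQ := by decide +kernel

theorem lift_eq : FreeGroup.lift (fun b => PresentedGroup.of (rels := RQ) (gmap b)) =
    (PresentedGroup.mk RQ).comp (FreeGroup.map gmap) := by
  ext b
  simp [PresentedGroup.of]

/-- The map from the subgroup. -/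
noncomputable def eG : PP →* QQ :=
  PresentedGroup.toGroup (f := fun b => PresentedGroup.of (gmap b)) (rels := FqU0.RR) (by
    intro r hr
    rw [lift_eq]
    exact PresentedGroup.one_of_mem ((hRQ _).2 (relP r hr)))

theorem eG_of (b : Fin 9) : eG (PresentedGroup.of b) = PresentedGroup.of (gmap b) :=
  PresentedGroup.toGroup.of _

/-- the last generator -/
noncomputable abbrev iG : QQ := PresentedGroup.of Gen.i

theorem rel_of_mem {r : FreeGroup Gen} (h : r ∈ rsQ) : PresentedGroup.mk RQ r = 1 :=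
  PresentedGroup.one_of_mem ((hRQ r).2 h)

theorem iG2 : iG * iG = 1 := by
  have h := rel_of_mem (r := (i * i) ^ 1) (by decide +kernel)
  rw [pow_one, map_mul] at h
  exact h

theorem rel_sq (b : Fin 8) : (FreeGroup.of (gmap b.castSucc) * i) ^ 2 ∈ rsQ := by
  revert b
  decide +kernel

theorem rel_sq2 (b : Fin 8) : (FreeGroup.of (gmap b.castSucc) * FreeGroup.of (gmap b.castSucc)) ^ 1 ∈ rsQ := by
  revert b
  decide +kernel

theorem comm_i (b : Fin 8) : (PresentedGroup.of (gmap b.castSucc) : QQ) * iG = iG * PresentedGroup.of (gmap b.castSucc) := by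
  have h : PresentedGroup.mk RQ ((FreeGroup.of (gmap b.castSucc) * i) ^ 2) = 1 := rel_of_mem (rel_sq b)
  have h2 : PresentedGroup.mk RQ ((FreeGroup.of (gmap b.castSucc) * FreeGroup.of (gmap b.castSucc)) ^ 1) = 1 :=
    rel_of_mem (rel_sq2 b)
  rw [map_pow, map_mul] at h
  rw [pow_one, map_mul] at h2
  set x : QQ := PresentedGroup.mk RQ (FreeGroup.of (gmap b.castSucc)) with hx
  have h3 : PresentedGroup.mk RQ i = iG := rfl
  rw [h3] at h
  have h4 : x * iG * (x * iG) = 1 := by rw [← h, pow_two]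
  have hi2 := iG2
  calc x * iG = x * iG * (x * iG) * (iG⁻¹ * x⁻¹) := by group
    _ = iG⁻¹ * x⁻¹ := by rw [h4, one_mul]
    _ = iG * x := by
      have h5 : iG⁻¹ = iG := inv_eq_of_mul_eq_one_left hi2
      have h6 : x⁻¹ = x := inv_eq_of_mul_eq_one_left h2
      rw [h5, h6]

/-! ### The stabiliser of the first letter -/

/-- the generators of the symmetric group in the subgroup -/
noncomputable def S9 : Subgroup PP := Subgroup.closure {x : PP | ∃ s : Fin 8, x = PresentedGroup.of s.castSucc}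

theorem T_fix : ∀ s : Fin 8, FqDC.T s 0 = 0 := by decide +kernel

theorem S9_le_stab (x : PP) (hx : x ∈ S9) : phi x ⟨0, hn0⟩ = ⟨0, hn0⟩ := by
  have h1 : S9 ≤ (MulAction.stabilizer (Equiv.Perm (Fin FqDC.d.n)) (⟨0, hn0⟩ : Fin FqDC.d.n)).comap phi := by
    rw [S9, Subgroup.closure_le]
    rintro _ ⟨s, rfl⟩
    simp only [SetLike.mem_coe, Subgroup.mem_comap, MulAction.mem_stabilizer_iff]
    apply Fin.ext
    have h2 := hT s (by have := s.2; omega) 0 hn0
    have h3 : valP s = PresentedGroup.of s.castSucc := valP_of s.castSucc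
    rw [h3, T_fix] at h2
    exact h2
  exact h1 hx

theorem S9_comm (x : PP) (hx : x ∈ S9) : eG x * iG * (eG x)⁻¹ = iG := by
  have h1 : S9 ≤ (Subgroup.centralizer {iG}).comap eG := by
    rw [S9, Subgroup.closure_le]
    rintro _ ⟨s, rfl⟩
    simp only [SetLike.mem_coe, Subgroup.mem_comap, Subgroup.mem_centralizer_singleton_iff]
    rw [eG_of]
    exact comm_i s
  have h2 := h1 hx
  simp only [Subgroup.mem_comap, Subgroup.mem_centralizer_singleton_iff] at h2
  rw [h2]
  group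

theorem Es8 (j : ℕ) (hj : 8 ≤ j) : FqDC.s9kg.getD j ([], [], 0) = ([], [], 0) := by
  rw [List.getD_eq_default]
  have : FqDC.s9kg.length = 8 := rfl
  omega

theorem Es7 (j : ℕ) (hj : j < 8) : FqDC.s9kg.getD j ([], [], 0) = ([j], [j], 0) := by
  interval_cases j <;> rfl

theorem card_S9 : 362880 ≤ Nat.card S9 := by
  let el : ℕ → Equiv.Perm (Fin FqDC.d.m) := fun j => psi (vl valP (FqDC.s9kg.getD j ([], [], 0)).1)
  have hev' : EvOK el (FqDC.d.evK FqDC.s9kg) := by
    intro j i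
    have hR' := fun l a ha => evL_fnP psi (val := valP) hR l a ha
    constructor
    · show evL FqDC.d.R _ i = _
      rw [show FqDC.d.R = FqDC.R from rfl, hR' _ _ i.2, fnP_lt _ i.2]
    · show evL FqDC.d.R _ i = _
      rw [show FqDC.d.R = FqDC.R from rfl, hR' _ _ i.2, fnP_lt _ i.2]
      simp only [el]
      by_cases hj : j < 8
      · rw [Es7 j hj, vl_single, ← map_inv]
        have h3 : valP j = PresentedGroup.of (⟨j, by omega⟩ : Fin 9) := valP_of ⟨j, by omega⟩
        rw [h3, inv_eq_of_mul_eq_one_left (gen_inv _)]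
      · rw [Es8 j (by omega)]
        simp [vl_nil]
  have h1 := chain_card FqDC.s9ls hev' FqDC.s9Chain
  rw [FqDC.s9Prod] at h1
  have hle : KOf el ≤ S9.map psi := by
    rw [KOf, Subgroup.closure_le]
    rintro _ ⟨j, rfl⟩
    refine ⟨_, ?_, rfl⟩
    by_cases hj : j < 8
    · rw [Es7 j hj, vl_single]
      have h3 : valP j = PresentedGroup.of (Fin.castSucc (⟨j, hj⟩ : Fin 8)) :=
        valP_of (Fin.castSucc (⟨j, hj⟩ : Fin 8))
      rw [h3]
      exact Subgroup.subset_closure ⟨⟨j, hj⟩, rfl⟩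
    · rw [Es8 j (by omega)]
      exact one_mem _
  calc 362880 ≤ Nat.card (KOf el) := h1
    _ ≤ Nat.card (S9.map psi) := Subgroup.card_le_of_le hle
    _ = Nat.card S9 := (Nat.card_congr (Subgroup.equivMapOfInjective _ psi psi_inj).toEquiv).symm

/-- the stabiliser of the first letter centralises the last generator -/
theorem hst (h : PP) (hh : phi h ⟨0, hn0⟩ = ⟨0, hn0⟩) : eG h * iG * (eG h)⁻¹ = iG := by
  classical
  letI : MulAction PP (Fin FqDC.d.n) := MulAction.compHom _ phi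
  let St := MulAction.stabilizer PP (⟨0, hn0⟩ : Fin FqDC.d.n)
  have hS1 : St.index = FqDC.d.n := by
    rw [MulAction.index_stabilizer]
    have h1 : MulAction.orbit PP (⟨0, hn0⟩ : Fin FqDC.d.n) = Set.univ := by
      ext c
      simp only [Set.mem_univ, iff_true]
      obtain ⟨g, hg⟩ := htr c
      exact ⟨g, hg⟩
    rw [h1, Set.ncard_univ, Nat.card_fin]
  have hS2 : Nat.card St = 362880 := by
    have h1 := Subgroup.card_mul_index St
    rw [hS1, inj.2] at h1
    have h2 : FqDC.d.n = 130560 := rfl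
    rw [h2] at h1
    omega
  have hS3 : S9 ≤ St := fun x hx => S9_le_stab x hx
  have hS4 : S9 = St := Subgroup.eq_of_le_of_card_ge hS3 (by rw [hS2]; exact card_S9)
  have hmem : h ∈ S9 := by
    rw [hS4]
    exact hh
  exact S9_comm h hmem

theorem letters : ∃ xx : ℕ → QQ, (∀ (h : PP) (c : ℕ) (hc : c < FqDC.d.n), eG h * xx c * (eG h)⁻¹ = xx (phi h ⟨c, hc⟩)) ∧
    (∀ h : PP, xx (phi h ⟨0, hn0⟩) = eG h * iG * (eG h)⁻¹) :=
  letters_exist hn0 eG phi iG htr hst

/-- the letters -/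
noncomputable def xx : ℕ → QQ := Classical.choose letters

theorem xx1 (h : PP) (c : ℕ) (hc : c < FqDC.d.n) : eG h * xx c * (eG h)⁻¹ = xx (phi h ⟨c, hc⟩) :=
  (Classical.choose_spec letters).1 h c hc

theorem xx2 (h : PP) : xx (phi h ⟨0, hn0⟩) = eG h * iG * (eG h)⁻¹ :=
  (Classical.choose_spec letters).2 h

theorem hinv (c : ℕ) (hc : c < FqDC.d.n) : xx (FqDC.d.invl c) = (xx c)⁻¹ := by
  show xx c = (xx c)⁻¹
  obtain ⟨h, hh⟩ := htr ⟨c, hc⟩
  have h2 : xx c = eG h * iG * (eG h)⁻¹ := by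
    rw [← xx2, hh]
  rw [h2]
  have hi : iG⁻¹ = iG := inv_eq_of_mul_eq_one_left iG2
  calc eG h * iG * (eG h)⁻¹ = eG h * iG⁻¹ * (eG h)⁻¹ := by rw [hi]
    _ = _ := by group

theorem hinvlt (c : ℕ) (hc : c < FqDC.d.n) : FqDC.d.invl c < FqDC.d.n := hc

theorem hrig (h : PP) (hf : ∀ b (hb : b < FqDC.d.m), b ∈ FqDC.d.base → psi h ⟨b, hb⟩ = ⟨b, hb⟩) : h = 1 := by
  refine TCChain3.rigid_of_base FqU0.hR FqU0.small FqU0.big FqU0.hgens inj.1 FqDC.next0 FqDC.ls
    FqDC.fix0 FqDC.chainOK (le_of_eq (inj.2.trans FqDC.prodEq.symm)) h ?_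
  intro p hp
  rw [FqDC.baseEq] at hp
  exact hf p.1 p.2 hp

theorem hbase : ∀ b ∈ FqDC.d.base, b < FqDC.d.m := by decide +kernel

/-- the subgroup in the group -/
noncomputable abbrev BB : Subgroup QQ := eG.range

/-- the first coset -/
noncomputable abbrev p0 : QQ ⧸ BB := ((1 : QQ) : QQ ⧸ BB)

theorem one_smul_iff' {G : Type*} [Group G] (H : Subgroup G) (g : G) :
    g • ((1 : G) : G ⧸ H) = ((1 : G) : G ⧸ H) ↔ g ∈ H := by
  rw [MulAction.Quotient.smul_coe, smul_eq_mul, mul_one, QuotientGroup.eq, mul_one, inv_mem_iff]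

theorem h0 (h : PP) : eG h • p0 = p0 :=
  (one_smul_iff' BB (eG h)).2 ⟨h, rfl⟩

theorem x0 : xx 0 = iG := by
  have h := xx2 1
  rw [map_one, map_one] at h
  simpa using h

/-- the generator `h` -/
noncomputable abbrev hG : QQ := PresentedGroup.of Gen.h

theorem eG8 : eG (valP 8) = hG := by
  have h1 : valP 8 = PresentedGroup.of (8 : Fin 9) := valP_of 8
  rw [h1, eG_of]
  rfl

theorem hG2 : hG * hG = 1 := by
  have h := rel_of_mem (r := (Cfsg.Spor.Fi23.h * Cfsg.Spor.Fi23.h) ^ 1) (by decide +kernel)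
  rw [pow_one, map_mul] at h
  exact h

theorem hi3 : (hG * iG) ^ 3 = 1 := by
  have h := rel_of_mem (r := (Cfsg.Spor.Fi23.h * i) ^ 3) (by decide +kernel)
  rw [map_pow, map_mul] at h
  exact h

theorem T80 : FqDC.T 8 0 = 1 := by decide +kernel

theorem x1 : xx 1 = hG * iG * hG := by
  have h1 : ((phi (valP 8) ⟨0, hn0⟩ : Fin FqDC.d.n) : ℕ) = 1 := by
    rw [hT 8 (by norm_num) 0 hn0, T80]
  have h2 := xx2 (valP 8)
  rw [h1, eG8] at h2
  rw [h2]
  have h3 : hG⁻¹ = hG := inv_eq_of_mul_eq_one_left hG2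
  rw [h3]

theorem ap3 (a b c : ℕ) (q : QQ ⧸ BB) : apLs xx [a, b, c] q = (xx c * xx b * xx a) • q := by
  simp only [apLs, List.foldl_cons, List.foldl_nil, mul_smul]

theorem eq1 : (hG * iG * hG) * iG * (hG * iG * hG) = hG := by
  have h := hi3
  have h2 : hG * iG * hG * iG * hG * iG = 1 := by
    rw [← h, pow_succ, pow_two]
    group
  calc (hG * iG * hG) * iG * (hG * iG * hG) = (hG * iG * hG * iG * hG * iG) * hG := by group
    _ = hG := by rw [h2, one_mul]

theorem eq2 : iG * (hG * iG * hG) * iG = hG := by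
  have h2 : hG * (iG * (hG * iG * hG) * iG) = 1 := by
    rw [← hi3, pow_succ, pow_two]
    group
  have h3 : hG⁻¹ = hG := inv_eq_of_mul_eq_one_left hG2
  calc iG * (hG * iG * hG) * iG = hG⁻¹ * (hG * (iG * (hG * iG * hG) * iG)) := by group
    _ = hG := by rw [h2, mul_one, h3]

theorem hrel (ρ : ℕ) (q : QQ ⧸ BB) : apLs xx (FqDC.d.rels ρ).1 q = eG (vl valP (FqDC.d.rels ρ).2) • q := by
  match ρ with
  | 0 =>
    show apLs xx [1, 0, 1] q = eG (vl valP [8]) • q
    rw [ap3, x0, x1, vl_single, eG8, eq1]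
  | 1 =>
    show apLs xx [0, 1, 0] q = eG (vl valP [8]) • q
    rw [ap3, x0, x1, vl_single, eG8, eq2]
  | 2 =>
    show apLs xx [0, 0] q = eG (vl valP []) • q
    simp only [apLs, List.foldl_cons, List.foldl_nil, x0, vl_nil, map_one, one_smul]
    rw [← mul_smul, iG2, one_smul]
  | n + 3 =>
    have h : FqDC.d.rels (n + 3) = ([], []) := by
      show FqDC.relsL.getD (n + 3) ([], []) = ([], [])
      rw [List.getD_eq_default]
      have : FqDC.relsL.length = 3 := rfl
      omega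
    rw [h]
    simp [apLs, vl]

theorem ok : Ok FqDC.d eG phi psi xx p0 valP where
  hS := hS
  hR := hR
  hx := xx1
  hinv := hinv
  hinvlt := hinvlt
  hrig := hrig
  hbase := hbase
  h0 := h0
  hrel := hrel

theorem hgen : Subgroup.closure (Set.range eG ∪ xx '' {c | c < FqDC.d.n}) = ⊤ := by
  rw [eq_top_iff, ← PresentedGroup.closure_range_of RQ, Subgroup.closure_le]
  rintro _ ⟨b, rfl⟩
  apply Subgroup.subset_closure
  cases b with
  | a => exact Or.inl ⟨PresentedGroup.of 0, eG_of 0⟩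
  | b => exact Or.inl ⟨PresentedGroup.of 1, eG_of 1⟩
  | c => exact Or.inl ⟨PresentedGroup.of 2, eG_of 2⟩
  | d => exact Or.inl ⟨PresentedGroup.of 3, eG_of 3⟩
  | e => exact Or.inl ⟨PresentedGroup.of 4, eG_of 4⟩
  | f => exact Or.inl ⟨PresentedGroup.of 5, eG_of 5⟩
  | g => exact Or.inl ⟨PresentedGroup.of 6, eG_of 6⟩
  | j => exact Or.inl ⟨PresentedGroup.of 7, eG_of 7⟩
  | h => exact Or.inl ⟨PresentedGroup.of 8, eG_of 8⟩
  | i => exact Or.inr ⟨0, hn0, x0⟩

theorem htrans (q : QQ ⧸ BB) : ∃ g : QQ, q = g • p0 := by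
  obtain ⟨g, rfl⟩ := QuotientGroup.mk_surjective q
  exact ⟨g, by rw [MulAction.Quotient.smul_coe, smul_eq_mul, mul_one]⟩

theorem hN : ∀ f, f < FqDC.NF → FqDC.d.chk f = true := fun f hf =>
  allFrom_spec FqDC.fctAll f (Nat.zero_le _) (show f < 0 + 6582 by
    have : FqDC.NF = 6582 := rfl
    omega)

theorem card_le : Finite (QQ ⧸ BB) ∧ Nat.card (QQ ⧸ BB) ≤ 86316516 := by
  have h := ok.card_le' hN (Lv := FqDC.Lv)
    (fun r hr => by
      obtain ⟨Tr, hTr⟩ := FqDC.covAll r hr
      exact ok.cov2_spec hN r hTr)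
    (by decide +kernel) (by decide +kernel) hgen htrans (kg := FqDC.kg) (kls := FqDC.kls)
    (fun r hr => List.all_eq_true.1 FqDC.keAll r hr)
    (fun r hr => List.all_eq_true.1 FqDC.chAll r hr)
    (fun r hr => Nat.le_of_ble_eq_true (List.all_eq_true.1 FqDC.posAll r hr))
  refine ⟨h.1, le_trans h.2 (le_of_eq ?_)⟩
  rw [inj.2]
  exact FqDC.sumEq

/-- The order of the group. -/
theorem card_QQ : Finite QQ ∧ Nat.card QQ ≤ 4089470473293004800 := by
  haveI := card_le.1
  have h1 : Nat.card BB ≤ 47377612800 := by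
    rw [← inj.2]
    exact Nat.card_le_card_of_surjective _ eG.rangeRestrict_surjective
  have h2 : BB.index ≤ 86316516 := card_le.2
  have h3 := Subgroup.card_mul_index BB
  have hBf : Finite BB := Finite.of_surjective _ eG.rangeRestrict_surjective
  have h4 : Nat.card BB ≠ 0 := Nat.card_pos.ne'
  have h5 : BB.index ≠ 0 := Nat.card_pos.ne'
  refine ⟨Nat.finite_of_card_ne_zero ?_, ?_⟩
  · rw [← h3]
    exact Nat.mul_ne_zero h4 h5
  · rw [← h3]
    calc Nat.card BB * BB.index ≤ 47377612800 * 86316516 := Nat.mul_le_mul h1 h2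
      _ = 4089470473293004800 := by norm_num

end Cfsg.Agent.Lib.Compute.FqUp
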