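/-
A subgroup of index two below every nontrivial normal subgroup is simple, when its order is not a square.
-/
import Mathlib

set_option autoImplicit false

namespace Cfsg.Agent.Lib.Compute.IndexTwoSimple

variable {G : Type*} [Group G]

/-- The conjugate of a subgroup. -/
def cj (g : G) (K : Subgroup G) : Subgroup G := K.map (MulAut.conj g).toMonoidHom

theorem mem_cj {g x : G} {K : Subgroup G} : x ∈ cj g K ↔ g⁻¹ * x * g ∈ K := by
  constructor
  · rintro ⟨y, hy, rfl⟩
    have h : g⁻¹ * (MulAut.conj g).toMonoidHom y * g = y := by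
      show g⁻¹ * (g * y * g⁻¹) * g = y
      group
    rwa [h]
  · intro h
    refine ⟨_, h, ?_⟩
    show g * (g⁻¹ * x * g) * g⁻¹ = x
    group

theorem cj_mul (g h : G) (K : Subgroup G) : cj (g * h) K = cj g (cj h K) := by
  ext x
  rw [mem_cj, mem_cj, mem_cj]
  have : h⁻¹ * (g⁻¹ * x * g) * h = (g * h)⁻¹ * x * (g * h) := by group
  rw [this]

theorem cj_one (K : Subgroup G) : cj 1 K = K := by
  ext x
  rw [mem_cj]
  simp

theorem cj_inf (g : G) (K L : Subgroup G) : cj g (K ⊓ L) = cj g K ⊓ cj g L := by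
  ext x
  simp only [mem_cj, Subgroup.mem_inf]

theorem cj_sup (g : G) (K L : Subgroup G) : cj g (K ⊔ L) = cj g K ⊔ cj g L :=
  Subgroup.map_sup _ _ _

theorem normal_of_cj {K : Subgroup G} (h : ∀ g, cj g K = K) : K.Normal := by
  refine ⟨fun n hn g => ?_⟩
  rw [← h g, mem_cj]
  have : g⁻¹ * (g * n * g⁻¹) * g = n := by group
  rwa [this]

/-- The criterion. -/
theorem simple_of_index_two [Finite G] (D : Subgroup G) (hD : D.index = 2)
    (hmin : ∀ N : Subgroup G, N.Normal → N ≠ ⊥ → D ≤ N) (hsq : ∀ x : ℕ, x * x ≠ Nat.card D)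
    (hnt : Nontrivial D) : IsSimpleGroup D := by
  classical
  haveI hDn : D.Normal := Subgroup.normal_of_index_eq_two hD
  refine ⟨fun M hM => ?_⟩
  by_cases hbot : M = ⊥
  · exact Or.inl hbot
  right
  obtain ⟨t, ht⟩ : ∃ t, t ∉ D := by
    by_contra hall
    have : D = ⊤ := eq_top_iff.2 (fun x _ => by
      by_contra hx
      exact hall ⟨x, hx⟩)
    rw [this, Subgroup.index_top] at hD
    omega
  set M1 : Subgroup G := M.map D.subtype with hM1
  have hM1D : M1 ≤ D := by
    rintro _ ⟨m, _, rfl⟩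
    exact m.2
  have hcjD : ∀ g ∈ D, cj g M1 ≤ M1 := by
    intro g hg x hx
    rw [mem_cj] at hx
    have hxD : x ∈ D := by
      have h1 := hM1D hx
      have h2 := hDn.conj_mem _ h1 g
      have : g * (g⁻¹ * x * g) * g⁻¹ = x := by group
      rwa [this] at h2
    rw [hM1] at hx
    obtain ⟨m, hm, hmx⟩ := hx
    have h3 : (⟨g, hg⟩ : D)⁻¹ * ⟨x, hxD⟩ * ⟨g, hg⟩ = m := by
      apply Subtype.ext
      exact hmx.symm
    have h4 : (⟨x, hxD⟩ : D) ∈ M := by
      have h5 := hM.conj_mem m hm ⟨g, hg⟩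
      rw [← h3] at h5
      have : (⟨g, hg⟩ : D) * ((⟨g, hg⟩ : D)⁻¹ * ⟨x, hxD⟩ * ⟨g, hg⟩) * (⟨g, hg⟩ : D)⁻¹ = ⟨x, hxD⟩ := by group
      rwa [this] at h5
    exact ⟨_, h4, rfl⟩
  have hcj1 : ∀ g ∈ D, cj g M1 = M1 := by
    intro g hg
    apply le_antisymm (hcjD g hg)
    intro x hx
    have h2 : (g⁻¹)⁻¹ * (g⁻¹ * x * g) * g⁻¹ = x := by group
    have h1 := hcjD g⁻¹ (D.inv_mem hg) (mem_cj.2 (by rwa [h2]) : g⁻¹ * x * g ∈ cj g⁻¹ M1)
    rw [mem_cj]
    exact h1
  set M2 : Subgroup G := cj t M1 with hM2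
  have hM2D : M2 ≤ D := by
    intro x hx
    rw [hM2, mem_cj] at hx
    have h1 := hDn.conj_mem _ (hM1D hx) t
    have : t * (t⁻¹ * x * t) * t⁻¹ = x := by group
    rwa [this] at h1
  have hconjD : ∀ g ∈ D, t⁻¹ * g * t ∈ D := by
    intro g hg
    have := hDn.conj_mem g hg t⁻¹
    simpa using this
  have hcj2 : ∀ g ∈ D, cj g M2 = M2 := by
    intro g hg
    have h1 : g * t = t * (t⁻¹ * g * t) := by group
    rw [hM2, ← cj_mul, h1, cj_mul, hcj1 _ (hconjD g hg)]
  have hodd : ∀ g, g ∉ D → cj g M1 = M2 ∧ cj g M2 = M1 := by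
    intro g hg
    have h1 : t⁻¹ * g ∈ D := by
      rw [Subgroup.mul_mem_iff_of_index_two hD, inv_mem_iff]
      exact iff_of_false ht hg
    have h2 : g * t ∈ D := by
      rw [Subgroup.mul_mem_iff_of_index_two hD]
      exact iff_of_false hg ht
    constructor
    · have h3 : g = t * (t⁻¹ * g) := by group
      rw [h3, cj_mul, hcj1 _ h1]
    · rw [hM2, ← cj_mul, hcj1 _ h2]
  have hnA : (M1 ⊓ M2).Normal := by
    apply normal_of_cj
    intro g
    by_cases hg : g ∈ D
    · rw [cj_inf, hcj1 g hg, hcj2 g hg]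
    · rw [cj_inf, (hodd g hg).1, (hodd g hg).2, inf_comm]
  have hnB : (M1 ⊔ M2).Normal := by
    apply normal_of_cj
    intro g
    by_cases hg : g ∈ D
    · rw [cj_sup, hcj1 g hg, hcj2 g hg]
    · rw [cj_sup, (hodd g hg).1, (hodd g hg).2, sup_comm]
  have hinjS : Function.Injective D.subtype := Subtype.val_injective
  have hM1ne : M1 ≠ ⊥ := by
    intro h
    apply hbot
    rw [hM1] at h
    exact (Subgroup.map_eq_bot_iff_of_injective M hinjS).1 h
  have hB : M1 ⊔ M2 = D :=
    le_antisymm (sup_le hM1D hM2D) (hmin _ hnB (fun h => hM1ne (by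
      rw [eq_bot_iff, ← h]
      exact le_sup_left)))
  have hM1top : M1 = D → M = ⊤ := by
    intro h
    apply Subgroup.map_injective hinjS
    rw [← hM1, h, ← MonoidHom.range_eq_map, Subgroup.range_subtype]
  by_cases hA : M1 ⊓ M2 = ⊥
  · exfalso
    let M3 : Subgroup D := M2.subgroupOf D
    haveI hM3n : M3.Normal := by
      refine ⟨fun n hn g => ?_⟩
      rw [Subgroup.mem_subgroupOf] at hn ⊢
      have h1 : ((g * n * g⁻¹ : D) : G) ∈ cj (g : G) M2 := by
        rw [mem_cj]
        have : (g : G)⁻¹ * ((g * n * g⁻¹ : D) : G) * g = n := by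
          simp only [Subgroup.coe_mul, Subgroup.coe_inv]
          group
        rwa [this]
      rwa [hcj2 _ g.2] at h1
    have hM3map : M3.map D.subtype = M2 := by
      rw [Subgroup.subgroupOf_map_subtype]
      exact inf_eq_left.2 hM2D
    have hsup : M ⊔ M3 = ⊤ := by
      apply Subgroup.map_injective hinjS
      rw [Subgroup.map_sup, hM3map, ← hM1, hB, ← MonoidHom.range_eq_map, Subgroup.range_subtype]
    have hdisj : Disjoint M M3 := by
      rw [Subgroup.disjoint_def]
      intro x hx hx3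
      have h1 : (x : G) ∈ M1 ⊓ M2 := ⟨⟨x, hx, rfl⟩, hx3⟩
      rw [hA, Subgroup.mem_bot] at h1
      exact Subtype.ext h1
    have hcompl : Subgroup.IsComplement' M M3 := by
      apply Subgroup.isComplement'_of_disjoint_and_mul_eq_univ hdisj
      rw [← Subgroup.mul_normal M M3, hsup]
      rfl
    have hc := hcompl.card_mul_card
    have hc1 : Nat.card M3 = Nat.card M2 :=
      Nat.card_congr (Subgroup.subgroupOfEquivOfLe hM2D).toEquiv
    have hc2 : Nat.card M2 = Nat.card M1 :=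
      (Nat.card_congr (Subgroup.equivMapOfInjective _ (MulAut.conj t).toMonoidHom (MulAut.conj t).injective).toEquiv).symm
    have hc3 : Nat.card M1 = Nat.card M :=
      (Nat.card_congr (Subgroup.equivMapOfInjective _ D.subtype hinjS).toEquiv).symm
    rw [hc1, hc2, hc3] at hc
    exact hsq _ hc
  · exact hM1top (le_antisymm hM1D (le_trans (hmin _ hnA hA) inf_le_left))

end Cfsg.Agent.Lib.Compute.IndexTwoSimple
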