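/-
The presented group Fi₂₄: its order, the normal subgroups, and the simplicity of its commutator subgroup.
-/
import Cfsg.Agent.Lib.Compute.FqUp
import Cfsg.Agent.Lib.Compute.DoubleCover
import Cfsg.Agent.Lib.Compute.IndexTwoSimple
import Cfsg.Agent.Lib.Compute.TC.Fi24a.Final
import Cfsg.Agent.Lib.Compute.TC.Fi24C.Dv
import Cfsg.Agent.S1691

set_option autoImplicit false
set_option maxRecDepth 100000

namespace Cfsg.Agent.Lib.Compute.Fi24Top

open Cfsg.Agent.Lib.Compute.ToddCoxeterCore Cfsg.Agent.Lib.Compute.ToddCoxeterPresented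
  Cfsg.Agent.Lib.Compute.TCFast Cfsg.Agent.Lib.Compute.TCChain
open Cfsg.Agent.Lib.Compute.TC
open Cfsg.Spor.Fi24

/-- the group -/
abbrev GG : Type := PresentedGroup Fi24a.RR

/-- the generators of the Fischer group Fi₂₃ among the generators -/
def gm : Cfsg.Spor.Fi23.Gen → Gen
  | .a => .a
  | .b => .b
  | .c => .c
  | .d => .d
  | .e => .e
  | .f => .f
  | .g => .g
  | .j => .j
  | .h => .h
  | .i => .i

theorem relCox : ∀ r ∈ coxList Cfsg.Spor.Fi23.edges, FreeGroup.map gm r ∈ Fi24a.D.rs := by decide +kernel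

/-- a generator in the group -/
noncomputable abbrev γ (x : Gen) : GG := PresentedGroup.of x

theorem rel_of_mem {r : FreeGroup Gen} (h : r ∈ Fi24a.D.rs) : PresentedGroup.mk Fi24a.RR r = 1 :=
  PresentedGroup.one_of_mem ((Fi24a.hR r).2 h)

theorem gam2 (x : Gen) : γ x * γ x = 1 := by
  have h : ((FreeGroup.of x * FreeGroup.of x) ^ 1) ∈ Fi24a.D.rs := by
    cases x <;> decide +kernel
  have h1 := rel_of_mem h
  rw [pow_one, map_mul] at h1
  exact h1

theorem gam_inv (x : Gen) : (γ x)⁻¹ = γ x := inv_eq_of_mul_eq_one_left (gam2 x)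

/-- the element `(a b c d e f h)^9` -/
abbrev wF : FreeGroup Gen := (a * b * c * d * e * f * Cfsg.Spor.Fi24.h) ^ 9

theorem l_eq : γ Gen.l = PresentedGroup.mk Fi24a.RR wF := by
  have h : l * wF⁻¹ ∈ Fi24a.D.rs := by decide +kernel
  have h1 := rel_of_mem h
  rw [map_mul, map_inv] at h1
  exact mul_inv_eq_one.1 h1

/-- the subgroup on the generators of the Fischer group Fi₂₃ -/
noncomputable def HP : Subgroup GG := Subgroup.closure (Set.range fun b => (PresentedGroup.of (gm b) : GG))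

theorem hg (b : Cfsg.Spor.Fi23.Gen) : PresentedGroup.of (gm b) ∈ HP := Subgroup.subset_closure ⟨b, rfl⟩

theorem l_mem : γ Gen.l ∈ HP := by
  rw [l_eq, map_pow]
  apply pow_mem
  simp only [map_mul]
  exact mul_mem (mul_mem (mul_mem (mul_mem (mul_mem (mul_mem (hg .a) (hg .b)) (hg .c)) (hg .d)) (hg .e)) (hg .f)) (hg .h)

theorem comm_of_sq {Γ : Type*} [Group Γ] {x y : Γ} (h : (x * y) ^ 2 = 1) (hx : x * x = 1) (hy : y * y = 1) :
    x * y = y * x := by
  have h1 : x⁻¹ = x := inv_eq_of_mul_eq_one_left hx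
  have h2 : y⁻¹ = y := inv_eq_of_mul_eq_one_left hy
  have h3 : x * y * (x * y) = 1 := by rw [← h, pow_two]
  calc x * y = x * y * (x * y) * (y⁻¹ * x⁻¹) := by group
    _ = y⁻¹ * x⁻¹ := by rw [h3, one_mul]
    _ = y * x := by rw [h1, h2]

theorem l_comm (b : Cfsg.Spor.Fi23.Gen) : γ (gm b) * γ Gen.l = γ Gen.l * γ (gm b) := by
  have h : ((FreeGroup.of (gm b) * l) ^ 2) ∈ Fi24a.D.rs := by
    cases b <;> decide +kernel
  have h1 := rel_of_mem h
  rw [map_pow, map_mul] at h1
  exact comm_of_sq h1 (gam2 _) (gam2 _)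

theorem central (x : GG) (hx : x ∈ HP) : x * γ Gen.l = γ Gen.l * x := by
  have h1 : HP ≤ Subgroup.centralizer {γ Gen.l} := by
    rw [HP, Subgroup.closure_le]
    rintro _ ⟨b, rfl⟩
    simp only [SetLike.mem_coe, Subgroup.mem_centralizer_singleton_iff]
    exact (l_comm b)
  exact Subgroup.mem_centralizer_singleton_iff.1 (h1 hx)

/-- the element `l` in the subgroup -/
noncomputable def lP : HP := ⟨γ Gen.l, l_mem⟩

/-- the central subgroup -/
noncomputable def ZZ : Subgroup HP := Subgroup.zpowers lP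

theorem lP_comm (g : HP) : g * lP = lP * g := Subtype.ext (central g.1 g.2)

instance ZZ_normal : ZZ.Normal := by
  refine ⟨fun n hn g => ?_⟩
  obtain ⟨k, rfl⟩ := Subgroup.mem_zpowers_iff.1 hn
  have h1 : Commute g (lP ^ k) := Commute.zpow_right (lP_comm g) k
  have h2 : g * lP ^ k * g⁻¹ = lP ^ k := by
    rw [h1.eq]
    group
  rw [h2]
  exact Subgroup.zpow_mem_zpowers _ _

theorem lP2 : lP ^ 2 = 1 := by
  apply Subtype.ext
  show γ Gen.l ^ 2 = 1
  rw [pow_two, gam2]

theorem map_w0 : FreeGroup.map gm FqUp.w0 = wF := by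
  simp only [map_pow, map_mul, FreeGroup.map.of, gm]

theorem hrelZ (r : FreeGroup Cfsg.Spor.Fi23.Gen) (hr : r ∈ FqUp.RQ)
    (h : PresentedGroup.mk Fi24a.RR (FreeGroup.map gm r) ∈ HP) :
    (⟨PresentedGroup.mk Fi24a.RR (FreeGroup.map gm r), h⟩ : HP) ∈ ZZ := by
  have h1 := (FqUp.hRQ r).1 hr
  rw [FqUp.rsQ, List.mem_append] at h1
  rcases h1 with h1 | h1
  · have h2 := rel_of_mem (relCox r h1)
    have h3 : (⟨PresentedGroup.mk Fi24a.RR (FreeGroup.map gm r), h⟩ : HP) = 1 := Subtype.ext h2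
    rw [h3]
    exact one_mem _
  · have hr0 : r = FqUp.w0 := by simpa using h1
    subst hr0
    have h3 : (⟨PresentedGroup.mk Fi24a.RR (FreeGroup.map gm FqUp.w0), h⟩ : HP) = lP := by
      apply Subtype.ext
      show PresentedGroup.mk Fi24a.RR (FreeGroup.map gm FqUp.w0) = γ Gen.l
      rw [map_w0, l_eq]
    rw [h3]
    exact Subgroup.mem_zpowers _

theorem card_HP : Finite HP ∧ Nat.card HP ≤ 2 * 4089470473293004800 := by
  obtain ⟨f, hf⟩ := DoubleCover.lift_to_quot (R₁ := FqUp.RQ) gm HP hg rfl ZZ hrelZ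
  haveI := FqUp.card_QQ.1
  have h1 : Nat.card (HP ⧸ ZZ) ≤ Nat.card FqUp.QQ := Nat.card_le_card_of_surjective f hf
  haveI : Finite (HP ⧸ ZZ) := Finite.of_surjective f hf
  have h2 : Nat.card ZZ = orderOf lP := Nat.card_zpowers lP
  have h3 : orderOf lP ≤ 2 := orderOf_le_of_pow_eq_one (by norm_num) lP2
  have h4 : 0 < orderOf lP := orderOf_pos_iff.2 (isOfFinOrder_iff_pow_eq_one.2 ⟨2, by norm_num, lP2⟩)
  have h5 := Subgroup.card_eq_card_quotient_mul_card_subgroup ZZ
  have h6 : 0 < Nat.card (HP ⧸ ZZ) := Nat.card_pos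
  refine ⟨Nat.finite_of_card_ne_zero ?_, ?_⟩
  · rw [h5, h2]
    exact Nat.mul_ne_zero h6.ne' h4.ne'
  · rw [h5, h2, mul_comm]
    exact Nat.mul_le_mul h3 (le_trans h1 FqUp.card_QQ.2)

/-- the subgroup of the table -/
abbrev HH : Subgroup GG := HOf Fi24a.RR Fi24a.D.Hs

theorem HP_eq : HP = HH := by
  apply le_antisymm
  · rw [HP, Subgroup.closure_le]
    rintro _ ⟨b, rfl⟩
    refine ⟨FreeGroup.of (gm b), Subgroup.subset_closure ?_, rfl⟩
    show FreeGroup.of (gm b) ∈ Fi24a.D.Hs
    cases b <;> simp [Fi24a.D, gm, Cfsg.Spor.Fi24.a, Cfsg.Spor.Fi24.b, Cfsg.Spor.Fi24.c, Cfsg.Spor.Fi24.d,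
      Cfsg.Spor.Fi24.e, Cfsg.Spor.Fi24.f, Cfsg.Spor.Fi24.g, Cfsg.Spor.Fi24.h, Cfsg.Spor.Fi24.i, Cfsg.Spor.Fi24.j,
      Cfsg.Spor.Fi24.l]
  · rw [HH, HOf, Subgroup.map_le_iff_le_comap, Subgroup.closure_le]
    intro w hw
    have hw' : w ∈ Fi24a.D.Hs := hw
    simp only [Fi24a.D, List.mem_cons, List.not_mem_nil, or_false] at hw'
    simp only [Subgroup.coe_comap, Set.mem_preimage, SetLike.mem_coe]
    rcases hw' with rfl | rfl | rfl | rfl | rfl | rfl | rfl | rfl | rfl | rfl | rfl
    · exact hg .a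
    · exact hg .b
    · exact hg .c
    · exact hg .d
    · exact hg .e
    · exact hg .f
    · exact hg .g
    · exact hg .h
    · exact hg .i
    · exact hg .j
    · exact l_mem

theorem upG : Finite GG ∧ Nat.card GG ≤ 2510411418381323442585600 := by
  have h1 := Subgroup.card_mul_index HH
  rw [Fi24a.index, ← HP_eq] at h1
  haveI := card_HP.1
  have h2 : Nat.card HP ≠ 0 := Nat.card_pos.ne'
  refine ⟨Nat.finite_of_card_ne_zero ?_, ?_⟩
  · rw [← h1]
    exact Nat.mul_ne_zero h2 (by norm_num)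
  · rw [← h1]
    calc Nat.card HP * 306936 ≤ (2 * 4089470473293004800) * 306936 := Nat.mul_le_mul_right _ card_HP.2
      _ = 2510411418381323442585600 := by norm_num

instance finG : Finite GG := upG.1

/-- The action on the table is faithful and the order is as expected. -/
theorem inj : Function.Injective (phiG Fi24a.hR Fi24a.small Fi24a.big Fi24a.hgens) ∧
    Nat.card GG = 2510411418381323442585600 :=
  phi_inj Fi24a.hR Fi24a.small Fi24a.big Fi24a.hgens (n := 2510411418381323442585600) upG.2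
    Fi24C.next0 Fi24C.ls Fi24C.fix0 Fi24C.chainOK (le_of_eq Fi24C.prodEq.symm)

theorem leOrd : Nat.card GG ≤ Fi24a.cfg.N * (Fi24C.ls.map (·.n)).prod :=
  le_of_eq (inj.2.trans Fi24C.prodEq.symm)

theorem el_eq (e1 e2 : PE) (h : eqOn (ev0 Fi24a.cfg) e1 e2 (0 :: Fi24C.ls.map (·.b)) = true) :
    e1.el (elG Fi24a.D Fi24a.RR) = e2.el (elG Fi24a.D Fi24a.RR) :=
  el_eq_of_base Fi24a.hR Fi24a.small Fi24a.big Fi24a.hgens inj.1 Fi24C.next0 Fi24C.ls Fi24C.fix0
    Fi24C.chainOK leOrd e1 e2 h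

/-- the element of order 29 -/
noncomputable def rG : GG := Fi24C.rr.el (elG Fi24a.D Fi24a.RR)

theorem rG_pow : rG ^ 29 = 1 := by
  have h1 := el_eq _ _ Fi24C.rPow
  rw [PE.el_pw] at h1
  have h2 : rG ^ (29 ^ 1) = 1 := h1
  simpa using h2

theorem Nval : Fi24a.cfg.N = 306936 := by decide +kernel

theorem p29 : Nat.Prime 29 := by norm_num

/-- A normal subgroup of order divisible by the degree contains the element of order 29. -/
theorem r_mem (M : Subgroup GG) [hM : M.Normal] (h : 306936 ∣ Nat.card M) : rG ∈ M := by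
  have h1 : 29 ∣ Nat.card M := Nat.dvd_trans (by norm_num) h
  have h2 := Subgroup.card_mul_index M
  have h3 : ¬ 29 ∣ M.index := by
    intro h4
    have h5 : 29 * 29 ∣ Nat.card GG := by
      rw [← h2]
      exact Nat.mul_dvd_mul h1 h4
    rw [inj.2] at h5
    norm_num at h5
  let rb : GG ⧸ M := (rG : GG ⧸ M)
  have h4 : rb ^ 29 = 1 := by
    show ((rG ^ 29 : GG) : GG ⧸ M) = 1
    rw [rG_pow]
    rfl
  have h5 : orderOf rb ∣ 29 := orderOf_dvd_of_pow_eq_one h4
  have h6 : orderOf rb ∣ M.index := by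
    have := orderOf_dvd_natCard rb
    rwa [← Subgroup.index] at this
  have h7 : orderOf rb = 1 := by
    rcases (Nat.dvd_prime p29).1 h5 with h8 | h8
    · exact h8
    · rw [h8] at h6
      exact absurd h6 h3
  exact (QuotientGroup.eq_one_iff rG).1 (orderOf_eq_one_iff.1 h7)

theorem let_of (p : Gen) (j : ℕ) (h : letterOf Fi24a.D.lets (p, true) = j) : elG Fi24a.D Fi24a.RR j = γ p := by
  subst h
  exact elG_letterOf Fi24a.hR Fi24a.small Fi24a.hgens (p, true)

/-- A normal subgroup containing the element of order 29 contains a product of two generators. -/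
theorem ac_mem (M : Subgroup GG) [hM : M.Normal] (h : rG ∈ M) : γ Gen.a * γ Gen.c ∈ M := by
  have h1 := Dv.el_mem (elG Fi24a.D Fi24a.RR) Fi24C.rr M h Fi24C.dv
  rw [el_eq _ _ Fi24C.dvOK] at h1
  have h2 : elG Fi24a.D Fi24a.RR 2 = γ Gen.a := let_of _ _ (by decide +kernel)
  have h3 : elG Fi24a.D Fi24a.RR 4 = γ Gen.c := let_of _ _ (by decide +kernel)
  simp only [PE.el] at h1
  rwa [h2, h3] at h1

section Quot

variable (M : Subgroup GG) [hM : M.Normal]

/-- A step of the identification of the generators. -/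
theorem step {x y u : Gen} (hxy : ((γ x : GG) : GG ⧸ M) = ((γ y : GG) : GG ⧸ M))
    (h3 : (FreeGroup.of x * FreeGroup.of u) ^ 3 ∈ Fi24a.D.rs)
    (h2 : (FreeGroup.of y * FreeGroup.of u) ^ 2 ∈ Fi24a.D.rs) :
    ((γ u : GG) : GG ⧸ M) = ((γ x : GG) : GG ⧸ M) := by
  have e3 := rel_of_mem h3
  have e2 := rel_of_mem h2
  rw [map_pow, map_mul] at e3 e2
  set A : GG ⧸ M := ((γ x : GG) : GG ⧸ M) with hA
  set B : GG ⧸ M := ((γ u : GG) : GG ⧸ M) with hB
  have e3' : (A * B) ^ 3 = 1 := by
    show (((γ x * γ u) ^ 3 : GG) : GG ⧸ M) = 1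
    have : (γ x * γ u) ^ 3 = 1 := e3
    rw [this]
    rfl
  have e2' : (A * B) ^ 2 = 1 := by
    rw [hxy]
    show (((γ y * γ u) ^ 2 : GG) : GG ⧸ M) = 1
    have : (γ y * γ u) ^ 2 = 1 := e2
    rw [this]
    rfl
  have e1 : A * B = 1 := by
    have h4 : (A * B) ^ 3 = (A * B) ^ 2 * (A * B) := pow_succ _ _
    rw [e3', e2', one_mul] at h4
    exact h4.symm
  have e4 : A * A = 1 := by
    show ((γ x * γ x : GG) : GG ⧸ M) = 1
    rw [gam2]
    rfl
  have e5 : A⁻¹ = A := inv_eq_of_mul_eq_one_left e4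
  calc B = A⁻¹ * (A * B) := by group
    _ = A := by rw [e1, mul_one, e5]

/-- All generators agree modulo a normal subgroup containing a product of two generators. -/
theorem all_eq (h : γ Gen.a * γ Gen.c ∈ M) (x : Gen) :
    ((γ x : GG) : GG ⧸ M) = ((γ Gen.a : GG) : GG ⧸ M) := by
  have hac : ((γ Gen.a : GG) : GG ⧸ M) = ((γ Gen.c : GG) : GG ⧸ M) := by
    rw [QuotientGroup.eq, gam_inv]
    exact h
  have hk := step M hac (u := Gen.k) (by decide +kernel) (by decide +kernel)
  have hb := step M hk.symm (u := Gen.b) (by decide +kernel) (by decide +kernel)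
  have hl := step M hk (u := Gen.l) (by decide +kernel) (by decide +kernel)
  have hd := step M hac.symm (u := Gen.d) (by decide +kernel) (by decide +kernel)
  have hda : ((γ Gen.d : GG) : GG ⧸ M) = ((γ Gen.a : GG) : GG ⧸ M) := hd.trans hac.symm
  have he := step M hda (u := Gen.e) (by decide +kernel) (by decide +kernel)
  have hh := step M hda (u := Gen.h) (by decide +kernel) (by decide +kernel)
  have hea := he.trans hda
  have hha := hh.trans hda
  have hf := step M hea (u := Gen.f) (by decide +kernel) (by decide +kernel)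
  have hfa := hf.trans hea
  have hgg := step M hfa (u := Gen.g) (by decide +kernel) (by decide +kernel)
  have hga := hgg.trans hfa
  have hj := step M hga (u := Gen.j) (by decide +kernel) (by decide +kernel)
  have hi := step M hha (u := Gen.i) (by decide +kernel) (by decide +kernel)
  cases x with
  | l => exact hl.trans hk
  | k => exact hk
  | a => rfl
  | b => exact hb
  | c => exact hac.symm
  | d => exact hda
  | e => exact hea
  | f => exact hfa
  | g => exact hga
  | j => exact hj.trans hga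
  | h => exact hha
  | i => exact hi.trans hha

theorem comm_le (h : γ Gen.a * γ Gen.c ∈ M) : commutator GG ≤ M := by
  have hz : ∀ g : GG, ((g : GG) : GG ⧸ M) ∈ Subgroup.zpowers (((γ Gen.a : GG)) : GG ⧸ M) := by
    intro g
    have h1 : g ∈ Subgroup.closure (Set.range (PresentedGroup.of (rels := Fi24a.RR))) := by
      rw [PresentedGroup.closure_range_of]
      trivial
    induction h1 using Subgroup.closure_induction with
    | mem x hx =>
      obtain ⟨b, rfl⟩ := hx
      have := all_eq M h b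
      show ((γ b : GG) : GG ⧸ M) ∈ _
      rw [this]
      exact Subgroup.mem_zpowers _
    | one => exact one_mem _
    | mul x y _ _ hx hy => exact mul_mem hx hy
    | inv x _ hx => exact inv_mem hx
  rw [commutator_def, Subgroup.commutator_le]
  intro g₁ _ g₂ _
  rw [← QuotientGroup.eq_one_iff]
  obtain ⟨k₁, hk₁⟩ := Subgroup.mem_zpowers_iff.1 (hz g₁)
  obtain ⟨k₂, hk₂⟩ := Subgroup.mem_zpowers_iff.1 (hz g₂)
  have hc : Commute ((g₁ : GG) : GG ⧸ M) ((g₂ : GG) : GG ⧸ M) := by
    rw [← hk₁, ← hk₂]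
    exact (Commute.refl _).zpow_zpow _ _
  show (((g₁ : GG) : GG ⧸ M) * ((g₂ : GG) : GG ⧸ M) * ((g₁ : GG) : GG ⧸ M)⁻¹ * ((g₂ : GG) : GG ⧸ M)⁻¹) = 1
  rw [hc.eq]
  group

end Quot

/-- The orbit lengths. -/
def sz (d : ℕ) : ℕ := List.getD [1, 275264, 31671] d 0

theorem sum_sz : ∑ d ∈ Finset.range 3, sz d = 306936 := by decide +kernel

/-- A nontrivial normal subgroup contains the commutator subgroup. -/
theorem normal_ge (M : Subgroup GG) (hM : M.Normal) (hne : M ≠ ⊥) : commutator GG ≤ M := by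
  obtain ⟨q, ⟨h0, h1, h2⟩, hd⟩ := Fi24a.orbitsAll
  rcases primitive_crit HH (k := 3) Fi24a.index q sz
    (by
      intro d hd'
      interval_cases d
      · exact h0
      · exact h1
      · exact h2) hd sum_sz (by norm_num) rfl
    (by intro d h h'; interval_cases d <;> decide) (by decide +kernel) M with h | h
  · exfalso
    apply hne
    rw [eq_bot_iff]
    intro m hm
    rw [Subgroup.mem_bot]
    apply core_trivial Fi24a.hR Fi24a.small Fi24a.big Fi24a.hgens inj.1
    intro x
    induction x using QuotientGroup.induction_on with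
    | H g =>
      rw [MulAction.Quotient.smul_coe, smul_eq_mul, QuotientGroup.eq]
      have h3 : g⁻¹ * m⁻¹ * g ∈ M := by
        have := hM.conj_mem _ (inv_mem hm) g⁻¹
        simpa using this
      have h4 := h h3
      simpa [mul_assoc] using h4
  · exact comm_le M (ac_mem M (r_mem M h))

theorem hidx : (commutator GG).index = 2 := Cfsg.Agent.S1691.result

theorem card_D : Nat.card (commutator GG) = 1255205709190661721292800 := by
  have h1 := Subgroup.card_mul_index (commutator GG)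
  rw [hidx, inj.2] at h1
  omega

/-- The commutator subgroup is simple. -/
theorem simple_D : IsSimpleGroup (commutator GG) := by
  refine IndexTwoSimple.simple_of_index_two _ hidx normal_ge ?_ ?_
  · intro x hx
    rw [card_D] at hx
    have h1 : 29 ∣ x * x := by rw [hx]; norm_num
    have h2 : 29 ∣ x := (Nat.Prime.dvd_mul p29).1 h1 |>.elim id id
    have h3 : 29 * 29 ∣ x * x := Nat.mul_dvd_mul h2 h2
    rw [hx] at h3
    norm_num at h3
  · apply Finite.one_lt_card_iff_nontrivial.1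
    rw [card_D]
    norm_num

end Cfsg.Agent.Lib.Compute.Fi24Top
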