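import Cfsg.Agent.Lib.Compute.G23
import Cfsg.Agent.Lib.ChevOrder.Cert.G2
import Cfsg.Agent.Lib.ChevBN.FastData
import Cfsg.Agent.Lib.PSL2.Spectrum
import Mathlib

/-!
# The prime graph of `G₂(3)`
-/

set_option autoImplicit false
set_option linter.unusedSectionVars false
set_option maxRecDepth 100000

namespace Cfsg.Agent.Lib.Compute.G23

open Cfsg.Lie Matrix

def cert7 : Cert where
  w := [(7,2),(3,2),(5,2),(6,2),(7,2),(8,1)]
  Xm := [[0,2,2,0,1,0,2,0,2,2,1,0,0,0],[0,0,1,1,0,0,0,1,1,0,0,0,0,0],[0,1,1,2,0,0,0,1,2,0,0,0,0,0],[0,0,1,1,0,0,0,0,0,0,0,0,0,0],[0,1,2,1,2,2,2,1,2,0,0,0,0,0],[2,1,1,2,0,2,1,2,0,1,2,0,0,0],[0,1,2,0,2,1,1,1,2,0,0,0,0,0],[0,2,1,2,0,0,0,0,0,0,0,0,2,1],[0,2,1,2,0,0,0,2,1,0,0,0,0,0],[2,2,1,2,2,1,0,2,0,2,0,1,2,1],[2,2,0,2,1,0,1,0,2,2,1,0,0,0],[0,0,2,2,2,1,2,1,0,0,1,1,1,2],[0,1,0,1,0,0,0,2,0,0,0,0,2,2],[0,0,1,0,0,0,0,2,1,0,0,0,2,1]]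
  Am := [[0,1,1,2,0,1,2,2,2,0,2,1,0,1],[0,1,2,2,0,0,0,2,1,0,0,0,1,1],[0,2,0,0,0,0,0,2,2,0,0,0,1,2],[0,1,2,2,0,0,0,0,0,0,0,0,1,0],[0,2,2,0,2,2,1,2,1,1,0,1,1,1],[1,1,0,2,0,1,0,1,2,2,1,0,1,1],[2,0,0,2,0,1,2,0,0,2,0,0,0,1],[0,2,0,1,0,0,0,0,1,0,0,0,0,0],[0,1,1,2,0,0,0,1,1,0,0,0,0,0],[1,1,0,1,2,0,1,0,0,0,2,0,1,2],[0,1,2,1,2,1,0,1,2,0,1,0,0,1],[1,1,2,0,1,1,1,0,2,2,0,2,1,1],[0,2,1,0,0,0,0,1,2,0,0,0,2,0],[0,1,0,0,0,0,0,2,1,0,0,0,0,2]]
  V := [1,0,0,0,0,1,2,0,0,0,0,2,0,0]
  a := [2,2,1,0,2,0,1]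
  p := 7
  bas := [[1,0,1,1,1,2,2],[0,2,2,2,2,2],[2,2,1,0,1,1,2],[1,2,2,0,2,1,1],[2,1,0,2,1,1,2],[0,2,2],[1,0,0,1,0,2]]

def cert13 : Cert where
  w := [(3,2),(4,1),(6,1),(2,2),(1,2),(11,2),(8,1)]
  Xm := [[2,0,2,0,2,0,0,2,0,0,1,0,0,1],[0,1,1,0,0,0,0,2,0,0,0,0,1,0],[0,1,0,1,0,0,0,1,2,0,0,0,0,2],[0,2,2,1,0,0,0,2,0,0,0,0,0,1],[2,1,2,1,1,1,2,0,2,0,2,0,0,0],[0,2,1,0,1,1,0,0,0,2,2,1,0,2],[0,1,2,1,0,2,1,0,2,1,1,2,0,1],[0,1,2,0,0,0,0,1,0,0,0,0,1,1],[0,2,1,2,0,0,0,0,1,0,0,0,2,1],[0,1,2,0,0,1,0,0,0,0,0,1,0,1],[1,0,0,0,2,0,0,0,0,0,1,1,0,1],[0,2,1,0,0,1,0,0,0,2,0,1,0,2],[0,0,0,0,0,0,0,1,0,0,0,0,1,0],[0,1,2,0,0,0,0,0,0,0,0,0,1,1]]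
  Am := [[1,0,2,0,2,1,1,1,0,1,2,0,2,0],[0,2,0,2,0,0,0,1,2,0,0,0,2,0],[0,2,0,1,0,0,0,2,1,0,0,0,0,1],[0,2,2,2,0,0,0,0,0,0,0,0,0,0],[0,0,2,1,2,2,1,1,1,1,1,1,0,0],[0,0,1,0,0,1,0,2,0,1,1,2,1,2],[0,2,2,1,2,0,0,0,1,1,1,1,0,0],[0,2,2,1,0,0,0,0,0,0,0,0,0,2],[0,0,2,2,0,0,0,1,0,0,0,0,0,0],[1,0,0,2,0,0,2,2,1,1,0,0,1,2],[0,1,1,2,1,0,1,1,2,2,1,1,1,0],[2,1,2,2,2,1,2,1,0,1,2,0,0,1],[0,0,0,1,0,0,0,2,2,0,0,0,1,0],[0,0,0,0,0,0,0,1,1,0,0,0,1,0]]
  V := [1,0,0,0,1,2,1,0,0,0,1,1,0,0]
  a := [0,0,2,1,2,2,1]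
  p := 13
  bas := [[0,0,1,0,1,0,2],[1,0,2,2,2,1,1],[0,1,2,0,1,0,2],[0,1,1,0,2,2,2],[1,2,2,2,0,2],[0,1,1,0,0,1,2],[0,2,0,1,2,2,1]]

theorem cert7_ok : cert7.ok = true := by decide +kernel

theorem cert13_ok : cert13.ok = true := by decide +kernel

def w6 : List (ℕ × ℕ) := [(9,1),(4,1),(7,2)]

def X6 : List (List ℕ) := [[2,1,0,0,0,1,0,2,0,2,0,0,0,0],[0,1,0,0,0,0,0,0,0,0,0,0,0,0],[0,0,1,0,0,0,0,0,0,0,0,0,0,0],[0,0,0,0,0,0,0,2,0,0,0,0,0,0],[0,0,0,0,0,2,0,1,0,0,0,0,0,0],[0,0,1,0,1,1,0,1,0,0,0,0,0,0],[0,0,0,0,0,0,0,2,0,2,0,0,0,0],[0,0,0,1,0,0,0,1,0,0,0,0,0,0],[0,0,0,0,0,0,0,0,0,0,0,0,1,0],[2,2,2,0,1,1,2,1,0,1,0,0,0,0],[0,0,0,0,0,0,0,2,0,1,0,1,2,0],[1,2,0,0,0,1,0,2,0,1,2,1,1,0],[0,0,1,0,0,0,0,0,2,0,0,0,1,0],[0,0,0,0,0,0,0,1,0,0,0,0,0,1]]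

theorem w6_ok : wOK w6 = true := by decide +kernel

theorem X6_ok : ok14 X6 = true := by decide +kernel

theorem X6_mat : (wordG w6).1 = matL X6 :=
  wordG_pow_eq w6_ok X6_ok (by decide +kernel)

theorem w6_pow : wordG w6 ^ 6 = 1 := by
  have hX := ok14_sound X6_ok
  apply Units.ext
  rw [Units.val_pow_eq_pow_val, X6_mat, Units.val_one]
  apply mat_ext
  intro n hn
  rw [← vecL_unit hn, Matrix.one_mulVec, (iterL_sound hX (unit_length _) _).1]
  have h : ((List.range 14).all fun j => eq3 (iterL X6 (unit j) 6) (unit j)) = true := by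
    decide +kernel
  simp only [List.all_eq_true, List.mem_range] at h
  exact vecL_eq_of_eq3 (h n hn)

theorem w6_pow_ne {k j : ℕ} (hj : j < 14) (h : eq3 (iterL X6 (unit j) k) (unit j) = false) :
    wordG w6 ^ k ≠ 1 := by
  have hX := ok14_sound X6_ok
  intro h1
  have h2 : matL X6 ^ k = 1 := by
    have := congrArg Units.val h1
    rwa [Units.val_pow_eq_pow_val, X6_mat, Units.val_one] at this
  have h3 := iterL_sound hX (unit_length j) k
  rw [h2, Matrix.one_mulVec] at h3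
  have h4 := eq3_of_vecL h3.2 (unit_length j) h3.1.symm
  rw [h4] at h
  exact absurd h (by decide)

theorem w6_order : orderOf (wordG w6) = 6 := by
  have hp2 : Fact (Nat.Prime 2) := ⟨by norm_num⟩
  have hp3 : Fact (Nat.Prime 3) := ⟨by norm_num⟩
  refine orderOf_eq_of_pow_and_pow_div_prime (by norm_num) w6_pow ?_
  intro p hp hd
  have hp6 : p = 2 ∨ p = 3 := by
    have : p ∣ 2 * 3 := hd
    rcases (Nat.Prime.dvd_mul hp).1 this with h | h
    · left
      exact (Nat.prime_dvd_prime_iff_eq hp (by norm_num)).1 h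
    · right
      exact (Nat.prime_dvd_prime_iff_eq hp (by norm_num)).1 h
  rcases hp6 with rfl | rfl
  · exact w6_pow_ne (j := 0) (by norm_num) (by decide +kernel)
  · exact w6_pow_ne (j := 0) (by norm_num) (by decide +kernel)

/-! ### Abstract group theory -/

theorem orderOf_eq_of_dvd {G : Type*} [Group G] [Finite G] {p : ℕ} (hp : p.Prime) {x : G}
    (hx : orderOf x = p) (hcent : ∀ g : G, g * x = x * g → ∃ i : ℕ, g = x ^ i)
    (hc : ¬ p ^ 2 ∣ Nat.card G) (y : G) (hy : p ∣ orderOf y) : orderOf y = p := by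
  classical
  haveI : Fact p.Prime := ⟨hp⟩
  have hypos : orderOf y ≠ 0 := (orderOf_pos y).ne'
  set y' := y ^ (orderOf y / p) with hy'
  have hy'o : orderOf y' = p := orderOf_pow_orderOf_div hypos hy
  have hfact : (Nat.card G).factorization p = 1 := by
    have hne : Nat.card G ≠ 0 := Nat.card_pos.ne'
    have hd : p ∣ Nat.card G := by
      rw [← hx]
      exact orderOf_dvd_natCard x
    have h1 : 1 ≤ (Nat.card G).factorization p :=
      (hp.dvd_iff_one_le_factorization hne).1 hd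
    have h2 : ¬ 2 ≤ (Nat.card G).factorization p := fun h =>
      hc ((hp.pow_dvd_iff_le_factorization hne).2 h)
    omega
  have hcardz : ∀ z : G, orderOf z = p →
      Nat.card (Subgroup.zpowers z) = p ^ (Nat.card G).factorization p := by
    intro z hz
    rw [hfact, pow_one, Nat.card_zpowers, hz]
  let P : Sylow p G := Sylow.ofCard (Subgroup.zpowers x) (hcardz x hx)
  let Q : Sylow p G := Sylow.ofCard (Subgroup.zpowers y') (hcardz y' hy'o)
  obtain ⟨h, hh⟩ := MulAction.exists_smul_eq G P Q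
  have hmem : y' ∈ ((h • P : Sylow p G) : Subgroup G) := by
    rw [hh]
    exact Subgroup.mem_zpowers y'
  rw [Sylow.coe_subgroup_smul, Subgroup.mem_pointwise_smul_iff_inv_smul_mem] at hmem
  have hmem' : h⁻¹ * y' * h ∈ Subgroup.zpowers x := by
    have h2 : (MulAut.conj h)⁻¹ • y' = h⁻¹ * y' * h := by
      simp [MulAut.smul_def, MulAut.conj_inv_apply]
    rw [← h2]
    exact hmem
  set s := h⁻¹ * y' * h with hs
  set z := h⁻¹ * y * h with hz
  have hso : orderOf s = p := by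
    have h3 : s = (MulAut.conj h⁻¹) y' := by
      simp [hs, MulAut.conj_apply]
    rw [h3, MulEquiv.orderOf_eq]
    exact hy'o
  -- `s` generates `⟨x⟩`
  have hle : Subgroup.zpowers s ≤ Subgroup.zpowers x := by
    rw [Subgroup.zpowers_le]
    exact hmem'
  have heq : Subgroup.zpowers s = Subgroup.zpowers x := by
    apply Subgroup.eq_of_le_of_card_ge hle
    rw [Nat.card_zpowers, Nat.card_zpowers, hso, hx]
  have hxs : x ∈ Subgroup.zpowers s := by
    rw [heq]
    exact Subgroup.mem_zpowers x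
  -- `z` commutes with `s`
  have hzs : Commute z s := by
    have h3 : Commute y y' := (Commute.refl y).pow_right _
    have h4 : z = (MulAut.conj h⁻¹) y := by simp [hz, MulAut.conj_apply]
    have h5 : s = (MulAut.conj h⁻¹) y' := by simp [hs, MulAut.conj_apply]
    rw [h4, h5]
    exact h3.map _
  have hzx : Commute z x := by
    obtain ⟨n, hn⟩ := Subgroup.mem_zpowers_iff.1 hxs
    rw [← hn]
    exact hzs.zpow_right n
  obtain ⟨i, hi⟩ := hcent z hzx.eq
  have hzp : z ^ p = 1 := by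
    rw [hi, ← pow_mul, mul_comm, pow_mul, ← hx, pow_orderOf_eq_one, one_pow]
  have hzo : orderOf z = orderOf y := by
    have h4 : z = (MulAut.conj h⁻¹) y := by simp [hz, MulAut.conj_apply]
    rw [h4, MulEquiv.orderOf_eq]
  have hyp : orderOf y ∣ p := by
    rw [← hzo]
    exact orderOf_dvd_of_pow_eq_one hzp
  exact Nat.dvd_antisymm hyp hy

/-! ### The group `G₂(3)` -/

abbrev GR := ↥(chevG2.group R)

instance : Finite GR := inferInstance

theorem card_G2 {F : Type*} [Field F] [Finite F] {q : ℕ} (hq : Nat.card F = q) :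
    Nat.card (chevG2.group F) = q ^ 6 * (q ^ 2 - 1) * (q ^ 6 - 1) := by
  have hT : Cfsg.Agent.Lib.ChevBN.Table.Tbl chevG2 := Cfsg.Agent.Lib.ChevBN.FastData.tbl_of_mem (by simp)
  have h := Cfsg.Agent.Lib.ChevOrder.Cert.G2.order hT (Cfsg.Agent.Lib.Chevalley.Tbl.G2.sys (F := F)) hq
  rwa [one_mul] at h

theorem card_GR : Nat.card GR = 4245696 := by
  have h := card_G2 (F := R) (q := 3) (by simp [Nat.card_eq_fintype_card, ZMod.card])
  rw [h]
  norm_num

/-- The certified element as an element of the group. -/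
noncomputable def Cert.xg (c : Cert) (hc : c.ok = true) : GR := ⟨c.x, Cert.x_mem hc⟩

theorem Cert.order_xg {c : Cert} (hc : c.ok = true) (hp : c.p.Prime) : orderOf (Cert.xg c hc) = c.p := by
  haveI : Fact c.p.Prime := ⟨hp⟩
  apply orderOf_eq_prime
  · apply Subtype.ext
    exact Cert.x_pow hc
  · intro h
    exact Cert.x_ne hc (congrArg Subtype.val h)

theorem Cert.cent_xg {c : Cert} (hc : c.ok = true) (g : GR)
    (hg : g * Cert.xg c hc = Cert.xg c hc * g) : ∃ i : ℕ, g = Cert.xg c hc ^ i := by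
  obtain ⟨i, hi⟩ := Cert.cent hc g.2 (congrArg Subtype.val hg)
  exact ⟨i, Subtype.ext hi⟩

theorem not_dvd_seven : ¬ 7 ^ 2 ∣ Nat.card GR := by
  rw [card_GR]
  norm_num

theorem not_dvd_thirteen : ¬ 13 ^ 2 ∣ Nat.card GR := by
  rw [card_GR]
  norm_num

theorem order_seven (y : GR) (hy : 7 ∣ orderOf y) : orderOf y = 7 := by
  have hp : Nat.Prime cert7.p := (by norm_num : Nat.Prime 7)
  have h1 : orderOf (Cert.xg cert7 cert7_ok) = 7 := Cert.order_xg cert7_ok hp
  exact orderOf_eq_of_dvd (p := 7) (by norm_num) h1 (Cert.cent_xg cert7_ok) not_dvd_seven y hy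

theorem order_thirteen (y : GR) (hy : 13 ∣ orderOf y) : orderOf y = 13 := by
  have hp : Nat.Prime cert13.p := (by norm_num : Nat.Prime 13)
  have h1 : orderOf (Cert.xg cert13 cert13_ok) = 13 := Cert.order_xg cert13_ok hp
  exact orderOf_eq_of_dvd (p := 13) (by norm_num) h1 (Cert.cent_xg cert13_ok) not_dvd_thirteen y hy

theorem exists_order_six : ∃ t : GR, orderOf t = 6 := by
  refine ⟨⟨wordG w6, wordG_mem w6_ok⟩, ?_⟩
  rw [Subgroup.orderOf_mk]
  exact w6_order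

/-! ### Change of field -/

section Transport

variable {F F' : Type*} [Field F] [Field F']

theorem xMat_map (D : ChevalleyDatum) (f : F ≃+* F') (r : Fin D.nroots)
    (t : F) : (D.xMat F r t).map f = D.xMat F' r (f t) := by
  classical
  ext row col
  simp only [Matrix.map_apply, ChevalleyDatum.xMat, Matrix.of_apply]
  rcases col with i | s
  · rcases row with i' | u
    · simp only
      split_ifs <;> simp
    · simp only
      split_ifs <;> simp
  · simp only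
    by_cases h1 : s = r
    · rw [if_pos h1, if_pos h1]
      rcases row with i' | u
      · simp
      · simp only
        split_ifs <;> simp
    · rw [if_neg h1, if_neg h1]
      by_cases h2 : s.val = D.negIdx.getD r.val 0
      · rw [if_pos h2, if_pos h2]
        rcases row with i' | u
        · simp
        · simp only
          split_ifs <;> simp
      · rw [if_neg h2, if_neg h2]
        rcases row with i' | u
        · simp
        · simp only
          rw [map_add, map_list_sum, List.map_map]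
          congr 1
          · split_ifs <;> simp
          · congr 1
            apply List.map_congr_left
            intro km _
            simp

/-- Entrywise application of a field isomorphism on `GL`. -/
noncomputable def glMap (D : ChevalleyDatum) (f : F ≃+* F') : GL D.Idx F ≃* GL D.Idx F' :=
  Units.mapEquiv (RingEquiv.mapMatrix f).toMulEquiv

theorem glMap_coe (D : ChevalleyDatum) (f : F ≃+* F') (g : GL D.Idx F) :
    ((glMap D f g : GL D.Idx F') : Matrix D.Idx D.Idx F') = (g : Matrix D.Idx D.Idx F).map f :=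
  rfl

theorem glMap_symm_coe (D : ChevalleyDatum) (f : F ≃+* F') (g : GL D.Idx F') :
    (((glMap D f).symm g : GL D.Idx F) : Matrix D.Idx D.Idx F) = (g : Matrix D.Idx D.Idx F').map f.symm :=
  rfl

theorem map_group (D : ChevalleyDatum) (f : F ≃+* F') :
    (D.group F).map (glMap D f).toMonoidHom = D.group F' := by
  rw [ChevalleyDatum.group, MonoidHom.map_closure]
  congr 1
  ext g
  constructor
  · rintro ⟨g₀, ⟨r, t, h⟩, rfl⟩
    refine ⟨r, f t, ?_⟩
    change ((glMap D f g₀ : GL D.Idx F') : Matrix D.Idx D.Idx F') = _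
    rw [glMap_coe, h, xMat_map]
  · rintro ⟨r, t, h⟩
    refine ⟨(glMap D f).symm g, ⟨r, f.symm t, ?_⟩, (glMap D f).apply_symm_apply g⟩
    rw [glMap_symm_coe, h, xMat_map]

/-- The Chevalley group along a field isomorphism. -/
noncomputable def chevEquiv (D : ChevalleyDatum) (f : F ≃+* F') : ↥(D.group F) ≃* ↥(D.group F') :=
  ((glMap D f).subgroupMap (D.group F)).trans (MulEquiv.subgroupCongr (map_group D f))

end Transport

/-! ### The prime graph -/

section Main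

variable {F : Type*} [Field F] [Fintype F] (hF : Fintype.card F = 3)
include hF

theorem card_GF : Nat.card ↥(chevG2.group F) = 4245696 := by
  have h := card_G2 (F := F) (q := 3) (by rw [Nat.card_eq_fintype_card, hF])
  rw [h]
  norm_num

noncomputable def equivF : ↥(chevG2.group F) ≃* GR :=
  chevEquiv chevG2 (ZMod.ringEquivOfPrime F (p := 3) (by norm_num) hF).symm

theorem G_order_six : ∃ t : ↥(chevG2.group F), orderOf t = 6 := by
  obtain ⟨t, ht⟩ := exists_order_six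
  refine ⟨(equivF hF).symm t, ?_⟩
  rw [MulEquiv.orderOf_eq, ht]

theorem G_order_seven (y : ↥(chevG2.group F)) (hy : 7 ∣ orderOf y) : orderOf y = 7 := by
  rw [← MulEquiv.orderOf_eq (equivF hF)] at hy ⊢
  exact order_seven _ hy

theorem G_order_thirteen (y : ↥(chevG2.group F)) (hy : 13 ∣ orderOf y) : orderOf y = 13 := by
  rw [← MulEquiv.orderOf_eq (equivF hF)] at hy ⊢
  exact order_thirteen _ hy

/-- Elements of order a product of two distinct primes in `G₂(3)`. -/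
theorem G_exists_iff (r s : ℕ) (hr : r.Prime) (hs : s.Prime) (hrs : r ≠ s) :
    (∃ x : ↥(chevG2.group F), orderOf x = r * s) ↔ r * s = 6 := by
  constructor
  · rintro ⟨x, hx⟩
    have hcard := card_GF hF
    have hd : r * s ∣ 4245696 := by
      rw [← hcard, ← hx]
      exact orderOf_dvd_natCard x
    have h4 : (4245696 : ℕ) = 2 ^ 6 * 3 ^ 6 * 7 * 13 := by norm_num
    have hprimes : ∀ t : ℕ, t.Prime → t ∣ r * s → t = 2 ∨ t = 3 ∨ t = 7 ∨ t = 13 := by
      intro t ht htd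
      have h5 : t ∣ 2 ^ 6 * 3 ^ 6 * 7 * 13 := by
        rw [← h4]
        exact htd.trans hd
      rcases (Nat.Prime.dvd_mul ht).1 h5 with h6 | h6
      · rcases (Nat.Prime.dvd_mul ht).1 h6 with h7 | h7
        · rcases (Nat.Prime.dvd_mul ht).1 h7 with h8 | h8
          · left
            exact (Nat.prime_dvd_prime_iff_eq ht (by norm_num)).1 (ht.dvd_of_dvd_pow h8)
          · right; left
            exact (Nat.prime_dvd_prime_iff_eq ht (by norm_num)).1 (ht.dvd_of_dvd_pow h8)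
        · right; right; left
          exact (Nat.prime_dvd_prime_iff_eq ht (by norm_num)).1 h7
      · right; right; right
        exact (Nat.prime_dvd_prime_iff_eq ht (by norm_num)).1 h6
    have hr2 := hr.two_le
    have hs2 := hs.two_le
    have no7 : ∀ t : ℕ, t ∣ r * s → t ≠ 7 := by
      rintro t ht rfl
      have h8 := G_order_seven hF x (by rw [hx]; exact ht)
      rw [hx] at h8
      have : r ∣ 7 := Dvd.intro _ h8
      have h9 := (Nat.prime_dvd_prime_iff_eq hr (by norm_num)).1 this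
      rw [h9] at h8
      omega
    have no13 : ∀ t : ℕ, t ∣ r * s → t ≠ 13 := by
      rintro t ht rfl
      have h8 := G_order_thirteen hF x (by rw [hx]; exact ht)
      rw [hx] at h8
      have : r ∣ 13 := Dvd.intro _ h8
      have h9 := (Nat.prime_dvd_prime_iff_eq hr (by norm_num)).1 this
      rw [h9] at h8
      omega
    have hrc : r = 2 ∨ r = 3 := by
      rcases hprimes r hr (Dvd.intro _ rfl) with h | h | h | h
      · exact Or.inl h
      · exact Or.inr h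
      · exact absurd h (no7 r (Dvd.intro _ rfl))
      · exact absurd h (no13 r (Dvd.intro _ rfl))
    have hsc : s = 2 ∨ s = 3 := by
      rcases hprimes s hs (Dvd.intro_left _ rfl) with h | h | h | h
      · exact Or.inl h
      · exact Or.inr h
      · exact absurd h (no7 s (Dvd.intro_left _ rfl))
      · exact absurd h (no13 s (Dvd.intro_left _ rfl))
    rcases hrc with rfl | rfl <;> rcases hsc with rfl | rfl <;> simp at hrs ⊢
  · intro h
    rw [h]
    exact G_order_six hF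

omit hF in
theorem prime_dvd_iff (r : ℕ) (hr : r.Prime) : r ∣ 4245696 ↔ r ∣ 1092 := by
  constructor
  · intro h
    have h4 : (4245696 : ℕ) = 1092 * (2 ^ 4 * 3 ^ 5) := by norm_num
    rw [h4] at h
    rcases (Nat.Prime.dvd_mul hr).1 h with h5 | h5
    · exact h5
    · rcases (Nat.Prime.dvd_mul hr).1 h5 with h6 | h6
      · have := (Nat.prime_dvd_prime_iff_eq hr (by norm_num)).1 (hr.dvd_of_dvd_pow h6)
        subst this
        norm_num
      · have := (Nat.prime_dvd_prime_iff_eq hr (by norm_num)).1 (hr.dvd_of_dvd_pow h6)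
        subst this
        norm_num
  · intro h
    exact h.trans (by norm_num)

end Main

end Cfsg.Agent.Lib.Compute.G23
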