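/-
A homomorphism from the subgroup generated by elements `a i` to a group `B`, from a subgroup of `A × B`
containing the pairs `(a i, b i)` and meeting `1 × B` trivially.
-/
import Mathlib

set_option autoImplicit false

namespace Cfsg.Agent.Lib.Compute.GraphHom

theorem hom_of_graph {A B ι : Type*} [Group A] [Group B] (a : ι → A) (b : ι → B)
    (R : Subgroup (A × B)) (hR : ∀ i, (a i, b i) ∈ R) (h1 : ∀ p ∈ R, p.1 = 1 → p.2 = 1) :
    ∃ ρ : Subgroup.closure (Set.range a) →* B, (∀ g : Subgroup.closure (Set.range a), ((g : A), ρ g) ∈ R) ∧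
      ∀ i (h : a i ∈ Subgroup.closure (Set.range a)), ρ ⟨a i, h⟩ = b i := by
  let Γ : Subgroup (A × B) := Subgroup.closure (Set.range fun i => (a i, b i))
  have hΓ : Γ ≤ R := by
    rw [Subgroup.closure_le]
    rintro _ ⟨i, rfl⟩
    exact hR i
  have e1 : Γ.map (MonoidHom.fst A B) = Subgroup.closure (Set.range a) := by
    rw [MonoidHom.map_closure, ← Set.range_comp]
    rfl
  have i1 : Function.Injective ((MonoidHom.fst A B).comp Γ.subtype) := by
    rw [injective_iff_map_eq_one]
    intro p hp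
    apply Subtype.ext
    exact Prod.ext hp (h1 p.1 (hΓ p.2) hp)
  have r1 : ((MonoidHom.fst A B).comp Γ.subtype).range = Subgroup.closure (Set.range a) := by
    rw [MonoidHom.range_comp, Subgroup.range_subtype, e1]
  let E : Γ ≃* Subgroup.closure (Set.range a) :=
    (MonoidHom.ofInjective i1).trans (MulEquiv.subgroupCongr r1)
  have hE : ∀ p : Γ, ((E p : Subgroup.closure (Set.range a)) : A) = (p : A × B).1 := fun p => rfl
  refine ⟨((MonoidHom.snd A B).comp Γ.subtype).comp E.symm.toMonoidHom, ?_, ?_⟩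
  · intro g
    have h2 : ((E.symm g : Γ) : A × B) ∈ R := hΓ (E.symm g).2
    have h3 : ((E.symm g : Γ) : A × B).1 = (g : A) := by
      rw [← hE, MulEquiv.apply_symm_apply]
    have h4 : ((g : A), ((E.symm g : Γ) : A × B).2) = ((E.symm g : Γ) : A × B) :=
      Prod.ext h3.symm rfl
    change ((g : A), ((E.symm g : Γ) : A × B).2) ∈ R
    rw [h4]
    exact h2
  · intro i h
    have hmem : (a i, b i) ∈ Γ := Subgroup.subset_closure ⟨i, rfl⟩
    have h5 : E ⟨(a i, b i), hmem⟩ = ⟨a i, h⟩ := Subtype.ext (hE _)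
    change ((E.symm ⟨a i, h⟩ : Γ) : A × B).2 = b i
    rw [← h5, MulEquiv.symm_apply_apply]

end Cfsg.Agent.Lib.Compute.GraphHom
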