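/-
Extensions of a finite group by elementary abelian groups which keep the prime graph: if `L` acts on
an elementary abelian `r`-group `V`, where `r` divides `|L|`, and every element of prime order `p ≠ r`
fixing a nonzero vector forces an element of order `r p` in `L`, then the semidirect products
`Vⁿ ⋊ L` have the prime divisors and the prime graph of `L`.
-/
import Mathlib

set_option autoImplicit false

namespace Cfsg.Agent.Lib.Compute.PrimeGraphExt

open SemidirectProduct

/-- Two finite groups have the same prime graph. -/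
def SameGraph (A B : Type*) [Group A] [Group B] : Prop :=
  (∀ p : ℕ, p.Prime → (p ∣ Nat.card A ↔ p ∣ Nat.card B)) ∧
    (∀ p q : ℕ, p.Prime → q.Prime → p ≠ q →
      ((∃ g : A, orderOf g = p * q) ↔ (∃ g : B, orderOf g = p * q)))

theorem SameGraph.of_equiv {A B C : Type*} [Group A] [Group B] [Group C] (e : A ≃* B)
    (h : SameGraph B C) : SameGraph A C := by
  refine ⟨fun p hp => ?_, fun p q hp hq hpq => ?_⟩
  · rw [Nat.card_congr e.toEquiv]; exact h.1 p hp
  · rw [← h.2 p q hp hq hpq]
    constructor
    · rintro ⟨g, hg⟩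
      exact ⟨e g, by rw [MulEquiv.orderOf_eq]; exact hg⟩
    · rintro ⟨g, hg⟩
      exact ⟨e.symm g, by rw [MulEquiv.orderOf_eq]; exact hg⟩

section Core

variable {L N : Type*} [Group L] [CommGroup N] (φ : L →* MulAut N)

/-- The key case of the analysis of an element of order `p q` of the semidirect product. -/
theorem key_case {r : ℕ} (hr : r.Prime) (hexp : ∀ x : N, x ^ r = 1)
    (hF : ∀ p : ℕ, p.Prime → p ≠ r → ∀ l : L, orderOf l = p → ∀ w : N, w ≠ 1 → φ l w = w →
      ∃ h : L, orderOf h = r * p)
    {p q : ℕ} (hp : p.Prime) (hq : q.Prime) (hpq : p ≠ q) (g : N ⋊[φ] L) (hg : orderOf g = p * q)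
    (hd : orderOf (rightHom g) ∣ p) : ∃ h : L, orderOf h = p * q := by
  have hpos : 0 < p * q := Nat.mul_pos hp.pos hq.pos
  -- `g ^ p` lies in the kernel
  have h1 : rightHom (g ^ p) = 1 := by
    rw [map_pow]; exact orderOf_dvd_iff_pow_eq_one.1 hd
  have h2 : g ^ p ∈ (inl : N →* N ⋊[φ] L).range := by
    rw [range_inl_eq_ker_rightHom]; exact h1
  obtain ⟨w, hw⟩ := h2
  have hw' : (inl w : N ⋊[φ] L) = g ^ p := hw
  -- its order is `q`
  have ho : orderOf (g ^ p) = q := by
    rw [orderOf_pow_of_dvd hp.ne_zero (by rw [hg]; exact dvd_mul_right _ _), hg,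
      Nat.mul_div_cancel_left _ hp.pos]
  have hqr : q = r := by
    have : orderOf (g ^ p) ∣ r := by
      rw [← hw']
      apply orderOf_dvd_of_pow_eq_one
      rw [← map_pow, hexp, map_one]
    rw [ho] at this
    exact (Nat.prime_dvd_prime_iff_eq hq hr).1 this
  subst hqr
  have hw1 : w ≠ 1 := by
    rintro rfl
    rw [map_one] at hw'
    rw [← hw', orderOf_one] at ho
    exact hq.one_lt.ne ho
  set l := rightHom g with hl
  -- `l` has order `p`
  have hlo : orderOf l = p := by
    rcases (Nat.dvd_prime hp).1 hd with h | h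
    · exfalso
      have hl1 : l = 1 := orderOf_eq_one_iff.1 h
      have h3 : g ∈ (inl : N →* N ⋊[φ] L).range := by
        rw [range_inl_eq_ker_rightHom]; exact hl1
      obtain ⟨n, hn⟩ := h3
      have h4 : orderOf g ∣ q := by
        apply orderOf_dvd_of_pow_eq_one
        have hn' : (inl n : N ⋊[φ] L) = g := hn
        rw [← hn', ← map_pow, hexp, map_one]
      rw [hg] at h4
      have : p ∣ q := (dvd_mul_right p q).trans h4
      exact hpq ((Nat.prime_dvd_prime_iff_eq hp hq).1 this)
    · exact h
  -- `l` fixes `w`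
  have hfix : φ l w = w := by
    have hcomm : g * inl w * g⁻¹ = inl w := by
      rw [hw']; simp [← pow_succ', pow_succ]
    have hdec := inl_left_mul_inr_right g
    have hr' : g.right = l := rfl
    rw [hr'] at hdec
    have : (inl (φ l w) : N ⋊[φ] L) = inl w := by
      rw [← hcomm]
      calc (inl (φ l w) : N ⋊[φ] L) = inl g.left * inl (φ l w) * (inl g.left)⁻¹ := by
            rw [← map_inv, ← map_mul, ← map_mul, mul_inv_cancel_comm]
        _ = inl g.left * (inr l * inl w * inr l⁻¹) * (inl g.left)⁻¹ := by rw [inl_aut]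
        _ = (inl g.left * inr l) * inl w * (inl g.left * inr l)⁻¹ := by
            simp only [mul_inv_rev, map_inv, mul_assoc]
        _ = g * inl w * g⁻¹ := by rw [hdec]
    exact inl_injective this
  obtain ⟨h, hh⟩ := hF p hp hpq l hlo w hw1 hfix
  exact ⟨h, by rw [hh, mul_comm]⟩

/-- The prime graph of the semidirect product. -/
theorem sameGraph_semidirect [Finite L] [Finite N] {r : ℕ} (hr : r.Prime) (hrL : r ∣ Nat.card L)
    (hexp : ∀ x : N, x ^ r = 1)
    (hF : ∀ p : ℕ, p.Prime → p ≠ r → ∀ l : L, orderOf l = p → ∀ w : N, w ≠ 1 → φ l w = w →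
      ∃ h : L, orderOf h = r * p) :
    SameGraph L (N ⋊[φ] L) := by
  refine ⟨fun p hp => ?_, fun p q hp hq hpq => ?_⟩
  · rw [SemidirectProduct.card]
    constructor
    · exact fun h => Dvd.dvd.mul_left h _
    · intro h
      rcases (Nat.Prime.dvd_mul hp).1 h with h | h
      · have : Fact p.Prime := ⟨hp⟩
        obtain ⟨x, hx⟩ := exists_prime_orderOf_dvd_card' p h
        have : p ∣ r := by
          rw [← hx]; exact orderOf_dvd_of_pow_eq_one (hexp x)
        rw [(Nat.prime_dvd_prime_iff_eq hp hr).1 this]
        exact hrL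
      · exact h
  · constructor
    · rintro ⟨g, hg⟩
      refine ⟨inr g, ?_⟩
      rw [orderOf_injective (inr : L →* N ⋊[φ] L) inr_injective, hg]
    · rintro ⟨g, hg⟩
      have hd : orderOf (rightHom g) ∣ p * q := by
        rw [← hg]; exact orderOf_map_dvd _ _
      obtain ⟨a, b, ha, hb, hab⟩ := (Nat.dvd_mul).1 hd
      rcases (Nat.dvd_prime hp).1 ha with rfl | rfl
      · rw [one_mul] at hab
        have : orderOf (rightHom g) ∣ q := by rw [← hab]; exact hb
        obtain ⟨h, hh⟩ := key_case φ hr hexp hF hq hp hpq.symm g (by rw [hg, mul_comm]) this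
        exact ⟨h, by rw [hh, mul_comm]⟩
      · rcases (Nat.dvd_prime hq).1 hb with rfl | rfl
        · rw [mul_one] at hab
          exact key_case φ hr hexp hF hp hq hpq g hg (by rw [← hab])
        · exact ⟨rightHom g, hab.symm⟩

end Core

section Powers

variable {L M : Type*} [Group L] [CommGroup M] (ρ : L →* MulAut M)

/-- The diagonal action of `L` on `Mⁿ`. -/
def powAct (n : ℕ) : L →* MulAut (Fin n → M) where
  toFun l :=
    { toFun := fun w i => ρ l (w i)
      invFun := fun w i => (ρ l)⁻¹ (w i)
      left_inv := fun w => by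
        funext i
        simp
      right_inv := fun w => by
        funext i
        simp
      map_mul' := fun a b => by
        funext i
        simp }
  map_one' := by
    ext w i
    simp
  map_mul' a b := by
    ext w i
    simp

/-- The main theorem: arbitrarily large extensions with the same prime graph. -/
theorem exists_large {L : Type} {M : Type} [Group L] [CommGroup M] [Finite L] [Finite M]
    [Nontrivial M] (ρ : L →* MulAut M) {r : ℕ} (hr : r.Prime) (hrL : r ∣ Nat.card L)
    (hexp : ∀ v : M, v ^ r = 1)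
    (hF : ∀ p : ℕ, p.Prime → p ≠ r → ∀ l : L, orderOf l = p → ∀ v : M, v ≠ 1 → ρ l v = v →
      ∃ h : L, orderOf h = r * p) (K : ℕ) :
    ∃ (H : Type) (_ : Group H) (_ : Finite H), K < Nat.card H ∧ SameGraph L H := by
  refine ⟨(Fin K → M) ⋊[powAct ρ K] L, inferInstance,
    Finite.of_equiv _ SemidirectProduct.equivProd.symm, ?_, ?_⟩
  · rw [SemidirectProduct.card]
    have h1 : 0 < Nat.card L := Nat.card_pos
    have h2 : K < Nat.card (Fin K → M) := by
      rw [Nat.card_fun, Nat.card_fin]
      exact Nat.lt_pow_self (Finite.one_lt_card (α := M))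
    exact lt_of_lt_of_le h2 (Nat.le_mul_of_pos_right _ h1)
  · refine sameGraph_semidirect (powAct ρ K) hr hrL ?_ ?_
    · intro x
      funext i
      exact hexp _
    · intro p hp hpr l hl w hw hfix
      have hw' : ∃ i, w i ≠ 1 := by
        by_contra hcon
        push Not at hcon
        apply hw
        funext i
        exact hcon i
      obtain ⟨i, hi⟩ := hw'
      refine hF p hp hpr l hl _ hi ?_
      exact congrFun hfix i

end Powers

section Sylow

variable {L M : Type*} [Group L] [Finite L] [Group M]

/-- If a prime divides the order of `L` only once, and one element of that order acts without fixed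
vectors, then all do. -/
theorem fixed_free_of_sylow (ρ : L →* MulAut M) {p : ℕ} (hp : p.Prime) (hsq : ¬ p ^ 2 ∣ Nat.card L)
    (c : L) (hc : orderOf c = p) (hfpf : ∀ v : M, ρ c v = v → v = 1) (l : L) (hl : orderOf l = p)
    (v : M) (hv : ρ l v = v) : v = 1 := by
  have : Fact p.Prime := ⟨hp⟩
  have hcardle : ∀ Q : Sylow p L, Nat.card Q ≤ p := by
    intro Q
    obtain ⟨k, hk⟩ := (IsPGroup.iff_card.1 Q.isPGroup' : ∃ k, Nat.card Q = p ^ k)
    have hdvd : p ^ k ∣ Nat.card L := by rw [← hk]; exact Q.1.card_subgroup_dvd_card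
    have hk1 : k ≤ 1 := by
      by_contra hcon
      exact hsq ((pow_dvd_pow p (by omega)).trans hdvd)
    rw [hk]
    exact (Nat.pow_le_pow_right hp.pos hk1).trans_eq (pow_one p)
  have hz : ∀ x : L, orderOf x = p → ∃ Q : Sylow p L, (Q : Subgroup L) = Subgroup.zpowers x := by
    intro x hx
    have hpg : IsPGroup p (Subgroup.zpowers x) := by
      refine IsPGroup.of_card (n := 1) ?_
      rw [Nat.card_zpowers, hx, pow_one]
    obtain ⟨Q, hQ⟩ := hpg.exists_le_sylow
    refine ⟨Q, (Subgroup.eq_of_le_of_card_ge hQ ?_).symm⟩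
    rw [Nat.card_zpowers, hx]
    exact hcardle Q
  obtain ⟨Q1, hQ1⟩ := hz c hc
  obtain ⟨Q2, hQ2⟩ := hz l hl
  obtain ⟨g, hg⟩ := MulAction.exists_smul_eq L Q1 Q2
  have hmem : g * c * g⁻¹ ∈ Subgroup.zpowers l := by
    rw [← hQ2, ← hg, Sylow.coe_subgroup_smul]
    rw [Subgroup.mem_pointwise_smul_iff_inv_smul_mem]
    simp only [MulAut.smul_def, map_inv, MulAut.conj_inv_apply]
    have : c ∈ (Q1 : Subgroup L) := by rw [hQ1]; exact Subgroup.mem_zpowers c
    convert this using 1
    group
  let S : Subgroup L :=
    { carrier := {x | ρ x v = v}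
      mul_mem' := fun {a b} ha hb => by
        change ρ (a * b) v = v
        have ha' : ρ a v = v := ha
        have hb' : ρ b v = v := hb
        rw [map_mul, MulAut.mul_apply, hb', ha']
      one_mem' := by
        change ρ 1 v = v
        rw [map_one, MulAut.one_apply]
      inv_mem' := fun {a} ha => by
        change ρ a⁻¹ v = v
        have h : ρ a v = v := ha
        calc ρ a⁻¹ v = ρ a⁻¹ (ρ a v) := by rw [h]
          _ = v := by rw [← MulAut.mul_apply, ← map_mul, inv_mul_cancel, map_one, MulAut.one_apply] }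
  have hlS : l ∈ S := hv
  have hS : g * c * g⁻¹ ∈ S := (Subgroup.zpowers_le.2 hlS) hmem
  have h1 : ρ (g * c * g⁻¹) v = v := hS
  have h2 : ρ c (ρ g⁻¹ v) = ρ g⁻¹ v := by
    have e : g⁻¹ * (g * c * g⁻¹) = c * g⁻¹ := by group
    calc ρ c (ρ g⁻¹ v) = ρ (c * g⁻¹) v := by rw [map_mul, MulAut.mul_apply]
      _ = ρ (g⁻¹ * (g * c * g⁻¹)) v := by rw [e]
      _ = ρ g⁻¹ (ρ (g * c * g⁻¹) v) := by rw [map_mul, MulAut.mul_apply]
      _ = ρ g⁻¹ v := by rw [h1]
  have h3 := hfpf _ h2
  calc v = ρ g (ρ g⁻¹ v) := by
        rw [← MulAut.mul_apply, ← map_mul, mul_inv_cancel, map_one, MulAut.one_apply]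
    _ = 1 := by rw [h3, map_one]

end Sylow

section Matrix

variable {K : Type*} [Field K] {d : ℕ}

/-- The action of the general linear group on column vectors, written multiplicatively. -/
noncomputable def vecAct (K : Type*) [Field K] (d : ℕ) :
    Matrix.GeneralLinearGroup (Fin d) K →* MulAut (Multiplicative (Fin d → K)) where
  toFun g :=
    { toFun := fun w => Multiplicative.ofAdd (Matrix.mulVec (g : Matrix (Fin d) (Fin d) K) (Multiplicative.toAdd w))
      invFun := fun w => Multiplicative.ofAdd (Matrix.mulVec ((g⁻¹ : Matrix.GeneralLinearGroup (Fin d) K) : Matrix (Fin d) (Fin d) K) (Multiplicative.toAdd w))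
      left_inv := fun w => by
        apply Multiplicative.toAdd.injective
        simp [Matrix.mulVec_mulVec, ← Matrix.GeneralLinearGroup.coe_mul]
      right_inv := fun w => by
        apply Multiplicative.toAdd.injective
        simp [Matrix.mulVec_mulVec, ← Matrix.GeneralLinearGroup.coe_mul]
      map_mul' := fun a b => by
        apply Multiplicative.toAdd.injective
        simp [Matrix.mulVec_add] }
  map_one' := by
    ext w
    apply Multiplicative.toAdd.injective
    simp
  map_mul' a b := by
    ext w
    apply Multiplicative.toAdd.injective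
    simp [Matrix.mulVec_mulVec]

theorem vecAct_apply (g : Matrix.GeneralLinearGroup (Fin d) K) (w : Fin d → K) :
    vecAct K d g (Multiplicative.ofAdd w) =
      Multiplicative.ofAdd (Matrix.mulVec (g : Matrix (Fin d) (Fin d) K) w) := rfl

end Matrix

end Cfsg.Agent.Lib.Compute.PrimeGraphExt
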