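/-
`G₂(4)`: the natural `6`-dimensional module over the field with four elements, obtained from a map of
the `14`-dimensional Lie algebra into the alternating matrices which intertwines the root elements.
-/
import Mathlib
import Cfsg.Prelude.Def_ChevG2
import Cfsg.Agent.Lib.Compute.GFModel
import Cfsg.Agent.Lib.Compute.GraphHom
import Cfsg.Agent.Lib.Compute.PrimeGraphExt
import Cfsg.Agent.S1059

set_option autoImplicit false
set_option maxRecDepth 100000

namespace Cfsg.Agent.Lib.Compute.G24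

open Matrix Cfsg Cfsg.Lie Cfsg.Agent.Lib.Compute.GFModel

/-- The coordinates of `G₂`. -/
abbrev Ix : Type := chevG2.Idx

/-- The pair of short roots with sum the given root. -/
def pairF (r : Fin 12) : Fin 6 × Fin 6 :=
  ![(4,5),(3,4),(3,5),(0,4),(2,4),(0,5),(2,3),(1,5),(1,3),(0,2),(0,1),(1,2)] r

/-- The alternating matrix of a pair. -/
def alt (a b : Fin 6) : Matrix (Fin 6) (Fin 6) GF4 :=
  Matrix.of fun p q => if (p = a ∧ q = b) ∨ (p = b ∧ q = a) then 1 else 0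

/-- The image of a basis vector of the Lie algebra. -/
def Sm : Ix → Matrix (Fin 6) (Fin 6) GF4
  | Sum.inl i => if i.val = 0 then alt 1 4 + alt 2 5 else alt 0 3 + alt 2 5
  | Sum.inr r => alt (pairF r).1 (pairF r).2

/-- Where to read the coordinates. -/
def pos : Ix → Fin 6 × Fin 6
  | Sum.inl i => if i.val = 0 then (1, 4) else (0, 3)
  | Sum.inr r => pairF r

/-- The edges of the root elements on the natural module: row, column, degree. -/
def edges : List (List (ℕ × ℕ × ℕ)) := [[(4, 2, 1), (5, 1, 1)], [(3, 1, 1), (4, 0, 1)], [(3, 2, 1), (4, 1, 2), (5, 0, 1)], [(0, 1, 1), (4, 3, 1), (5, 2, 2)], [(2, 1, 1), (3, 0, 2), (4, 5, 1)], [(0, 2, 1), (5, 3, 1)], [(2, 0, 1), (3, 5, 1)], [(0, 3, 2), (1, 2, 1), (5, 4, 1)], [(1, 0, 1), (2, 5, 2), (3, 4, 1)], [(0, 5, 1), (1, 4, 2), (2, 3, 1)], [(0, 4, 1), (1, 3, 1)], [(1, 5, 1), (2, 4, 1)]]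

/-- The root elements on the natural module. -/
def X6 (r : Fin 12) (t : GF4) : Matrix (Fin 6) (Fin 6) GF4 :=
  Matrix.of fun p q => (if p = q then 1 else 0) +
    (edges.getD r.val []).foldr (fun e acc => if e.1 = p.val ∧ e.2.1 = q.val then acc + t ^ e.2.2 else acc) 0

/-- The matrix of the wedge of two columns. -/
def wed (M : Matrix (Fin 6) (Fin 6) GF4) (a b : Fin 6) : Matrix (Fin 6) (Fin 6) GF4 :=
  Matrix.of fun p q => M p a * M q b + M p b * M q a

/-- The image of a basis vector under a matrix. -/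
def WW (M : Matrix (Fin 6) (Fin 6) GF4) : Ix → Matrix (Fin 6) (Fin 6) GF4
  | Sum.inl i => if i.val = 0 then wed M 1 4 + wed M 2 5 else wed M 0 3 + wed M 2 5
  | Sum.inr r => wed M (pairF r).1 (pairF r).2

theorem alt_eq (a b : Fin 6) (hab : a ≠ b) : alt a b =
    Matrix.vecMulVec (Pi.single a 1) (Pi.single b 1) + Matrix.vecMulVec (Pi.single b 1) (Pi.single a 1) := by
  apply Matrix.ext
  intro p q
  simp only [alt, Matrix.of_apply, Matrix.add_apply, Matrix.vecMulVec_apply, Pi.single_apply]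
  by_cases h1 : p = a <;> by_cases h2 : q = b <;> by_cases h3 : p = b <;> by_cases h4 : q = a <;>
    simp_all

theorem mul_alt (M : Matrix (Fin 6) (Fin 6) GF4) (a b : Fin 6) (hab : a ≠ b) :
    M * alt a b * Mᵀ = wed M a b := by
  rw [alt_eq a b hab, Matrix.mul_add, Matrix.add_mul, Matrix.mul_vecMulVec, Matrix.mul_vecMulVec,
    Matrix.vecMulVec_mul, Matrix.vecMulVec_mul]
  apply Matrix.ext
  intro p q
  simp [wed, Matrix.vecMulVec_apply, Matrix.vecMul_transpose, Matrix.mulVec_single_one]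

theorem mul_Sm (M : Matrix (Fin 6) (Fin 6) GF4) (i : Ix) : M * Sm i * Mᵀ = WW M i := by
  have hne : ∀ r : Fin 12, (pairF r).1 ≠ (pairF r).2 := by decide
  rcases i with i | r
  · by_cases h : i.val = 0
    · simp only [Sm, WW, h, if_true, Matrix.mul_add, Matrix.add_mul]
      rw [mul_alt _ _ _ (by decide), mul_alt _ _ _ (by decide)]
    · simp only [Sm, WW, h, if_false, Matrix.mul_add, Matrix.add_mul]
      rw [mul_alt _ _ _ (by decide), mul_alt _ _ _ (by decide)]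
  · exact mul_alt M _ _ (hne r)

theorem two_eq : ∀ x : GF4, x + x = 0 := by decide +kernel

theorem wed_symm (M : Matrix (Fin 6) (Fin 6) GF4) (a b p q : Fin 6) : wed M a b p q = wed M a b q p := by
  simp only [wed, Matrix.of_apply]
  ring

theorem wed_diag (M : Matrix (Fin 6) (Fin 6) GF4) (a b p : Fin 6) : wed M a b p p = 0 := by
  simp only [wed, Matrix.of_apply]
  rw [mul_comm (M p b)]
  exact two_eq _

theorem WW_symm (M : Matrix (Fin 6) (Fin 6) GF4) (i : Ix) (p q : Fin 6) : WW M i p q = WW M i q p := by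
  rcases i with i | r
  · by_cases h : i.val = 0
    · simp only [WW, h, if_true, Matrix.add_apply]
      rw [wed_symm M 1 4 p q, wed_symm M 2 5 p q]
    · simp only [WW, h, if_false, Matrix.add_apply]
      rw [wed_symm M 0 3 p q, wed_symm M 2 5 p q]
  · exact wed_symm M _ _ p q

theorem WW_diag (M : Matrix (Fin 6) (Fin 6) GF4) (i : Ix) (p : Fin 6) : WW M i p p = 0 := by
  rcases i with i | r
  · by_cases h : i.val = 0
    · simp only [WW, h, if_true, Matrix.add_apply]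
      rw [wed_diag, wed_diag, add_zero]
    · simp only [WW, h, if_false, Matrix.add_apply]
      rw [wed_diag, wed_diag, add_zero]
  · exact wed_diag M _ _ p

/-- The check on the root elements. -/
theorem S_check : ∀ (r : Fin 12) (t : GF4) (i : Ix),
    (∀ k : Ix, (chevG2.xMat GF4 r t k i : GF4) = WW (X6 r t) i (pos k).1 (pos k).2) ∧
      (WW (X6 r t) i 2 5 : GF4) = WW (X6 r t) i 1 4 + WW (X6 r t) i 0 3 := by
  decide +kernel

/-! ### The map on the Lie algebra -/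

/-- The map of the Lie algebra into the alternating matrices. -/
def SL (a : Ix → GF4) : Matrix (Fin 6) (Fin 6) GF4 := ∑ k, a k • Sm k

theorem Sm_pos : ∀ j k : Ix, (Sm j (pos k).1 (pos k).2 : GF4) = if j = k then 1 else 0 := by
  decide +kernel

theorem SL_pos (a : Ix → GF4) (k : Ix) : SL a (pos k).1 (pos k).2 = a k := by
  simp only [SL, Matrix.sum_apply, Matrix.smul_apply, smul_eq_mul, Sm_pos]
  simp

theorem SL_inj {a b : Ix → GF4} (h : SL a = SL b) : a = b := by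
  funext k
  rw [← SL_pos a k, ← SL_pos b k, h]

theorem Sm_symm' : ∀ k : Ix, Sm k = (Sm k)ᵀ := by decide +kernel
theorem Sm_symm (k : Ix) (p q : Fin 6) : Sm k p q = Sm k q p := congrFun (congrFun (Sm_symm' k) p) q
theorem Sm_diag' : ∀ k : Ix, (Matrix.diag (Sm k)) = 0 := by decide +kernel
theorem Sm_diag (k : Ix) (p : Fin 6) : Sm k p p = 0 := congrFun (Sm_diag' k) p
theorem Sm_rel : ∀ k : Ix, (Sm k 2 5 : GF4) = Sm k 1 4 + Sm k 0 3 := by decide +kernel

theorem cover : ∀ p q : Fin 6, p = q ∨ (∃ k : Ix, pos k = (p, q) ∨ pos k = (q, p)) ∨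
    (p = 2 ∧ q = 5) ∨ (p = 5 ∧ q = 2) := by
  decide +kernel

/-- Two matrices of the right shape with the same coordinates are equal. -/
theorem shape_uniq {N N' : Matrix (Fin 6) (Fin 6) GF4}
    (hs : ∀ p q, N p q = N q p) (hd : ∀ p, N p p = 0) (hc : N 2 5 = N 1 4 + N 0 3)
    (hs' : ∀ p q, N' p q = N' q p) (hd' : ∀ p, N' p p = 0) (hc' : N' 2 5 = N' 1 4 + N' 0 3)
    (h : ∀ k : Ix, N (pos k).1 (pos k).2 = N' (pos k).1 (pos k).2) : N = N' := by
  apply Matrix.ext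
  intro p q
  rcases cover p q with rfl | ⟨k, hk | hk⟩ | ⟨rfl, rfl⟩ | ⟨rfl, rfl⟩
  · rw [hd, hd']
  · have := h k
    rw [hk] at this
    exact this
  · have := h k
    rw [hk] at this
    rw [hs p q, hs' p q]
    exact this
  · have e1 := h (Sum.inl (0 : Fin 2))
    have e2 := h (Sum.inl (1 : Fin 2))
    rw [hc, hc']
    exact congrArg₂ (· + ·) e1 e2
  · have e1 := h (Sum.inl (0 : Fin 2))
    have e2 := h (Sum.inl (1 : Fin 2))
    rw [hs, hs', hc, hc']
    exact congrArg₂ (· + ·) e1 e2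

theorem SL_shape (a : Ix → GF4) :
    (∀ p q, SL a p q = SL a q p) ∧ (∀ p, SL a p p = 0) ∧ SL a 2 5 = SL a 1 4 + SL a 0 3 := by
  refine ⟨fun p q => ?_, fun p => ?_, ?_⟩
  · simp only [SL, Matrix.sum_apply, Matrix.smul_apply, smul_eq_mul]
    exact Finset.sum_congr rfl fun k _ => by rw [Sm_symm]
  · simp only [SL, Matrix.sum_apply, Matrix.smul_apply, smul_eq_mul]
    exact Finset.sum_eq_zero fun k _ => by rw [Sm_diag, mul_zero]
  · simp only [SL, Matrix.sum_apply, Matrix.smul_apply, smul_eq_mul]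
    rw [← Finset.sum_add_distrib]
    exact Finset.sum_congr rfl fun k _ => by rw [Sm_rel, mul_add]

/-- A matrix of the right shape is the image of its coordinates. -/
theorem shape_eq {N : Matrix (Fin 6) (Fin 6) GF4}
    (hs : ∀ p q, N p q = N q p) (hd : ∀ p, N p p = 0) (hc : N 2 5 = N 1 4 + N 0 3) :
    SL (fun k => N (pos k).1 (pos k).2) = N := by
  obtain ⟨h1, h2, h3⟩ := SL_shape (fun k => N (pos k).1 (pos k).2)
  exact shape_uniq h1 h2 h3 hs hd hc (fun k => SL_pos _ k)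

/-- The intertwining on basis vectors. -/
theorem SL_col (r : Fin 12) (t : GF4) (i : Ix) :
    SL (fun k => chevG2.xMat GF4 r t k i) = X6 r t * Sm i * (X6 r t)ᵀ := by
  obtain ⟨h1, h2⟩ := S_check r t i
  rw [mul_Sm]
  have : (fun k => chevG2.xMat GF4 r t k i) = fun k => WW (X6 r t) i (pos k).1 (pos k).2 := funext h1
  rw [this]
  exact shape_eq (WW_symm _ _) (WW_diag _ _) h2

/-- The intertwining of a matrix on basis vectors gives it on all vectors. -/
theorem SL_mulVec (g : Matrix Ix Ix GF4) (M : Matrix (Fin 6) (Fin 6) GF4)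
    (h : ∀ i, SL (fun k => g k i) = M * Sm i * Mᵀ) (a : Ix → GF4) :
    SL (g *ᵥ a) = M * SL a * Mᵀ := by
  have h1 : SL (g *ᵥ a) = ∑ i, a i • SL (fun k => g k i) := by
    simp only [SL, Matrix.mulVec, dotProduct, Finset.sum_smul, Finset.smul_sum, smul_smul]
    rw [Finset.sum_comm]
    refine Finset.sum_congr rfl fun i _ => Finset.sum_congr rfl fun k _ => ?_
    rw [mul_comm]
  have h2 : M * SL a * Mᵀ = ∑ i, a i • (M * Sm i * Mᵀ) := by
    unfold SL
    rw [Matrix.mul_sum, Matrix.sum_mul]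
    exact Finset.sum_congr rfl fun i _ => by rw [Matrix.mul_smul, Matrix.smul_mul]
  rw [h1, h2]
  exact Finset.sum_congr rfl fun i _ => by rw [h i]

theorem X6_sq : ∀ (r : Fin 12) (t : GF4), X6 r t * X6 r t = 1 := by decide +kernel

theorem xMat_sq (r : Fin 12) (t : GF4) : chevG2.xMat GF4 r t * chevG2.xMat GF4 r t = 1 := by
  refine Matrix.ext_iff_mulVec.2 fun a => ?_
  apply SL_inj
  rw [Matrix.one_mulVec, ← Matrix.mulVec_mulVec, SL_mulVec _ _ (SL_col r t),
    SL_mulVec _ _ (SL_col r t)]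
  have h := X6_sq r t
  have h' : (X6 r t)ᵀ * (X6 r t)ᵀ = 1 := by
    rw [← Matrix.transpose_mul, h, Matrix.transpose_one]
  calc X6 r t * (X6 r t * SL a * (X6 r t)ᵀ) * (X6 r t)ᵀ
      = (X6 r t * X6 r t) * SL a * ((X6 r t)ᵀ * (X6 r t)ᵀ) := by
        simp only [Matrix.mul_assoc]
    _ = SL a := by rw [h, h', Matrix.one_mul, Matrix.mul_one]

/-- The root elements. -/
def x (i : Fin 12 × GF4) : GL Ix GF4 :=
  ⟨chevG2.xMat GF4 i.1 i.2, chevG2.xMat GF4 i.1 i.2, xMat_sq i.1 i.2, xMat_sq i.1 i.2⟩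

/-- The root elements on the natural module. -/
def xn (i : Fin 12 × GF4) : GL (Fin 6) GF4 :=
  ⟨X6 i.1 i.2, X6 i.1 i.2, X6_sq i.1 i.2, X6_sq i.1 i.2⟩

theorem closure_x : Subgroup.closure (Set.range x) = chevG2.group GF4 := by
  rw [ChevalleyDatum.group]
  congr 1
  ext g
  constructor
  · rintro ⟨i, rfl⟩
    exact ⟨i.1, i.2, rfl⟩
  · rintro ⟨r, t, hg⟩
    exact ⟨(r, t), Units.ext hg.symm⟩

/-- The relation between the two representations. -/
def R : Subgroup (GL Ix GF4 × GL (Fin 6) GF4) where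
  carrier := {p | ∀ a, SL (((p.1 : GL Ix GF4) : Matrix Ix Ix GF4) *ᵥ a) =
    ((p.2 : GL (Fin 6) GF4) : Matrix (Fin 6) (Fin 6) GF4) * SL a *
      ((p.2 : GL (Fin 6) GF4) : Matrix (Fin 6) (Fin 6) GF4)ᵀ}
  one_mem' := by
    intro a
    simp
  mul_mem' := by
    intro p q hp hq a
    have h1 : (((p * q).1 : GL Ix GF4) : Matrix Ix Ix GF4) =
      ((p.1 : GL Ix GF4) : Matrix Ix Ix GF4) * ((q.1 : GL Ix GF4) : Matrix Ix Ix GF4) := rfl
    have h2 : (((p * q).2 : GL (Fin 6) GF4) : Matrix (Fin 6) (Fin 6) GF4) =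
      ((p.2 : GL (Fin 6) GF4) : Matrix (Fin 6) (Fin 6) GF4) *
        ((q.2 : GL (Fin 6) GF4) : Matrix (Fin 6) (Fin 6) GF4) := rfl
    rw [h1, h2, ← Matrix.mulVec_mulVec, hp, hq, Matrix.transpose_mul]
    simp only [Matrix.mul_assoc]
  inv_mem' := by
    intro p hp a
    have h1 := hp ((((p⁻¹).1 : GL Ix GF4) : Matrix Ix Ix GF4) *ᵥ a)
    have h2 : ((p.1 : GL Ix GF4) : Matrix Ix Ix GF4) * (((p⁻¹).1 : GL Ix GF4) : Matrix Ix Ix GF4) = 1 :=
      congrArg Units.val (show p.1 * (p⁻¹).1 = 1 by simp)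
    have h3 : (((p⁻¹).2 : GL (Fin 6) GF4) : Matrix (Fin 6) (Fin 6) GF4) *
        ((p.2 : GL (Fin 6) GF4) : Matrix (Fin 6) (Fin 6) GF4) = 1 :=
      congrArg Units.val (show (p⁻¹).2 * p.2 = 1 by simp)
    rw [Matrix.mulVec_mulVec, h2, Matrix.one_mulVec] at h1
    have h4 : ((p.2 : GL (Fin 6) GF4) : Matrix (Fin 6) (Fin 6) GF4)ᵀ *
        (((p⁻¹).2 : GL (Fin 6) GF4) : Matrix (Fin 6) (Fin 6) GF4)ᵀ = 1 := by
      rw [← Matrix.transpose_mul, h3, Matrix.transpose_one]
    set A := ((p.2 : GL (Fin 6) GF4) : Matrix (Fin 6) (Fin 6) GF4)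
    set B := (((p⁻¹).2 : GL (Fin 6) GF4) : Matrix (Fin 6) (Fin 6) GF4)
    set Y := SL (((p⁻¹.1 : GL Ix GF4) : Matrix Ix Ix GF4) *ᵥ a)
    calc Y = (B * A) * Y * (Aᵀ * Bᵀ) := by rw [h3, h4, Matrix.one_mul, Matrix.mul_one]
      _ = B * (A * Y * Aᵀ) * Bᵀ := by simp only [Matrix.mul_assoc]
      _ = B * SL a * Bᵀ := by rw [← h1]

theorem x_mem_R (i : Fin 12 × GF4) : (x i, xn i) ∈ R := fun a =>
  SL_mulVec _ _ (SL_col i.1 i.2) a

/-! ### Triviality of the relation on the factors -/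

theorem wed_comm (M : Matrix (Fin 6) (Fin 6) GF4) (a b : Fin 6) : wed M a b = wed M b a := by
  apply Matrix.ext
  intro p q
  simp only [wed, Matrix.of_apply]
  ring

theorem alt_comm (a b : Fin 6) : alt a b = alt b a := by
  apply Matrix.ext
  intro p q
  simp only [alt, Matrix.of_apply, or_comm]

/-- The entries of a column outside a plane vanish. -/
theorem wed_zero {M : Matrix (Fin 6) (Fin 6) GF4} {a b k : Fin 6} (hab : a ≠ b)
    (hw : wed M a b = alt a b) (hka : k ≠ a) (hkb : k ≠ b) : M k a = 0 := by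
  have e : ∀ p q, M p a * M q b + M p b * M q a = alt a b p q := fun p q => by rw [← hw]; rfl
  have h1 : M a a * M b b + M a b * M b a = 1 := by
    rw [e]; simp [alt]
  have h2 : M k a * M b b + M k b * M b a = 0 := by
    rw [e]; simp [alt, hka, hkb]
  have h3 : M k a * M a b + M k b * M a a = 0 := by
    rw [e]; simp [alt, hka, hkb]
  linear_combination (-(M k a)) * h1 + M a a * h2 + M b a * h3 - two_eq (M a a * M b a * M k b)

theorem eq_one_of_Sm {M : Matrix (Fin 6) (Fin 6) GF4} (h : ∀ i, M * Sm i * Mᵀ = Sm i) : M = 1 := by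
  have hne : ∀ r : Fin 12, (pairF r).1 ≠ (pairF r).2 := by decide
  have hw : ∀ r, wed M (pairF r).1 (pairF r).2 = alt (pairF r).1 (pairF r).2 := by
    intro r
    rw [← mul_alt M _ _ (hne r)]
    exact h (Sum.inr r)
  have hpart : ∀ c k : Fin 6, k ≠ c → ∃ r : Fin 12,
      ((pairF r).1 = c ∧ (pairF r).2 ≠ k) ∨ ((pairF r).2 = c ∧ (pairF r).1 ≠ k) := by
    decide +kernel
  have hoff : ∀ c k : Fin 6, k ≠ c → M k c = 0 := by
    intro c k hk
    obtain ⟨r, ⟨e1, e2⟩ | ⟨e1, e2⟩⟩ := hpart c k hk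
    · have := hw r
      have hn := hne r
      rw [e1] at this hn
      exact wed_zero hn this hk (Ne.symm e2)
    · have := hw r
      have hn := hne r
      rw [e1, wed_comm, alt_comm] at this
      rw [e1] at hn
      exact wed_zero (Ne.symm hn) this hk (Ne.symm e2)
  have hd : ∀ r : Fin 12, M (pairF r).1 (pairF r).1 * M (pairF r).2 (pairF r).2 = 1 := by
    intro r
    have e := congrFun (congrFun (hw r) (pairF r).1) (pairF r).2
    simp only [wed, alt, Matrix.of_apply, true_and, or_true, if_true] at e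
    rw [hoff (pairF r).2 (pairF r).1 (hne r), zero_mul, add_zero] at e
    simpa using e
  have k5 : ∀ a b c : GF4, a * b = 1 → b * c = 1 → a * c = 1 → a = 1 ∧ b = 1 ∧ c = 1 := by
    decide +kernel
  obtain ⟨d0, d2, d4⟩ := k5 _ _ _ (hd 9) (hd 4) (hd 3)
  obtain ⟨d1, d3, d5⟩ := k5 _ _ _ (hd 8) (hd 2) (hd 7)
  apply Matrix.ext
  intro p q
  by_cases hpq : p = q
  · subst hpq
    rw [Matrix.one_apply_eq]
    fin_cases p
    · exact d0
    · exact d1
    · exact d2
    · exact d3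
    · exact d4
    · exact d5
  · rw [Matrix.one_apply_ne hpq]
    exact hoff q p hpq

theorem SL_single (i : Ix) : SL (Pi.single i 1) = Sm i := by
  unfold SL
  rw [Finset.sum_eq_single i]
  · simp
  · intro b _ hb
    simp [Pi.single_apply, hb]
  · simp

theorem R_fst {p : GL Ix GF4 × GL (Fin 6) GF4} (hp : p ∈ R) (h : p.1 = 1) : p.2 = 1 := by
  apply Units.ext
  refine eq_one_of_Sm fun i => ?_
  have := hp (Pi.single i 1)
  rw [h, Units.val_one, Matrix.one_mulVec, SL_single] at this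
  exact this.symm

theorem R_snd {p : GL Ix GF4 × GL (Fin 6) GF4} (hp : p ∈ R) (h : p.2 = 1) : p.1 = 1 := by
  apply Units.ext
  refine Matrix.ext_iff_mulVec.2 fun a => ?_
  apply SL_inj
  have := hp a
  rw [h, Units.val_one, Matrix.transpose_one, Matrix.one_mul, Matrix.mul_one] at this
  rw [this, Units.val_one, Matrix.one_mulVec]

/-! ### The representation -/

open Cfsg.Agent.Lib.Compute.GraphHom Cfsg.Agent.Lib.Compute.PrimeGraphExt

/-- `G₂(4)`. -/
abbrev L0 : Type := ↥(chevG2.group GF4)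

theorem exists_rho : ∃ ρ : L0 →* GL (Fin 6) GF4, (∀ g : L0, ((g : GL Ix GF4), ρ g) ∈ R) ∧
    ∀ i (h : x i ∈ chevG2.group GF4), ρ ⟨x i, h⟩ = xn i := by
  have key : ∀ H : Subgroup (GL Ix GF4), Subgroup.closure (Set.range x) = H →
      ∃ ρ : ↥H →* GL (Fin 6) GF4, (∀ g : ↥H, ((g : GL Ix GF4), ρ g) ∈ R) ∧
        ∀ i (h : x i ∈ H), ρ ⟨x i, h⟩ = xn i := by
    rintro H rfl
    exact hom_of_graph x xn R x_mem_R (fun _ hp h => R_fst hp h)
  exact key _ closure_x

/-- The representation of `G₂(4)` on the natural module. -/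
noncomputable def rho : L0 →* GL (Fin 6) GF4 := exists_rho.choose

theorem rho_R (g : L0) : ((g : GL Ix GF4), rho g) ∈ R := exists_rho.choose_spec.1 g

theorem rho_inj : Function.Injective rho := by
  rw [injective_iff_map_eq_one]
  intro g hg
  apply Subtype.ext
  exact R_snd (rho_R g) hg

theorem x_mem (i : Fin 12 × GF4) : x i ∈ chevG2.group GF4 := by
  rw [← closure_x]
  exact Subgroup.subset_closure ⟨i, rfl⟩

/-- A root element of `G₂(4)`. -/
def ee (r : Fin 12) (c : ℕ) : L0 := ⟨x (r, gf4.dec c), x_mem _⟩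

theorem rho_ee (r : Fin 12) (c : ℕ) : ((rho (ee r c) : GL (Fin 6) GF4) : Matrix (Fin 6) (Fin 6) GF4) =
    X6 r (gf4.dec c) := by
  have : rho (ee r c) = xn (r, gf4.dec c) := exists_rho.choose_spec.2 _ _
  rw [this]
  rfl

/-- A matrix from a list of rows of codes. -/
def lit (L : List (List ℕ)) : Matrix (Fin 6) (Fin 6) GF4 :=
  Matrix.of fun i j => gf4.dec ((L.getD i.val []).getD j.val 0)

/-- The word of order 7. -/
def w7 : List (Fin 12 × ℕ) := [(2,3), (11,1), (7,3)]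
/-- Its matrix. -/
def P7_1 : List (List ℕ) := [[1, 0, 0, 2, 0, 0], [0, 1, 3, 0, 3, 1], [0, 0, 1, 0, 1, 0], [0, 0, 3, 1, 3, 0], [0, 2, 1, 0, 0, 2], [3, 0, 0, 1, 3, 1]]
/-- A power. -/
def P7_2 : List (List ℕ) := [[1, 0, 1, 0, 1, 0], [3, 0, 3, 1, 3, 1], [0, 2, 0, 0, 1, 2], [0, 1, 3, 1, 0, 1], [1, 2, 0, 2, 1, 0], [0, 1, 0, 1, 0, 0]]
/-- A power. -/
def P7_3 : List (List ℕ) := [[1, 2, 0, 2, 1, 2], [0, 1, 3, 1, 3, 0], [1, 0, 0, 2, 0, 2], [3, 1, 3, 0, 0, 0], [1, 0, 1, 0, 0, 0], [0, 1, 0, 1, 0, 1]]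
/-- A power. -/
def P7_6 : List (List ℕ) := [[1, 0, 1, 2, 0, 0], [3, 0, 3, 0, 3, 1], [0, 2, 1, 0, 1, 0], [0, 0, 3, 1, 0, 0], [0, 2, 0, 0, 1, 0], [3, 1, 0, 0, 3, 1]]
/-- The matrix `D` for order 7. -/
def D7 : List (List ℕ) := [[1, 0, 1, 0, 0, 2], [0, 1, 0, 0, 3, 0], [0, 0, 1, 2, 0, 0], [3, 0, 0, 0, 0, 0], [0, 0, 1, 0, 0, 0], [0, 1, 0, 1, 0, 0]]
/-- The matrix `D + 1` for order 7. -/
def D71 : List (List ℕ) := [[0, 0, 1, 0, 0, 2], [0, 0, 0, 0, 3, 0], [0, 0, 0, 2, 0, 0], [3, 0, 0, 1, 0, 0], [0, 0, 1, 0, 1, 0], [0, 1, 0, 1, 0, 1]]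
/-- The word of order 13. -/
def w13 : List (Fin 12 × ℕ) := [(4,2), (9,2), (5,2), (6,3)]
/-- Its matrix. -/
def P13_1 : List (List ℕ) := [[0, 0, 2, 3, 0, 0], [0, 1, 0, 0, 3, 0], [3, 2, 1, 2, 1, 1], [0, 0, 1, 3, 0, 3], [0, 0, 0, 3, 1, 0], [0, 0, 0, 2, 0, 0]]
/-- A power. -/
def P13_2 : List (List ℕ) := [[1, 3, 1, 1, 2, 0], [0, 1, 0, 2, 0, 0], [3, 0, 2, 0, 1, 0], [3, 2, 2, 1, 1, 3], [0, 0, 3, 1, 1, 2], [0, 0, 2, 1, 0, 1]]
/-- A power. -/
def P13_3 : List (List ℕ) := [[3, 1, 2, 3, 1, 2], [0, 1, 2, 1, 3, 1], [1, 3, 3, 2, 3, 2], [1, 1, 2, 0, 2, 1], [2, 1, 2, 2, 2, 0], [1, 3, 3, 2, 2, 1]]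
/-- A power. -/
def P13_6 : List (List ℕ) := [[3, 0, 0, 1, 1, 2], [3, 1, 3, 1, 3, 2], [1, 0, 2, 3, 0, 0], [3, 0, 1, 0, 2, 1], [2, 2, 0, 0, 0, 3], [0, 3, 2, 0, 3, 3]]
/-- A power. -/
def P13_12 : List (List ℕ) := [[3, 3, 2, 3, 0, 2], [0, 1, 0, 0, 3, 1], [3, 0, 0, 0, 0, 1], [0, 0, 0, 0, 0, 3], [0, 0, 0, 0, 1, 2], [1, 0, 0, 2, 0, 1]]
/-- The matrix `D` for order 13. -/
def D13 : List (List ℕ) := [[1, 0, 0, 2, 3, 1], [2, 1, 3, 3, 1, 1], [0, 0, 0, 1, 1, 3], [0, 0, 0, 0, 2, 0], [0, 2, 0, 0, 0, 0], [0, 0, 0, 0, 3, 1]]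
/-- The matrix `D + 1` for order 13. -/
def D131 : List (List ℕ) := [[0, 0, 0, 2, 3, 1], [2, 0, 3, 3, 1, 1], [0, 0, 1, 1, 1, 3], [0, 0, 0, 1, 2, 0], [0, 2, 0, 0, 1, 0], [0, 0, 0, 0, 3, 0]]
/-- The word of order 6. -/
def w6 : List (Fin 12 × ℕ) := [(5,1), (8,3), (6,1)]
/-- Its matrix. -/
def P6_1 : List (List ℕ) := [[0, 0, 1, 0, 0, 2], [3, 1, 0, 0, 0, 0], [1, 0, 1, 0, 0, 2], [0, 0, 0, 1, 3, 1], [0, 0, 0, 0, 1, 0], [0, 0, 0, 1, 3, 0]]
/-- A power. -/
def P6_2 : List (List ℕ) := [[1, 0, 1, 2, 1, 2], [3, 1, 3, 0, 0, 1], [1, 0, 0, 2, 1, 0], [0, 0, 0, 0, 3, 1], [0, 0, 0, 0, 1, 0], [0, 0, 0, 1, 0, 1]]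
/-- A power. -/
def P6_3 : List (List ℕ) := [[1, 0, 0, 0, 1, 2], [0, 1, 0, 1, 3, 0], [0, 0, 1, 2, 0, 0], [0, 0, 0, 1, 0, 0], [0, 0, 0, 0, 1, 0], [0, 0, 0, 0, 0, 1]]
/-- The word of order 10. -/
def w10 : List (Fin 12 × ℕ) := [(3,2), (11,2), (8,2)]
/-- Its matrix. -/
def P10_1 : List (List ℕ) := [[2, 2, 0, 0, 0, 3], [2, 1, 0, 0, 0, 2], [0, 0, 1, 0, 2, 3], [0, 0, 0, 1, 2, 0], [0, 0, 0, 2, 2, 0], [0, 0, 3, 0, 1, 3]]
/-- A power. -/
def P10_2 : List (List ℕ) := [[0, 1, 2, 0, 3, 0], [1, 2, 1, 0, 2, 2], [0, 0, 3, 3, 2, 1], [0, 0, 0, 2, 1, 0], [0, 0, 0, 1, 0, 0], [0, 0, 1, 2, 0, 0]]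
/-- A power. -/
def P10_4 : List (List ℕ) := [[1, 2, 0, 2, 1, 0], [2, 2, 1, 2, 2, 2], [0, 0, 3, 3, 2, 3], [0, 0, 0, 2, 2, 0], [0, 0, 0, 2, 1, 0], [0, 0, 3, 0, 0, 1]]
/-- A power. -/
def P10_5 : List (List ℕ) := [[1, 0, 0, 0, 1, 0], [0, 1, 0, 1, 0, 0], [0, 0, 1, 0, 0, 0], [0, 0, 0, 1, 0, 0], [0, 0, 0, 0, 1, 0], [0, 0, 0, 0, 0, 1]]

/-- The element of order `7`. -/
def c7 : L0 := ee 2 3 * ee 11 1 * ee 7 3
/-- The element of order `13`. -/
def c13 : L0 := ee 4 2 * ee 9 2 * ee 5 2 * ee 6 3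
/-- The element of order `6`. -/
def g6 : L0 := ee 5 1 * ee 8 3 * ee 6 1
/-- The element of order `10`. -/
def g10 : L0 := ee 3 2 * ee 11 2 * ee 8 2

/-- The value of the representation. -/
noncomputable abbrev rv (g : L0) : Matrix (Fin 6) (Fin 6) GF4 := ((rho g : GL (Fin 6) GF4) : Matrix (Fin 6) (Fin 6) GF4)

theorem rv_mul (g h : L0) : rv (g * h) = rv g * rv h := by
  simp only [rv, map_mul, Units.val_mul]

theorem rv_pow (g : L0) (n : ℕ) : rv (g ^ n) = rv g ^ n := by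
  simp only [rv, map_pow, Units.val_pow_eq_pow_val]

theorem rv_eq_one {g : L0} (h : rv g = 1) : g = 1 := by
  apply rho_inj
  rw [map_one]
  exact Units.ext h

theorem rv_c7 : rv c7 = lit P7_1 := by
  simp only [c7, rv_mul, rv, rho_ee]
  decide +kernel

theorem rv_c13 : rv c13 = lit P13_1 := by
  simp only [c13, rv_mul, rv, rho_ee]
  decide +kernel

theorem rv_g6 : rv g6 = lit P6_1 := by
  simp only [g6, rv_mul, rv, rho_ee]
  decide +kernel

theorem rv_g10 : rv g10 = lit P10_1 := by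
  simp only [g10, rv_mul, rv, rho_ee]
  decide +kernel

theorem ne_of_rv {g : L0} {M : Matrix (Fin 6) (Fin 6) GF4} (h : rv g = M) (hM : M ≠ 1) : g ≠ 1 := by
  rintro rfl
  apply hM
  rw [← h]
  simp [rv]

theorem order_c7 : orderOf c7 = 7 := by
  have : Fact (Nat.Prime 7) := ⟨by norm_num⟩
  have m2 : lit P7_1 * lit P7_1 = lit P7_2 := by decide +kernel
  have m3 : lit P7_2 * lit P7_1 = lit P7_3 := by decide +kernel
  have m6 : lit P7_3 * lit P7_3 = lit P7_6 := by decide +kernel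
  have m7 : lit P7_6 * lit P7_1 = 1 := by decide +kernel
  have e2 : lit P7_1 ^ 2 = lit P7_2 := by rw [pow_two, m2]
  have e3 : lit P7_1 ^ 3 = lit P7_3 := by rw [pow_succ, e2, m3]
  have e6 : lit P7_1 ^ 6 = lit P7_6 := by
    have := pow_add (lit P7_1) 3 3
    rw [e3, m6] at this
    exact this
  have e7 : lit P7_1 ^ 7 = 1 := by rw [pow_succ, e6, m7]
  apply orderOf_eq_prime
  · apply rv_eq_one
    rw [rv_pow, rv_c7, e7]
  · exact ne_of_rv rv_c7 (by decide +kernel)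

theorem order_c13 : orderOf c13 = 13 := by
  have : Fact (Nat.Prime 13) := ⟨by norm_num⟩
  have m2 : lit P13_1 * lit P13_1 = lit P13_2 := by decide +kernel
  have m3 : lit P13_2 * lit P13_1 = lit P13_3 := by decide +kernel
  have m6 : lit P13_3 * lit P13_3 = lit P13_6 := by decide +kernel
  have m12 : lit P13_6 * lit P13_6 = lit P13_12 := by decide +kernel
  have m13 : lit P13_12 * lit P13_1 = 1 := by decide +kernel
  have e2 : lit P13_1 ^ 2 = lit P13_2 := by rw [pow_two, m2]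
  have e3 : lit P13_1 ^ 3 = lit P13_3 := by rw [pow_succ, e2, m3]
  have e6 : lit P13_1 ^ 6 = lit P13_6 := by
    have := pow_add (lit P13_1) 3 3
    rw [e3, m6] at this
    exact this
  have e12 : lit P13_1 ^ 12 = lit P13_12 := by
    have := pow_add (lit P13_1) 6 6
    rw [e6, m12] at this
    exact this
  have e13 : lit P13_1 ^ 13 = 1 := by rw [pow_succ, e12, m13]
  apply orderOf_eq_prime
  · apply rv_eq_one
    rw [rv_pow, rv_c13, e13]
  · exact ne_of_rv rv_c13 (by decide +kernel)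

theorem order_g6 : orderOf g6 = 6 := by
  have m2 : lit P6_1 * lit P6_1 = lit P6_2 := by decide +kernel
  have m3 : lit P6_2 * lit P6_1 = lit P6_3 := by decide +kernel
  have m6 : lit P6_3 * lit P6_3 = 1 := by decide +kernel
  have e2 : lit P6_1 ^ 2 = lit P6_2 := by rw [pow_two, m2]
  have e3 : lit P6_1 ^ 3 = lit P6_3 := by rw [pow_succ, e2, m3]
  have e6 : lit P6_1 ^ 6 = 1 := by
    have := pow_add (lit P6_1) 3 3
    rw [e3, m6] at this
    exact this
  apply orderOf_eq_of_pow_and_pow_div_prime (by norm_num)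
  · apply rv_eq_one
    rw [rv_pow, rv_g6, e6]
  · intro p hp hd
    have hle : p ≤ 6 := Nat.le_of_dvd (by norm_num) hd
    have : p = 2 ∨ p = 3 := by
      interval_cases p <;> first | omega | (exfalso; revert hp hd; decide)
    rcases this with rfl | rfl
    · exact ne_of_rv (g := g6 ^ (6 / 2)) (M := lit P6_3) (by rw [rv_pow, rv_g6]; exact e3) (by decide +kernel)
    · exact ne_of_rv (g := g6 ^ (6 / 3)) (M := lit P6_2) (by rw [rv_pow, rv_g6]; exact e2) (by decide +kernel)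

theorem order_g10 : orderOf g10 = 10 := by
  have m2 : lit P10_1 * lit P10_1 = lit P10_2 := by decide +kernel
  have m4 : lit P10_2 * lit P10_2 = lit P10_4 := by decide +kernel
  have m5 : lit P10_4 * lit P10_1 = lit P10_5 := by decide +kernel
  have m10 : lit P10_5 * lit P10_5 = 1 := by decide +kernel
  have e2 : lit P10_1 ^ 2 = lit P10_2 := by rw [pow_two, m2]
  have e4 : lit P10_1 ^ 4 = lit P10_4 := by
    have := pow_add (lit P10_1) 2 2
    rw [e2, m4] at this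
    exact this
  have e5 : lit P10_1 ^ 5 = lit P10_5 := by rw [pow_succ, e4, m5]
  have e10 : lit P10_1 ^ 10 = 1 := by
    have := pow_add (lit P10_1) 5 5
    rw [e5, m10] at this
    exact this
  apply orderOf_eq_of_pow_and_pow_div_prime (by norm_num)
  · apply rv_eq_one
    rw [rv_pow, rv_g10, e10]
  · intro p hp hd
    have hle : p ≤ 10 := Nat.le_of_dvd (by norm_num) hd
    have : p = 2 ∨ p = 5 := by
      interval_cases p <;> first | omega | (exfalso; revert hp hd; decide)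
    rcases this with rfl | rfl
    · exact ne_of_rv (g := g10 ^ (10 / 2)) (M := lit P10_5) (by rw [rv_pow, rv_g10]; exact e5) (by decide +kernel)
    · exact ne_of_rv (g := g10 ^ (10 / 5)) (M := lit P10_2) (by rw [rv_pow, rv_g10]; exact e2) (by decide +kernel)

/-- The action on vectors. -/
noncomputable def act4 : L0 →* MulAut (Multiplicative (Fin 6 → GF4)) :=
  (vecAct GF4 6).comp rho

theorem fpf_of {c : L0} {P D D1 : Matrix (Fin 6) (Fin 6) GF4} (h0 : rv c = P) (h1 : D * P = D1)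
    (h2 : D1 = D + 1) (v : Multiplicative (Fin 6 → GF4)) (h : act4 c v = v) : v = 1 := by
  have h3 : P *ᵥ (Multiplicative.toAdd v) = Multiplicative.toAdd v := by
    have : act4 c v = Multiplicative.ofAdd (rv c *ᵥ (Multiplicative.toAdd v)) := rfl
    rw [this, h0] at h
    exact congrArg Multiplicative.toAdd h
  have h4 : D1 *ᵥ (Multiplicative.toAdd v) = D *ᵥ (Multiplicative.toAdd v) := by
    rw [← h1, ← Matrix.mulVec_mulVec, h3]
  rw [h2, Matrix.add_mulVec, Matrix.one_mulVec] at h4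
  have h5 : Multiplicative.toAdd v = 0 := by
    simpa using h4
  exact Multiplicative.toAdd.injective h5

theorem fpf_c7 (v : Multiplicative (Fin 6 → GF4)) (h : act4 c7 v = v) : v = 1 :=
  fpf_of rv_c7 (D := lit D7) (D1 := lit D71) (by decide +kernel) (by decide +kernel) v h

theorem fpf_c13 (v : Multiplicative (Fin 6 → GF4)) (h : act4 c13 v = v) : v = 1 :=
  fpf_of rv_c13 (D := lit D13) (D1 := lit D131) (by decide +kernel) (by decide +kernel) v h

theorem card_L0 : Nat.card L0 = 251596800 := by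
  have h := Cfsg.Agent.S1059.result (F := GF4) (q := 4) card_GF4
  rw [h]
  norm_num

/-- Primes dividing the order. -/
theorem prime_cases {p : ℕ} (hp : p.Prime) (h : p ∣ 251596800) :
    p = 2 ∨ p = 3 ∨ p = 5 ∨ p = 7 ∨ p = 13 := by
  have h' : p ∣ 2 ^ 12 * 3 ^ 3 * 5 ^ 2 * 7 * 13 := by simpa using h
  rcases (Nat.Prime.dvd_mul hp).1 h' with h | h
  · rcases (Nat.Prime.dvd_mul hp).1 h with h | h
    · rcases (Nat.Prime.dvd_mul hp).1 h with h | h
      · rcases (Nat.Prime.dvd_mul hp).1 h with h | h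
        · left
          exact (Nat.prime_dvd_prime_iff_eq hp (by norm_num)).1 (hp.dvd_of_dvd_pow h)
        · right; left
          exact (Nat.prime_dvd_prime_iff_eq hp (by norm_num)).1 (hp.dvd_of_dvd_pow h)
      · right; right; left
        exact (Nat.prime_dvd_prime_iff_eq hp (by norm_num)).1 (hp.dvd_of_dvd_pow h)
    · right; right; right; left
      exact (Nat.prime_dvd_prime_iff_eq hp (by norm_num)).1 h
  · right; right; right; right
    exact (Nat.prime_dvd_prime_iff_eq hp (by norm_num)).1 h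

/-- The main result on `G₂(4)`. -/
theorem main (K : ℕ) :
    ∃ (H : Type) (_ : Group H) (_ : Finite H), K < Nat.card H ∧ SameGraph L0 H := by
  have hfin : Finite L0 := Nat.finite_of_card_ne_zero (by rw [card_L0]; norm_num)
  refine exists_large act4 (r := 2) (by norm_num) (by rw [card_L0]; norm_num) ?_ ?_ K
  · intro v
    apply Multiplicative.toAdd.injective
    funext i
    change 2 • (Multiplicative.toAdd v i) = 0
    rw [two_nsmul]
    exact two_eq _
  · intro p hp hp2 l hl v hv hfix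
    have hd : p ∣ 251596800 := by
      rw [← hl, ← card_L0]
      exact orderOf_dvd_natCard l
    rcases prime_cases hp hd with rfl | rfl | rfl | rfl | rfl
    · exact absurd rfl hp2
    · exact ⟨g6, order_g6⟩
    · exact ⟨g10, order_g10⟩
    · exfalso
      apply hv
      refine fixed_free_of_sylow act4 (p := 7) (by norm_num) ?_ c7 order_c7 fpf_c7 l hl v hfix
      rw [card_L0]
      norm_num
    · exfalso
      apply hv
      refine fixed_free_of_sylow act4 (p := 13) (by norm_num) ?_ c13 order_c13 fpf_c13 l hl v hfix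
      rw [card_L0]
      norm_num

end Cfsg.Agent.Lib.Compute.G24
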