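import Cfsg.Agent.Lib.Compute.M24
import Cfsg.Agent.S0358

/-!
# The code is self-dual for the standard scalar product

`golay_orth`: two words of the code are orthogonal; `golay_perp`: a word orthogonal to the code is in the code.
-/

set_option autoImplicit false

namespace Cfsg.Agent.Lib.Compute.GolayDual

open Cfsg Cfsg.Agent.Lib.Compute.Golay Cfsg.Agent.Lib.Compute.GolayFast

/-- The ambient space. -/
abbrev W := GolayPt → ZMod 2

theorem maskWord_mul (a b : ℕ) (p : GolayPt) : maskWord a p * maskWord b p = maskWord (a &&& b) p := by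
  simp only [maskWord, Nat.testBit_and, Bool.and_eq_true]
  by_cases h1 : a.testBit (ptIdx p) = true <;> by_cases h2 : b.testBit (ptIdx p) = true <;> simp [h1, h2]

theorem sum_maskWord (m : ℕ) : ∑ p, maskWord m p = (pop m : ZMod 2) := by
  rw [← card_maskSupport]
  have : ∀ p, maskWord m p = if p ∈ maskSupport m then 1 else 0 := by
    intro p
    simp [maskWord, maskSupport]
  simp_rw [this]
  rw [Finset.sum_ite_mem, Finset.univ_inter]
  simp

theorem sum_mul_maskWord (a b : ℕ) : ∑ p, maskWord a p * maskWord b p = (pop (a &&& b) : ZMod 2) := by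
  simp_rw [maskWord_mul]
  exact sum_maskWord _

theorem basis_orth : ∀ a ∈ redBasis, ∀ b ∈ redBasis, pop (a &&& b) % 2 = 0 := by decide +kernel

/-- The code is self-orthogonal. -/
theorem golay_orth : ∀ v ∈ golayCode, ∀ w ∈ golayCode, ∑ p, v p * w p = 0 := by
  have h1 : ∀ a ∈ redBasis, ∀ w ∈ golayCode, ∑ p, maskWord a p * w p = 0 := by
    intro a ha w hw
    rw [golayCode_eq_span] at hw
    induction hw using Submodule.span_induction with
    | mem x hx =>
      obtain ⟨b, hb, rfl⟩ := hx
      rw [sum_mul_maskWord]
      have := basis_orth a ha b hb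
      rw [ZMod.natCast_eq_zero_iff]
      exact Nat.dvd_of_mod_eq_zero this
    | zero => simp
    | add x y _ _ hx hy =>
      simp only [Pi.add_apply, mul_add]
      rw [Finset.sum_add_distrib, hx, hy, add_zero]
    | smul c x _ hx =>
      simp only [Pi.smul_apply, smul_eq_mul]
      have : ∀ p, maskWord a p * (c * x p) = c * (maskWord a p * x p) := fun p => by ring
      simp_rw [this]
      rw [← Finset.mul_sum, hx, mul_zero]
  intro v hv w hw
  rw [golayCode_eq_span] at hv
  induction hv using Submodule.span_induction with
  | mem x hx =>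
    obtain ⟨b, hb, rfl⟩ := hx
    exact h1 b hb w hw
  | zero => simp
  | add x y _ _ hx hy =>
    simp only [Pi.add_apply, add_mul]
    rw [Finset.sum_add_distrib, hx, hy, add_zero]
  | smul c x _ hx =>
    simp only [Pi.smul_apply, smul_eq_mul]
    have : ∀ p, c * x p * w p = c * (x p * w p) := fun p => by ring
    simp_rw [this]
    rw [← Finset.mul_sum, hx, mul_zero]

/-- The standard dot product as a bilinear form. -/
noncomputable def dotForm : LinearMap.BilinForm (ZMod 2) W :=
  Matrix.toBilin' (1 : Matrix GolayPt GolayPt (ZMod 2))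

theorem dotForm_apply (v w : W) : dotForm v w = ∑ i, v i * w i := by
  simp [dotForm, Matrix.toBilin'_apply', dotProduct]

theorem dotForm_nondeg : dotForm.Nondegenerate := by
  apply LinearMap.BilinForm.nondegenerate_toBilin'_iff_det_ne_zero.mpr
  simp

/-- A word orthogonal to the code is in the code. -/
theorem golay_perp {v : W} (hv : ∀ w ∈ golayCode, ∑ p, w p * v p = 0) : v ∈ golayCode := by
  have hle : golayCode ≤ dotForm.orthogonal golayCode := by
    intro x hx y hy
    show dotForm y x = 0
    rw [dotForm_apply]
    exact golay_orth y hy x hx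
  have hfin : Module.finrank (ZMod 2) (dotForm.orthogonal golayCode) = 12 := by
    rw [LinearMap.BilinForm.finrank_orthogonal dotForm_nondeg, Cfsg.Agent.S0358.result]
    simp [Module.finrank_fintype_fun_eq_card]
  have heq : golayCode = dotForm.orthogonal golayCode :=
    Submodule.eq_of_le_of_finrank_eq hle (by rw [Cfsg.Agent.S0358.result, hfin])
  rw [heq]
  intro y hy
  show dotForm y v = 0
  rw [dotForm_apply]
  exact hv y hy

end Cfsg.Agent.Lib.Compute.GolayDual
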