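import Cfsg.Agent.Lib.Compute.Golay
import Cfsg.Agent.Lib.Sporadic.LeechBasic

/-!
# Counting vectors of small norm in the rank-24 lattice

The vectors of a given norm of `leechLattice` are split according to their parity and to their
binary word; for a fixed word the coordinates are independent, so that the number of vectors is
a coefficient of a product of explicit polynomials in two variables (recording the norm and the
sum of the coordinates modulo 8).  The polynomials are evaluated at a large power of two, so that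
the kernel can compute the product with arithmetic on natural numbers and read off the coefficients.
-/

set_option autoImplicit false

namespace Cfsg.Agent.Lib.Compute.LeechCount

open Cfsg Cfsg.Agent.Lib.Compute.Golay Cfsg.Agent.Lib.Sporadic.LeechBasic

/-! ### Reading a count off a sum of powers -/

theorem card_filter_eq_digit {α : Type*} (S : Finset α) (d : α → ℕ) (q n : ℕ) (hq : S.card < q) :
    (S.filter fun a => d a = n).card = (∑ a ∈ S, q ^ d a) / q ^ n % q := by
  classical
  have hq0 : 0 < q := by omega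
  set L := S.filter fun a => d a < n with hL
  set M := S.filter fun a => d a = n with hM
  set H := S.filter fun a => ¬ d a < n ∧ ¬ d a = n with hH
  have hsplit : ∑ a ∈ S, q ^ d a = ∑ a ∈ L, q ^ d a + (M.card * q ^ n + ∑ a ∈ H, q ^ d a) := by
    have h1 := Finset.sum_filter_add_sum_filter_not S (fun a => d a < n) (fun a => q ^ d a)
    have h2 := Finset.sum_filter_add_sum_filter_not (S.filter fun a => ¬ d a < n)
      (fun a => d a = n) (fun a => q ^ d a)
    have h3 : (S.filter fun a => ¬ d a < n).filter (fun a => d a = n) = M := by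
      ext a
      simp only [hM, Finset.mem_filter]
      constructor
      · rintro ⟨⟨h, -⟩, h'⟩; exact ⟨h, h'⟩
      · rintro ⟨h, h'⟩; exact ⟨⟨h, by omega⟩, h'⟩
    have h4 : (S.filter fun a => ¬ d a < n).filter (fun a => ¬ d a = n) = H := by
      ext a
      simp only [hH, Finset.mem_filter]
      constructor
      · rintro ⟨⟨h, h1⟩, h'⟩; exact ⟨h, h1, h'⟩
      · rintro ⟨h, h1, h'⟩; exact ⟨⟨h, h1⟩, h'⟩
    rw [h3, h4] at h2
    have h5 : ∑ a ∈ M, q ^ d a = M.card * q ^ n := by
      rw [Finset.sum_congr rfl (g := fun _ => q ^ n), Finset.sum_const, smul_eq_mul]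
      intro a ha
      rw [(Finset.mem_filter.1 ha).2]
    rw [← h1, ← h2, h5]
  have hLlt : ∑ a ∈ L, q ^ d a < q ^ n := by
    rcases n.eq_zero_or_pos with rfl | hn
    · have : L = ∅ := by
        rw [hL, Finset.filter_eq_empty_iff]
        intro a _
        omega
      rw [this]
      simp
    · have hle : ∑ a ∈ L, q ^ d a ≤ L.card * q ^ (n - 1) := by
        rw [← smul_eq_mul, ← Finset.sum_const]
        apply Finset.sum_le_sum
        intro a ha
        have := (Finset.mem_filter.1 ha).2
        exact Nat.pow_le_pow_right hq0 (by omega)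
      have hcard : L.card < q := lt_of_le_of_lt (Finset.card_filter_le _ _) hq
      have hpos : 0 < q ^ (n - 1) := Nat.pow_pos hq0
      calc ∑ a ∈ L, q ^ d a ≤ L.card * q ^ (n - 1) := hle
        _ < q * q ^ (n - 1) := Nat.mul_lt_mul_of_pos_right hcard hpos
        _ = q ^ n := by rw [← pow_succ']; congr 1; omega
  have hdvd : q ^ (n + 1) ∣ ∑ a ∈ H, q ^ d a := by
    apply Finset.dvd_sum
    intro a ha
    have := (Finset.mem_filter.1 ha).2
    exact pow_dvd_pow q (by omega)
  obtain ⟨h, hh⟩ := hdvd
  have hMlt : M.card < q := lt_of_le_of_lt (Finset.card_filter_le _ _) hq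
  rw [hsplit, hh, pow_succ]
  have hpos : 0 < q ^ n := Nat.pow_pos hq0
  have : ∑ a ∈ L, q ^ d a + (M.card * q ^ n + q ^ n * q * h) =
      ∑ a ∈ L, q ^ d a + q ^ n * (M.card + q * h) := by ring
  rw [this, Nat.add_mul_div_left _ _ hpos, Nat.div_eq_of_lt hLlt, zero_add, Nat.add_mul_mod_self_left,
    Nat.mod_eq_of_lt hMlt]

theorem sum_piFinset_pow {ι : Type*} [Fintype ι] [DecidableEq ι] (V : ι → Finset ℤ) (q : ℕ)
    (e : ℤ → ℕ) :
    ∑ x ∈ Fintype.piFinset V, q ^ (∑ i, e (x i)) = ∏ i, ∑ v ∈ V i, q ^ e v := by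
  rw [Finset.prod_univ_sum]
  refine Finset.sum_congr rfl fun x _ => ?_
  rw [Finset.prod_pow_eq_pow_sum]

/-! ### The generating functions -/

/-- Size of the part of an exponent recording the sum of the coordinates. -/
def K : ℕ := 169

/-- The exponent of a coordinate value. -/
def e (v : ℤ) : ℕ := K * (v * v).toNat + (v % 8).toNat

/-- The base at which the polynomials are evaluated. -/
def base : ℕ := 2 ^ 60

/-- The values of a coordinate of absolute value at most 8, by parity and by the second bit. -/
def V : Bool → Bool → Finset ℤ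
  | false, false => {0, 4, -4, 8, -8}
  | false, true => {2, -2, 6, -6}
  | true, false => {1, -3, 5, -7}
  | true, true => {-1, 3, -5, 7}

/-- The generating function of a coordinate. -/
def G (t b : Bool) : ℕ := ∑ v ∈ V t b, base ^ e v

/-- A Boolean as an integer. -/
def ofB (b : Bool) : ℤ := if b then 1 else 0

theorem V_mem_bounds : ∀ t b : Bool, ∀ v ∈ V t b, -8 ≤ v ∧ v ≤ 8 := by
  decide

theorem V_card_le : ∀ t b : Bool, (V t b).card ≤ 5 := by
  decide

theorem V_mem_iff_aux : ∀ v ∈ Finset.Icc (-8 : ℤ) 8, ∀ t b : Bool,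
    (v ∈ V t b ↔ v % 2 = ofB t ∧ (v / 2) % 2 = ofB b) := by
  decide

theorem V_mem_iff (v : ℤ) (h1 : -8 ≤ v) (h2 : v ≤ 8) (t b : Bool) :
    v ∈ V t b ↔ v % 2 = ofB t ∧ (v / 2) % 2 = ofB b :=
  V_mem_iff_aux v (Finset.mem_Icc.2 ⟨h1, h2⟩) t b

/-- The residue of the sum of the coordinates modulo 8. -/
def sres (t : Bool) : ℕ := if t then 4 else 0

/-- The coordinate values allowed by a parity and a word. -/
def box (t : Bool) (w : GolayPt → ZMod 2) (i : GolayPt) : Finset ℤ := V t (decide (w i ≠ 0))

/-- The norm, as a natural number. -/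
def sg (x : GolayPt → ℤ) : ℕ := ∑ i, (x i * x i).toNat

/-- The coordinate sum, reduced coordinatewise modulo 8. -/
def ta (x : GolayPt → ℤ) : ℕ := ∑ i, (x i % 8).toNat

/-- The vectors of norm `N` with a given parity and a given word. -/
def F (t : Bool) (w : GolayPt → ZMod 2) (N : ℕ) : Finset (GolayPt → ℤ) :=
  (Fintype.piFinset (box t w)).filter fun x => sg x = N ∧ ta x % 8 = sres t

theorem card_pts : Fintype.card GolayPt = 24 := by
  simp [ZMod.card]

theorem sum_e (x : GolayPt → ℤ) : ∑ i, e (x i) = K * sg x + ta x := by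
  simp only [e, Finset.sum_add_distrib, sg, ta, Finset.mul_sum]

theorem ta_lt (x : GolayPt → ℤ) : ta x < K := by
  have h : ∀ i ∈ (Finset.univ : Finset GolayPt), (x i % 8).toNat ≤ 7 := by
    intro i _
    have h1 := Int.emod_nonneg (x i) (show (8 : ℤ) ≠ 0 by norm_num)
    have h2 := Int.emod_lt_of_pos (x i) (show (0 : ℤ) < 8 by norm_num)
    omega
  have := Finset.sum_le_card_nsmul _ _ _ h
  rw [Finset.card_univ, card_pts] at this
  unfold ta K
  simp only [smul_eq_mul] at this
  omega

theorem box_card_lt (t : Bool) (w : GolayPt → ZMod 2) :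
    (Fintype.piFinset (box t w)).card < base := by
  rw [Fintype.card_piFinset]
  have h : ∏ i, (box t w i).card ≤ 5 ^ (Finset.univ : Finset GolayPt).card :=
    Finset.prod_le_pow_card _ _ _ fun i _ => V_card_le _ _
  rw [Finset.card_univ, card_pts] at h
  refine lt_of_le_of_lt h ?_
  unfold base
  norm_num

/-- The sum over the box of a word. -/
theorem sum_box (t : Bool) (w : GolayPt → ZMod 2) :
    ∑ x ∈ Fintype.piFinset (box t w), base ^ (∑ i, e (x i)) =
      G t true ^ (support₂ w).card * G t false ^ (24 - (support₂ w).card) := by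
  rw [sum_piFinset_pow]
  have h : ∀ i, ∑ v ∈ box t w i, base ^ e v = if w i ≠ 0 then G t true else G t false := by
    intro i
    by_cases hi : w i ≠ 0
    · simp only [box, hi, ne_eq, not_false_eq_true, decide_true, if_true, G]
    · simp only [box, hi, ne_eq, not_false_eq_true, decide_false, if_false, G]
  simp_rw [h]
  rw [Finset.prod_ite, Finset.prod_const, Finset.prod_const]
  congr 2
  have h1 : (Finset.univ.filter fun i => w i ≠ 0).card +
      (Finset.univ.filter fun i => ¬ w i ≠ 0).card = 24 := by
    rw [Finset.card_filter_add_card_filter_not, Finset.card_univ, card_pts]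
  have h2 : support₂ w = Finset.univ.filter fun i => w i ≠ 0 := rfl
  rw [h2]
  omega

/-- Sum of the digits in the positions `n + r`, `r < R`, `r ≡ s` modulo 8. -/
def sumT (P n s : ℕ) : ℕ → ℕ
  | 0 => 0
  | r + 1 => sumT P n s r + if r % 8 = s then P / base ^ (n + r) % base else 0

theorem sumT_eq (P n s R : ℕ) :
    sumT P n s R = ∑ r ∈ Finset.range R, if r % 8 = s then P / base ^ (n + r) % base else 0 := by
  induction R with
  | zero => rfl
  | succ R ih => rw [sumT, ih, Finset.sum_range_succ]

/-- The number of vectors with parity `t`, a word of weight `W` and norm `N`. -/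
def cnt (t : Bool) (W N : ℕ) : ℕ :=
  sumT (G t true ^ W * G t false ^ (24 - W)) (K * N) (sres t) K

theorem mul_add_inj {K a b c d : ℕ} (hb : b < K) (hd : d < K) (h : K * a + b = K * c + d) :
    a = c ∧ b = d := by
  have hK : 0 < K := by omega
  have h1 : (K * a + b) / K = a := by
    rw [Nat.mul_add_div hK, Nat.div_eq_of_lt hb, add_zero]
  have h2 : (K * c + d) / K = c := by
    rw [Nat.mul_add_div hK, Nat.div_eq_of_lt hd, add_zero]
  have hac : a = c := by rw [← h1, h, h2]
  subst hac
  exact ⟨rfl, Nat.add_left_cancel h⟩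

theorem card_F (t : Bool) (w : GolayPt → ZMod 2) (N : ℕ) :
    (F t w N).card = cnt t (support₂ w).card N := by
  classical
  have hmaps : ∀ x ∈ F t w N, ta x ∈ Finset.range K := fun x _ => Finset.mem_range.2 (ta_lt x)
  rw [Finset.card_eq_sum_card_fiberwise hmaps, cnt, sumT_eq, ← sum_box]
  refine Finset.sum_congr rfl fun r hr => ?_
  have hrK := Finset.mem_range.1 hr
  split_ifs with hs
  · rw [← card_filter_eq_digit _ _ _ _ (box_card_lt t w)]
    refine congrArg Finset.card (Finset.ext fun x => ?_)
    simp only [F, Finset.mem_filter, sum_e]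
    have hx := ta_lt x
    constructor
    · rintro ⟨⟨hb, h1, -⟩, h3⟩
      exact ⟨hb, by rw [h1, h3]⟩
    · rintro ⟨hb, h⟩
      obtain ⟨h1, h3⟩ := mul_add_inj hx hrK h
      exact ⟨⟨hb, h1, by rw [h3]; exact hs⟩, h3⟩
  · rw [Finset.card_eq_zero, Finset.filter_eq_empty_iff]
    intro x hx h3
    have := (Finset.mem_filter.1 hx).2.2
    rw [h3] at this
    exact hs this

/-! ### Identification with the lattice -/

theorem sg_cast (x : GolayPt → ℤ) : (sg x : ℤ) = sqNorm x := by
  unfold sg sqNorm
  push_cast
  refine Finset.sum_congr rfl fun i _ => ?_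
  rw [Int.toNat_of_nonneg (mul_self_nonneg _)]
  ring

theorem ta_mod (x : GolayPt → ℤ) : ((ta x : ℕ) : ℤ) % 8 = (∑ i, x i) % 8 := by
  unfold ta
  push_cast
  rw [Finset.sum_int_mod (Finset.univ) 8 (fun i => x i)]
  congr 1
  refine Finset.sum_congr rfl fun i _ => ?_
  rw [Int.toNat_of_nonneg (Int.emod_nonneg _ (by norm_num))]

theorem coord_bound (x : GolayPt → ℤ) (N : ℕ) (hN : N ≤ 64) (h : sg x = N) (i : GolayPt) :
    -8 ≤ x i ∧ x i ≤ 8 := by
  have h1 : (x i * x i).toNat ≤ sg x :=
    Finset.single_le_sum (f := fun i => (x i * x i).toNat) (fun _ _ => Nat.zero_le _)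
      (Finset.mem_univ i)
  have h2 : x i * x i ≤ 64 := by
    have := Int.toNat_of_nonneg (mul_self_nonneg (x i))
    rw [← this]
    omega
  constructor <;> nlinarith

theorem ofB_cases (t : Bool) : ofB t = 0 ∨ ofB t = 1 := by
  cases t <;> simp [ofB]

theorem F_spec {t : Bool} {w : GolayPt → ZMod 2} {N : ℕ} {x : GolayPt → ℤ} (hx : x ∈ F t w N) :
    wd x = w ∧ (∀ i, x i % 2 = ofB t) ∧ sg x = N ∧ (∑ i, x i) % 8 = 4 * ofB t := by
  obtain ⟨hb, hsg, hta⟩ := Finset.mem_filter.1 hx
  rw [Fintype.mem_piFinset] at hb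
  have hv : ∀ i, x i % 2 = ofB t ∧ (x i / 2) % 2 = ofB (decide (w i ≠ 0)) := by
    intro i
    have h := hb i
    have h' := V_mem_bounds _ _ _ h
    exact (V_mem_iff (x i) h'.1 h'.2 _ _).1 h
  refine ⟨?_, fun i => (hv i).1, hsg, ?_⟩
  · funext i
    have h2 := (hv i).2
    have hcast := zmod2_cast_ne_zero_iff (x i / 2)
    by_cases hi : w i ≠ 0
    · have : (x i / 2) % 2 = 1 := by simpa [ofB, hi] using h2
      have h3 := hcast.2 this
      have key : ∀ a b : ZMod 2, a ≠ 0 → b ≠ 0 → a = b := by decide
      exact key _ _ h3 hi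
    · have : (x i / 2) % 2 = 0 := by simpa [ofB, hi] using h2
      have h3 : ¬ (((x i / 2 : ℤ) : ZMod 2) ≠ 0) := by
        rw [hcast]; omega
      rw [not_not] at h3 hi
      show ((x i / 2 : ℤ) : ZMod 2) = w i
      rw [h3, hi]
  · rw [← ta_mod]
    have : ((ta x : ℕ) : ℤ) % 8 = ((ta x % 8 : ℕ) : ℤ) := by push_cast; rfl
    rw [this, hta]
    cases t <;> simp [sres, ofB]

theorem mem_F_of_lattice {N : ℕ} (hN : N ≤ 64) {x : GolayPt → ℤ} (hx : x ∈ leechLattice)
    (hn : sqNorm x = (N : ℤ)) : ∃ t, x ∈ F t (wd x) N := by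
  obtain ⟨m, hm, hp, hs, -⟩ := (mem_leechLattice_iff x).1 hx
  have hsg : sg x = N := by
    have := sg_cast x
    rw [hn] at this
    exact_mod_cast this
  have hbd := coord_bound x N hN hsg
  refine ⟨decide (m = 1), ?_⟩
  have hoft : ofB (decide (m = 1)) = m := by
    rcases hm with rfl | rfl <;> simp [ofB]
  refine Finset.mem_filter.2 ⟨Fintype.mem_piFinset.2 fun i => ?_, hsg, ?_⟩
  · refine (V_mem_iff (x i) (hbd i).1 (hbd i).2 _ _).2 ⟨by rw [hoft]; exact hp i, ?_⟩
    have hcast := zmod2_cast_ne_zero_iff (x i / 2)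
    by_cases h : ((x i / 2 : ℤ) : ZMod 2) ≠ 0
    · have h1 := hcast.1 h
      have : wd x i ≠ 0 := h
      simp [ofB, this, h1]
    · have h1 : ¬ (x i / 2) % 2 = 1 := fun h' => h (hcast.2 h')
      have : ¬ wd x i ≠ 0 := h
      simp only [ofB, this, decide_false]
      simp only [Bool.false_eq_true, if_false]
      omega
  · have h1 := ta_mod x
    rw [hs] at h1
    have h2 : ((ta x % 8 : ℕ) : ℤ) = 4 * m := by
      push_cast
      rw [h1]
    have hs4 : ((sres (decide (m = 1)) : ℕ) : ℤ) = 4 * m := by
      rcases hm with rfl | rfl <;> decide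
    rw [← hs4] at h2
    exact_mod_cast h2

theorem lattice_of_mem_F {t : Bool} {m N : ℕ} (hm : m ∈ codeMasks) {x : GolayPt → ℤ}
    (hx : x ∈ F t (maskWord m) N) : x ∈ leechLattice ∧ sqNorm x = (N : ℤ) := by
  obtain ⟨hw, hp, hsg, hs⟩ := F_spec hx
  constructor
  · rw [mem_leechLattice_iff]
    refine ⟨ofB t, ofB_cases t, hp, hs, ?_⟩
    rw [hw]
    exact mem_code_of_mem_codeMasks hm
  · rw [← sg_cast, hsg]

/-- The masks of the code, as a finite set. -/
def CM : Finset ℕ := codeMasks.toFinset

/-- The vectors of norm `N`, as a finite set. -/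
def XF (N : ℕ) : Finset (GolayPt → ℤ) :=
  CM.biUnion fun m => F false (maskWord m) N ∪ F true (maskWord m) N

theorem set_eq_XF {N : ℕ} (hN : N ≤ 64) :
    {x : GolayPt → ℤ | x ∈ leechLattice ∧ sqNorm x = (N : ℤ)} = (XF N : Set (GolayPt → ℤ)) := by
  ext x
  simp only [Set.mem_ofPred_eq, XF, Finset.coe_biUnion, Set.mem_iUnion, Finset.mem_coe,
    Finset.mem_union, exists_prop]
  constructor
  · rintro ⟨hx, hn⟩
    obtain ⟨t, ht⟩ := mem_F_of_lattice hN hx hn
    obtain ⟨-, -, -, -, hw⟩ := (mem_leechLattice_iff x).1 hx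
    obtain ⟨m, hm, hwm⟩ := mem_golayCode_iff.1 hw
    refine ⟨m, List.mem_toFinset.2 hm, ?_⟩
    rw [hwm] at ht
    cases t
    · exact Or.inl ht
    · exact Or.inr ht
  · rintro ⟨m, hm, h | h⟩
    · exact lattice_of_mem_F (List.mem_toFinset.1 hm) h
    · exact lattice_of_mem_F (List.mem_toFinset.1 hm) h

theorem card_support_maskWord (m : ℕ) : (support₂ (maskWord m)).card = pop m := by
  rw [support_maskWord, card_maskSupport]

theorem card_XF (N : ℕ) :
    (XF N).card = ∑ m ∈ CM, (cnt false (pop m) N + cnt true (pop m) N) := by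
  classical
  unfold XF
  rw [Finset.card_biUnion]
  · refine Finset.sum_congr rfl fun m _ => ?_
    rw [Finset.card_union_of_disjoint, card_F, card_F, card_support_maskWord]
    rw [Finset.disjoint_left]
    intro x h1 h2
    have h3 := (F_spec h1).2.1 none
    have h4 := (F_spec h2).2.1 none
    rw [h3] at h4
    simp [ofB] at h4
  · intro m hm m' hm' hne
    rw [Function.onFun, Finset.disjoint_left]
    intro x h1 h2
    rw [Finset.mem_union] at h1 h2
    have h3 : wd x = maskWord m := by
      rcases h1 with h | h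
      · exact (F_spec h).1
      · exact (F_spec h).1
    have h4 : wd x = maskWord m' := by
      rcases h2 with h | h
      · exact (F_spec h).1
      · exact (F_spec h).1
    have hlt := codeMasks_lt m (List.mem_toFinset.1 (Finset.mem_coe.1 hm))
    have hlt' := codeMasks_lt m' (List.mem_toFinset.1 (Finset.mem_coe.1 hm'))
    exact hne (maskWord_injOn hlt hlt' (h3.symm.trans h4))

/-- The possible weights. -/
def Ws : Finset ℕ := {0, 8, 12, 16, 24}

theorem pop_mem_Ws_aux : codeMasks.all (fun m => decide (pop m ∈ Ws)) = true := by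
  decide +kernel

theorem pop_mem_Ws : ∀ m ∈ CM, pop m ∈ Ws := by
  intro m hm
  have := List.all_eq_true.1 pop_mem_Ws_aux m (List.mem_toFinset.1 hm)
  simpa using this

theorem length_weightMasks_0 : (weightMasks 0).length = 1 := by
  decide +kernel

theorem length_weightMasks_24 : (weightMasks 24).length = 1 := by
  decide +kernel

theorem card_filter_CM (W : ℕ) : (CM.filter fun m => pop m = W).card = (weightMasks W).length := by
  have : CM.filter (fun m => pop m = W) = (weightMasks W).toFinset := by
    ext m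
    simp [CM, weightMasks]
  rw [this, List.toFinset_card_of_nodup (weightMasks_nodup W)]

/-- The count of the vectors of norm `N`, in terms of the counts for a fixed word. -/
def total (N : ℕ) : ℕ :=
  1 * (cnt false 0 N + cnt true 0 N) + 759 * (cnt false 8 N + cnt true 8 N) +
    2576 * (cnt false 12 N + cnt true 12 N) + 759 * (cnt false 16 N + cnt true 16 N) +
    1 * (cnt false 24 N + cnt true 24 N)

theorem card_XF_eq (N : ℕ) : (XF N).card = total N := by
  rw [card_XF, ← Finset.sum_fiberwise_of_maps_to pop_mem_Ws]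
  have h : ∀ W, ∑ m ∈ CM.filter (fun m => pop m = W), (cnt false (pop m) N + cnt true (pop m) N) =
      (weightMasks W).length * (cnt false W N + cnt true W N) := by
    intro W
    rw [Finset.sum_congr rfl (g := fun _ => cnt false W N + cnt true W N), Finset.sum_const,
      card_filter_CM, smul_eq_mul]
    intro m hm
    rw [(Finset.mem_filter.1 hm).2]
  simp_rw [h]
  unfold Ws
  rw [Finset.sum_insert (by decide), Finset.sum_insert (by decide), Finset.sum_insert (by decide),
    Finset.sum_insert (by decide), Finset.sum_singleton, length_weightMasks_0, length_weightMasks_8,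
    length_weightMasks_12, length_weightMasks_16, length_weightMasks_24, total]
  ring

/-- The number of lattice vectors of norm `N`, `N ≤ 64`. -/
theorem ncard_norm {N : ℕ} (hN : N ≤ 64) :
    {x : GolayPt → ℤ | x ∈ leechLattice ∧ sqNorm x = (N : ℤ)}.ncard = total N := by
  rw [set_eq_XF hN, Set.ncard_coe_finset, card_XF_eq]

theorem total_32 : total 32 = 196560 := by
  decide +kernel

theorem total_48 : total 48 = 16773120 := by
  decide +kernel

theorem total_64 : total 64 = 398034000 := by
  decide +kernel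

end Cfsg.Agent.Lib.Compute.LeechCount
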