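import Cfsg.Agent.Lib.Compute.BlockIso
import Cfsg.Agent.Lib.Compute.ToddCoxeterCore

/-!
# Matrix groups from an orbit of vectors

If matrices permute a family of vectors, words in the matrices can be evaluated on the labels of the vectors, the order
of the group generated is at least the order of the group of permutations, and a word fixing the labels of a spanning
family is the identity.
-/

set_option autoImplicit false

namespace Cfsg.Agent.Lib.Compute.LinOrbit

open Matrix Cfsg.Agent.Lib.Compute.BlockIso Cfsg.Agent.Lib.Compute.ToddCoxeterCore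

variable {ι : Type*} [Fintype ι] [DecidableEq ι] {R : Type*} [CommRing R]

/-- The action of the general linear group on vectors. -/
def glPerm : GL ι R →* Equiv.Perm (ι → R) where
  toFun g :=
    { toFun := fun v => Matrix.mulVec g.1 v
      invFun := fun v => Matrix.mulVec (g⁻¹).1 v
      left_inv := fun v => by
        show Matrix.mulVec (g⁻¹).1 (Matrix.mulVec g.1 v) = v
        rw [Matrix.mulVec_mulVec]
        have : (g⁻¹).1 * g.1 = 1 := congrArg Units.val (inv_mul_cancel g)
        rw [this, Matrix.one_mulVec]
      right_inv := fun v => by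
        show Matrix.mulVec g.1 (Matrix.mulVec (g⁻¹).1 v) = v
        rw [Matrix.mulVec_mulVec]
        have : g.1 * (g⁻¹).1 = 1 := congrArg Units.val (mul_inv_cancel g)
        rw [this, Matrix.one_mulVec] }
  map_one' := Equiv.ext fun v => by
    show Matrix.mulVec (1 : GL ι R).1 v = v
    exact Matrix.one_mulVec v
  map_mul' g h := Equiv.ext fun v => by
    show Matrix.mulVec (g * h).1 v = Matrix.mulVec g.1 (Matrix.mulVec h.1 v)
    rw [Matrix.mulVec_mulVec]
    rfl

theorem glPerm_apply (g : GL ι R) (v : ι → R) : glPerm g v = Matrix.mulVec g.1 v := rfl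

/-- The partial labelling of the vectors by an injective family. -/
noncomputable def labOf {Y : Type*} (rp : Y → ι → R) (v : ι → R) : Option Y :=
  open Classical in if h : ∃ y, rp y = v then some h.choose else none

theorem labOf_rep {Y : Type*} {rp : Y → ι → R} (hinj : Function.Injective rp) (y : Y) :
    labOf rp (rp y) = some y := by
  have h : ∃ z, rp z = rp y := ⟨y, rfl⟩
  unfold labOf
  rw [dif_pos h]
  exact congrArg some (hinj h.choose_spec)

theorem labOf_eq {Y : Type*} {rp : Y → ι → R} {v : ι → R} {y : Y} (h : labOf rp v = some y) : v = rp y := by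
  unfold labOf at h
  split_ifs at h with h1
  rw [← Option.some.inj h]
  exact h1.choose_spec.symm

/-- The order of a group of matrices permuting a family of vectors is at least the order of the group of
permutations. -/
theorem card_closure_ge [Finite (GL ι R)] {Y κ : Type*} {rp : Y → ι → R} (hinj : Function.Injective rp)
    (el : κ → GL ι R) (P : κ → Equiv.Perm Y)
    (hact : ∀ j y, Matrix.mulVec (el j).1 (rp y) = rp (P j y)) :
    Nat.card (Subgroup.closure (Set.range P)) ≤ Nat.card (Subgroup.closure (Set.range el)) := by
  have key : ∀ j i y, labOf rp i = some y → labOf rp (glPerm (el j) i) = some (P j y) := by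
    intro j i y hi
    rw [labOf_eq hi, glPerm_apply, hact, labOf_rep hinj]
  obtain ⟨ψ, hψ⟩ := range_of_label glPerm (labOf rp) (fun y => ⟨_, labOf_rep hinj y⟩)
    (Set.range el) (Set.range P)
    (by
      rintro _ ⟨j, rfl⟩
      exact ⟨P j, ⟨j, rfl⟩, fun i y hi => key j i y hi⟩)
    (by
      rintro _ ⟨j, rfl⟩
      exact ⟨el j, ⟨j, rfl⟩, fun i y hi => key j i y hi⟩)
  rw [← hψ]
  exact Nat.card_le_card_of_surjective _ ψ.rangeRestrict_surjective

/-- The end of a word on labels: the first letter acts first. -/
def wordPt (ev : ℕ → ℕ → ℕ) : List ℕ → ℕ → ℕ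
  | [], y => y
  | x :: u, y => wordPt ev u (ev x y)

/-- A word in matrices on the vector of a label. -/
theorem word_act {el : ℕ → GL ι R} {ev : ℕ → ℕ → ℕ} {rp : ℕ → ι → R} {m n : ℕ}
    (hlt : ∀ j, j < m → ∀ y, y < n → ev j y < n)
    (hact : ∀ j, j < m → ∀ y, y < n → Matrix.mulVec (el j).1 (rp y) = rp (ev j y))
    (u : List ℕ) (hu : ∀ x ∈ u, x < m) (y : ℕ) (hy : y < n) :
    Matrix.mulVec (wordEl el u).1 (rp y) = rp (wordPt ev u y) := by
  induction u generalizing y with
  | nil =>
    show Matrix.mulVec (1 : GL ι R).1 _ = _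
    exact Matrix.one_mulVec _
  | cons x u ih =>
    rw [wordEl_cons]
    show Matrix.mulVec ((wordEl el u).1 * (el x).1) _ = _
    rw [← Matrix.mulVec_mulVec, hact x (hu x (by simp)) y hy,
      ih (fun z hz => hu z (by simp [hz])) _ (hlt x (hu x (by simp)) y hy)]
    rfl

/-- A matrix fixing the columns of an invertible matrix is the identity. -/
theorem eq_one_of_fix {g B Bi : Matrix ι ι R} (hB : B * Bi = 1)
    (h : ∀ j, Matrix.mulVec g (fun i => B i j) = fun i => B i j) : g = 1 := by
  have h1 : g * B = B := by
    ext i j
    exact congrFun (h j) i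
  calc g = g * (B * Bi) := by rw [hB, mul_one]
    _ = (g * B) * Bi := by rw [mul_assoc]
    _ = B * Bi := by rw [h1]
    _ = 1 := hB

end Cfsg.Agent.Lib.Compute.LinOrbit
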