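import Cfsg.Agent.Lib.Compute.M24Table

/-!
# The base copy of `M11`: `fixIn KD [23]`

Its order, and the transport of a dodecad with a point on it and points off it to the base position.
-/

set_option autoImplicit false

namespace Cfsg.Agent.Lib.Compute.M24

open Cfsg Cfsg.Agent.Lib.Compute.Golay Cfsg.Agent.Lib.Compute.GolayFast
open scoped Pointwise
open Cfsg.Agent.Lib.Sporadic.M24Act (mem_stabilizer_M24)

theorem card_m11_base : Nat.card (fixIn KD [23]) = 7920 := by
  rw [chain_card_to ctxD _ fixKD_trivial [23] m11Levels m11Chain_ok]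
  decide +kernel

/-- The first level of the complementary chain, with the block of the dodecad. -/
def lvC4 : Level := ⟨4, (m11CompLevels.headD ⟨0, [], []⟩).T, [dm]⟩

theorem lvC4_ok : levelCheck memD [dm] [23] lvC4 = true := by decide +kernel

theorem card_m11_comp : Nat.card (fixIn KD [4, 23]) = 660 := by
  have h := level_card ctxD lvC4_ok
  rw [card_m11_base] at h
  have h2 : lvC4.T.length = 12 := by decide +kernel
  rw [h2] at h
  have h3 : lvC4.b = 4 := rfl
  rw [h3] at h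
  omega

theorem hallComp : AllTransOn KD (fun q => !dm.testBit q) [23] [4, 5, 10] := by
  have hall := allTransOn_of_check ctxD (fun q => !dm.testBit q) [23] m11CompLevels m11Comp_ok
  have hb : m11CompLevels.map Level.b = [4, 5, 10] := by decide +kernel
  rwa [hb] at hall

theorem ptIdx_not_mem_dm {y : GolayPt} (hy : y ∉ dd) : (fun q => !dm.testBit q) (ptIdx y) = true := by
  have hne : ¬ dm.testBit (ptIdx y) = true := fun h => hy ((mem_maskSupport_iff _ _).2 h)
  simpa using hne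

theorem ptIdx_ne_23 {y : GolayPt} (hy : y ∉ dd) : ptIdx y ≠ 23 := by
  intro h
  apply hy
  have h2 : y = idxPt 23 := by rw [← h, idxPt_ptIdx]
  rw [h2]
  decide +kernel

theorem m11_comp_step4 {y : GolayPt} (hy : y ∉ dd) : ∃ g ∈ fixIn KD [23], g (idxPt 4) = y := by
  have h := hallComp.1.2
  obtain ⟨g, hg, h2⟩ := h (ptIdx y) (ptIdx_lt y) (ptIdx_not_mem_dm hy) (by
    simp only [List.mem_singleton]
    exact ptIdx_ne_23 hy)
  exact ⟨g, hg, ptIdx_injective h2⟩

theorem m11_comp_step5 {y : GolayPt} (hy : y ∉ dd) (hy4 : y ≠ idxPt 4) : ∃ g ∈ fixIn KD [4, 23], g (idxPt 5) = y := by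
  have h := hallComp.2.1.2
  obtain ⟨g, hg, h2⟩ := h (ptIdx y) (ptIdx_lt y) (ptIdx_not_mem_dm hy) (by
    simp only [List.mem_cons, List.not_mem_nil, or_false, not_or]
    refine ⟨fun h => hy4 ?_, ptIdx_ne_23 hy⟩
    rw [← idxPt_ptIdx y, h])
  exact ⟨g, hg, ptIdx_injective h2⟩

theorem outside_of_inv {d : Finset GolayPt} {u : P} (hud : u • dd = d) {z : GolayPt} (hz : z ∉ d) : (u⁻¹ : P) z ∉ dd := by
  intro h
  apply hz
  rw [← hud, Finset.mem_smul_finset]
  exact ⟨_, h, by simp⟩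

/-- A dodecad, a point on it and a point off it can be moved to the base ones. -/
theorem exists_to_base1_1 {d : Finset GolayPt} (hd : d ∈ dodecads) {p q : GolayPt} (hp : p ∈ d) (hq : q ∉ d) :
    ∃ u ∈ Cfsg.M24, u • dd = d ∧ u (idxPt 23) = p ∧ u (idxPt 4) = q := by
  obtain ⟨u, hu, hud, hup⟩ := exists_to_base hd hp
  obtain ⟨g, hg, hgy⟩ := m11_comp_step4 (outside_of_inv hud hq)
  obtain ⟨hg1, hg2⟩ := mem_KD.1 hg.1
  refine ⟨u * g, Cfsg.M24.mul_mem hu hg1, ?_, ?_, ?_⟩
  · rw [mul_smul, hg2, hud]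
  · rw [Equiv.Perm.mul_apply, hg.2 23 (by simp), hup]
  · rw [Equiv.Perm.mul_apply, hgy]
    simp

/-- A dodecad, a point on it and two points off it can be moved to the base ones. -/
theorem exists_to_base1_2 {d : Finset GolayPt} (hd : d ∈ dodecads) {p q q' : GolayPt} (hp : p ∈ d) (hq : q ∉ d)
    (hq' : q' ∉ d) (hqq' : q ≠ q') :
    ∃ u ∈ Cfsg.M24, u • dd = d ∧ u (idxPt 23) = p ∧ u (idxPt 4) = q ∧ u (idxPt 5) = q' := by
  obtain ⟨u, hu, hud, hup, huq⟩ := exists_to_base1_1 hd hp hq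
  have hne : (u⁻¹ : P) q' ≠ idxPt 4 := by
    intro h
    apply hqq'
    rw [← huq, ← h]
    simp
  obtain ⟨g, hg, hgy⟩ := m11_comp_step5 (outside_of_inv hud hq') hne
  obtain ⟨hg1, hg2⟩ := mem_KD.1 hg.1
  refine ⟨u * g, Cfsg.M24.mul_mem hu hg1, ?_, ?_, ?_, ?_⟩
  · rw [mul_smul, hg2, hud]
  · rw [Equiv.Perm.mul_apply, hg.2 23 (by simp), hup]
  · rw [Equiv.Perm.mul_apply, hg.2 4 (by simp), huq]
  · rw [Equiv.Perm.mul_apply, hgy]
    simp

end Cfsg.Agent.Lib.Compute.M24
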