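import Cfsg.Agent.Lib.Compute.M24OutB
import Cfsg.Prelude.Def_Spor_Mathieu

/-!
# The group `M12`: membership by tables, triviality of the stabilizer of five points, chains
-/

set_option autoImplicit false

namespace Cfsg.Agent.Lib.Compute.M12Data

open Cfsg Cfsg.Agent.Lib.Compute.Golay Cfsg.Agent.Lib.Compute.GolayFast
open Cfsg.Agent.Lib.Compute.M24 Cfsg.Agent.Lib.Compute.M24Enum Cfsg.Agent.Lib.Compute.M24Norm
open Cfsg.Agent.Lib.Compute.OutCert Cfsg.Agent.Lib.Compute.M24Out
open scoped Pointwise

/-- The mask of the dodecad of squares. -/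
def dM : ℕ := 340831

theorem squareDodecad_eq : Spor.squareDodecad = maskSupport dM := by
  rw [Spor.squareDodecad, qrWord_eq, support_maskWord]
  rfl

theorem smul_maskSupport_iff (g : P) (m : ℕ) :
    g • maskSupport m = maskSupport m ↔ ∀ p, m.testBit (ptIdx (g p)) = m.testBit (ptIdx p) := by
  constructor
  · intro h p
    have h1 : g • p ∈ g • maskSupport m ↔ p ∈ maskSupport m := Finset.smul_mem_smul_finset_iff g
    rw [h] at h1
    rw [Bool.eq_iff_iff, ← mem_maskSupport_iff, ← mem_maskSupport_iff]
    exact h1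
  · intro h
    ext q
    rw [Finset.mem_smul_finset]
    constructor
    · rintro ⟨p, hp, rfl⟩
      rw [mem_maskSupport_iff] at hp ⊢
      show m.testBit (ptIdx (g p)) = true
      rw [h p, hp]
    · intro hq
      refine ⟨(g⁻¹ : P) q, ?_, by simp⟩
      rw [mem_maskSupport_iff] at hq ⊢
      have h1 := h ((g⁻¹ : P) q)
      have h2 : g ((g⁻¹ : P) q) = q := by simp
      rw [h2, hq] at h1
      exact h1.symm

theorem mem_M12_iff (g : P) :
    g ∈ Spor.M12 ↔ g ∈ M24 ∧ ∀ p, dM.testBit (ptIdx (g p)) = dM.testBit (ptIdx p) := by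
  simp only [Spor.M12, Subgroup.mem_inf, MulAction.mem_stabilizer_iff, squareDodecad_eq, smul_maskSupport_iff]

/-- Membership in `M12` for a table. -/
def inM12 (L : List ℕ) : Bool := inM24 L && imgMask L dM == dM

theorem mem_M12_of_inM12 {L : List ℕ} {σ : P} (h : inM12 L = true) (hσ : Codes L σ) : σ ∈ Spor.M12 := by
  simp only [inM12, Bool.and_eq_true, beq_iff_eq] at h
  rw [mem_M12_iff]
  refine ⟨mem_M24_of_inM24 hσ h.1, fun p => ?_⟩
  have hv : validL L = true := by
    have := h.1
    simp only [inM24, Bool.and_eq_true] at this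
    exact this.1
  have h1 := maskWord_comp_inv hσ hv dM
  rw [h.2] at h1
  have h2 := congrFun h1 (σ p)
  have h0 : (σ⁻¹ : P) (σ p) = p := by simp
  simp only [Function.comp, h0, maskWord] at h2
  cases h3 : dM.testBit (ptIdx p) <;> cases h4 : dM.testBit (ptIdx (σ p)) <;> simp_all

/-- The context for chains of `M12`. -/
theorem ctxM12 : Ctx Spor.M12 inM12 [dM] where
  le := fun _ hg => ((mem_M12_iff _).1 hg).1
  valid := fun L h => by
    simp only [inM12, inM24, Bool.and_eq_true] at h
    exact h.1.1
  mem := fun _ _ h hσ => mem_M12_of_inM12 h hσ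
  pres := by
    intro m hm g hg p
    rw [List.mem_singleton.1 hm]
    exact ((mem_M12_iff _).1 hg).2 p

/-- The table of the identity. -/
def idE : ℕ := 984818244535754528103549039458486304

/-- Positions for the search of the stabilizer of five points. -/
def fixPos : List (ℕ × ℕ) := [(0,1415829711165297020254355436222002724331143137312),(1,1415829711165297020254355436222002724331143137312),(2,1415829711165297020254355436222002724331143137312),(3,1415829711165297020254355436222002724331143137312),(4,1415829711165297020254355436222002724331143137312),(13,1415829711165297020254355436222002724331143137312),(16,1415829711165297020254355436222002724331143137312),(6,1415829711165297020254355436222002724331143137312),(8,1415829711165297020254355436222002724331143137312),(9,1415829711165297020254355436222002724331143137312),(7,1415829711165297020254355436222002724331143137312),(11,1415829711165297020254355436222002724331143137312),(5,1415829711165297020254355436222002724331143137312),(12,14158297111652970202543554362220027243311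43137312),(18,1415829711165297020254355436222002724331143137312),(19,1415829711165297020254355436222002724331143137312),(10,1415829711165297020254355436222002724331143137312),(14,1415829711165297020254355436222002724331143137312),(17,1415829711165297020254355436222002724331143137312),(20,1415829711165297020254355436222002724331143137312),(15,1415829711165297020254355436222002724331143137312),(21,1415829711165297020254355436222002724331143137312),(22,1415829711165297020254355436222002724331143137312),(23,1415829711165297020254355436222002724331143137312)]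

/-- Exponents for the search of the stabilizer of five points. -/
def fixKs : List ℕ := [0,0,0,0,0,0,0,0,0,0,0,0,0,0,0,0,0,0,0,0,0,0,0,0]

/-- Levels for the search of the stabilizer of five points. -/
def fixLv : List Lvl := [⟨0,1,[0],[]⟩,
  ⟨1,1,[1],[]⟩,
  ⟨2,1,[2],[]⟩,
  ⟨3,1,[3],[]⟩,
  ⟨4,1,[4],[]⟩,
  ⟨12,1,[6,8,9,12,13,16,18],[]⟩,
  ⟨7,1,[5,7,10,11,14,15,17,19,20,21,22,23],[]⟩,
  ⟨10,1,[5,7,10,11,14,15,17,19,20,21,22,23],[5279]⟩,
  ⟨8,1,[6,8,9,12,13,16,18],[]⟩,
  ⟨9,1,[6,8,9,12,13,16,18],[]⟩,
  ⟨16,1,[6,8,9,12,13,16,18],[]⟩,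
  ⟨11,1,[5,7,10,11,14,15,17,19,20,21,22,23],[69395]⟩,
  ⟨13,1,[6,8,9,12,13,16,18],[]⟩,
  ⟨5,1,[5,7,10,11,14,15,17,19,20,21,22,23],[10558]⟩,
  ⟨17,1,[5,7,10,11,14,15,17,19,20,21,22,23],[133817]⟩,
  ⟨20,1,[5,7,10,11,14,15,17,19,20,21,22,23],[1050548]⟩,
  ⟨6,1,[6,8,9,12,13,16,18],[]⟩,
  ⟨18,1,[6,8,9,12,13,16,18],[262637]⟩,
  ⟨14,1,[5,7,10,11,14,15,17,19,20,21,22,23],[18147]⟩,
  ⟨15,1,[5,7,10,11,14,15,17,19,20,21,22,23],[36294]⟩,
  ⟨19,1,[5,7,10,11,14,15,17,19,20,21,22,23],[525274]⟩,
  ⟨21,1,[5,7,10,11,14,15,17,19,20,21,22,23],[2101096]⟩,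
  ⟨22,1,[5,7,10,11,14,15,17,19,20,21,22,23],[4196943]⟩,
  ⟨23,1,[5,7,10,11,14,15,17,19,20,21,22,23],[8391797]⟩]

theorem fix_cert : certOK idE idE fixPos fixKs fixLv [1,2,4,8,16,340831] = true := by decide +kernel

theorem fix_search : search fixPos [idL] fixLv [] = true := by decide +kernel

/-- An element of `M12` fixing the first five points of the dodecad is trivial. -/
theorem fix5_trivial (g : P) (hg : g ∈ fixIn Spor.M12 [4, 3, 2, 1, 0]) : g = 1 := by
  have h1 := (mem_M12_iff g).1 hg.1
  have hfix : ∀ i ∈ [4, 3, 2, 1, 0], g (idxPt i) = idxPt i := hg.2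
  have h2 : toL g ∈ [idL] := by
    refine enum_toL (e' := 1) (E' := 1) fix_cert fix_search (by rw [toL_one]; decide +kernel)
      (by rw [toL_one]; decide +kernel) h1.1 (by simp) ?_
    intro m hm p
    simp only [List.mem_cons, List.not_mem_nil, or_false] at hm
    rcases hm with rfl | rfl | rfl | rfl | rfl | rfl
    · exact testBit_of_fix (b := 0) (by norm_num) (hfix 0 (by simp)) p
    · exact testBit_of_fix (b := 1) (by norm_num) (hfix 1 (by simp)) p
    · exact testBit_of_fix (b := 2) (by norm_num) (hfix 2 (by simp)) p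
    · exact testBit_of_fix (b := 3) (by norm_num) (hfix 3 (by simp)) p
    · exact testBit_of_fix (b := 4) (by norm_num) (hfix 4 (by simp)) p
    · exact h1.2 p
  apply eq_of_toL
  rw [List.mem_singleton.1 h2, toL_one]

/-- The check of the first levels of a chain. -/
def prefixCheck (memK : List ℕ → Bool) (E : List ℕ) : List ℕ → List Level → Bool
  | _, [] => true
  | F, lv :: lvs => levelCheck memK E F lv && prefixCheck memK E (lv.b :: F) lvs

/-- The points fixed at the end of the first levels of a chain. -/
def endF : List ℕ → List Level → List ℕ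
  | F, [] => F
  | F, lv :: lvs => endF (lv.b :: F) lvs

/-- Generation from the first levels of a chain when the last stabilizer is trivial. -/
theorem chain_gen_term {K : Subgroup P} {memK : List ℕ → Bool} {E : List ℕ} (ctx : Ctx K memK E) (F : List ℕ)
    (lvs : List Level) (h : prefixCheck memK E F lvs = true) (hterm : ∀ g ∈ fixIn K (endF F lvs), g = 1) :
    ∀ g ∈ fixIn K F, g ∈ Subgroup.closure (chainGens lvs) := by
  induction lvs generalizing F with
  | nil =>
    intro g hg
    rw [hterm g hg]
    exact Subgroup.one_mem _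
  | cons lv lvs ih =>
    simp only [prefixCheck, Bool.and_eq_true] at h
    intro g hg
    have hb24 : lv.b < 24 := by
      have := h.1
      simp only [levelCheck, Bool.and_eq_true, Nat.blt_eq] at this
      exact this.1.1.1.1.2
    obtain ⟨L, hL, hLb⟩ := List.mem_map.1 (level_sub ctx h.1 g hg)
    obtain ⟨hv, t, ht, hc⟩ := level_sup ctx h.1 hL
    have ht2 : t (idxPt lv.b) = g (idxPt lv.b) := by
      rw [hc (idxPt lv.b), ptIdx_idxPt hb24, hLb, idxPt_ptIdx]
    have hmem : t⁻¹ * g ∈ fixIn K (lv.b :: F) := by
      refine ⟨K.mul_mem (K.inv_mem ht.1) hg.1, fun i hi => ?_⟩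
      rcases List.mem_cons.1 hi with rfl | hi
      · rw [Equiv.Perm.mul_apply, ← ht2]
        simp
      · have h1 := hg.2 i hi
        have h2 := ht.2 i hi
        rw [Equiv.Perm.mul_apply, h1, Equiv.Perm.inv_eq_iff_eq, h2]
    have h1 := ih _ h.2 hterm _ hmem
    have h2 : t ∈ Subgroup.closure (chainGens (lv :: lvs)) :=
      Subgroup.subset_closure ⟨lv, List.mem_cons_self, L, hL, hc⟩
    have h3 : t⁻¹ * g ∈ Subgroup.closure (chainGens (lv :: lvs)) := by
      refine Subgroup.closure_mono ?_ h1
      rintro σ ⟨lv', hlv', L', hL', hc'⟩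
      exact ⟨lv', List.mem_cons_of_mem _ hlv', L', hL', hc'⟩
    have := Subgroup.mul_mem _ h2 h3
    simpa using this

end Cfsg.Agent.Lib.Compute.M12Data
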