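import Cfsg.Agent.Lib.Compute.SchurMain
import Cfsg.Agent.Lib.Compute.M24Out
import Cfsg.Agent.Lib.Compute.M12Simple
import Cfsg.Agent.Lib.Sporadic.Stem

/-!
# Tables of letters for subgroups of the symmetric group on the 24 points
-/

set_option autoImplicit false

namespace Cfsg.Agent.Lib.Compute.SchurLin

open Cfsg
open Cfsg.Agent.Lib.Compute.ToddCoxeterCore (frc frc_eq wordEl wordEl_nil wordEl_cons wordEl_append)
open Cfsg.Agent.Lib.Compute.Golay Cfsg.Agent.Lib.Compute.GolayFast
open Cfsg.Agent.Lib.Compute.M24 Cfsg.Agent.Lib.Compute.M24Enum Cfsg.Agent.Lib.Compute.M24Out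

/-- The value of a word in tables of letters. -/
def evalR (lT : List (List ℕ)) : List ℕ → List ℕ
  | [] => idL
  | x :: u => mulL (evalR lT u) (lT.getD x idL)

/-- A packed table. -/
def tbl (T bits L mask i x : ℕ) : ℕ :=
  Nat.land (Nat.shiftRight T (Nat.mul bits (Nat.add (Nat.mul i L) x))) mask

section
variable (H : Subgroup P) (lT : List (List ℕ))

/-- The generators of a subgroup from the tables of letters. -/
noncomputable def gOf (j : ℕ) : H :=
  open Classical in if h : ofL (lT.getD (2 * j) idL) ∈ H then ⟨_, h⟩ else 1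

variable {H lT} {n : ℕ}

theorem coe_gOf (hmem : ∀ j < n, ofL (lT.getD (2 * j) idL) ∈ H) {j : ℕ} (hj : j < n) :
    ((gOf H lT j : H) : P) = ofL (lT.getD (2 * j) idL) := by
  unfold gOf
  rw [dif_pos (hmem j hj)]

theorem toL_ltr (hmem : ∀ j < n, ofL (lT.getD (2 * j) idL) ∈ H)
    (hval : ∀ x < 2 * n, validL (lT.getD x idL) = true)
    (hinv : ∀ j < n, mulL (lT.getD (2 * j) idL) (lT.getD (2 * j + 1) idL) = idL) {x : ℕ}
    (hx : x < 2 * n) : toL ((ltr (gOf H lT) x : H) : P) = lT.getD x idL := by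
  have hj : x / 2 < n := by omega
  unfold ltr
  by_cases h : x % 2 = 0
  · rw [if_pos h, coe_gOf hmem hj]
    have h2 : 2 * (x / 2) = x := by omega
    rw [h2, toL_ofL (hval x hx)]
  · rw [if_neg h, Subgroup.coe_inv, coe_gOf hmem hj]
    have h2 : 2 * (x / 2) + 1 = x := by omega
    have h3 := hinv _ hj
    rw [h2] at h3
    have hx0 : 2 * (x / 2) < 2 * n := by omega
    have h4 : ofL (lT.getD (2 * (x / 2)) idL) * ofL (lT.getD x idL) = 1 := by
      apply eq_of_toL
      rw [toL_mul, toL_ofL (hval _ hx0), toL_ofL (hval x hx), h3, toL_one]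
    rw [inv_eq_of_mul_eq_one_right h4, toL_ofL (hval x hx)]

theorem toL_wordEl (hmem : ∀ j < n, ofL (lT.getD (2 * j) idL) ∈ H)
    (hval : ∀ x < 2 * n, validL (lT.getD x idL) = true)
    (hinv : ∀ j < n, mulL (lT.getD (2 * j) idL) (lT.getD (2 * j + 1) idL) = idL) {w : List ℕ}
    (hw : ∀ x ∈ w, x < 2 * n) :
    toL ((wordEl (ltr (gOf H lT)) w : H) : P) = evalR lT w := by
  induction w with
  | nil => exact toL_one
  | cons x u ih =>
    rw [wordEl_cons, Subgroup.coe_mul, toL_mul, ih (fun y hy => hw y (by simp [hy])),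
      toL_ltr hmem hval hinv (hw x (by simp)), evalR]

theorem wordEl_eq_one (hmem : ∀ j < n, ofL (lT.getD (2 * j) idL) ∈ H)
    (hval : ∀ x < 2 * n, validL (lT.getD x idL) = true)
    (hinv : ∀ j < n, mulL (lT.getD (2 * j) idL) (lT.getD (2 * j + 1) idL) = idL) {w : List ℕ}
    (hw : ∀ x ∈ w, x < 2 * n) (h : evalR lT w = idL) : wordEl (ltr (gOf H lT)) w = 1 := by
  apply Subtype.ext
  apply eq_of_toL
  rw [toL_wordEl hmem hval hinv hw, h]
  exact toL_one.symm

theorem wordEl_mem_closure {K : Type*} [Group K] (g : ℕ → K) {w : List ℕ}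
    (hw : ∀ x ∈ w, x < 2 * n) : wordEl (ltr g) w ∈ Subgroup.closure (g '' Set.Iio n) := by
  induction w with
  | nil => exact one_mem _
  | cons x u ih =>
    rw [wordEl_cons]
    refine mul_mem (ih (fun y hy => hw y (by simp [hy]))) ?_
    have hx := hw x (by simp)
    have hj : g (x / 2) ∈ Subgroup.closure (g '' Set.Iio n) :=
      Subgroup.subset_closure ⟨x / 2, by show x / 2 < n; omega, rfl⟩
    unfold ltr
    split_ifs
    · exact hj
    · exact inv_mem hj

/-- The generators generate, if they give words for generators of the subgroup. -/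
theorem closure_of_words (hmem : ∀ j < n, ofL (lT.getD (2 * j) idL) ∈ H)
    (hval : ∀ x < 2 * n, validL (lT.getD x idL) = true)
    (hinv : ∀ j < n, mulL (lT.getD (2 * j) idL) (lT.getD (2 * j + 1) idL) = idL)
    {T : List (List ℕ)} (hT : H ≤ Subgroup.closure (setOf T)) {W : List (List ℕ)}
    (hW : ∀ L ∈ T, ∃ w ∈ W, (∀ x ∈ w, x < 2 * n) ∧ evalR lT w = L)
    (hTv : ∀ L ∈ T, validL L = true) (h : H) :
    h ∈ Subgroup.closure (gOf H lT '' Set.Iio n) := by
  set C := Subgroup.closure (gOf H lT '' Set.Iio n) with hC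
  have h1 : Subgroup.closure (setOf T) ≤ C.map H.subtype := by
    rw [Subgroup.closure_le]
    rintro σ ⟨L, hL, rfl⟩
    obtain ⟨w, _, hw, hev⟩ := hW L hL
    refine ⟨wordEl (ltr (gOf H lT)) w, wordEl_mem_closure _ hw, ?_⟩
    apply eq_of_toL
    show toL ((wordEl (ltr (gOf H lT)) w : H) : P) = _
    rw [toL_wordEl hmem hval hinv hw, hev, toL_ofL (hTv L hL)]
  obtain ⟨c, hc, hce⟩ := h1 (hT h.2)
  have : c = h := Subtype.ext hce
  rwa [this] at hc

end

/-! ### Cosets -/

section Cosets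

variable {G : Type*} [Group G]

/-- The table on the cosets of a subgroup, from explicit membership conditions. -/
theorem tab_of_cosets (L : Subgroup G) {g : ℕ → G} {n N : ℕ} {t : ℕ → ℕ → ℕ} {par lt : ℕ → ℕ}
    (hN : 0 < N) (hlt : ∀ i < N, ∀ x < 2 * n, t i x < N)
    (hflp : ∀ i < N, ∀ x < 2 * n, t (t i x) (flp x) = i)
    (hpar : ∀ i < N, i ≠ 0 → par i < i ∧ lt i < 2 * n ∧ t (par i) (lt i) = i)
    (hS : ∀ i < N, ∀ x < 2 * n,
      (repOf g par lt (t i x))⁻¹ * (ltr g x * repOf g par lt i) ∈ L)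
    (hnot : ∀ i < N, i ≠ 0 → repOf g par lt i ∉ L) :
    Tab g (fun i => ((repOf g par lt i : G) : G ⧸ L)) n N t par lt where
  hN := hN
  hlt := hlt
  hact := fun i hi x hx => by
    show ltr g x • ((repOf g par lt i : G) : G ⧸ L) = _
    rw [MulAction.Quotient.smul_coe, QuotientGroup.eq]
    have h1 := inv_mem (hS i hi x hx)
    simpa using h1
  hflp := hflp
  hinj := fun i hi h => by
    by_contra h0
    apply hnot i hi h0
    have h1 : ((repOf g par lt i : G) : G ⧸ L) = ((1 : G) : G ⧸ L) := by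
      rw [h, repOf_zero]
    rw [QuotientGroup.eq] at h1
    simpa using inv_mem h1
  hpar := hpar

end Cosets

/-- A table from the action of the generators only. -/
theorem tab_of_even {G Ω : Type*} [Group G] [MulAction G Ω] {g : ℕ → G} {ω : ℕ → Ω} {n N : ℕ}
    {t : ℕ → ℕ → ℕ} {par lt : ℕ → ℕ} (hN : 0 < N) (hlt : ∀ i < N, ∀ x < 2 * n, t i x < N)
    (hflp : ∀ i < N, ∀ x < 2 * n, t (t i x) (flp x) = i)
    (hinj : ∀ i < N, ω i = ω 0 → i = 0)
    (hpar : ∀ i < N, i ≠ 0 → par i < i ∧ lt i < 2 * n ∧ t (par i) (lt i) = i)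
    (hev : ∀ i < N, ∀ j < n, g j • ω i = ω (t i (2 * j))) : Tab g ω n N t par lt where
  hN := hN
  hlt := hlt
  hact := fun i hi x hx => by
    have hj : x / 2 < n := by omega
    by_cases h0 : x % 2 = 0
    · have h2 : 2 * (x / 2) = x := by omega
      have h3 := hev i hi _ hj
      rw [h2] at h3
      simpa [ltr, h0] using h3
    · have h2 : flp x = 2 * (x / 2) := by
        unfold flp
        rw [if_neg h0]
        omega
      have hti := hlt i hi x hx
      have h3 := hev _ hti _ hj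
      rw [← h2, hflp i hi x hx] at h3
      simp only [ltr, if_neg h0]
      rw [← h3, inv_smul_smul]
  hflp := hflp
  hinj := hinj
  hpar := hpar

section Act

open scoped Pointwise

variable {H : Subgroup P} {lT : List (List ℕ)} {n N : ℕ} {t : ℕ → ℕ → ℕ} {par lt : ℕ → ℕ}

/-- The table of an action on masks. -/
theorem tab_of_masks (hmem : ∀ j < n, ofL (lT.getD (2 * j) idL) ∈ H)
    (hval : ∀ x < 2 * n, validL (lT.getD x idL) = true)
    {m : ℕ → ℕ} (hN : 0 < N) (hlt : ∀ i < N, ∀ x < 2 * n, t i x < N)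
    (hflp : ∀ i < N, ∀ x < 2 * n, t (t i x) (flp x) = i)
    (hpar : ∀ i < N, i ≠ 0 → par i < i ∧ lt i < 2 * n ∧ t (par i) (lt i) = i)
    (hm : ∀ i < N, m i < 2 ^ 24) (hinj : ∀ i < N, m i = m 0 → i = 0)
    (hev : ∀ i < N, ∀ j < n, imgMask (lT.getD (2 * j) idL) (m i) = m (t i (2 * j))) :
    Tab (gOf H lT) (fun i => maskSupport (m i)) n N t par lt := by
  refine tab_of_even hN hlt hflp ?_ hpar ?_
  · intro i hi h
    exact hinj i hi (maskSupport_injOn (hm i hi) (hm 0 hN) h)
  · intro i hi j hj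
    have hx : 2 * j < 2 * n := by omega
    show ((gOf H lT j : H) : P) • maskSupport (m i) = _
    rw [coe_gOf hmem hj, Cfsg.Agent.Lib.Compute.M24.smul_maskSupport (codes_ofL (hval _ hx)) (hval _ hx),
      hev i hi j hj]

/-- The table of an action on points. -/
theorem tab_of_points (hmem : ∀ j < n, ofL (lT.getD (2 * j) idL) ∈ H)
    (hval : ∀ x < 2 * n, validL (lT.getD x idL) = true)
    {pl : ℕ → ℕ} (hN : 0 < N) (hlt : ∀ i < N, ∀ x < 2 * n, t i x < N)
    (hflp : ∀ i < N, ∀ x < 2 * n, t (t i x) (flp x) = i)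
    (hpar : ∀ i < N, i ≠ 0 → par i < i ∧ lt i < 2 * n ∧ t (par i) (lt i) = i)
    (hm : ∀ i < N, pl i < 24) (hinj : ∀ i < N, pl i = pl 0 → i = 0)
    (hev : ∀ i < N, ∀ j < n, (lT.getD (2 * j) idL).getD (pl i) 0 = pl (t i (2 * j))) :
    Tab (gOf H lT) (fun i => idxPt (pl i)) n N t par lt := by
  refine tab_of_even hN hlt hflp ?_ hpar ?_
  · intro i hi h
    apply hinj i hi
    have h2 := congrArg ptIdx h
    rwa [ptIdx_idxPt (hm i hi), ptIdx_idxPt (hm 0 hN)] at h2
  · intro i hi j hj
    have hx : 2 * j < 2 * n := by omega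
    show ((gOf H lT j : H) : P) (idxPt (pl i)) = _
    rw [coe_gOf hmem hj, ofL_apply (hval _ hx) (hm i hi), hev i hi j hj]

end Act

/-! ### Finishing -/

section Stem

variable {Γ G : Type} [Group Γ] [Group G]

/-- In a stem extension of a perfect group, the middle group is perfect. -/
theorem commutator_top_of_stem {σ : Γ →* G} (hstem : IsStemExtension σ) (hG : commutator G = ⊤) :
    commutator Γ = ⊤ := by
  obtain ⟨hs, _, hcomm⟩ := hstem
  rw [eq_top_iff]
  intro a _
  have h1 : σ a ∈ (commutator Γ).map σ := by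
    rw [commutator_def, Subgroup.map_commutator, Subgroup.map_top_of_surjective σ hs, ← commutator_def,
      hG]
    trivial
  obtain ⟨d, hd, hda⟩ := h1
  have h2 : d⁻¹ * a ∈ σ.ker := by
    rw [MonoidHom.mem_ker, map_mul, map_inv, hda, inv_mul_cancel]
  have h3 := mul_mem hd (hcomm h2)
  simpa using h3

/-- If all elements of a finite abelian group are squares, its order is odd. -/
theorem not_two_dvd_of_squares {B : Type*} [CommGroup B] [Finite B] (h : ∀ a : B, ∃ b : B, b ^ 2 = a) :
    ¬ 2 ∣ Nat.card B := by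
  intro hd
  obtain ⟨x, hx⟩ := exists_prime_orderOf_dvd_card' (G := B) 2 hd
  have hsurj : Function.Surjective (fun b : B => b ^ 2) := fun a => h a
  have hinj := Finite.injective_iff_surjective.2 hsurj
  have h1 : x ^ 2 = 1 ^ 2 := by
    rw [one_pow, ← hx]
    exact pow_orderOf_eq_one x
  have h2 : x = 1 := hinj h1
  rw [h2, orderOf_one] at hx
  omega

/-- The kernel of a stem extension of a finite group has exponent dividing the order of the group. -/
theorem pow_card_ker [Finite Γ] {σ : Γ →* G} (hstem : IsStemExtension σ) (a : σ.ker) :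
    a ^ Nat.card G = 1 := by
  obtain ⟨hs, hc, hcomm⟩ := hstem
  have h1 := Cfsg.Agent.Lib.Sporadic.Stem.pow_index_eq_one σ.ker
    (fun p hp q _ => (Subgroup.mem_center_iff.mp (hc hp) q).symm) (hc a.2) (hcomm a.2)
  have h2 : σ.ker.index = Nat.card G := by
    rw [Subgroup.index_ker, MonoidHom.range_eq_top.mpr hs]
    simp
  rw [h2] at h1
  exact Subtype.ext h1

end Stem

/-- Perfectness transported along an isomorphism. -/
theorem commutator_top_of_equiv {A B : Type*} [Group A] [Group B] (e : A ≃* B) (h : commutator B = ⊤) :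
    commutator A = ⊤ := by
  have h1 := Subgroup.map_commutator (⊤ : Subgroup B) ⊤ e.symm.toMonoidHom
  rw [Subgroup.map_top_of_surjective _ e.symm.surjective] at h1
  rw [commutator_def, ← h1, ← commutator_def, h, Subgroup.map_top_of_surjective _ e.symm.surjective]

/-- A Sylow subgroup of a group whose order is not divisible by the square of the prime is cyclic. -/
theorem sylow_cyclic_of_not_sq {G : Type*} [Group G] [Finite G] {p : ℕ} [hp : Fact p.Prime]
    (h : ¬ p ^ 2 ∣ Nat.card G) (Q : Sylow p G) : IsCyclic Q := by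
  obtain ⟨k, hk⟩ := (IsPGroup.iff_card).1 Q.isPGroup'
  have h1 : p ^ k ∣ Nat.card G := by
    rw [← hk]
    exact Subgroup.card_subgroup_dvd_card _
  have hk2 : k < 2 := by
    by_contra h2
    exact h ((pow_dvd_pow p (by omega)).trans h1)
  interval_cases k
  · have : Nat.card Q = 1 := by simpa using hk
    have hsub : Subsingleton Q := (Nat.card_eq_one_iff_unique.1 this).1
    exact isCyclic_of_subsingleton
  · exact isCyclic_of_prime_card (p := p) (by simpa using hk)

/-! ### Subgroups from lists -/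

theorem card_of_list {K : Subgroup P} {LL : List (List ℕ)} (hK : ∀ p : P, p ∈ K ↔ toL p ∈ LL)
    (hval : ∀ l ∈ LL, validL l = true) (hnd : LL.Nodup) : Nat.card K = LL.length := by
  classical
  have e : K ≃ {l // l ∈ LL} :=
    { toFun := fun p => ⟨toL p.1, (hK p.1).1 p.2⟩
      invFun := fun l => ⟨ofL l.1, (hK _).2 (by rw [toL_ofL (hval _ l.2)]; exact l.2)⟩
      left_inv := fun p => Subtype.ext (eq_of_toL (toL_ofL (validL_toL p.1)))
      right_inv := fun l => Subtype.ext (toL_ofL (hval _ l.2)) }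
  rw [Nat.card_congr e, Nat.card_eq_fintype_card,
    Fintype.card_of_subtype LL.toFinset (by simp), List.toFinset_card_of_nodup hnd]

/-- The subgroup of the elements with table in a list. -/
def subOfList (LL : List (List ℕ)) (hone : idL ∈ LL) (hmul : ∀ a ∈ LL, ∀ b ∈ LL, mulL a b ∈ LL)
    (e : ℕ) (hpow : ∀ a ∈ LL, M24Enum.powL a (e + 1) = idL ∧ M24Enum.powL a e ∈ LL) : Subgroup P where
  carrier := {p | toL p ∈ LL}
  mul_mem' := fun {a b} ha hb => by
    show toL ((a * b : P) : GolayPt → GolayPt) ∈ LL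
    rw [toL_mul]
    exact hmul _ ha _ hb
  one_mem' := by
    show toL ((1 : P) : GolayPt → GolayPt) ∈ LL
    rw [toL_one]
    exact hone
  inv_mem' := fun {a} ha => by
    show toL ((a⁻¹ : P) : GolayPt → GolayPt) ∈ LL
    have h1 := hpow _ ha
    have h2 : a ^ (e + 1) = 1 := by
      apply eq_of_toL
      rw [M24Enum.toL_pow, h1.1, toL_one]
    have h3 : a⁻¹ = a ^ e := by
      rw [inv_eq_iff_mul_eq_one, ← pow_succ']
      exact h2
    rw [h3, M24Enum.toL_pow]
    exact h1.2

/-! ### Words and tables for a subgroup -/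

/-- The conditions on the relators. -/
structure WordData (lT W : List (List ℕ)) (n : ℕ) : Prop where
  hletW : ∀ w ∈ W, ∀ x ∈ w, x < 2 * n
  hrel : ∀ w ∈ W, evalR lT w = idL
  hex : ∀ k < n, W.getD k [] = (W.getD k []).dropLast ++ [2 * k + 1]
  hexp : ∀ k < n, ∀ j < n, expV ((W.getD k []).dropLast) j = 0

theorem getD_mem_or {W : List (List ℕ)} (k : ℕ) : W.getD k [] ∈ W ∨ W.getD k [] = [] := by
  by_cases h : k < W.length
  · left
    rw [List.getD_eq_getElem _ _ h]
    exact List.getElem_mem h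
  · right
    rw [List.getD_eq_default _ _ (by omega)]

theorem WordData.hlet' {lT W : List (List ℕ)} {n : ℕ} (d : WordData lT W n) (k : ℕ) :
    ∀ x ∈ W.getD k [], x < 2 * n := by
  intro x hx
  rcases getD_mem_or (W := W) k with h | h
  · exact d.hletW _ h x hx
  · rw [h] at hx
    simp at hx

section
variable {H : Subgroup P} {lT W : List (List ℕ)} {n : ℕ}

theorem WordData.relG (d : WordData lT W n) (hmem : ∀ j < n, ofL (lT.getD (2 * j) idL) ∈ H)
    (hval : ∀ x < 2 * n, validL (lT.getD x idL) = true)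
    (hinv : ∀ j < n, mulL (lT.getD (2 * j) idL) (lT.getD (2 * j + 1) idL) = idL) (k : ℕ) :
    wordEl (ltr (gOf H lT)) (W.getD k []) = 1 := by
  rcases getD_mem_or (W := W) k with h | h
  · exact wordEl_eq_one hmem hval hinv (d.hletW _ h) (d.hrel _ h)
  · rw [h]
    rfl

/-- The group is perfect. -/
theorem WordData.perfect (d : WordData lT W n) (hmem : ∀ j < n, ofL (lT.getD (2 * j) idL) ∈ H)
    (hval : ∀ x < 2 * n, validL (lT.getD x idL) = true)
    (hinv : ∀ j < n, mulL (lT.getD (2 * j) idL) (lT.getD (2 * j + 1) idL) = idL)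
    (hgen : ∀ h : H, h ∈ Subgroup.closure (gOf H lT '' Set.Iio n)) : commutator H = ⊤ := by
  refine commutator_eq_top_of_words (C := fun j => (W.getD j []).dropLast) hgen ?_ ?_ d.hexp
  · intro j hj
    have h1 := d.relG hmem hval hinv j
    rw [d.hex j hj, wordEl_append] at h1
    have h2 : ltr (gOf H lT) (2 * j + 1) = (gOf H lT j)⁻¹ := by
      have h4 : (2 * j + 1) / 2 = j := by omega
      simp [ltr, h4]
    rw [wordEl_cons, wordEl_nil, one_mul, h2] at h1
    exact (inv_mul_eq_one.1 h1).symm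
  · intro j _ x hx
    exact d.hlet' j x (List.mem_of_mem_dropLast hx)

variable {Γ : Type} [Group Γ] {σ : Γ →* H} {Ω : Type*} [MulAction H Ω] {ω : ℕ → Ω} {N : ℕ}
  {t : ℕ → ℕ → ℕ} {par lt : ℕ → ℕ}

/-- The labels for a subgroup. -/
theorem exists_cocy_perm (hstem : IsStemExtension σ) (d : WordData lT W n)
    (hmem : ∀ j < n, ofL (lT.getD (2 * j) idL) ∈ H)
    (hval : ∀ x < 2 * n, validL (lT.getD x idL) = true)
    (hinv : ∀ j < n, mulL (lT.getD (2 * j) idL) (lT.getD (2 * j + 1) idL) = idL)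
    (tab : Tab (gOf H lT) ω n N t par lt)
    (hgen : ∀ h : H, h ∈ Subgroup.closure (gOf H lT '' Set.Iio n))
    (s : MulAction.stabilizer H (ω 0) →* Γ) (hs : ∀ l, σ (s l) = l) :
    ∃ (z : ℕ → ℕ → σ.ker) (rr : ℕ → σ.ker), Cocy t par lt n N W n z rr :=
  exists_cocy hstem tab hgen d.hlet' (d.relG hmem hval hinv)
    (fun k hk => ⟨_, d.hex k hk⟩) d.hexp s hs

end

end Cfsg.Agent.Lib.Compute.SchurLin
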