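import Cfsg.Agent.Lib.Compute.SchurM11Data

/-!
# The Schur multiplier of `M11`
-/

set_option autoImplicit false

namespace Cfsg.Agent.Lib.Compute.SchurM11

open Cfsg Cfsg.Agent.Lib.Compute.SchurLin Cfsg.Agent.Lib.Compute.SchurM11Data
open Cfsg.Agent.Lib.Compute.ToddCoxeterCore (wordEl wordEl_nil wordEl_cons wordEl_append)
open Cfsg.Agent.Lib.Compute.Golay Cfsg.Agent.Lib.Compute.GolayFast
open Cfsg.Agent.Lib.Compute.M24 Cfsg.Agent.Lib.Compute.M24Enum Cfsg.Agent.Lib.Compute.M24Norm
open Cfsg.Agent.Lib.Compute.OutCert Cfsg.Agent.Lib.Compute.M24Out Cfsg.Agent.Lib.Compute.M12Data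

theorem hval_placeholder : True := trivial
theorem hval : ∀ x < 2 * 2, validL (lT.getD x idL) = true := by decide +kernel
theorem hinv : ∀ j < 2, mulL (lT.getD (2 * j) idL) (lT.getD (2 * j + 1) idL) = idL := by decide +kernel

theorem mem_of {L : List ℕ} (hv : validL L = true) (h : inM12 L = true) (h0 : L.getD 0 0 = 0) :
    ofL L ∈ Spor.M11 := by
  rw [Cfsg.Agent.S2060.mem_M11_iff]
  refine ⟨mem_M12_of_inM12 h (codes_ofL hv), ?_⟩
  rw [ofL_apply hv (by norm_num), h0]

theorem hmem : ∀ j < 2, ofL (lT.getD (2 * j) idL) ∈ Spor.M11 := by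
  intro j hj
  have h1 : ∀ j < 2, inM12 (lT.getD (2 * j) idL) = true ∧ (lT.getD (2 * j) idL).getD 0 0 = 0 := by
    decide +kernel
  exact mem_of (hval _ (by omega)) (h1 j hj).1 (h1 j hj).2

/-- The group `M11`. -/
abbrev G : Type := ↥Spor.M11

/-- The generators. -/
noncomputable abbrev g : ℕ → G := gOf Spor.M11 lT

theorem hgen (h : G) : h ∈ Subgroup.closure (g '' Set.Iio 2) :=
  closure_of_words hmem hval hinv Cfsg.Agent.S2060.gen_le (W := oldW) (by decide +kernel)
    Cfsg.Agent.S2060.gens_valid h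

theorem hperf : commutator G = ⊤ := wd.perfect hmem hval hinv hgen

/-! The subgroup `11:5`. -/

theorem hLone : idL ∈ LL := by decide +kernel
theorem hLmul : ∀ a ∈ LL, ∀ b ∈ LL, mulL a b ∈ LL := by decide +kernel
theorem hLpow : ∀ a ∈ LL, M24Enum.powL a (54 + 1) = idL ∧ M24Enum.powL a 54 ∈ LL := by decide +kernel

/-- The subgroup `11:5` of the group of permutations. -/
def L0 : Subgroup P := subOfList LL hLone hLmul 54 hLpow

theorem mem_L0 (p : P) : p ∈ L0 ↔ toL p ∈ LL := Iff.rfl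

theorem hLv : ∀ l ∈ LL, validL l = true := by decide +kernel

theorem L0_le : L0 ≤ Spor.M11 := by
  intro p hp
  have hp' : toL p ∈ LL := hp
  have h1 : ∀ l ∈ LL, inM12 l = true ∧ l.getD 0 0 = 0 := by decide +kernel
  have h2 := mem_of (hLv _ hp') (h1 _ hp').1 (h1 _ hp').2
  have h3 : ofL (toL p) = p := eq_of_toL (toL_ofL (hLv _ hp'))
  rwa [h3] at h2

theorem card_L0 : Nat.card L0 = 55 := by
  rw [card_of_list mem_L0 hLv (by decide +kernel)]
  decide +kernel

/-- The subgroup `11:5`. -/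
def L : Subgroup G := L0.subgroupOf Spor.M11

theorem card_L : Nat.card L = 55 := by
  rw [← card_L0]
  exact Nat.card_congr (Subgroup.subgroupOfEquivOfLe L0_le).toEquiv

theorem mem_L (x : G) : x ∈ L ↔ toL (x : P) ∈ LL := Iff.rfl

/-- The representatives. -/
noncomputable abbrev rep : ℕ → G := repOf g par lt

theorem hrepT : ∀ i < 144, i ≠ 0 → repT.getD i idL = mulL (lT.getD (lt i) idL) (repT.getD (par i) idL) := by
  decide +kernel

theorem toL_ltr' {x : ℕ} (hx : x < 2 * 2) : toL ((ltr g x : G) : P) = lT.getD x idL :=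
  toL_ltr hmem hval hinv hx

theorem toL_rep : ∀ i < 144, toL ((rep i : G) : P) = repT.getD i idL := by
  intro i
  induction i using Nat.strong_induction_on with
  | _ i ih =>
    intro hi
    by_cases h0 : i = 0
    · subst h0
      have : rep 0 = 1 := repOf_zero g par lt
      rw [this]
      exact toL_one
    · obtain ⟨h1, h2, _⟩ := hpar i hi h0
      have : rep i = ltr g (lt i) * rep (par i) := repOf_step g par lt h0 h1
      rw [this, Subgroup.coe_mul, M24.toL_mul, toL_ltr' h2, ih _ h1 (by omega), hrepT i hi h0]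

theorem hcos : ∀ i < 144, ∀ x < 2 * 2, LL.any (fun l =>
    mulL (lT.getD x idL) (repT.getD i idL) == mulL (repT.getD (t i x) idL) l) = true := by
  decide +kernel

theorem hS' : ∀ i < 144, ∀ x < 2 * 2, (rep (t i x))⁻¹ * (ltr g x * rep i) ∈ L := by
  intro i hi x hx
  obtain ⟨l, hl, he⟩ := List.any_eq_true.1 (hcos i hi x hx)
  have he' := beq_iff_eq.1 he
  have h1 : ((ltr g x * rep i : G) : P) = ((rep (t i x) : G) : P) * ofL l := by
    apply eq_of_toL
    rw [M24.toL_mul, Subgroup.coe_mul, M24.toL_mul, toL_ltr' hx, toL_rep i hi, toL_rep _ (hlt i hi x hx),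
      toL_ofL (hLv l hl), he']
  rw [mem_L]
  have h2 : (((rep (t i x))⁻¹ * (ltr g x * rep i) : G) : P) = ofL l := by
    rw [Subgroup.coe_mul, Subgroup.coe_inv, h1]
    group
  rw [h2, toL_ofL (hLv l hl)]
  exact hl

theorem hnotT : ∀ i < 144, i ≠ 0 → repT.getD i idL ∉ LL := by decide +kernel

theorem hnot : ∀ i < 144, i ≠ 0 → rep i ∉ L := by
  intro i hi h0 h
  rw [mem_L, toL_rep i hi] at h
  exact hnotT i hi h0 h

/-- The points. -/
noncomputable def ω (i : ℕ) : G ⧸ L := ((rep i : G) : G ⧸ L)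

theorem tab : Tab g ω 2 144 t par lt :=
  tab_of_cosets L (by norm_num) hlt hflp hpar hS' hnot

theorem stab_eq : MulAction.stabilizer G (ω 0) = L := by
  have h1 : ω 0 = ((1 : G) : G ⧸ L) := by
    unfold ω
    have : rep 0 = 1 := repOf_zero g par lt
    rw [this]
  rw [h1]
  exact MulAction.stabilizer_quotient L

theorem card_stab : Nat.card (MulAction.stabilizer G (ω 0)) = 55 := by
  rw [stab_eq, card_L]

theorem card_G : Nat.card G = 7920 := by
  have h : Spor.M11 = fixIn (KMask sm) [0] := by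
    ext p
    exact Cfsg.Agent.S5522.mem_M11_iff p
  show Nat.card Spor.M11 = 7920
  rw [h]
  exact Cfsg.Agent.S5522.card_M11

/-- The multiplier of `M11` is trivial. -/
theorem trivMult : TrivMult G := by
  intro Γ _ _ σ hstem
  have hH : commutator Γ = ⊤ := commutator_top_of_stem hstem hperf
  have hcardG : Nat.card G = 7920 := card_G
  have hp5 : Fact (Nat.Prime 5) := ⟨by norm_num⟩
  have hp11 : Fact (Nat.Prime 11) := ⟨by norm_num⟩
  have h5 : ¬ 5 ∣ Nat.card σ.ker :=
    Cfsg.Agent.S0102.result hperf (sylow_cyclic_of_not_sq (by rw [hcardG]; norm_num)) σ hstem.1 hstem.2.1 hH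
  have h11 : ¬ 11 ∣ Nat.card σ.ker :=
    Cfsg.Agent.S0102.result hperf (sylow_cyclic_of_not_sq (by rw [hcardG]; norm_num)) σ hstem.1 hstem.2.1 hH
  have hcop : Nat.Coprime (Nat.card σ.ker) 55 := by
    have h1 : Nat.Coprime (Nat.card σ.ker) 5 := ((Nat.Prime.coprime_iff_not_dvd hp5.out).2 h5).symm
    have h2 : Nat.Coprime (Nat.card σ.ker) 11 := ((Nat.Prime.coprime_iff_not_dvd hp11.out).2 h11).symm
    exact Nat.Coprime.mul_right h1 h2
  obtain ⟨s, hs⟩ := exists_section_of_coprime σ hstem.1 (MulAction.stabilizer G (ω 0))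
    (by rw [card_stab]; exact hcop)
  obtain ⟨z, rr, c⟩ := exists_cocy_perm hstem wd hmem hval hinv tab hgen s hs
  let _ : CommGroup σ.ker :=
    { (inferInstance : Group σ.ker) with
      mul_comm := fun p q => Subtype.ext (Subgroup.mem_center_iff.mp (hstem.2.1 p.2) (q : Γ)).symm }
  have hm : ∀ a : σ.ker, a ^ 144 = 1 := by
    intro a
    have h1 : a ^ 7920 = 1 := by
      have := pow_card_ker hstem a
      rwa [hcardG] at this
    have h2 : orderOf a ∣ 144 * 55 := orderOf_dvd_of_pow_eq_one h1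
    have h3 : Nat.Coprime (orderOf a) 55 := Nat.Coprime.coprime_dvd_left (orderOf_dvd_natCard a) hcop
    exact orderOf_dvd_iff_pow_eq_one.1 (h3.dvd_of_dvd_mul_right h2)
  have h := trivial_of_packed (B := σ.ker) c (by norm_num) hlt wd.hlet' (fun i hi h0 => by
      obtain ⟨h1, h2, h3⟩ := hpar i hi h0
      exact ⟨by omega, h2, h3⟩) hm (by norm_num) hS hK0 (by norm_num) (by norm_num) hL0 hR hchk hcover
  rw [injective_iff_map_eq_one]
  intro a ha
  exact congrArg Subtype.val (h ⟨a, ha⟩)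

end Cfsg.Agent.Lib.Compute.SchurM11
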