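import Cfsg.Agent.Lib.Compute.SchurM23Data
import Cfsg.Agent.Lib.Compute.SchurM11
import Cfsg.Agent.S2061
import Cfsg.Agent.Lib.Sporadic.M24Basic

/-!
# The Schur multiplier of `M23`
-/

set_option autoImplicit false

namespace Cfsg.Agent.Lib.Compute.SchurM23

open Cfsg Cfsg.Agent.Lib.Compute.SchurLin Cfsg.Agent.Lib.Compute.SchurM23Data
open Cfsg.Agent.Lib.Compute.ToddCoxeterCore (wordEl wordEl_nil wordEl_cons wordEl_append)
open Cfsg.Agent.Lib.Compute.Golay Cfsg.Agent.Lib.Compute.GolayFast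
open Cfsg.Agent.Lib.Compute.M24 Cfsg.Agent.Lib.Compute.M24Enum Cfsg.Agent.Lib.Compute.M24Norm
open Cfsg.Agent.Lib.Compute.OutCert Cfsg.Agent.Lib.Compute.M24Out Cfsg.Agent.Lib.Compute.M12Data
open scoped Pointwise

theorem hval : ∀ x < 2 * 2, validL (lT.getD x idL) = true := by decide +kernel
theorem hinv : ∀ j < 2, mulL (lT.getD (2 * j) idL) (lT.getD (2 * j + 1) idL) = idL := by decide +kernel

theorem hmem : ∀ j < 2, ofL (lT.getD (2 * j) idL) ∈ Spor.M23 := by
  intro j hj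
  have h1 : ∀ j < 2, inM24 (lT.getD (2 * j) idL) = true ∧ (lT.getD (2 * j) idL).getD 23 0 = 23 := by
    decide +kernel
  have hv := hval (2 * j) (by omega)
  rw [Cfsg.Agent.S2063.mem_M23_iff]
  refine ⟨mem_M24_of_inM24 (codes_ofL hv) (h1 j hj).1, ?_⟩
  rw [ofL_apply hv (by norm_num), (h1 j hj).2]

/-- The group `M23`. -/
abbrev G : Type := ↥Spor.M23

/-- The generators. -/
noncomputable abbrev g : ℕ → G := gOf Spor.M23 lT

theorem hgen (h : G) : h ∈ Subgroup.closure (g '' Set.Iio 2) :=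
  closure_of_words hmem hval hinv Cfsg.Agent.S2063.gen_le (W := oldW) (by decide +kernel)
    Cfsg.Agent.S2063.gens_valid h

theorem hperf : commutator G = ⊤ := wd.perfect hmem hval hinv hgen

/-- The points. -/
noncomputable def ω (i : ℕ) : Finset GolayPt := maskSupport (m i)

theorem tab : Tab g ω 2 1288 t par lt :=
  tab_of_masks hmem hval (by norm_num) hlt hflp hpar hm hinj hev

theorem m0 : m 0 = dM := by decide +kernel

theorem mem_stab (x : G) : x ∈ MulAction.stabilizer G (ω 0) ↔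
    ∀ p, dM.testBit (ptIdx ((x : P) p)) = dM.testBit (ptIdx p) := by
  rw [MulAction.mem_stabilizer_iff, Subgroup.smul_def]
  unfold ω
  rw [m0]
  exact smul_maskSupport_iff _ _

theorem Tau_inv : Tau⁻¹ = Tau := Cfsg.Agent.S2061.Tau_inv

theorem Tau_23 : Tau (idxPt 23) = idxPt 0 := by
  rw [show Tau = ofL M24Norm.tauL from rfl, ofL_apply validL_tauL (by norm_num)]
  rfl

theorem Tau_0 : Tau (idxPt 0) = idxPt 23 := by
  rw [show Tau = ofL M24Norm.tauL from rfl, ofL_apply validL_tauL (by norm_num)]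
  rfl

theorem conj_mem {x : G} (hx : x ∈ MulAction.stabilizer G (ω 0)) :
    Tau * (x : P) * Tau⁻¹ ∈ Spor.M11 := by
  have h1 := (mem_stab x).1 hx
  have h2 := (Cfsg.Agent.S2063.mem_M23_iff _).1 x.2
  rw [Cfsg.Agent.S2060.mem_M11_iff, mem_M12_iff, Tau_inv]
  refine ⟨⟨M24.mul_mem (M24.mul_mem Tau_mem h2.1) Tau_mem, fun p => ?_⟩, ?_⟩
  · simp only [Equiv.Perm.mul_apply]
    rw [Cfsg.Agent.S2061.Tau_flip, h1, Cfsg.Agent.S2061.Tau_flip, Bool.not_not]
  · simp only [Equiv.Perm.mul_apply]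
    rw [Tau_0, h2.2, Tau_23]

theorem conj_mem' {y : ↥Spor.M11} : Tau⁻¹ * (y : P) * Tau ∈ Spor.M23 := by
  have h1 := (Cfsg.Agent.S2060.mem_M11_iff _).1 y.2
  have h2 := (mem_M12_iff _).1 h1.1
  rw [Cfsg.Agent.S2063.mem_M23_iff, Tau_inv]
  refine ⟨M24.mul_mem (M24.mul_mem Tau_mem h2.1) Tau_mem, ?_⟩
  simp only [Equiv.Perm.mul_apply]
  rw [Tau_23, h1.2, Tau_0]

theorem conj_mem'' (y : ↥Spor.M11) :
    (⟨Tau⁻¹ * (y : P) * Tau, conj_mem'⟩ : G) ∈ MulAction.stabilizer G (ω 0) := by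
  have h1 := (Cfsg.Agent.S2060.mem_M11_iff _).1 y.2
  have h2 := (mem_M12_iff _).1 h1.1
  rw [mem_stab]
  intro p
  show dM.testBit (ptIdx ((Tau⁻¹ * (y : P) * Tau) p)) = _
  rw [Tau_inv]
  simp only [Equiv.Perm.mul_apply]
  rw [Cfsg.Agent.S2061.Tau_flip, h2.2, Cfsg.Agent.S2061.Tau_flip, Bool.not_not]

/-- The stabilizer is a copy of `M11`. -/
noncomputable def stabEquiv : MulAction.stabilizer G (ω 0) ≃* ↥Spor.M11 where
  toFun x := ⟨Tau * ((x : G) : P) * Tau⁻¹, conj_mem x.2⟩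
  invFun y := ⟨⟨Tau⁻¹ * (y : P) * Tau, conj_mem'⟩, conj_mem'' y⟩
  left_inv x := by
    apply Subtype.ext
    apply Subtype.ext
    show Tau⁻¹ * (Tau * ((x : G) : P) * Tau⁻¹) * Tau = _
    group
  right_inv y := by
    apply Subtype.ext
    show Tau * (Tau⁻¹ * (y : P) * Tau) * Tau⁻¹ = _
    group
  map_mul' x y := by
    apply Subtype.ext
    show Tau * (((x : G) : P) * ((y : G) : P)) * Tau⁻¹ =
      (Tau * ((x : G) : P) * Tau⁻¹) * (Tau * ((y : G) : P) * Tau⁻¹)
    group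

theorem card_stab : Nat.card (MulAction.stabilizer G (ω 0)) = 7920 := by
  rw [Nat.card_congr stabEquiv.toEquiv]
  exact SchurM11.card_G

theorem card_G : Nat.card G = 10200960 := by
  have h : Spor.M23 = Cfsg.Agent.Lib.Sporadic.M24Chain.fixG [23] := by
    ext p
    rw [Cfsg.Agent.Lib.Sporadic.M24Chain.mem_fixG, Cfsg.Agent.S2063.mem_M23_iff]
    constructor
    · rintro ⟨h1, h2⟩
      exact ⟨h1, fun f hf => by rw [List.mem_singleton.1 hf]; exact h2⟩
    · rintro ⟨h1, h2⟩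
      exact ⟨h1, h2 23 (by simp)⟩
  show Nat.card Spor.M23 = _
  rw [h]
  exact Cfsg.Agent.Lib.Sporadic.M24Basic.card_fixG_1

theorem index_stab : (MulAction.stabilizer G (ω 0)).index = 1288 := by
  have h := (MulAction.stabilizer G (ω 0)).index_mul_card
  rw [card_stab, card_G] at h
  exact Nat.eq_of_mul_eq_mul_right (by norm_num : 0 < 7920) (h.trans (by norm_num))

/-- The multiplier of `M23` is trivial. -/
theorem trivMult : TrivMult G := by
  intro Γ _ _ σ hstem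
  have hH : commutator Γ = ⊤ := commutator_top_of_stem hstem hperf
  have hcardG := card_G
  have hLp : commutator (MulAction.stabilizer G (ω 0)) = ⊤ :=
    commutator_top_of_equiv stabEquiv SchurM11.hperf
  have hLT : TrivMult (MulAction.stabilizer G (ω 0)) :=
    TrivMult.of_equiv stabEquiv SchurM11.trivMult
  obtain ⟨s, hs⟩ := exists_section_of_perfect σ hstem.1 hstem.2.1 (MulAction.stabilizer G (ω 0)) hLp hLT
  obtain ⟨z, rr, c⟩ := exists_cocy_perm hstem wd hmem hval hinv tab hgen s hs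
  have hp7 : Fact (Nat.Prime 7) := ⟨by norm_num⟩
  have hp23 : Fact (Nat.Prime 23) := ⟨by norm_num⟩
  have h7 : ¬ 7 ∣ Nat.card σ.ker :=
    Cfsg.Agent.S0102.result hperf (sylow_cyclic_of_not_sq (by rw [hcardG]; norm_num)) σ hstem.1 hstem.2.1 hH
  have h23 : ¬ 23 ∣ Nat.card σ.ker :=
    Cfsg.Agent.S0102.result hperf (sylow_cyclic_of_not_sq (by rw [hcardG]; norm_num)) σ hstem.1 hstem.2.1 hH
  let _ : CommGroup σ.ker :=
    { (inferInstance : Group σ.ker) with
      mul_comm := fun p q => Subtype.ext (Subgroup.mem_center_iff.mp (hstem.2.1 p.2) (q : Γ)).symm }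
  have hsq : ∀ a : σ.ker, ∃ b : σ.ker, b ^ 2 = a :=
    squares_of_xor c (by norm_num) hlt wd.hlet' (fun i hi h0 => by
      obtain ⟨h1, h2, h3⟩ := hpar i hi h0
      exact ⟨by omega, h2, h3⟩) hU hK0 hS hchk
  have h2 : ¬ 2 ∣ Nat.card σ.ker := not_two_dvd_of_squares hsq
  have hcop : Nat.Coprime (Nat.card σ.ker) 1288 := by
    have e : (1288 : ℕ) = 2 ^ 3 * 7 * 23 := by norm_num
    rw [e]
    apply Nat.Coprime.mul_right
    · apply Nat.Coprime.mul_right
      · exact Nat.Coprime.pow_right _ ((Nat.Prime.coprime_iff_not_dvd Nat.prime_two).2 h2).symm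
      · exact ((Nat.Prime.coprime_iff_not_dvd hp7.out).2 h7).symm
    · exact ((Nat.Prime.coprime_iff_not_dvd hp23.out).2 h23).symm
  rw [injective_iff_map_eq_one]
  intro a ha
  have h3 : (⟨a, ha⟩ : σ.ker) ^ 1288 = 1 := by
    have h4 := pow_index_of_retr σ hstem.2.1 (by rw [hH]; exact le_top)
      (MulAction.stabilizer G (ω 0)) s hs ⟨a, ha⟩
    rwa [Subgroup.index_comap_of_surjective _ hstem.1, index_stab] at h4
  have h5 : orderOf (⟨a, ha⟩ : σ.ker) ∣ 1288 := orderOf_dvd_of_pow_eq_one h3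
  have h6 : Nat.Coprime (orderOf (⟨a, ha⟩ : σ.ker)) 1288 :=
    Nat.Coprime.coprime_dvd_left (orderOf_dvd_natCard _) hcop
  have h7' : orderOf (⟨a, ha⟩ : σ.ker) = 1 := Nat.Coprime.eq_one_of_dvd h6 h5
  exact congrArg Subtype.val (orderOf_eq_one_iff.1 h7')

end Cfsg.Agent.Lib.Compute.SchurM23
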