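import Cfsg.Agent.Lib.Compute.M24Classes

/-!
# Facts on the representatives of the classes of involutions and elements of order 3 of `M24`
-/

set_option autoImplicit false

namespace Cfsg.Agent.Lib.Compute.M24

open Cfsg Cfsg.Agent.Lib.Compute.Golay Cfsg.Agent.Lib.Compute.GolayFast
open scoped Pointwise

/-- The number of fixed points of a coded permutation. -/
def fixCountL (L : List ℕ) : ℕ := ((List.range 24).filter (fun i => L.getD i 0 == i)).length

theorem card_fix_eq (σ : P) : (Finset.univ.filter fun p => σ p = p).card = fixCountL (toL (σ : GolayPt → GolayPt)) := by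
  classical
  have himg : (Finset.univ.filter fun p => σ p = p).image ptIdx =
      ((List.range 24).filter (fun i => (toL (σ : GolayPt → GolayPt)).getD i 0 == i)).toFinset := by
    ext i
    simp only [Finset.mem_image, Finset.mem_filter, Finset.mem_univ, true_and, List.mem_toFinset, List.mem_filter,
      List.mem_range, beq_iff_eq]
    constructor
    · rintro ⟨p, hp, rfl⟩
      refine ⟨ptIdx_lt p, ?_⟩
      rw [getD_toL σ (ptIdx_lt p), idxPt_ptIdx, hp]
    · rintro ⟨hi, h⟩
      rw [getD_toL σ hi] at h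
      refine ⟨idxPt i, ?_, ptIdx_idxPt hi⟩
      have := congrArg idxPt h
      rwa [idxPt_ptIdx] at this
  rw [← Finset.card_image_of_injective _ ptIdx_injective, himg, List.toFinset_card_of_nodup
    (List.nodup_range.filter _), fixCountL]

/-- Conjugate permutations have the same number of fixed points. -/
theorem card_fix_conj (g t : P) :
    (Finset.univ.filter fun p => (g * t * g⁻¹) p = p).card = (Finset.univ.filter fun p => t p = p).card := by
  classical
  have h : (Finset.univ.filter fun p => (g * t * g⁻¹) p = p) =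
      (Finset.univ.filter fun p => t p = p).image g := by
    ext p
    rw [Finset.mem_filter, Finset.mem_image]
    constructor
    · rintro ⟨-, h⟩
      refine ⟨g⁻¹ p, Finset.mem_filter.2 ⟨Finset.mem_univ _, ?_⟩, by simp⟩
      rw [Equiv.Perm.mul_apply, Equiv.Perm.mul_apply] at h
      rw [Equiv.Perm.eq_inv_iff_eq]
      exact h
    · rintro ⟨q, hq, rfl⟩
      refine ⟨Finset.mem_univ _, ?_⟩
      have hq' := (Finset.mem_filter.1 hq).2
      simp [hq']
  rw [h, Finset.card_image_of_injective _ g.injective]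

theorem fix_t8 : fixCountL t8L = 8 := by decide +kernel
theorem fix_t0 : fixCountL t0L = 0 := by decide +kernel
theorem fix_c6 : fixCountL c6L = 6 := by decide +kernel
theorem fix_c0 : fixCountL c0L = 0 := by decide +kernel

theorem card_fix_t8 : (Finset.univ.filter fun p => t8P p = p).card = 8 := by
  rw [card_fix_eq, t8P_toL, fix_t8]
theorem card_fix_t0 : (Finset.univ.filter fun p => t0P p = p).card = 0 := by
  rw [card_fix_eq, t0P_toL, fix_t0]
theorem card_fix_c6 : (Finset.univ.filter fun p => c6P p = p).card = 6 := by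
  rw [card_fix_eq, c6P_toL, fix_c6]
theorem card_fix_c0 : (Finset.univ.filter fun p => c0P p = p).card = 0 := by
  rw [card_fix_eq, c0P_toL, fix_c0]

theorem fpf_iff_card (σ : P) : (∀ p, σ p ≠ p) ↔ (Finset.univ.filter fun p => σ p = p).card = 0 := by
  rw [Finset.card_eq_zero, Finset.filter_eq_empty_iff]
  simp

theorem t8_sq : t8P * t8P = 1 := by
  apply eq_of_toL_eq
  rw [← mulL_toL, t8P_toL, show toL ((1 : P) : GolayPt → GolayPt) = idL from toL_one]
  decide +kernel
theorem t0_sq : t0P * t0P = 1 := by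
  apply eq_of_toL_eq
  rw [← mulL_toL, t0P_toL, show toL ((1 : P) : GolayPt → GolayPt) = idL from toL_one]
  decide +kernel
theorem c6_cu : c6P * (c6P * c6P) = 1 := by
  apply eq_of_toL_eq
  rw [← mulL_toL, ← mulL_toL, c6P_toL, show toL ((1 : P) : GolayPt → GolayPt) = idL from toL_one]
  decide +kernel
theorem c0_cu : c0P * (c0P * c0P) = 1 := by
  apply eq_of_toL_eq
  rw [← mulL_toL, ← mulL_toL, c0P_toL, show toL ((1 : P) : GolayPt → GolayPt) = idL from toL_one]
  decide +kernel

theorem t8_ne : t8P ≠ 1 := by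
  intro h
  have h1 := t8P_toL
  rw [h, show toL ((1 : P) : GolayPt → GolayPt) = idL from toL_one] at h1
  exact absurd h1 (by decide +kernel)
theorem t0_ne : t0P ≠ 1 := by
  intro h
  have h1 := t0P_toL
  rw [h, show toL ((1 : P) : GolayPt → GolayPt) = idL from toL_one] at h1
  exact absurd h1 (by decide +kernel)
theorem c6_ne : c6P ≠ 1 := by
  intro h
  have h1 := c6P_toL
  rw [h, show toL ((1 : P) : GolayPt → GolayPt) = idL from toL_one] at h1
  exact absurd h1 (by decide +kernel)
theorem c0_ne : c0P ≠ 1 := by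
  intro h
  have h1 := c0P_toL
  rw [h, show toL ((1 : P) : GolayPt → GolayPt) = idL from toL_one] at h1
  exact absurd h1 (by decide +kernel)

theorem orderOf_eq_two_of {x : P} (h2 : x * x = 1) (h1 : x ≠ 1) : orderOf x = 2 :=
  orderOf_eq_prime (by rw [pow_two, h2]) h1

theorem orderOf_eq_three_of {x : P} (h3 : x * (x * x) = 1) (h1 : x ≠ 1) : orderOf x = 3 := by
  have : Fact (Nat.Prime 3) := ⟨Nat.prime_three⟩
  refine orderOf_eq_prime ?_ h1
  rw [pow_succ', pow_two, h3]

theorem sq_of_orderOf {x : P} (h : orderOf x = 2) : x * x = 1 := by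
  rw [← pow_two, ← h, pow_orderOf_eq_one]

theorem ne_one_of_orderOf_two {x : P} (h : orderOf x = 2) : x ≠ 1 := by
  rintro rfl
  rw [orderOf_one] at h
  omega

theorem cu_of_orderOf {x : P} (h : orderOf x = 3) : x * (x * x) = 1 := by
  have h3 : x ^ 3 = 1 := by rw [← h]; exact pow_orderOf_eq_one x
  rwa [pow_succ', pow_two] at h3

theorem ne_one_of_orderOf_three {x : P} (h : orderOf x = 3) : x ≠ 1 := by
  rintro rfl
  rw [orderOf_one] at h
  omega

/-- The class of an involution, with its fixed points. -/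
theorem inv_class' {x : P} (hx : x ∈ M24) (h : orderOf x = 2) :
    ((∃ g ∈ M24, g * t8P * g⁻¹ = x) ∧ (Finset.univ.filter fun p => x p = p).card = 8) ∨
      ((∃ g ∈ M24, g * t0P * g⁻¹ = x) ∧ (Finset.univ.filter fun p => x p = p).card = 0) := by
  rcases inv_class hx (sq_of_orderOf h) (ne_one_of_orderOf_two h) with ⟨g, hg, rfl⟩ | ⟨g, hg, rfl⟩
  · exact Or.inl ⟨⟨g, hg, rfl⟩, by rw [card_fix_conj, card_fix_t8]⟩
  · exact Or.inr ⟨⟨g, hg, rfl⟩, by rw [card_fix_conj, card_fix_t0]⟩

/-- The class of an element of order 3, with its fixed points. -/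
theorem ord3_class' {x : P} (hx : x ∈ M24) (h : orderOf x = 3) :
    ((∃ g ∈ M24, g * c6P * g⁻¹ = x) ∧ (Finset.univ.filter fun p => x p = p).card = 6) ∨
      ((∃ g ∈ M24, g * c0P * g⁻¹ = x) ∧ (Finset.univ.filter fun p => x p = p).card = 0) := by
  rcases ord3_class hx (cu_of_orderOf h) (ne_one_of_orderOf_three h) with ⟨g, hg, rfl⟩ | ⟨g, hg, rfl⟩
  · exact Or.inl ⟨⟨g, hg, rfl⟩, by rw [card_fix_conj, card_fix_c6]⟩
  · exact Or.inr ⟨⟨g, hg, rfl⟩, by rw [card_fix_conj, card_fix_c0]⟩

end Cfsg.Agent.Lib.Compute.M24
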