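import Cfsg.Agent.Lib.Compute.M24Classes
import Cfsg.Agent.Lib.Sporadic.M24Sextet

/-!
# Counting the octads, dodecads and families of masks fixed by a permutation

* `ncard_fixed_conj`: conjugate elements fix the same number of members of an invariant family;
* `ncard_fixed_words`: the fixed words of a given weight;
* `ncard_fixed_fam`: the fixed members of a family of families of masks given by a list of lists.
-/

set_option autoImplicit false

namespace Cfsg.Agent.Lib.Compute.M24

open Cfsg Cfsg.Agent.Lib.Compute.Golay Cfsg.Agent.Lib.Compute.GolayFast Cfsg.Agent.Lib.Compute.GFModel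
open Cfsg.Agent.Lib.Sporadic.GolayCore (ofMask mem_ofMask ofMask_inj)
open Cfsg.Agent.Lib.Sporadic.M24Sextet (famOf mem_famOf famOf_card_of_nodup)
open scoped Pointwise

theorem ptIdx_eq_idx : ptIdx = Cfsg.Agent.Lib.Sporadic.GolayCore.idx := by
  funext p
  cases p <;> rfl

theorem ofMask_eq (m : ℕ) : ofMask m = maskSupport m := by
  simp only [ofMask, maskSupport, ptIdx_eq_idx]

theorem imgMask_lt {L : List ℕ} (hL : validL L = true) (m : ℕ) : imgMask L m < 2 ^ 24 := by
  have key : ∀ (L' : List ℕ), (∀ a ∈ L', a < 24) → ∀ m, imgMask L' m < 2 ^ 24 := by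
    intro L'
    induction L' with
    | nil => intro _ m; simp [imgMask]
    | cons a as ih =>
      intro h m
      simp only [imgMask]
      apply Nat.or_lt_two_pow
      · split_ifs
        · exact Nat.pow_lt_pow_right (by norm_num) (h a (by simp))
        · positivity
      · exact ih (fun b hb => h b (by simp [hb])) _
  exact key L (fun a ha => lt_of_validL hL ha) m

theorem smul_ofMask (σ : P) (m : ℕ) : σ • ofMask m = ofMask (imgMask (toL σ) m) := by
  rw [ofMask_eq, ofMask_eq]
  exact smul_maskSupport (codes_toL σ) (validL_toL σ) m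

/-- Conjugate elements fix the same number of members of an invariant family. -/
theorem ncard_fixed_conj {X : Type*} [MulAction P X] (A : Set X) (g t : P) (hA : ∀ x, x ∈ A → g • x ∈ A)
    (hA' : ∀ x, x ∈ A → g⁻¹ • x ∈ A) :
    {x | x ∈ A ∧ (g * t * g⁻¹) • x = x}.ncard = {x | x ∈ A ∧ t • x = x}.ncard := by
  have himg : {x | x ∈ A ∧ (g * t * g⁻¹) • x = x} = (fun x => g • x) '' {x | x ∈ A ∧ t • x = x} := by
    ext x
    simp only [Set.mem_ofPred_eq, Set.mem_image]
    constructor
    · rintro ⟨h1, h2⟩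
      refine ⟨g⁻¹ • x, ⟨hA' x h1, ?_⟩, by simp⟩
      have h3 := congrArg (fun y => g⁻¹ • y) h2
      simp only [mul_smul, inv_smul_smul] at h3
      exact h3
    · rintro ⟨y, ⟨h1, h2⟩, rfl⟩
      refine ⟨hA y h1, ?_⟩
      simp only [mul_smul, inv_smul_smul, h2]
  rw [himg]
  exact Set.ncard_image_of_injective _ (MulAction.injective g)

theorem ncard_list {α : Type*} [DecidableEq α] {L : List α} (h : L.Nodup) : {m | m ∈ L}.ncard = L.length := by
  have : {m | m ∈ L} = (L.toFinset : Set α) := by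
    ext
    simp
  rw [this, Set.ncard_coe_finset, List.toFinset_card_of_nodup h]

/-- The fixed words of a given weight. -/
theorem ncard_fixed_words (n : ℕ) (σ : P) :
    {o | o ∈ wordsOfWeight (golayCode : Set (GolayPt → ZMod 2)) n ∧ σ • o = o}.ncard =
      ((weightMasks n).filter (fun m => imgMask (toL σ) m == m)).length := by
  have hlt : ∀ m ∈ weightMasks n, m < 2 ^ 24 := fun m hm => codeMasks_lt m (mem_weightMasks.1 hm).1
  have hinj : Set.InjOn maskSupport {m | m ∈ (weightMasks n).filter (fun m => imgMask (toL σ) m == m)} := by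
    intro a ha b hb h
    have ha' := hlt a (List.mem_filter.1 ha).1
    have hb' := hlt b (List.mem_filter.1 hb).1
    exact maskSupport_injOn ha' hb' h
  have himg : {o | o ∈ wordsOfWeight (golayCode : Set (GolayPt → ZMod 2)) n ∧ σ • o = o} =
      maskSupport '' {m | m ∈ (weightMasks n).filter (fun m => imgMask (toL σ) m == m)} := by
    ext o
    simp only [Set.mem_ofPred_eq, Set.mem_image, List.mem_filter, beq_iff_eq, mem_wordsOfWeight_iff, mem_weightMasks]
    constructor
    · rintro ⟨⟨m, hm, hp, rfl⟩, h2⟩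
      refine ⟨m, ⟨⟨hm, hp⟩, ?_⟩, rfl⟩
      have h3 := smul_maskSupport (codes_toL σ) (validL_toL σ) m
      rw [h3] at h2
      exact maskSupport_injOn (imgMask_lt (validL_toL σ) m) (codeMasks_lt m hm) h2
    · rintro ⟨m, ⟨⟨hm, hp⟩, h2⟩, rfl⟩
      refine ⟨⟨m, hm, hp, rfl⟩, ?_⟩
      rw [smul_maskSupport (codes_toL σ) (validL_toL σ) m, h2]
  rw [himg, Set.InjOn.ncard_image hinj, ncard_list ((weightMasks_nodup n).filter _)]

/-! ### Families given by lists of masks -/

/-- The test that a permutation preserves a family. -/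
def fixFam (σL L : List ℕ) : Bool := L.all (fun m => L.contains (imgMask σL m))

theorem smul_famOf_iff (σ : P) {L : List ℕ} (hlt : ∀ m ∈ L, m < 2 ^ 24) :
    σ • famOf L = famOf L ↔ fixFam (toL σ) L = true := by
  constructor
  · intro h
    simp only [fixFam, List.all_eq_true, List.contains_iff_mem]
    intro m hm
    have h1 : ofMask m ∈ famOf L := mem_famOf.2 ⟨m, hm, rfl⟩
    have h2 : σ • ofMask m ∈ famOf L := by
      rw [← h]
      exact Finset.smul_mem_smul_finset h1
    obtain ⟨m', hm', h3⟩ := mem_famOf.1 h2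
    rw [smul_ofMask] at h3
    have := (ofMask_inj (hlt m' hm') (imgMask_lt (validL_toL σ) m)).1 h3
    rwa [← this]
  · intro h
    simp only [fixFam, List.all_eq_true, List.contains_iff_mem] at h
    apply Finset.eq_of_subset_of_card_le
    · intro s hs
      obtain ⟨t, ht, rfl⟩ := Finset.mem_smul_finset.1 hs
      obtain ⟨m, hm, rfl⟩ := mem_famOf.1 ht
      refine mem_famOf.2 ⟨_, h m hm, ?_⟩
      rw [smul_ofMask]
    · rw [Finset.card_smul_finset]

/-- The order of the masks in a family: the one containing bit 0 first, then increasing. -/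
def ordR (x y : ℕ) : Prop := (x % 2 = 1 ∧ y % 2 = 0) ∨ (x % 2 = y % 2 ∧ x < y)

/-- The Boolean version of the order. -/
def ordB (x y : ℕ) : Bool :=
  (Nat.beq (x % 2) 1 && Nat.beq (y % 2) 0) || (Nat.beq (x % 2) (y % 2) && Nat.blt x y)

theorem ordR_of_ordB {x y : ℕ} (h : ordB x y = true) : ordR x y := by
  simp only [ordB, Bool.or_eq_true, Bool.and_eq_true, Nat.beq_eq, Nat.blt_eq] at h
  exact h

/-- A Boolean pairwise check. -/
def pwB (R : ℕ → ℕ → Bool) : List ℕ → Bool
  | [] => true
  | a :: l => l.all (R a) && pwB R l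

theorem pairwise_of_pwB {R : ℕ → ℕ → Bool} {L : List ℕ} (h : pwB R L = true) : L.Pairwise (fun a b => R a b = true) := by
  induction L with
  | nil => exact List.Pairwise.nil
  | cons a l ih =>
    simp only [pwB, Bool.and_eq_true, List.all_eq_true] at h
    exact List.Pairwise.cons h.1 (ih h.2)

theorem eq_of_famOf_eq {L L' : List ℕ} (h1 : L.Pairwise ordR) (h2 : L'.Pairwise ordR) (hlt : ∀ m ∈ L, m < 2 ^ 24)
    (hlt' : ∀ m ∈ L', m < 2 ^ 24) (h : famOf L = famOf L') : L = L' := by
  have hmem : ∀ m, m ∈ L ↔ m ∈ L' := by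
    intro m
    constructor
    · intro hm
      have h3 : ofMask m ∈ famOf L' := by
        rw [← h]
        exact mem_famOf.2 ⟨m, hm, rfl⟩
      obtain ⟨m', hm', h4⟩ := mem_famOf.1 h3
      rwa [← (ofMask_inj (hlt' m' hm') (hlt m hm)).1 h4]
    · intro hm
      have h3 : ofMask m ∈ famOf L := by
        rw [h]
        exact mem_famOf.2 ⟨m, hm, rfl⟩
      obtain ⟨m', hm', h4⟩ := mem_famOf.1 h3
      rwa [← (ofMask_inj (hlt m' hm') (hlt' m hm)).1 h4]
  have hirr : ∀ {K : List ℕ}, K.Pairwise ordR → K.Nodup := by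
    intro K hK
    refine hK.imp ?_
    rintro a b (⟨h5, h6⟩ | ⟨-, h6⟩) rfl
    · omega
    · omega
  have hperm : L.Perm L' := (List.perm_ext_iff_of_nodup (hirr h1) (hirr h2)).2 hmem
  refine List.Perm.eq_of_pairwise ?_ h1 h2 hperm
  rintro a b - - (⟨h5, h6⟩ | ⟨h5, h6⟩) (⟨h7, h8⟩ | ⟨h7, h8⟩)
  · omega
  · omega
  · omega
  · omega

/-- The fixed members of a family given by a list of lists of masks. -/
theorem ncard_fixed_fam (LL : List (List ℕ)) (A : Set (Finset (Finset GolayPt))) (hA : ∀ S, S ∈ A ↔ ∃ L ∈ LL, famOf L = S)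
    (hform : ∀ L ∈ LL, L.Pairwise ordR ∧ ∀ m ∈ L, m < 2 ^ 24) (hnd : LL.Nodup) (σ : P) :
    {S | S ∈ A ∧ σ • S = S}.ncard = (LL.filter (fixFam (toL σ))).length := by
  have hinj : Set.InjOn famOf {L | L ∈ LL.filter (fixFam (toL σ))} := by
    intro a ha b hb h
    have ha' := hform a (List.mem_filter.1 ha).1
    have hb' := hform b (List.mem_filter.1 hb).1
    exact eq_of_famOf_eq ha'.1 hb'.1 ha'.2 hb'.2 h
  have himg : {S | S ∈ A ∧ σ • S = S} = famOf '' {L | L ∈ LL.filter (fixFam (toL σ))} := by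
    ext S
    simp only [Set.mem_ofPred_eq, Set.mem_image, List.mem_filter, hA]
    constructor
    · rintro ⟨⟨L, hL, rfl⟩, h2⟩
      exact ⟨L, ⟨hL, (smul_famOf_iff σ (hform L hL).2).1 h2⟩, rfl⟩
    · rintro ⟨L, ⟨hL, h2⟩, rfl⟩
      exact ⟨⟨L, hL, rfl⟩, (smul_famOf_iff σ (hform L hL).2).2 h2⟩
  rw [himg, Set.InjOn.ncard_image hinj, ncard_list (hnd.filter _)]

/-- The key of a family, for comparing families. -/
def famKey (L : List ℕ) : ℕ := L.foldl (fun r m => Nat.add (Nat.mul r 16777216) m) 0

/-- A mask of weight 8 in the code is an octad. -/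
theorem maskSupport_mem_octads {m : ℕ} (h1 : isCode m = true) (h2 : pop m = 8) : maskSupport m ∈ octads :=
  mem_wordsOfWeight_iff.2 ⟨m, mem_codeMasks_of_isCode h1, h2, rfl⟩

end Cfsg.Agent.Lib.Compute.M24
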