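import Cfsg.Agent.Lib.Compute.M24ChainB
import Cfsg.Agent.Lib.Compute.M24ClassFacts
import Cfsg.Agent.Lib.Compute.M24Card
import Cfsg.Agent.Lib.Compute.M24Fix

/-!
# The centralizer of an involution of `M24` with eight fixed points, and a Sylow 2-subgroup
-/

set_option autoImplicit false

namespace Cfsg.Agent.Lib.Compute.M24

open Cfsg Cfsg.Agent.Lib.Compute.Golay Cfsg.Agent.Lib.Compute.GolayFast
open Cfsg.Agent.Lib.Sporadic.GolayCore (ofMask mem_ofMask ofMask_inj)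
open Cfsg.Agent.Lib.Sporadic.M24Sextet (famOf mem_famOf)
open scoped Pointwise

/-- The block rule: masks preserved by the group, octads with five fixed points, the singletons of the images of the fixed
points, and members of the disjoint families containing a fixed point. -/
def blockFams (τL E : List ℕ) (Fs : List (List ℕ)) (F : List ℕ) (m : ℕ) : Bool :=
  blockOK E F m || F.any (fun b => Nat.blt b 24 && m == 2 ^ (τL.getD b 0)) ||
    Fs.any (fun A => A.contains m && F.any (fun b => Nat.blt b 24 && m.testBit b))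

/-- The context of a subgroup of a centralizer. -/
theorem ctxSub {K : Subgroup P} {τ : P} (hK : K ≤ Cen τ) {memK : List ℕ → Bool}
    (hv : ∀ L, memK L = true → validL L = true) (hm : ∀ L σ, memK L = true → Codes L σ → σ ∈ K)
    {E : List ℕ} {Fs : List (List ℕ)} (hE : ∀ m ∈ E, Pres K m)
    (hFs : ∀ A ∈ Fs, famDisj A = true ∧ ∀ g ∈ K, ∀ m ∈ A, ∃ m' ∈ A, g • maskSupport m = maskSupport m') :
    CtxB K memK (blockFams (toL (τ : GolayPt → GolayPt)) E Fs) where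
  le := fun g hg => (mem_Cen.1 (hK hg)).1
  valid := hv
  mem := hm
  pres := by
    intro F m h
    simp only [blockFams, Bool.or_eq_true, Bool.and_eq_true, List.any_eq_true, beq_iff_eq, List.contains_iff_mem,
      Nat.blt_eq] at h
    rcases h with (h | ⟨b, hb, hb24, rfl⟩) | ⟨A, hA, hm, b, hb, hb24, hbit⟩
    · simp only [blockOK, Bool.or_eq_true, Bool.and_eq_true, List.contains_iff_mem, beq_iff_eq] at h
      rcases h with h | ⟨⟨h1, h2⟩, h3⟩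
      · exact (hE m h).mono (fun g hg => hg.1)
      · exact pres_octad (fun g hg => (mem_Cen.1 (hK hg)).1) h1 h2 (Nat.le_of_ble_eq_true h3)
    · exact (pres_singleton hb hb24).mono (fun g hg => ⟨hK hg.1, hg.2⟩)
    · intro g hg p
      obtain ⟨hd, hA'⟩ := hFs A hA
      obtain ⟨m', hm', heq⟩ := hA' g hg.1 m hm
      have h1 : idxPt b ∈ maskSupport m := by
        rw [mem_maskSupport_iff, ptIdx_idxPt hb24]
        exact hbit
      have h2 : g (idxPt b) ∈ g • maskSupport m := Finset.smul_mem_smul_finset (a := g) h1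
      rw [hg.2 b hb, heq, mem_maskSupport_iff, ptIdx_idxPt hb24] at h2
      have h3 := eq_of_famDisj hd hm hm' hbit h2
      subst h3
      have h4 : g • p ∈ g • maskSupport m ↔ p ∈ maskSupport m := Finset.smul_mem_smul_finset_iff g
      rw [heq, mem_maskSupport_iff, mem_maskSupport_iff] at h4
      rw [Bool.eq_iff_iff]
      exact h4

/-- The octad of the fixed points of `t8P`. -/
def O8 : ℕ := 8536111

/-- The partition of the octad in two planes. -/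
def A8 : List ℕ := [8519683,16428]

/-- The partition of the octad in four parallel lines. -/
def B8 : List ℕ := [8388609,131074,36,16392]

/-- The chain of the Sylow 2-subgroup. -/
def lvlP0 : List Level := [
  ⟨23, [[23,1,2,14,20,5,8,18,22,21,19,13,16,9,3,6,10,17,4,12,7,11,15,0],
    [17,0,2,14,21,5,16,18,7,20,19,13,8,4,3,12,11,23,9,6,22,10,15,1],
    [5,3,0,17,20,23,8,18,9,21,19,13,16,22,1,11,4,14,10,7,12,6,15,2],
    [14,2,0,17,9,23,12,22,16,6,10,11,4,19,1,15,20,5,18,13,21,8,7,3],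
    [2,3,0,1,4,23,6,7,19,9,10,11,12,20,17,16,15,14,21,8,13,18,22,5],
    [3,2,0,1,4,23,6,10,13,9,7,22,12,16,17,20,18,5,8,21,19,15,11,14],
    [1,0,2,3,20,5,8,13,4,16,18,15,21,22,14,10,12,23,11,7,6,9,19,17],
    [0,1,2,3,4,5,6,7,8,9,10,11,12,13,14,15,16,17,18,19,20,21,22,23]], [8536111]⟩,
  ⟨0, [[0,1,2,3,4,5,6,7,8,9,10,11,12,13,14,15,16,17,18,19,20,21,22,23]], [8536111,8519683,8388609]⟩,
  ⟨4, [[0,1,2,3,4,5,6,7,8,9,10,11,12,13,14,15,16,17,18,19,20,21,22,23],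
    [0,1,2,3,6,5,4,22,20,12,11,10,9,19,14,18,21,17,15,13,8,16,7,23],
    [0,1,2,3,7,5,22,4,15,11,12,9,10,21,14,8,19,17,20,16,18,13,6,23],
    [0,1,2,3,8,5,20,15,4,21,19,13,16,11,14,7,12,17,22,10,6,9,18,23],
    [0,1,2,3,9,5,12,11,21,4,22,7,6,15,14,13,20,17,19,18,16,8,10,23],
    [0,1,2,3,10,5,11,12,19,22,4,6,7,20,14,16,15,17,21,8,13,18,9,23],
    [0,1,2,3,11,5,10,9,13,7,6,4,22,8,14,21,18,17,16,20,19,15,12,23],
    [0,1,2,3,12,5,9,10,16,6,7,22,4,18,14,19,8,17,13,15,21,20,11,23],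
    [0,1,2,3,13,5,19,21,11,15,20,8,18,4,14,9,22,17,12,6,10,7,16,23],
    [0,1,2,3,15,5,18,8,7,13,16,21,19,9,14,4,10,17,6,12,22,11,20,23],
    [0,1,2,3,16,5,21,19,12,20,15,18,8,22,14,10,4,17,11,7,9,6,13,23],
    [0,1,2,3,18,5,15,20,22,19,21,16,13,12,14,6,11,17,4,9,7,10,8,23],
    [0,1,2,3,19,5,13,16,10,18,8,20,15,6,14,12,7,17,9,4,11,22,21,23],
    [0,1,2,3,20,5,8,18,6,16,13,19,21,10,14,22,9,17,7,11,4,12,15,23],
    [0,1,2,3,21,5,16,13,9,8,18,15,20,7,14,11,6,17,10,22,12,4,19,23],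
    [0,1,2,3,22,5,7,6,18,10,9,12,11,16,14,20,13,17,8,21,15,19,4,23]], [8536111]⟩,
  ⟨6, [[0,1,2,3,4,5,6,7,8,9,10,11,12,13,14,15,16,17,18,19,20,21,22,23]], [8536111,64]⟩,
  ⟨1, [[0,1,2,3,4,5,6,7,8,9,10,11,12,13,14,15,16,17,18,19,20,21,22,23],
    [0,17,2,14,4,5,6,22,19,12,10,11,9,20,3,21,18,1,16,8,13,15,7,23]], [8536111,8519683]⟩,
  ⟨17, [[0,1,2,3,4,5,6,7,8,9,10,11,12,13,14,15,16,17,18,19,20,21,22,23]], [8536111,8519683]⟩,
  ⟨2, [[0,1,2,3,4,5,6,7,8,9,10,11,12,13,14,15,16,17,18,19,20,21,22,23],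
    [0,1,3,2,4,14,6,10,21,9,7,22,12,19,5,18,20,17,15,13,16,8,11,23],
    [0,1,5,14,4,2,6,22,16,9,11,10,12,15,3,13,8,17,19,18,21,20,7,23],
    [0,1,14,5,4,3,6,11,20,9,22,7,12,18,2,19,21,17,13,15,8,16,10,23]], [8536111]⟩,
  ⟨3, [[0,1,2,3,4,5,6,7,8,9,10,11,12,13,14,15,16,17,18,19,20,21,22,23]], [8536111,36,8683614]⟩,
  ⟨5, [[0,1,2,3,4,5,6,7,8,9,10,11,12,13,14,15,16,17,18,19,20,21,22,23]], [8536111,36]⟩,
  ⟨7, [[0,1,2,3,4,5,6,7,8,9,10,11,12,13,14,15,16,17,18,19,20,21,22,23]], [8536111,8391797,262637,786999,10486557]⟩,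
  ⟨8, [[0,1,2,3,4,5,6,7,8,9,10,11,12,13,14,15,16,17,18,19,20,21,22,23]], [8536111,4194304,8391797,262637,525274]⟩,
  ⟨9, [[0,1,2,3,4,5,6,7,8,9,10,11,12,13,14,15,16,17,18,19,20,21,22,23]], [8536111,1048576,4194304,8391797,262637,525274,1050548]⟩,
  ⟨10, [[0,1,2,3,4,5,6,7,8,9,10,11,12,13,14,15,16,17,18,19,20,21,22,23]], [8536111,4096,1048576,4194304,8391797,1050548]⟩,
  ⟨11, [[0,1,2,3,4,5,6,7,8,9,10,11,12,13,14,15,16,17,18,19,20,21,22,23]], [8536111,2048]⟩,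
  ⟨12, [[0,1,2,3,4,5,6,7,8,9,10,11,12,13,14,15,16,17,18,19,20,21,22,23]], [8536111,4096]⟩,
  ⟨13, [[0,1,2,3,4,5,6,7,8,9,10,11,12,13,14,15,16,17,18,19,20,21,22,23]], [8536111,1048576,4194304,262637,525274,2101096,36294,69395]⟩,
  ⟨14, [[0,1,2,3,4,5,6,7,8,9,10,11,12,13,14,15,16,17,18,19,20,21,22,23]], [8536111]⟩,
  ⟨15, [[0,1,2,3,4,5,6,7,8,9,10,11,12,13,14,15,16,17,18,19,20,21,22,23]], [524288,1048576,4194304,262637,2101096,36294]⟩,
  ⟨16, [[0,1,2,3,4,5,6,7,8,9,10,11,12,13,14,15,16,17,18,19,20,21,22,23]], [262144,524288,1048576,4194304,2101096]⟩,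
  ⟨18, [[0,1,2,3,4,5,6,7,8,9,10,11,12,13,14,15,16,17,18,19,20,21,22,23]], [2097152,262144]⟩,
  ⟨19, [[0,1,2,3,4,5,6,7,8,9,10,11,12,13,14,15,16,17,18,19,20,21,22,23]], [2097152,524288]⟩,
  ⟨20, [[0,1,2,3,4,5,6,7,8,9,10,11,12,13,14,15,16,17,18,19,20,21,22,23]], [2097152,1048576]⟩,
  ⟨21, [[0,1,2,3,4,5,6,7,8,9,10,11,12,13,14,15,16,17,18,19,20,21,22,23]], [2097152]⟩,
  ⟨22, [[0,1,2,3,4,5,6,7,8,9,10,11,12,13,14,15,16,17,18,19,20,21,22,23]], []⟩]

/-- The chain of the centralizer. -/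
def lvlC8 : List Level := [
  ⟨23, [[1,2,3,17,10,5,11,22,21,19,15,18,13,4,23,8,12,14,20,6,16,9,7,0],
    [0,2,3,23,21,5,16,8,22,12,4,6,9,13,17,10,18,14,11,19,7,15,20,1],
    [0,1,3,23,22,17,7,12,19,18,21,16,15,6,5,20,11,14,8,4,13,10,9,2],
    [0,1,2,23,10,17,11,9,19,18,20,8,15,4,14,21,7,5,16,6,13,22,12,3],
    [0,1,2,17,19,23,13,12,10,7,20,8,22,4,14,16,18,3,21,6,11,15,9,5],
    [0,1,3,17,6,23,4,15,16,8,7,22,20,19,5,11,12,2,10,13,21,9,18,14],
    [0,1,2,5,10,3,11,21,19,7,8,20,22,6,14,9,18,23,12,4,13,15,16,17],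
    [0,1,2,3,4,5,6,7,8,9,10,11,12,13,14,15,16,17,18,19,20,21,22,23]], [8536111]⟩,
  ⟨4, [[0,1,2,3,4,5,6,7,8,9,10,11,12,13,14,15,16,17,18,19,20,21,22,23],
    [0,1,2,3,6,5,4,22,20,12,11,10,9,19,14,18,21,17,15,13,8,16,7,23],
    [0,1,2,3,7,5,22,4,15,11,12,9,10,21,14,8,19,17,20,16,18,13,6,23],
    [0,1,2,3,8,5,20,15,4,21,19,13,16,11,14,7,12,17,22,10,6,9,18,23],
    [0,1,2,3,9,5,12,11,21,4,22,7,6,15,14,13,20,17,19,18,16,8,10,23],
    [0,1,2,3,10,5,11,12,19,22,4,6,7,20,14,16,15,17,21,8,13,18,9,23],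
    [0,1,2,3,11,5,10,9,13,7,6,4,22,8,14,21,18,17,16,20,19,15,12,23],
    [0,1,2,3,12,5,9,10,16,6,7,22,4,18,14,19,8,17,13,15,21,20,11,23],
    [0,1,2,3,13,5,19,21,11,15,20,8,18,4,14,9,22,17,12,6,10,7,16,23],
    [0,1,2,3,15,5,18,8,7,13,16,21,19,9,14,4,10,17,6,12,22,11,20,23],
    [0,1,2,3,16,5,21,19,12,20,15,18,8,22,14,10,4,17,11,7,9,6,13,23],
    [0,1,2,3,18,5,15,20,22,19,21,16,13,12,14,6,11,17,4,9,7,10,8,23],
    [0,1,2,3,19,5,13,16,10,18,8,20,15,6,14,12,7,17,9,4,11,22,21,23],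
    [0,1,2,3,20,5,8,18,6,16,13,19,21,10,14,22,9,17,7,11,4,12,15,23],
    [0,1,2,3,21,5,16,13,9,8,18,15,20,7,14,11,6,17,10,22,12,4,19,23],
    [0,1,2,3,22,5,7,6,18,10,9,12,11,16,14,20,13,17,8,21,15,19,4,23]], [8536111]⟩,
  ⟨6, [[0,1,2,3,4,5,6,7,8,9,10,11,12,13,14,15,16,17,18,19,20,21,22,23]], [8536111,64]⟩,
  ⟨0, [[0,1,2,3,4,5,6,7,8,9,10,11,12,13,14,15,16,17,18,19,20,21,22,23],
    [1,0,2,5,4,3,6,19,20,12,18,15,9,22,14,11,16,17,10,7,8,21,13,23],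
    [2,0,1,17,4,3,6,21,8,10,15,18,11,22,14,9,13,5,12,7,20,19,16,23],
    [3,0,1,17,4,2,6,8,21,7,18,15,22,11,5,9,19,14,12,10,16,13,20,23],
    [5,0,1,17,4,14,6,20,16,11,13,19,10,7,3,9,15,2,12,22,21,18,8,23],
    [14,0,1,17,4,5,6,16,20,22,19,13,7,10,2,9,18,3,12,11,8,15,21,23],
    [17,0,2,5,4,14,6,8,13,9,16,21,12,7,3,11,18,1,10,22,19,15,20,23]], [8536111]⟩,
  ⟨1, [[0,1,2,3,4,5,6,7,8,9,10,11,12,13,14,15,16,17,18,19,20,21,22,23],
    [0,2,1,3,4,17,6,7,20,11,12,9,10,16,14,18,13,5,15,21,8,19,22,23],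
    [0,3,1,2,4,17,6,10,16,22,12,9,7,20,5,15,19,14,18,8,21,13,11,23],
    [0,5,1,14,4,17,6,22,21,10,12,9,11,8,3,19,15,2,13,20,16,18,7,23],
    [0,14,1,5,4,17,6,11,8,7,12,9,22,21,2,13,18,3,19,16,20,15,10,23],
    [0,17,2,14,4,5,6,22,19,12,10,11,9,20,3,21,18,1,16,8,13,15,7,23]], [8536111]⟩,
  ⟨17, [[0,1,2,3,4,5,6,7,8,9,10,11,12,13,14,15,16,17,18,19,20,21,22,23]], [8536111,8524371]⟩,
  ⟨2, [[0,1,2,3,4,5,6,7,8,9,10,11,12,13,14,15,16,17,18,19,20,21,22,23],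
    [0,1,3,2,4,14,6,10,21,9,7,22,12,19,5,18,20,17,15,13,16,8,11,23],
    [0,1,5,14,4,2,6,22,16,9,11,10,12,15,3,13,8,17,19,18,21,20,7,23],
    [0,1,14,5,4,3,6,11,20,9,22,7,12,18,2,19,21,17,13,15,8,16,10,23]], [8536111]⟩,
  ⟨3, [[0,1,2,3,4,5,6,7,8,9,10,11,12,13,14,15,16,17,18,19,20,21,22,23]], [8536111,8391797,8683614]⟩,
  ⟨5, [[0,1,2,3,4,5,6,7,8,9,10,11,12,13,14,15,16,17,18,19,20,21,22,23]], [8536111,8391797]⟩,
  ⟨7, [[0,1,2,3,4,5,6,7,8,9,10,11,12,13,14,15,16,17,18,19,20,21,22,23]], [8536111,8391797,262637,786999,10486557]⟩,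
  ⟨8, [[0,1,2,3,4,5,6,7,8,9,10,11,12,13,14,15,16,17,18,19,20,21,22,23]], [8536111,4194304,8391797,262637,525274]⟩,
  ⟨9, [[0,1,2,3,4,5,6,7,8,9,10,11,12,13,14,15,16,17,18,19,20,21,22,23]], [8536111,1048576,4194304,8391797,262637,525274,1050548]⟩,
  ⟨10, [[0,1,2,3,4,5,6,7,8,9,10,11,12,13,14,15,16,17,18,19,20,21,22,23]], [8536111,4096,1048576,4194304,8391797,1050548]⟩,
  ⟨11, [[0,1,2,3,4,5,6,7,8,9,10,11,12,13,14,15,16,17,18,19,20,21,22,23]], [8536111,2048]⟩,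
  ⟨12, [[0,1,2,3,4,5,6,7,8,9,10,11,12,13,14,15,16,17,18,19,20,21,22,23]], [8536111,4096]⟩,
  ⟨13, [[0,1,2,3,4,5,6,7,8,9,10,11,12,13,14,15,16,17,18,19,20,21,22,23]], [8536111,1048576,4194304,262637,525274,2101096,36294,69395]⟩,
  ⟨14, [[0,1,2,3,4,5,6,7,8,9,10,11,12,13,14,15,16,17,18,19,20,21,22,23]], [8536111]⟩,
  ⟨15, [[0,1,2,3,4,5,6,7,8,9,10,11,12,13,14,15,16,17,18,19,20,21,22,23]], [524288,1048576,4194304,262637,2101096,36294]⟩,
  ⟨16, [[0,1,2,3,4,5,6,7,8,9,10,11,12,13,14,15,16,17,18,19,20,21,22,23]], [262144,524288,1048576,4194304,2101096]⟩,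
  ⟨18, [[0,1,2,3,4,5,6,7,8,9,10,11,12,13,14,15,16,17,18,19,20,21,22,23]], [2097152,262144]⟩,
  ⟨19, [[0,1,2,3,4,5,6,7,8,9,10,11,12,13,14,15,16,17,18,19,20,21,22,23]], [2097152,524288]⟩,
  ⟨20, [[0,1,2,3,4,5,6,7,8,9,10,11,12,13,14,15,16,17,18,19,20,21,22,23]], [2097152,1048576]⟩,
  ⟨21, [[0,1,2,3,4,5,6,7,8,9,10,11,12,13,14,15,16,17,18,19,20,21,22,23]], [2097152]⟩,
  ⟨22, [[0,1,2,3,4,5,6,7,8,9,10,11,12,13,14,15,16,17,18,19,20,21,22,23]], []⟩]

def g0L : List ℕ := [17,0,2,14,12,5,9,7,18,4,11,10,6,20,3,21,19,23,16,8,15,13,22,1]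

theorem O8_bits : ∀ i : Fin 24, O8.testBit i.val = (t8L.getD i.val 0 == i.val) := by decide +kernel

theorem mem_O8_iff (p : GolayPt) : O8.testBit (ptIdx p) = true ↔ t8P p = p := by
  have h1 := O8_bits ⟨_, ptIdx_lt p⟩
  simp only at h1
  rw [h1]
  have h2 := getD_toL t8P (ptIdx_lt p)
  rw [t8P_toL, idxPt_ptIdx] at h2
  rw [h2]
  constructor
  · intro h
    exact ptIdx_injective (by simpa using h)
  · intro h
    rw [h]
    simp

theorem pres_O8 : Pres (Cen t8P) O8 := by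
  intro g hg p
  have hc := (mem_Cen.1 hg).2
  rw [Bool.eq_iff_iff, mem_O8_iff, mem_O8_iff]
  have h1 : g (t8P p) = t8P (g p) := by
    have := congrArg (fun f : P => f p) hc
    simpa using this
  constructor
  · intro h
    apply g.injective
    rw [h1, h]
  · intro h
    rw [← h1, h]

/-- The Sylow 2-subgroup. -/
noncomputable def P0 : Subgroup P := Cen t8P ⊓ MulAction.stabilizer P (famOf A8) ⊓ MulAction.stabilizer P (famOf B8)

theorem mem_P0 {g : P} : g ∈ P0 ↔ g ∈ Cen t8P ∧ g • famOf A8 = famOf A8 ∧ g • famOf B8 = famOf B8 := by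
  simp [P0, Subgroup.mem_inf, MulAction.mem_stabilizer_iff, and_assoc]

theorem A8_lt : ∀ m ∈ A8, m < 2 ^ 24 := by decide +kernel
theorem B8_lt : ∀ m ∈ B8, m < 2 ^ 24 := by decide +kernel

/-- The membership test. -/
def memP0 (L : List ℕ) : Bool := memCen t8L L && fixFam L A8 && fixFam L B8

theorem memP0_valid {L : List ℕ} (h : memP0 L = true) : validL L = true := by
  simp only [memP0, Bool.and_eq_true] at h
  exact memCen_valid h.1.1

theorem memP0_mem {L : List ℕ} {σ : P} (h : memP0 L = true) (hσ : Codes L σ) : σ ∈ P0 := by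
  have hv := memP0_valid h
  simp only [memP0, Bool.and_eq_true] at h
  have hL := toL_eq_of_codes hv hσ
  refine mem_P0.2 ⟨memCen_mem (by rw [t8P_toL]; exact h.1.1) hσ, ?_, ?_⟩
  · refine (smul_famOf_iff σ A8_lt).2 ?_
    rw [← hL]
    exact h.1.2
  · refine (smul_famOf_iff σ B8_lt).2 ?_
    rw [← hL]
    exact h.2

theorem fam_pres {L : List ℕ} {g : P} (h : g • famOf L = famOf L) (m : ℕ) (hm : m ∈ L) :
    ∃ m' ∈ L, g • maskSupport m = maskSupport m' := by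
  have h1 : ofMask m ∈ famOf L := mem_famOf.2 ⟨m, hm, rfl⟩
  have h2 : g • ofMask m ∈ g • famOf L := Finset.smul_mem_smul_finset h1
  rw [h] at h2
  obtain ⟨m', hm', he⟩ := mem_famOf.1 h2
  exact ⟨m', hm', by rw [← ofMask_eq, ← ofMask_eq, he]⟩

theorem A8_disj : famDisj A8 = true := by decide +kernel
theorem B8_disj : famDisj B8 = true := by decide +kernel

theorem ctxP0 : CtxB P0 memP0 (blockFams t8L [O8] [A8, B8]) := by
  have := ctxSub (K := P0) (τ := t8P) (memK := memP0) (E := [O8]) (Fs := [A8, B8])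
    (fun g hg => (mem_P0.1 hg).1) (fun L h => memP0_valid h) (fun L σ h hσ => memP0_mem h hσ)
    (by
      intro m hm
      rw [List.mem_singleton.1 hm]
      exact pres_O8.mono (fun g hg => (mem_P0.1 hg).1))
    (by
      intro A hA
      simp only [List.mem_cons, List.not_mem_nil, or_false] at hA
      rcases hA with rfl | rfl
      · exact ⟨A8_disj, fun g hg m hm => fam_pres (mem_P0.1 hg).2.1 m hm⟩
      · exact ⟨B8_disj, fun g hg m hm => fam_pres (mem_P0.1 hg).2.2 m hm⟩)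
  rwa [t8P_toL] at this

/-- The end of the chains. -/
def Fall : List ℕ := [22,21,20,19,18,16,15,14,13,12,11,10,9,8,7,5,3,2,17,1,6,4,0,23]
def FallC : List ℕ := [22,21,20,19,18,16,15,14,13,12,11,10,9,8,7,5,3,2,17,1,0,6,4,23]

theorem Fall_ok : (List.range 24).all Fall.contains = true := by decide +kernel
theorem FallC_ok : (List.range 24).all FallC.contains = true := by decide +kernel

set_option maxHeartbeats 0 in
theorem lvlP0_ok : chainCheckB memP0 (blockFams t8L [O8] [A8, B8]) Fall [] lvlP0 = true := by decide +kernel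

theorem chainOrder_P0 : chainOrder lvlP0 = 1024 := by decide +kernel

theorem card_P0 : Nat.card P0 = 1024 := by
  have h := chain_cardB ctxP0 _ _ _ lvlP0_ok
  have h1 : fixIn P0 Fall = ⊥ := by
    rw [eq_bot_iff]
    intro g hg
    exact eq_one_of_all_fixed Fall_ok g hg
  rw [fixIn_nil, h1, chainOrder_P0] at h
  simpa using h

theorem ctxC8 : CtxB (Cen t8P) (memCen t8L) (blockFams t8L [O8] []) := by
  have := ctxSub (K := Cen t8P) (τ := t8P) (memK := memCen t8L) (E := [O8]) (Fs := [])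
    (fun g hg => hg) (fun L h => memCen_valid h) (fun L σ h hσ => memCen_mem (by rw [t8P_toL]; exact h) hσ)
    (by
      intro m hm
      rw [List.mem_singleton.1 hm]
      exact pres_O8)
    (by simp)
  rwa [t8P_toL] at this

set_option maxHeartbeats 0 in
theorem lvlC8_ok : chainCheckB (memCen t8L) (blockFams t8L [O8] []) FallC [] lvlC8 = true := by decide +kernel

theorem chainOrder_C8 : chainOrder lvlC8 = 21504 := by decide +kernel

theorem fixC8_trivial : ∀ g ∈ fixIn (Cen t8P) FallC, g = 1 := fun g hg => eq_one_of_all_fixed FallC_ok g hg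

theorem card_C8 : Nat.card (Cen t8P) = 21504 := by
  have h := chain_cardB ctxC8 _ _ _ lvlC8_ok
  have h1 : fixIn (Cen t8P) FallC = ⊥ := by
    rw [eq_bot_iff]
    intro g hg
    exact fixC8_trivial g hg
  rw [fixIn_nil, h1, chainOrder_C8] at h
  simpa using h

end Cfsg.Agent.Lib.Compute.M24
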