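import Cfsg.Agent.Lib.Compute.M24Classes

/-!
# Chain certificates with a general rule for blocks, and centralizers in `M24`

The block rule `B F m` may use the list `F` of the points fixed at the current level.  It applies to a centralizer,
where the image of a fixed point is fixed, and to the stabilizer of a family of disjoint masks, where a member containing
a fixed point is preserved.
-/

set_option autoImplicit false

namespace Cfsg.Agent.Lib.Compute.M24

open Cfsg Cfsg.Agent.Lib.Compute.Golay Cfsg.Agent.Lib.Compute.GolayFast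
open scoped Pointwise

/-- What `memK` and the rule `B` mean. -/
structure CtxB (K : Subgroup P) (memK : List ℕ → Bool) (B : List ℕ → ℕ → Bool) : Prop where
  le : K ≤ M24
  valid : ∀ L, memK L = true → validL L = true
  mem : ∀ L σ, memK L = true → Codes L σ → σ ∈ K
  pres : ∀ F m, B F m = true → Pres (fixIn K F) m

/-- The check of one level. -/
def levelCheckB (memK : List ℕ → Bool) (B : List ℕ → ℕ → Bool) (F : List ℕ) (lv : Level) : Bool :=
  !F.contains lv.b && Nat.blt lv.b 24 &&
    lv.T.all (fun L => memK L && F.all (fun i => L.getD i 0 == i)) &&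
    lv.blocks.all (B F) && cellOK F lv.blocks lv.b (orbitL lv) && decide (orbitL lv).Nodup

/-- The check of a chain down to the fixed list `Fend`. -/
def chainCheckB (memK : List ℕ → Bool) (B : List ℕ → ℕ → Bool) (Fend : List ℕ) : List ℕ → List Level → Bool
  | F, [] => F == Fend
  | F, lv :: lvs => levelCheckB memK B F lv && chainCheckB memK B Fend (lv.b :: F) lvs

section

variable {K : Subgroup P} {memK : List ℕ → Bool} {B : List ℕ → ℕ → Bool}
variable (ctx : CtxB K memK B) {F : List ℕ} {lv : Level}
include ctx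

/-- Upper bound on the orbit of a level. -/
theorem level_subB (h : levelCheckB memK B F lv = true) (g : P) (hg : g ∈ fixIn K F) :
    ptIdx (g (idxPt lv.b)) ∈ orbitL lv := by
  simp only [levelCheckB, Bool.and_eq_true, Bool.not_eq_true', decide_eq_true_eq, List.all_eq_true] at h
  obtain ⟨⟨⟨⟨⟨hb1, hb2⟩, hT⟩, hbl⟩, hcell⟩, hnd⟩ := h
  have hb24 : lv.b < 24 := by simpa [Nat.blt_eq] using hb2
  have hbF : lv.b ∉ F := by simpa using hb1
  have hpres : ∀ m ∈ lv.blocks, Pres (fixIn K F) m := fun m hm => ctx.pres F m (hbl m hm)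
  set q := ptIdx (g (idxPt lv.b)) with hq
  have hq24 : q < 24 := ptIdx_lt _
  have hqF : q ∉ F := by
    intro hqF
    have h1 : g (idxPt q) = idxPt q := hg.2 q hqF
    have h2 : idxPt q = g (idxPt lv.b) := by rw [hq, idxPt_ptIdx]
    rw [h2] at h1
    have h3 : g (idxPt lv.b) = idxPt lv.b := g.injective h1
    rw [h3, ptIdx_idxPt hb24] at hq
    rw [hq] at hqF
    exact hbF hqF
  have hsame : sameCell lv.blocks q lv.b = true := by
    simp only [sameCell, List.all_eq_true, beq_iff_eq]
    intro m hm
    have := hpres m hm g hg (idxPt lv.b)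
    rwa [ptIdx_idxPt hb24] at this
  have := List.all_eq_true.1 hcell q (List.mem_range.2 hq24)
  simp only [Bool.or_eq_true, List.contains_iff_mem, Bool.not_eq_true'] at this
  rcases this with (h | h) | h
  · exact absurd h hqF
  · rw [hsame] at h; exact absurd h (by decide)
  · exact h

/-- Elements from the transversal of a level. -/
theorem level_supB (h : levelCheckB memK B F lv = true) {L : List ℕ} (hL : L ∈ lv.T) :
    validL L = true ∧ ∃ g ∈ fixIn K F, Codes L g := by
  simp only [levelCheckB, Bool.and_eq_true, Bool.not_eq_true', decide_eq_true_eq, List.all_eq_true] at h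
  obtain ⟨⟨⟨⟨⟨hb1, hb2⟩, hT⟩, hbl⟩, hcell⟩, hnd⟩ := h
  obtain ⟨h1, h2⟩ := hT L hL
  have hv := ctx.valid L h1
  obtain ⟨σ, hσ⟩ := exists_perm_of_validL hv
  refine ⟨hv, σ, ⟨ctx.mem L σ h1 hσ, fun i hi => ?_⟩, hσ⟩
  have h3 := h2 i hi
  have h4 : L.getD i 0 = i := by simpa using h3
  have hi24 : i < 24 ∨ 24 ≤ i := by omega
  rw [hσ (idxPt i)]
  rcases hi24 with hi24 | hi24
  · rw [ptIdx_idxPt hi24, h4]
  · have : i < 24 := by
      have := getD_lt_of_validL hv i
      omega
    omega

/-- One level of orbit-stabilizer. -/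
theorem level_cardB (h : levelCheckB memK B F lv = true) :
    Nat.card (fixIn K F) = lv.T.length * Nat.card (fixIn K (lv.b :: F)) := by
  classical
  have hnd : (orbitL lv).Nodup := by
    simp only [levelCheckB, Bool.and_eq_true, decide_eq_true_eq] at h
    exact h.2
  have hb24 : lv.b < 24 := by
    simp only [levelCheckB, Bool.and_eq_true, Nat.blt_eq] at h
    exact h.1.1.1.1.2
  have hlt : ∀ d ∈ orbitL lv, d < 24 := by
    intro d hd
    obtain ⟨L, hL, rfl⟩ := List.mem_map.1 hd
    exact getD_lt_of_validL (level_supB ctx h hL).1 _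
  let Δ : Finset GolayPt := (orbitL lv).toFinset.image idxPt
  have hcard : Δ.card = lv.T.length := by
    have h1 : Δ.card = (orbitL lv).toFinset.card := by
      refine Finset.card_image_of_injOn ?_
      intro a ha b hb hab
      have ha' : a < 24 := hlt a (by simpa using ha)
      have hb' : b < 24 := hlt b (by simpa using hb)
      have := congrArg ptIdx hab
      rwa [ptIdx_idxPt ha', ptIdx_idxPt hb'] at this
    rw [h1, List.toFinset_card_of_nodup hnd, orbitL, List.length_map]
  rw [← hcard]
  refine card_fixIn_cons K F lv.b Δ ?_ ?_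
  · intro g hg
    have := level_subB ctx h g hg
    refine Finset.mem_image.2 ⟨_, List.mem_toFinset.2 this, ?_⟩
    rw [idxPt_ptIdx]
  · intro d hd
    obtain ⟨i, hi, rfl⟩ := Finset.mem_image.1 hd
    obtain ⟨L, hL, rfl⟩ := List.mem_map.1 (List.mem_toFinset.1 hi)
    obtain ⟨hv, g, hg, hc⟩ := level_supB ctx h hL
    exact ⟨g, hg, by rw [hc (idxPt lv.b), ptIdx_idxPt hb24]⟩

end

variable {K : Subgroup P} {memK : List ℕ → Bool} {B : List ℕ → ℕ → Bool}

/-- The order of a group down to the stabilizer of `Fend`. -/
theorem chain_cardB (ctx : CtxB K memK B) (Fend F : List ℕ) (lvs : List Level)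
    (h : chainCheckB memK B Fend F lvs = true) :
    Nat.card (fixIn K F) = chainOrder lvs * Nat.card (fixIn K Fend) := by
  induction lvs generalizing F with
  | nil =>
    simp only [chainCheckB, beq_iff_eq] at h
    subst h
    simp [chainOrder]
  | cons lv lvs ih =>
    simp only [chainCheckB, Bool.and_eq_true] at h
    rw [level_cardB ctx h.1, ih _ h.2, chainOrder, mul_assoc]

/-- Every element is a product of transversal elements and an element of the stabilizer of `Fend`. -/
theorem chain_genB (ctx : CtxB K memK B) (Fend : List ℕ) (hend : ∀ g ∈ fixIn K Fend, g = 1)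
    (F : List ℕ) (lvs : List Level) (h : chainCheckB memK B Fend F lvs = true) :
    ∀ g ∈ fixIn K F, g ∈ Subgroup.closure (chainGens lvs) := by
  induction lvs generalizing F with
  | nil =>
    intro g hg
    simp only [chainCheckB, beq_iff_eq] at h
    subst h
    rw [hend g hg]
    exact Subgroup.one_mem _
  | cons lv lvs ih =>
    simp only [chainCheckB, Bool.and_eq_true] at h
    intro g hg
    have hb24 : lv.b < 24 := by
      have := h.1
      simp only [levelCheckB, Bool.and_eq_true, Nat.blt_eq] at this
      exact this.1.1.1.1.2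
    obtain ⟨L, hL, hLb⟩ := List.mem_map.1 (level_subB ctx h.1 g hg)
    obtain ⟨hv, t, ht, hc⟩ := level_supB ctx h.1 hL
    have ht2 : t (idxPt lv.b) = g (idxPt lv.b) := by
      rw [hc (idxPt lv.b), ptIdx_idxPt hb24, hLb, idxPt_ptIdx]
    have hmem : t⁻¹ * g ∈ fixIn K (lv.b :: F) := by
      refine ⟨K.mul_mem (K.inv_mem ht.1) hg.1, fun i hi => ?_⟩
      rcases List.mem_cons.1 hi with rfl | hi
      · rw [Equiv.Perm.mul_apply, ← ht2]
        simp
      · have h1 := hg.2 i hi
        have h2 := ht.2 i hi
        rw [Equiv.Perm.mul_apply, h1, Equiv.Perm.inv_eq_iff_eq, h2]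
    have h1 := ih _ h.2 _ hmem
    have h2 : t ∈ Subgroup.closure (chainGens (lv :: lvs)) :=
      Subgroup.subset_closure ⟨lv, List.mem_cons_self, L, hL, hc⟩
    have h3 : t⁻¹ * g ∈ Subgroup.closure (chainGens (lv :: lvs)) := by
      refine Subgroup.closure_mono ?_ h1
      rintro σ ⟨lv', hlv', L', hL', hc'⟩
      exact ⟨lv', List.mem_cons_of_mem _ hlv', L', hL', hc'⟩
    have := Subgroup.mul_mem _ h2 h3
    simpa using this

/-- A test on all the products of transversal elements. -/
theorem chain_forallB (ctx : CtxB K memK B) (Fend : List ℕ) (hend : ∀ g ∈ fixIn K Fend, g = 1)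
    (Q : List ℕ → Bool) (F : List ℕ) (lvs : List Level) (h : chainCheckB memK B Fend F lvs = true)
    (a : P) (hQ : allProd lvs (toL a) Q = true) : ∀ g ∈ fixIn K F, Q (toL ((a * g : P) : GolayPt → GolayPt)) = true := by
  induction lvs generalizing F a with
  | nil =>
    intro g hg
    simp only [chainCheckB, beq_iff_eq] at h
    subst h
    rw [hend g hg, mul_one]
    exact hQ
  | cons lv lvs ih =>
    simp only [chainCheckB, Bool.and_eq_true] at h
    intro g hg
    have hb24 : lv.b < 24 := by
      have := h.1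
      simp only [levelCheckB, Bool.and_eq_true, Nat.blt_eq] at this
      exact this.1.1.1.1.2
    obtain ⟨L, hL, hLb⟩ := List.mem_map.1 (level_subB ctx h.1 g hg)
    obtain ⟨hv, t, ht, hc⟩ := level_supB ctx h.1 hL
    have ht2 : t (idxPt lv.b) = g (idxPt lv.b) := by
      rw [hc (idxPt lv.b), ptIdx_idxPt hb24, hLb, idxPt_ptIdx]
    have hmem : t⁻¹ * g ∈ fixIn K (lv.b :: F) := by
      refine ⟨K.mul_mem (K.inv_mem ht.1) hg.1, fun i hi => ?_⟩
      rcases List.mem_cons.1 hi with rfl | hi
      · rw [Equiv.Perm.mul_apply, ← ht2]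
        simp
      · have h1 := hg.2 i hi
        have h2 := ht.2 i hi
        rw [Equiv.Perm.mul_apply, h1, Equiv.Perm.inv_eq_iff_eq, h2]
    have hLt : L = toL t := toL_eq_of_codes hv hc
    have hQ' := List.all_eq_true.1 hQ L hL
    rw [hLt, ← toL_mul] at hQ'
    have := ih _ h.2 (a * t) hQ' _ hmem
    have heq : a * t * (t⁻¹ * g) = a * g := by group
    rwa [heq] at this

/-- A surjection from a list of codes: the order of a group from the list of its elements. -/
theorem card_of_list (H : Subgroup P) (L : List (List ℕ)) (hnd : L.Nodup)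
    (h1 : ∀ g ∈ H, toL (g : GolayPt → GolayPt) ∈ L) (h2 : ∀ l ∈ L, ∃ g ∈ H, toL (g : GolayPt → GolayPt) = l) :
    Nat.card H = L.length := by
  classical
  let φ : H → {l // l ∈ L} := fun g => ⟨toL ((g : P) : GolayPt → GolayPt), h1 g g.2⟩
  have hbij : Function.Bijective φ := by
    refine ⟨fun a b h => Subtype.ext (eq_of_toL_eq (congrArg Subtype.val h)), ?_⟩
    rintro ⟨l, hl⟩
    obtain ⟨g, hg, rfl⟩ := h2 l hl
    exact ⟨⟨g, hg⟩, rfl⟩
  rw [Nat.card_eq_of_bijective φ hbij, Nat.card_eq_fintype_card,
    Fintype.card_of_subtype L.toFinset (fun x => List.mem_toFinset), List.toFinset_card_of_nodup hnd]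

/-! ### Centralizers -/

/-- The centralizer of a permutation in `M24`. -/
def Cen (τ : P) : Subgroup P := M24 ⊓ Subgroup.centralizer {τ}

theorem mem_Cen {τ g : P} : g ∈ Cen τ ↔ g ∈ M24 ∧ g * τ = τ * g := by
  simp only [Cen, Subgroup.mem_inf, Subgroup.mem_centralizer_iff, Set.mem_singleton_iff, forall_eq]
  exact and_congr_right fun _ => eq_comm

/-- The membership test for the centralizer. -/
def memCen (τL L : List ℕ) : Bool := inM24 L && (mulL L τL == mulL τL L)

theorem memCen_valid {τL L : List ℕ} (h : memCen τL L = true) : validL L = true := by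
  simp only [memCen, inM24, Bool.and_eq_true] at h
  exact h.1.1

theorem memCen_mem {τ σ : P} {L : List ℕ} (h : memCen (toL (τ : GolayPt → GolayPt)) L = true) (hσ : Codes L σ) :
    σ ∈ Cen τ := by
  simp only [memCen, Bool.and_eq_true, beq_iff_eq] at h
  have hv : validL L = true := by
    have := h.1
    simp only [inM24, Bool.and_eq_true] at this
    exact this.1
  refine mem_Cen.2 ⟨mem_M24_of_inM24 hσ h.1, ?_⟩
  have hL := toL_eq_of_codes hv hσ
  apply eq_of_toL_eq
  rw [toL_mul, toL_mul, ← hL, h.2]

/-- The block rule for a centralizer: masks preserved by the group, octads with five fixed points and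
the singletons of the images of the fixed points, and members of the family `A` containing a fixed point. -/
def blockCen (τL E A F : List ℕ) (m : ℕ) : Bool :=
  blockOK E F m || F.any (fun b => Nat.blt b 24 && m == 2 ^ (τL.getD b 0)) ||
    (A.contains m && F.any (fun b => Nat.blt b 24 && m.testBit b))

theorem testBit_two_pow_ptIdx {a : ℕ} {x y : GolayPt} (hax : a = ptIdx x) :
    (2 ^ a).testBit (ptIdx y) = decide (x = y) := by
  subst hax
  rw [Nat.testBit_two_pow]
  by_cases h : x = y
  · simp [h]
  · have : ptIdx x ≠ ptIdx y := fun h' => h (ptIdx_injective h')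
    simp [h, this]

/-- The singleton of the image of a fixed point is preserved. -/
theorem pres_singleton {τ : P} {F : List ℕ} {b : ℕ} (hb : b ∈ F) (hb24 : b < 24) :
    Pres (fixIn (Cen τ) F) (2 ^ ((toL (τ : GolayPt → GolayPt)).getD b 0)) := by
  intro g hg p
  have h1 := hg.2 b hb
  have h2 := (mem_Cen.1 hg.1).2
  have h3 : g (τ (idxPt b)) = τ (idxPt b) := by
    have := congrArg (fun f : P => f (idxPt b)) h2
    simp only [Equiv.Perm.mul_apply] at this
    rw [this, h1]
  have h4 : (toL (τ : GolayPt → GolayPt)).getD b 0 = ptIdx (τ (idxPt b)) := getD_toL τ hb24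
  rw [testBit_two_pow_ptIdx h4, testBit_two_pow_ptIdx h4]
  have h5 : τ (idxPt b) = g p ↔ τ (idxPt b) = p := by
    constructor
    · intro h
      have : g (τ (idxPt b)) = g p := by rw [← h, h3]
      exact g.injective this
    · intro h
      rw [← h, h3]
  simp only [h5]

/-- A family of disjoint masks. -/
def famDisj (A : List ℕ) : Bool :=
  A.all (fun a => A.all (fun b => a == b || Nat.beq (a &&& b) 0))

theorem eq_of_famDisj {A : List ℕ} (hd : famDisj A = true) {a b : ℕ} (ha : a ∈ A) (hb : b ∈ A) {i : ℕ}
    (h1 : a.testBit i = true) (h2 : b.testBit i = true) : a = b := by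
  simp only [famDisj, List.all_eq_true, Bool.or_eq_true, beq_iff_eq, Nat.beq_eq] at hd
  rcases hd a ha b hb with h | h
  · exact h
  · exfalso
    have h3 := Nat.testBit_and a b i
    rw [h, h1, h2] at h3
    simp at h3

/-- The context of a centralizer. -/
theorem ctxCen {τ : P} {E A : List ℕ} (hE : ∀ m ∈ E, Pres (Cen τ) m) (hd : famDisj A = true)
    (hA : ∀ g ∈ Cen τ, ∀ m ∈ A, ∃ m' ∈ A, g • maskSupport m = maskSupport m') :
    CtxB (Cen τ) (memCen (toL (τ : GolayPt → GolayPt))) (blockCen (toL (τ : GolayPt → GolayPt)) E A) where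
  le := inf_le_left
  valid := fun L h => memCen_valid h
  mem := fun L σ h hσ => memCen_mem h hσ
  pres := by
    intro F m h
    simp only [blockCen, Bool.or_eq_true, Bool.and_eq_true, List.any_eq_true, beq_iff_eq, List.contains_iff_mem,
      Nat.blt_eq] at h
    rcases h with (h | ⟨b, hb, hb24, rfl⟩) | ⟨hm, b, hb, hb24, hbit⟩
    · simp only [blockOK, Bool.or_eq_true, Bool.and_eq_true, List.contains_iff_mem, beq_iff_eq] at h
      rcases h with h | ⟨⟨h1, h2⟩, h3⟩
      · exact (hE m h).mono (fun g hg => hg.1)
      · exact pres_octad inf_le_left h1 h2 (Nat.le_of_ble_eq_true h3)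
    · exact pres_singleton hb hb24
    · intro g hg p
      obtain ⟨m', hm', heq⟩ := hA g hg.1 m hm
      have h1 : idxPt b ∈ maskSupport m := by
        rw [mem_maskSupport_iff, ptIdx_idxPt hb24]
        exact hbit
      have h2 : g (idxPt b) ∈ g • maskSupport m := Finset.smul_mem_smul_finset (a := g) h1
      rw [hg.2 b hb, heq, mem_maskSupport_iff, ptIdx_idxPt hb24] at h2
      have h3 := eq_of_famDisj hd hm hm' hbit h2
      subst h3
      have h4 : g • p ∈ g • maskSupport m ↔ p ∈ maskSupport m := Finset.smul_mem_smul_finset_iff g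
      rw [heq, mem_maskSupport_iff, mem_maskSupport_iff] at h4
      rw [Bool.eq_iff_iff]
      exact h4

end Cfsg.Agent.Lib.Compute.M24
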