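import Cfsg.Agent.Lib.Compute.M24Exhaust
import Cfsg.Agent.Lib.Compute.M24Card

/-!
# The conjugacy classes of involutions and of elements of order 3 of `M24`

Every involution of `M24` is conjugate to `t8P` (fixing the eight points of an octad) or `t0P` (without fixed point);
every element of order 3 is conjugate to `c6P` (six fixed points) or `c0P` (without fixed point).

The proof: by 5-transitivity the element can be moved so that it has a prescribed action on four of the five base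
points, and then it lies in one of a short list of cosets of the pointwise stabilizer of the five base points (order
48), so that it is one of 960 candidates.
-/

set_option autoImplicit false

namespace Cfsg.Agent.Lib.Compute.M24

open Cfsg Cfsg.Agent.Lib.Compute.Golay Cfsg.Agent.Lib.Compute.GolayFast
open Cfsg.Agent.Lib.Sporadic.M24Act (exists_map_embedding)

/-- The chain of the stabilizer of the five base points. -/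
def lvl48 : List Level := (m24Levels.drop 5).take 2

theorem lvl48_ok : chainCheckTo inM24 [] [5, 4, 3, 2, 1, 0, 23] [3, 2, 1, 0, 23] lvl48 = true := by decide +kernel

theorem fix7Chain_ok : chainCheck inM24 [] [5, 4, 3, 2, 1, 0, 23] (m24Levels.drop 7) = true := by decide +kernel

theorem fix7_trivial : ∀ g ∈ fixIn M24 [5, 4, 3, 2, 1, 0, 23], g = 1 := by
  have h := chain_card ctxM24 _ _ fix7Chain_ok
  have h1 : chainOrder (m24Levels.drop 7) = 1 := by decide +kernel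
  rw [h1] at h
  intro g hg
  have h2 : Subsingleton (fixIn M24 [5, 4, 3, 2, 1, 0, 23]) := (Nat.card_eq_one_iff_unique.1 h).1
  have := h2.elim ⟨g, hg⟩ 1
  exact congrArg Subtype.val this

/-- A test on all the elements of a coset of the stabilizer of the five base points. -/
theorem cover (Q : List ℕ → Bool) {a : P} (ha : a ∈ M24) (hQ : allProd lvl48 (toL a) Q = true) {x : P} (hx : x ∈ M24)
    (hag : ∀ i ∈ [3, 2, 1, 0, 23], x (idxPt i) = a (idxPt i)) : Q (toL (x : GolayPt → GolayPt)) = true := by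
  have hmem : a⁻¹ * x ∈ fixIn M24 [3, 2, 1, 0, 23] := by
    refine ⟨M24.mul_mem (M24.inv_mem ha) hx, fun i hi => ?_⟩
    rw [Equiv.Perm.mul_apply, hag i hi]
    simp
  have := chain_forall_to ctxM24 _ fix7_trivial Q _ lvl48 lvl48_ok a hQ _ hmem
  rwa [mul_inv_cancel_left] at this

/-- The check of a list of prefixes with a prescribed action on four base points. -/
def patOK (Q : List ℕ → Bool) (c1 c2 c3 c4 : ℕ) (S : List (List ℕ)) : Bool :=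
  S.all (fun s => inM24 s && s.getD 23 0 == c1 && s.getD 0 0 == c2 && s.getD 1 0 == c3 && s.getD 2 0 == c4 &&
      allProd lvl48 s Q) &&
    (List.range 24).all (fun w => [c1, c2, c3, c4].contains w || S.any (fun s => s.getD 3 0 == w))

theorem cover_pat {Q : List ℕ → Bool} {c1 c2 c3 c4 : ℕ} {S : List (List ℕ)} (h : patOK Q c1 c2 c3 c4 S = true)
    (hc1 : c1 < 24) (hc2 : c2 < 24) (hc3 : c3 < 24) (hc4 : c4 < 24) {x : P} (hx : x ∈ M24)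
    (h1 : x (idxPt 23) = idxPt c1) (h2 : x (idxPt 0) = idxPt c2) (h3 : x (idxPt 1) = idxPt c3)
    (h4 : x (idxPt 2) = idxPt c4) : Q (toL (x : GolayPt → GolayPt)) = true := by
  simp only [patOK, Bool.and_eq_true, List.all_eq_true, beq_iff_eq, Bool.or_eq_true, List.any_eq_true,
    List.contains_iff_mem] at h
  obtain ⟨h5, h6⟩ := h
  set w := ptIdx (x (idxPt 3)) with hw
  have hne : ∀ i, i < 24 → i ≠ 3 → x (idxPt i) ≠ x (idxPt 3) := by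
    intro i hi h3i he
    have := x.injective he
    have h7 := congrArg ptIdx this
    rw [ptIdx_idxPt hi, ptIdx_idxPt (by norm_num)] at h7
    exact h3i h7
  have hw1 : w ≠ c1 := by
    intro he
    apply hne 23 (by norm_num) (by norm_num)
    rw [h1, ← he, hw, idxPt_ptIdx]
  have hw2 : w ≠ c2 := by
    intro he
    apply hne 0 (by norm_num) (by norm_num)
    rw [h2, ← he, hw, idxPt_ptIdx]
  have hw3 : w ≠ c3 := by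
    intro he
    apply hne 1 (by norm_num) (by norm_num)
    rw [h3, ← he, hw, idxPt_ptIdx]
  have hw4 : w ≠ c4 := by
    intro he
    apply hne 2 (by norm_num) (by norm_num)
    rw [h4, ← he, hw, idxPt_ptIdx]
  rcases h6 w (List.mem_range.2 (ptIdx_lt _)) with h7 | ⟨s, hs, hsw⟩
  · simp only [List.mem_cons, List.not_mem_nil, or_false] at h7
    rcases h7 with h7 | h7 | h7 | h7
    · exact absurd h7 hw1
    · exact absurd h7 hw2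
    · exact absurd h7 hw3
    · exact absurd h7 hw4
  · obtain ⟨⟨⟨⟨⟨h8, h9⟩, h10⟩, h11⟩, h12⟩, h13⟩ := h5 s hs
    have hv : validL s = true := ctxM24.valid s h8
    obtain ⟨σ, hσ⟩ := exists_perm_of_validL hv
    have hσL : s = toL σ := toL_eq_of_codes hv hσ
    have hσM : σ ∈ M24 := mem_M24_of_inM24 hσ h8
    rw [hσL] at h13
    refine cover Q hσM h13 hx ?_
    intro i hi
    simp only [List.mem_cons, List.not_mem_nil, or_false] at hi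
    rcases hi with rfl | rfl | rfl | rfl | rfl
    · rw [hσ (idxPt 3), ptIdx_idxPt (by norm_num), hsw, hw, idxPt_ptIdx]
    · rw [hσ (idxPt 2), ptIdx_idxPt (by norm_num), h12, h4]
    · rw [hσ (idxPt 1), ptIdx_idxPt (by norm_num), h11, h3]
    · rw [hσ (idxPt 0), ptIdx_idxPt (by norm_num), h10, h2]
    · rw [hσ (idxPt 23), ptIdx_idxPt (by norm_num), h9, h1]

/-! ### Data -/

/-- The representative with eight fixed points. -/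
def t8L : List ℕ := [0,1,2,3,6,5,4,22,20,12,11,10,9,19,14,18,21,17,15,13,8,16,7,23]
/-- The representative without fixed points. -/
def t0L : List ℕ := [23,2,1,4,3,13,10,15,11,19,6,8,18,5,16,7,14,22,12,9,21,20,17,0]
/-- The representative of order 3 with six fixed points. -/
def c6L : List ℕ := [0,1,2,3,4,17,18,12,9,21,7,20,10,16,5,6,22,14,15,11,19,8,13,23]
/-- The representative of order 3 without fixed points. -/
def c0L : List ℕ := [1,23,3,4,2,11,9,18,12,10,6,22,15,17,19,8,14,20,21,16,13,7,5,0]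

/-- Involutions with conjugating element. -/
def pairs8 : List (List ℕ × List ℕ) := [([0,1,2,3,6,5,4,22,20,12,11,10,9,19,14,18,21,17,15,13,8,16,7,23],[0,1,2,3,4,5,6,7,8,9,10,11,12,13,14,15,16,17,18,19,20,21,22,23]),
  ([0,2,1,3,15,14,6,19,12,22,16,11,8,20,5,4,10,17,18,7,13,21,9,23],[0,18,6,3,2,21,1,5,16,12,7,19,8,9,17,15,13,11,4,22,10,20,14,23]),
  ([0,1,2,3,10,5,11,12,19,22,4,6,7,20,14,16,15,17,21,8,13,18,9,23],[5,2,3,14,6,1,11,9,16,10,12,7,4,13,17,8,21,0,19,20,15,18,22,23]),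
  ([0,1,2,21,9,19,17,14,8,4,16,11,12,20,7,22,10,6,18,5,13,3,15,23],[2,23,0,12,16,18,10,20,14,21,6,17,3,22,8,19,4,11,5,15,7,9,13,1]),
  ([0,1,2,5,4,3,21,19,11,10,9,8,18,13,17,20,16,14,12,7,15,6,22,23],[22,0,1,2,3,4,5,6,7,8,9,10,11,12,13,14,15,16,17,18,19,20,21,23]),
  ([0,1,2,16,17,13,12,18,19,9,10,21,6,5,22,15,3,4,7,8,20,11,14,23],[23,2,10,15,6,9,12,19,22,3,13,5,16,18,1,4,21,0,17,7,14,11,8,20]),
  ([0,1,2,3,18,5,15,20,22,19,21,16,13,12,14,6,11,17,4,9,7,10,8,23],[0,1,3,2,15,5,6,8,7,11,19,9,16,21,17,4,12,14,18,10,20,13,22,23]),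
  ([0,1,2,10,12,20,6,7,13,17,3,16,4,8,15,14,11,9,22,19,5,21,18,23],[1,0,6,19,10,21,3,15,13,12,22,18,4,5,23,16,9,2,11,20,8,17,14,7]),
  ([0,2,1,15,4,9,6,21,8,5,17,12,11,22,20,3,16,10,18,19,14,7,13,23],[23,18,0,19,15,16,3,13,14,2,17,10,1,9,8,7,11,6,21,5,20,12,22,4]),
  ([0,1,2,13,5,4,10,15,8,19,6,11,12,3,22,7,17,16,18,9,21,20,14,23],[8,12,18,0,4,2,5,7,6,19,14,22,9,21,1,13,17,11,3,20,10,16,15,23]),
  ([0,1,2,10,4,9,8,12,6,5,3,21,7,13,20,17,16,15,19,18,14,11,22,23],[13,2,4,1,15,22,17,19,9,14,7,12,20,8,23,21,10,16,11,6,5,3,18,0]),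
  ([0,1,2,6,4,21,3,14,10,11,8,9,20,13,7,18,16,19,15,17,12,5,22,23],[0,1,2,4,3,16,6,7,9,8,12,20,10,17,22,18,5,13,15,19,11,21,14,23]),
  ([0,1,2,3,21,5,16,13,9,8,18,15,20,7,14,11,6,17,10,22,12,4,19,23],[3,5,2,1,12,0,20,18,13,19,16,6,22,15,17,4,8,14,21,11,7,9,10,23]),
  ([0,1,2,8,21,12,13,22,3,9,10,17,5,6,18,15,19,11,14,16,20,4,7,23],[15,9,20,1,8,23,3,16,13,22,14,18,7,4,2,12,17,10,5,21,6,11,19,0]),
  ([0,1,2,3,20,5,8,18,6,16,13,19,21,10,14,22,9,17,7,11,4,12,15,23],[17,5,2,1,20,0,4,15,11,6,18,7,8,16,14,12,10,3,21,9,19,13,22,23]),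
  ([0,2,1,3,16,14,11,8,7,9,15,6,19,13,5,10,4,17,21,12,20,18,22,23],[22,13,17,9,10,20,15,7,2,14,21,18,5,19,3,6,16,23,11,12,1,4,8,0]),
  ([0,1,2,3,22,5,7,6,18,10,9,12,11,16,14,20,13,17,8,21,15,19,4,23],[14,5,3,1,20,0,15,4,9,6,18,8,7,12,17,16,19,2,13,11,10,21,22,23]),
  ([0,1,2,15,4,20,18,11,19,14,17,7,21,13,9,3,16,10,6,8,5,12,22,23],[23,4,0,22,15,13,3,9,17,6,11,7,18,12,16,5,19,1,20,21,10,8,14,2]),
  ([23,2,1,17,16,14,6,7,8,20,15,11,12,22,5,10,4,3,18,19,9,21,13,0],[6,21,7,8,0,12,23,4,2,3,10,15,17,20,19,22,14,11,13,9,1,5,16,18]),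
  ([0,2,1,16,17,22,7,6,8,20,10,11,18,14,13,15,3,4,12,19,9,21,5,23],[23,11,8,15,7,19,6,12,20,13,22,5,14,3,0,2,4,21,1,16,9,17,18,10]),
  ([0,1,2,12,7,8,16,4,5,9,10,14,3,19,11,15,6,18,17,13,20,22,21,23],[9,23,2,20,13,15,19,16,12,4,21,22,7,18,1,8,14,10,5,17,3,11,6,0]),
  ([0,1,2,3,11,5,10,9,13,7,6,4,22,8,14,21,18,17,16,20,19,15,12,23],[14,3,5,2,16,0,18,20,10,15,8,13,21,9,23,22,11,17,12,7,6,4,19,1]),
  ([0,1,2,7,4,19,14,3,20,18,12,15,10,13,6,11,16,21,9,5,8,17,22,23],[2,23,0,16,12,4,10,20,21,14,3,7,6,11,13,5,18,22,19,15,17,9,8,1]),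
  ([0,1,2,3,7,5,22,4,15,11,12,9,10,21,14,8,19,17,20,16,18,13,6,23],[1,2,3,5,4,17,7,8,10,9,13,21,11,18,0,19,6,14,16,20,12,22,15,23]),
  ([0,2,1,5,8,3,6,21,4,15,10,13,22,11,14,9,18,17,16,19,20,7,12,23],[19,10,23,20,9,6,15,8,12,18,3,5,16,13,17,2,7,14,1,11,22,21,4,0]),
  ([0,1,2,21,4,6,5,17,9,8,11,10,15,13,19,12,16,7,20,14,18,3,22,23],[1,13,0,16,21,22,3,10,20,17,15,12,7,5,2,19,9,4,14,6,18,8,11,23]),
  ([0,2,1,3,13,5,9,20,8,6,21,11,18,4,17,19,16,14,12,15,7,10,22,23],[8,3,5,0,18,16,12,2,17,9,7,20,6,19,11,13,21,22,4,15,14,10,1,23]),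
  ([23,2,1,14,22,17,7,6,8,9,10,11,12,16,3,15,13,5,18,21,20,19,4,0],[15,9,10,8,7,12,6,22,21,14,0,23,3,1,20,16,17,11,13,2,19,5,4,18]),
  ([0,2,1,18,4,12,6,19,14,10,9,17,5,13,8,15,22,11,3,7,20,21,16,23],[0,15,6,4,2,21,1,16,5,10,7,19,9,8,13,18,17,20,3,14,12,11,22,23]),
  ([0,1,2,3,12,5,9,10,16,6,7,22,4,18,14,19,8,17,13,15,21,20,11,23],[2,0,3,5,4,17,12,20,7,19,22,11,15,9,1,18,8,14,13,6,10,16,21,23]),
  ([0,1,2,4,3,16,6,7,9,8,12,20,10,17,22,18,5,13,15,19,11,21,14,23],[2,6,19,21,20,7,11,14,15,17,12,10,13,9,0,5,4,1,16,8,18,3,22,23]),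
  ([0,1,2,6,18,19,3,17,13,9,10,22,16,8,21,15,12,7,4,5,20,14,11,23],[9,10,1,0,3,20,6,19,16,7,21,14,17,22,15,8,4,2,13,11,12,18,5,23]),
  ([0,2,1,3,12,5,19,7,22,15,10,16,4,18,17,9,11,14,13,6,20,21,8,23],[0,3,7,20,22,21,8,12,15,16,18,13,11,14,10,1,6,5,2,17,9,19,4,23]),
  ([23,2,1,17,4,14,21,19,12,9,10,18,8,13,5,15,16,3,11,7,20,6,22,0],[10,20,16,4,7,22,19,23,14,21,1,2,6,12,13,18,17,15,11,8,5,3,0,9]),
  ([0,1,2,13,14,16,8,11,6,9,10,7,19,3,4,15,5,22,21,12,20,18,17,23],[10,23,20,9,6,15,8,12,18,3,5,16,13,17,2,7,14,1,11,22,21,4,19,0]),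
  ([0,1,2,3,13,5,19,21,11,15,20,8,18,4,14,9,22,17,12,6,10,7,16,23],[2,0,3,5,10,14,20,16,8,15,13,4,9,19,17,7,18,1,21,6,11,12,22,23]),
  ([0,2,1,22,14,16,6,7,8,9,15,11,18,17,4,10,5,13,12,21,20,19,3,23],[23,9,20,7,13,11,17,16,3,19,2,1,21,10,0,4,12,8,14,15,22,18,5,6]),
  ([0,2,1,3,4,5,15,10,11,19,7,8,12,13,17,6,22,14,18,9,21,20,16,23],[23,3,13,4,9,18,19,11,2,15,16,22,6,7,12,20,14,0,21,10,1,17,8,5]),
  ([0,1,2,10,7,15,13,4,8,14,3,11,12,6,9,5,21,20,18,22,17,16,19,23],[11,0,2,18,3,1,10,4,20,9,16,21,14,13,8,19,15,12,22,6,17,5,7,23]),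
  ([0,1,2,9,8,15,6,7,4,3,17,22,13,12,20,5,18,10,16,19,14,21,11,23],[6,23,19,1,17,21,10,16,14,9,22,11,3,12,0,4,5,7,8,13,20,15,18,2]),
  ([0,1,2,9,21,20,22,16,8,3,14,11,12,19,10,17,7,15,18,13,5,4,6,23],[18,8,11,2,10,1,14,5,6,13,16,7,19,15,0,4,9,23,21,17,22,3,20,12]),
  ([0,1,2,3,16,5,21,19,12,20,15,18,8,22,14,10,4,17,11,7,9,6,13,23],[23,5,1,0,16,14,4,10,18,7,12,8,19,13,17,6,20,2,21,22,11,9,15,3]),
  ([0,2,1,17,4,5,8,11,6,9,15,7,21,22,14,10,16,3,19,18,20,12,13,23],[23,16,0,14,12,20,21,22,11,3,18,19,17,8,4,1,15,5,2,6,7,10,13,9]),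
  ([0,1,2,22,17,16,9,20,8,6,19,11,12,14,13,21,5,4,18,10,7,15,3,23],[1,18,8,12,16,2,5,19,14,4,9,6,17,15,0,20,22,11,7,21,13,3,10,23]),
  ([0,2,1,3,10,14,21,7,8,13,4,18,12,9,5,16,15,17,11,19,22,6,20,23],[17,19,0,8,10,23,4,13,11,20,16,15,22,21,12,5,1,7,14,6,18,2,9,3]),
  ([0,1,2,19,11,6,5,14,16,9,10,4,13,12,7,15,8,21,22,3,20,17,18,23],[1,15,9,10,21,23,17,14,13,4,22,18,11,3,20,8,5,0,16,19,12,6,7,2]),
  ([0,1,2,12,4,18,20,10,14,19,7,17,3,13,8,21,16,11,5,9,6,15,22,23],[13,16,2,0,6,1,20,21,18,14,11,17,8,10,4,12,19,22,3,7,5,9,15,23]),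
  ([0,1,2,3,8,5,20,15,4,21,19,13,16,11,14,7,12,17,22,10,6,9,18,23],[3,23,1,17,13,5,11,21,22,15,4,8,7,12,14,6,19,0,20,16,18,10,9,2]),
  ([0,1,2,6,15,7,3,5,8,22,13,11,12,10,19,4,20,21,18,14,16,17,9,23],[23,0,12,18,16,11,20,14,6,21,22,9,17,5,2,15,10,8,4,7,3,13,19,1]),
  ([0,2,1,17,9,5,21,7,12,4,13,11,8,10,14,22,20,3,18,19,16,6,15,23],[23,14,19,11,15,7,22,9,21,10,20,16,13,2,18,17,12,5,3,1,6,8,4,0]),
  ([0,1,2,4,3,22,18,12,21,9,10,19,7,14,13,15,17,16,6,11,20,8,5,23],[0,15,1,2,6,20,18,13,21,7,5,22,12,16,9,4,11,10,3,17,8,19,14,23]),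
  ([0,1,2,17,16,14,7,6,11,9,10,8,18,22,5,15,4,3,12,21,20,19,13,23],[2,20,10,1,17,9,3,14,8,19,7,6,21,22,0,12,16,15,18,13,11,4,5,23]),
  ([0,2,1,6,4,19,3,14,12,9,20,11,8,16,7,15,13,21,18,5,10,17,22,23],[11,23,15,9,17,4,21,8,13,6,1,2,3,5,22,14,20,18,7,19,16,10,12,0]),
  ([0,1,2,13,17,22,6,7,10,12,8,15,9,3,16,11,14,4,20,19,18,21,5,23],[1,7,19,6,18,2,20,5,10,11,16,14,15,4,0,13,12,21,3,17,8,9,22,23]),
  ([0,1,2,17,22,14,21,19,8,15,20,11,12,16,5,9,13,3,18,7,10,6,4,23],[11,18,12,1,10,2,20,14,15,13,7,19,16,21,8,17,22,0,3,6,9,4,5,23]),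
  ([23,2,1,5,13,3,6,7,11,9,10,8,18,4,17,15,22,14,12,19,20,21,16,0],[9,10,6,19,11,7,8,1,3,12,23,0,18,16,21,13,14,15,4,22,5,17,2,20]),
  ([0,1,2,14,13,17,21,19,18,9,10,12,11,4,3,15,22,5,8,7,20,6,16,23],[1,15,20,23,21,10,6,7,16,8,11,12,18,14,2,13,5,9,4,3,22,17,19,0]),
  ([0,1,2,14,4,17,7,6,12,15,20,18,8,13,3,9,16,5,11,21,10,19,22,23],[23,4,13,1,5,16,17,14,9,21,6,7,19,12,2,20,18,22,10,8,15,11,3,0]),
  ([0,2,1,9,16,15,6,21,18,3,14,11,12,13,10,5,4,20,8,19,17,7,22,23],[19,0,6,22,4,12,16,10,18,5,1,2,15,21,23,17,9,13,20,7,8,3,14,11]),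
  ([0,1,2,22,5,4,11,8,7,9,10,6,21,17,16,15,14,13,19,18,20,12,3,23],[10,1,15,23,11,9,6,4,8,21,13,17,12,3,2,16,18,20,14,22,7,19,5,0]),
  ([0,1,2,8,4,11,10,20,3,21,6,5,14,13,12,19,16,18,17,15,7,9,22,23],[4,23,13,16,17,1,18,19,10,7,12,14,20,9,22,8,5,0,3,21,6,11,15,2]),
  ([0,2,1,5,11,3,19,7,13,9,20,4,16,8,14,15,12,17,22,6,10,21,18,23],[0,9,7,14,5,21,3,1,11,19,10,20,6,12,17,13,22,15,8,16,4,18,2,23]),
  ([0,1,2,17,13,14,6,7,12,10,9,18,8,4,5,20,22,3,11,19,15,21,16,23],[0,19,7,1,13,21,4,22,9,17,5,14,3,18,23,15,12,6,20,11,10,8,16,2]),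
  ([0,1,2,14,16,17,19,21,8,10,9,11,12,22,3,20,4,5,18,6,15,7,13,23],[1,18,23,2,4,8,16,6,5,20,3,14,15,22,11,10,7,0,9,13,17,21,19,12]),
  ([0,1,2,21,8,7,14,5,4,9,10,16,22,18,6,15,11,19,13,17,20,3,12,23],[0,23,1,20,8,10,4,17,5,3,16,11,21,14,15,18,22,2,13,6,7,12,19,9]),
  ([0,2,1,3,22,17,7,6,15,12,11,10,9,13,14,8,16,5,20,19,18,21,4,23],[23,0,14,16,10,13,11,2,12,15,7,6,8,4,3,17,18,19,5,22,9,20,1,21]),
  ([0,1,2,5,16,3,6,7,18,15,20,12,11,22,17,9,4,14,8,19,10,21,13,23],[23,2,6,19,12,7,11,17,15,8,5,3,18,22,21,16,10,0,4,13,9,20,14,1]),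
  ([0,1,2,22,14,13,6,7,20,11,18,9,15,5,4,12,17,16,10,19,8,21,3,23],[23,19,21,6,9,1,11,8,22,16,13,5,17,12,7,14,18,2,4,15,3,10,20,0]),
  ([0,2,1,5,4,3,20,9,8,7,19,11,18,13,14,21,22,17,12,10,6,15,16,23],[0,11,13,8,7,23,9,12,16,3,10,19,5,1,14,21,6,17,15,2,22,20,18,4]),
  ([0,1,2,20,4,15,12,8,7,17,14,19,6,13,10,5,16,9,21,11,3,18,22,23],[22,0,16,23,19,13,11,15,21,8,20,3,7,14,1,9,6,4,17,10,18,12,5,2]),
  ([0,1,2,18,15,8,6,7,5,16,22,17,14,20,12,4,9,11,3,19,13,21,10,23],[0,1,21,19,5,6,8,20,22,4,14,12,15,9,2,18,11,7,3,16,10,17,13,23]),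
  ([0,1,2,4,3,13,15,10,8,21,7,11,12,5,16,6,14,22,18,20,19,9,17,23],[12,1,23,11,22,18,17,9,13,19,16,14,20,3,8,10,15,2,7,4,5,6,21,0]),
  ([0,2,1,14,4,5,7,6,10,18,8,15,20,16,3,11,13,17,9,19,12,21,22,23],[5,17,19,22,6,4,7,15,14,16,20,12,13,8,21,18,1,23,9,10,3,2,11,0]),
  ([0,2,1,14,22,5,6,7,9,8,18,20,15,13,3,12,16,17,10,21,11,19,4,23],[13,23,17,5,22,7,4,8,18,2,12,15,1,3,6,21,20,16,19,14,10,11,9,0]),
  ([0,2,1,14,21,5,13,16,18,10,9,11,12,6,3,15,7,17,8,22,20,4,19,23],[23,5,12,11,10,15,9,21,6,8,22,19,18,14,20,1,7,0,2,3,13,16,4,17]),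
  ([0,1,2,3,19,5,13,16,10,18,8,20,15,6,14,12,7,17,9,4,11,22,21,23],[17,1,0,3,20,5,11,7,9,13,15,12,6,8,14,19,21,2,4,10,18,22,16,23]),
  ([0,2,1,17,16,5,12,18,21,20,10,19,6,13,14,15,4,3,7,11,9,8,22,23],[14,10,0,15,7,5,18,4,17,9,11,19,20,2,13,12,8,22,6,1,3,21,16,23]),
  ([0,1,2,18,6,11,4,16,14,9,10,5,17,21,8,15,7,12,3,22,20,13,19,23],[1,20,0,15,4,9,6,18,8,7,12,17,16,19,2,13,11,10,21,22,14,5,3,23]),
  ([0,2,1,4,3,13,6,7,11,20,10,8,12,5,22,15,17,16,18,21,9,19,14,23],[6,7,18,10,5,15,13,20,14,16,11,8,17,21,12,2,4,0,1,19,22,3,9,23]),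
  ([0,1,2,14,22,17,6,7,11,20,15,8,18,16,3,10,13,5,12,19,9,21,4,23],[2,19,23,21,15,1,10,3,16,5,20,9,17,4,6,8,12,7,11,22,13,18,14,0]),
  ([0,1,2,20,19,9,16,22,8,5,17,11,12,21,15,14,6,10,18,4,3,13,7,23],[18,0,12,8,10,23,17,21,4,6,3,20,16,22,11,14,9,2,15,7,19,5,13,1]),
  ([0,1,2,9,4,10,11,18,21,3,5,6,19,13,15,14,16,20,7,12,17,8,22,23],[4,1,2,13,5,0,10,8,15,9,11,6,3,12,16,7,20,22,18,19,14,17,21,23]),
  ([0,1,2,3,9,5,12,11,21,4,22,7,6,15,14,13,20,17,19,18,16,8,10,23],[1,3,14,17,11,2,7,10,21,12,4,9,6,13,0,16,18,5,20,15,8,19,22,23]),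
  ([0,1,2,18,4,12,15,9,17,7,19,14,5,13,11,6,16,8,3,10,21,20,22,23],[0,23,13,16,7,1,9,6,19,12,17,8,5,11,4,21,3,22,20,14,10,18,15,2]),
  ([0,1,2,19,20,21,14,17,8,13,22,11,12,9,6,16,15,7,18,3,4,5,10,23],[23,1,8,11,14,0,6,20,7,22,5,21,10,3,18,13,16,2,9,19,17,15,4,12]),
  ([0,2,1,12,4,18,21,7,17,9,10,14,3,13,11,20,22,8,5,19,15,6,16,23],[9,19,7,23,15,13,20,2,21,17,18,5,8,12,10,22,11,4,16,3,6,14,1,0]),
  ([0,1,2,19,4,7,17,5,15,12,18,20,9,13,21,8,16,6,10,3,11,14,22,23],[16,4,1,0,19,22,3,14,10,5,17,6,7,15,13,11,9,2,20,8,18,12,21,23]),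
  ([0,2,1,5,13,3,10,15,11,21,6,8,12,4,14,7,16,17,18,20,19,9,22,23],[14,16,12,18,9,23,21,3,2,19,13,4,20,10,0,15,8,17,7,6,1,11,5,22]),
  ([0,1,2,5,22,3,19,21,12,9,10,18,8,16,17,15,13,14,11,6,20,7,4,23],[9,15,20,1,22,2,4,3,16,11,19,6,18,21,10,14,8,0,17,7,13,12,5,23]),
  ([23,2,1,3,22,5,6,7,12,15,20,18,8,16,14,9,13,17,11,19,10,21,4,0],[14,21,6,19,23,3,0,18,12,9,22,4,15,10,5,2,13,17,1,20,8,16,11,7]),
  ([0,2,1,11,13,8,6,19,5,9,10,3,14,4,12,20,16,18,17,7,15,21,22,23],[6,10,21,16,11,0,3,4,5,20,18,17,15,14,9,2,7,22,1,12,8,19,13,23]),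
  ([0,2,1,3,7,17,22,4,18,9,10,11,12,19,14,20,21,5,8,13,15,16,6,23],[12,0,9,10,17,3,5,7,19,15,16,21,20,1,14,8,6,11,18,2,13,22,4,23]),
  ([23,2,1,3,4,5,7,6,11,20,15,8,18,13,14,10,16,17,12,21,9,19,22,0],[4,17,16,22,0,5,23,6,15,8,20,9,11,1,3,18,19,13,12,2,10,21,7,14]),
  ([0,2,1,20,16,10,19,7,8,17,5,12,11,13,15,14,4,9,18,6,3,21,22,23],[23,18,8,21,19,22,6,1,4,20,5,10,3,9,0,12,15,13,11,17,16,14,2,7]),
  ([23,2,1,5,4,3,19,21,8,15,20,11,12,13,17,9,16,14,18,6,10,7,22,0],[22,12,13,8,1,4,2,17,21,3,23,0,5,19,11,10,15,18,20,6,7,9,14,16]),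
  ([0,1,2,15,18,9,6,7,16,5,14,13,22,11,10,3,8,20,4,19,17,21,12,23],[23,21,0,6,14,7,10,12,18,9,8,16,5,20,1,3,11,19,15,17,4,13,22,2]),
  ([0,2,1,10,4,20,19,7,18,14,3,11,12,22,9,17,16,15,8,6,5,21,13,23],[23,7,16,21,15,0,17,8,1,19,3,10,6,13,12,5,14,11,20,22,2,9,18,4]),
  ([0,1,2,3,15,5,18,8,7,13,16,21,19,9,14,4,10,17,6,12,22,11,20,23],[23,5,14,2,6,17,18,15,10,22,7,8,20,13,3,21,19,0,11,9,16,12,4,1]),
  ([0,1,2,20,11,10,6,7,22,14,5,4,16,18,9,17,12,15,13,19,3,21,8,23],[23,2,0,7,14,1,9,16,18,5,8,22,10,15,6,20,4,21,3,17,13,11,12,19]),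
  ([0,1,2,15,6,10,4,13,8,17,5,11,12,7,20,3,19,9,18,16,14,22,21,23],[23,1,0,11,15,8,3,16,22,4,14,20,6,13,12,10,17,2,5,7,21,9,19,18]),
  ([0,1,2,8,9,18,6,7,3,4,13,14,17,10,11,16,15,12,5,19,22,21,20,23],[6,1,0,21,4,2,9,5,17,8,16,15,3,11,23,22,13,19,20,14,12,10,18,7]),
  ([0,2,1,13,5,4,7,6,11,9,15,8,12,3,16,10,14,22,18,19,20,21,17,23],[0,23,9,12,11,18,8,14,7,15,3,13,10,17,20,5,2,21,4,22,6,1,16,19]),
  ([0,2,1,14,19,5,16,13,8,9,10,12,11,7,3,20,6,17,18,4,15,22,21,23],[23,9,5,18,15,17,20,14,21,2,12,11,1,19,8,7,6,10,13,4,22,16,3,0]),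
  ([0,1,2,12,10,11,6,7,17,13,4,5,3,9,18,22,20,8,14,19,16,21,15,23],[21,1,0,7,22,19,15,4,3,16,9,13,20,5,23,14,8,6,18,11,12,17,10,2]),
  ([0,1,2,17,4,14,19,21,18,20,15,12,11,13,5,10,16,3,8,6,9,7,22,23],[4,2,13,16,9,1,20,14,11,6,8,18,19,15,0,7,17,22,21,10,12,3,5,23]),
  ([0,1,2,7,12,21,17,3,22,9,10,13,4,11,19,15,18,6,16,14,20,5,8,23],[2,1,23,10,13,0,11,5,6,16,7,3,18,8,20,12,14,9,4,22,17,19,21,15]),
  ([0,1,2,5,13,3,7,6,8,20,15,11,12,4,17,10,22,14,18,21,9,19,16,23],[8,11,12,23,20,0,9,13,15,19,3,5,21,17,18,22,7,2,16,14,10,6,4,1]),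
  ([0,1,2,7,10,6,5,3,8,16,4,11,12,15,21,13,9,19,18,17,22,14,20,23],[2,11,18,12,6,8,5,13,21,4,3,7,10,19,1,16,20,23,9,17,14,22,15,0]),
  ([0,2,1,3,4,14,18,12,19,20,10,21,7,22,5,15,16,17,6,8,9,11,13,23],[15,23,3,17,1,16,2,11,6,20,8,19,9,22,4,14,12,10,5,13,18,7,21,0]),
  ([0,2,1,3,4,17,6,7,20,11,12,9,10,16,14,18,13,5,15,21,8,19,22,23],[22,6,3,4,18,7,15,11,16,21,5,17,19,12,0,2,8,14,1,10,13,20,9,23]),
  ([0,1,2,11,19,18,22,13,17,9,10,3,14,7,12,15,21,8,5,4,20,16,6,23],[2,20,1,0,13,10,7,3,4,16,18,5,21,17,15,14,6,9,12,8,19,22,11,23]),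
  ([0,2,1,8,13,11,21,7,3,10,9,5,17,4,18,15,16,12,14,19,20,6,22,23],[19,16,20,0,17,15,12,3,13,11,18,14,5,2,23,9,6,22,10,1,4,21,8,7]),
  ([0,1,2,16,5,4,6,7,15,18,11,10,20,14,13,8,3,22,9,19,12,21,17,23],[0,19,21,6,20,7,12,3,9,17,8,15,22,10,23,14,4,1,13,11,18,5,16,2]),
  ([0,1,2,11,20,12,6,7,14,22,16,3,5,15,8,13,10,18,17,19,4,21,9,23],[7,21,0,6,4,2,20,10,22,14,17,18,8,12,1,15,11,19,13,5,9,3,16,23]),
  ([0,2,1,3,6,17,4,22,8,10,9,12,11,21,14,15,19,5,18,16,20,13,7,23],[8,23,3,18,22,0,7,6,2,11,9,10,12,19,20,17,13,14,5,16,1,21,4,15]),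
  ([0,1,2,16,14,22,20,9,8,7,21,11,12,17,4,19,3,13,18,15,6,10,5,23],[2,18,0,1,5,12,22,19,17,14,9,7,4,21,11,6,16,8,20,10,13,3,15,23]),
  ([0,1,2,11,4,8,9,15,5,6,21,3,17,13,18,7,16,12,14,20,19,10,22,23],[22,4,1,23,17,2,12,14,10,7,20,19,15,8,16,9,3,13,6,5,21,11,18,0]),
  ([0,2,1,7,4,21,14,3,8,15,10,18,12,16,6,9,13,19,11,17,20,5,22,23],[22,8,4,10,1,0,2,14,9,3,13,16,7,11,12,19,21,20,17,18,15,5,6,23]),
  ([0,2,1,19,22,6,5,17,8,9,20,18,12,13,21,15,16,7,11,3,10,14,4,23],[9,8,0,12,7,15,17,18,2,22,14,21,4,20,13,19,6,16,3,10,1,5,11,23]),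
  ([23,2,1,3,13,5,21,19,8,10,9,11,12,4,14,20,22,17,18,7,15,6,16,0],[11,14,12,18,6,5,21,23,22,15,4,13,20,7,3,9,2,8,10,19,16,1,0,17]),
  ([23,2,1,14,4,17,6,7,18,10,9,12,11,13,3,20,16,5,8,19,15,21,22,0],[6,7,4,16,20,13,15,1,8,9,23,0,10,3,22,5,11,19,17,14,18,12,2,21]),
  ([0,2,1,3,18,5,6,21,16,9,20,22,13,12,17,15,8,14,4,19,10,7,11,23],[5,3,0,9,2,15,1,16,17,20,13,12,10,18,23,11,7,19,22,4,14,21,8,6]),
  ([0,2,1,17,20,5,6,19,8,16,22,18,12,15,14,13,9,3,11,7,4,21,10,23],[23,6,5,12,19,14,7,17,10,1,18,11,2,15,8,20,9,21,4,13,22,16,3,0]),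
  ([0,2,1,21,22,7,17,5,12,15,10,11,8,13,19,9,16,6,18,14,20,3,4,23],[13,20,18,23,9,11,15,8,5,22,1,2,4,3,0,17,14,10,6,21,7,19,12,16]),
  ([23,2,1,3,16,5,19,21,18,9,10,12,11,22,14,15,4,17,8,6,20,7,13,0],[15,9,20,5,8,3,18,21,12,13,23,0,22,1,10,19,16,17,6,2,11,4,7,14])]
/-- Involutions with conjugating element. -/
def pairs0 : List (List ℕ × List ℕ) := [([23,2,1,4,3,13,10,15,11,19,6,8,18,5,16,7,14,22,12,9,21,20,17,0],[0,1,2,3,4,5,6,7,8,9,10,11,12,13,14,15,16,17,18,19,20,21,22,23]),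
  ([23,2,1,8,10,18,21,19,3,13,4,14,17,9,11,22,20,12,5,7,16,6,15,0],[23,11,14,15,22,16,17,8,5,10,12,18,7,20,6,3,21,1,19,4,9,13,2,0]),
  ([23,2,1,5,8,3,10,9,4,7,6,13,16,11,17,21,12,14,22,20,19,15,18,0],[2,23,0,12,16,18,10,20,14,21,6,17,3,22,8,19,4,11,5,15,7,9,13,1]),
  ([23,2,1,4,3,22,12,18,19,20,15,21,6,14,13,10,17,16,7,8,9,11,5,0],[0,1,2,4,3,16,6,7,9,8,12,20,10,17,22,18,5,13,15,19,11,21,14,23]),
  ([23,2,1,10,11,20,19,21,22,17,3,4,16,18,15,14,12,9,13,6,5,7,8,0],[2,23,0,16,12,4,10,20,21,14,3,7,6,11,13,5,18,22,19,15,17,9,8,1]),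
  ([23,2,1,11,7,18,16,4,17,10,9,3,14,19,12,20,6,8,5,13,15,22,21,0],[1,17,8,19,13,4,11,14,18,6,3,5,20,7,10,12,9,23,15,16,21,22,0,2]),
  ([23,2,1,14,7,17,22,4,20,12,11,10,9,21,3,18,19,5,15,16,8,13,6,0],[17,20,8,7,4,22,10,12,18,13,11,15,1,6,14,9,3,0,2,21,16,19,23,5]),
  ([23,2,1,17,10,14,18,8,7,22,4,21,19,20,5,16,15,3,6,12,13,11,9,0],[0,4,10,7,8,19,11,6,16,14,21,15,17,12,9,18,22,13,3,5,1,2,20,23]),
  ([23,2,1,17,15,14,11,12,19,13,16,6,7,9,5,4,10,3,21,8,22,18,20,0],[6,4,15,7,12,19,5,1,16,13,14,10,21,8,23,2,0,17,18,9,22,20,3,11]),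
  ([23,2,1,13,5,4,15,10,11,21,7,8,18,3,22,6,17,16,12,20,19,9,14,0],[22,11,8,5,4,13,7,15,2,18,10,1,17,3,19,6,20,21,16,12,0,23,9,14]),
  ([23,2,1,20,16,15,11,18,21,17,14,6,19,22,10,5,4,9,7,12,3,8,13,0],[23,19,12,1,2,16,20,9,11,8,3,6,13,4,10,17,14,5,22,21,7,18,15,0]),
  ([23,2,1,15,19,10,16,22,18,17,5,12,11,21,20,3,6,9,8,4,14,13,7,0],[2,16,6,20,14,15,17,10,4,8,9,19,11,3,21,5,13,22,12,18,23,0,7,1]),
  ([23,2,1,18,20,8,21,19,5,22,16,17,14,15,12,13,10,11,3,7,4,6,9,0],[0,3,18,2,1,19,15,20,11,12,13,17,21,7,10,4,16,22,6,14,5,8,9,23]),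
  ([23,2,1,22,5,4,8,11,6,20,15,7,19,17,16,10,14,13,21,12,9,18,3,0],[9,12,19,22,3,13,5,16,18,1,4,21,0,17,7,14,11,8,23,2,10,15,6,20]),
  ([23,2,1,14,13,17,19,21,12,20,15,18,8,4,3,10,22,5,11,6,9,7,16,0],[19,22,16,5,17,14,18,12,4,9,11,13,7,3,2,8,1,0,21,20,15,10,23,6]),
  ([23,2,1,14,6,17,4,22,15,11,12,9,10,19,3,8,21,5,20,13,18,16,7,0],[23,17,5,22,7,4,8,18,2,12,15,1,3,6,21,20,16,19,14,10,11,9,13,0]),
  ([23,2,1,12,9,11,21,19,17,4,13,5,3,10,18,16,15,8,14,7,22,6,20,0],[23,20,22,18,14,5,13,9,16,12,10,15,7,11,6,4,21,1,19,3,8,17,2,0]),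
  ([23,2,1,13,14,16,11,8,7,20,15,6,21,3,4,10,5,22,19,18,9,12,17,0],[20,14,4,17,22,13,10,1,5,18,15,16,23,3,6,2,11,7,0,19,21,12,8,9]),
  ([23,2,1,5,18,3,9,10,22,6,7,16,13,12,17,19,11,14,4,15,21,20,8,0],[0,15,19,4,18,12,20,7,6,8,21,9,3,13,2,10,1,14,5,22,11,16,17,23]),
  ([23,2,1,19,22,7,17,5,9,8,11,10,15,16,21,12,13,6,20,3,18,14,4,0],[0,3,19,5,7,6,2,22,14,11,1,21,13,17,9,4,8,15,16,10,20,18,12,23]),
  ([23,2,1,15,8,9,19,21,4,5,14,22,13,12,10,3,18,20,16,6,17,7,11,0],[21,3,15,13,12,22,18,4,5,23,16,9,2,11,20,8,17,14,1,0,6,19,10,7]),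
  ([23,2,1,17,22,14,19,21,11,10,9,8,18,16,5,20,13,3,12,6,15,7,4,0],[0,9,10,17,3,5,7,19,15,16,21,20,1,14,8,6,11,18,2,13,22,4,12,23]),
  ([23,2,1,10,21,15,22,16,18,14,3,12,11,19,9,5,7,20,8,13,17,4,6,0],[0,2,1,17,20,5,6,19,8,16,22,18,12,15,14,13,9,3,11,7,4,21,10,23]),
  ([23,2,1,21,22,6,5,17,15,12,18,20,9,16,19,8,13,7,10,14,11,3,4,0],[22,17,7,3,21,19,13,0,5,8,16,6,2,14,10,23,18,20,1,15,9,12,11,4]),
  ([23,2,1,11,15,12,21,19,14,16,22,3,5,20,8,4,9,18,17,7,13,6,10,0],[23,3,11,14,8,12,1,19,17,13,2,18,6,5,9,7,16,10,21,20,15,4,22,0]),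
  ([23,2,1,11,13,8,10,20,5,21,6,3,17,4,18,19,22,12,14,15,7,9,16,0],[0,17,12,10,6,21,8,3,18,15,5,14,22,9,13,11,4,2,16,19,20,7,1,23]),
  ([23,2,1,9,7,20,13,4,18,3,14,12,11,6,10,17,21,15,8,22,5,16,19,0],[19,18,8,7,4,16,20,17,2,0,5,1,13,21,3,15,9,14,6,23,12,11,10,22]),
  ([23,2,1,17,20,14,12,11,21,16,13,7,6,10,5,22,9,3,19,18,4,8,15,0],[23,6,12,4,20,9,19,11,8,10,18,21,14,16,1,7,2,17,5,13,15,22,3,0]),
  ([23,2,1,9,16,10,12,8,7,3,5,19,6,22,15,14,4,20,21,11,17,18,13,0],[2,23,0,10,5,15,12,11,22,21,6,13,4,14,9,19,3,20,16,18,7,8,17,1]),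
  ([23,2,1,9,18,15,19,21,16,3,17,13,22,11,20,5,8,10,4,6,14,7,12,0],[1,3,9,8,16,18,11,22,5,23,13,15,21,4,14,12,20,10,7,0,19,6,17,2]),
  ([23,2,1,14,21,17,16,13,10,18,8,20,15,7,3,12,6,5,9,22,11,4,19,0],[23,10,8,6,16,13,15,11,18,4,12,9,17,7,1,20,2,3,5,21,22,19,14,0]),
  ([23,2,1,21,12,7,14,5,22,15,20,13,4,11,6,9,18,19,16,17,10,3,8,0],[0,22,8,21,3,7,17,6,4,9,19,12,20,5,18,14,16,13,10,15,1,2,11,23]),
  ([23,2,1,12,19,8,22,13,5,10,9,14,3,7,11,20,21,18,17,4,15,16,6,0],[1,7,13,5,8,18,22,21,4,3,6,19,20,17,10,16,9,23,15,12,14,11,0,2]),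
  ([23,2,1,22,17,16,20,9,11,7,21,8,18,14,13,19,5,4,12,15,6,10,3,0],[2,19,15,16,5,3,7,20,10,14,9,21,12,22,0,6,23,8,18,13,17,4,11,1]),
  ([23,2,1,14,16,17,21,19,11,15,20,8,18,22,3,9,4,5,12,7,10,6,13,0],[0,21,6,10,20,9,8,12,19,17,11,7,1,15,22,18,13,16,2,5,3,14,4,23]),
  ([23,2,1,5,16,3,7,6,12,10,9,18,8,22,17,20,4,14,11,21,15,19,13,0],[18,22,13,2,1,0,7,19,16,9,6,4,8,23,17,21,14,5,12,10,20,15,3,11]),
  ([23,2,1,5,11,3,20,15,13,21,19,4,22,8,17,7,18,14,16,10,6,9,12,0],[12,10,19,2,1,5,9,15,20,0,21,6,18,3,4,7,11,13,16,23,14,17,8,22]),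
  ([23,2,1,4,3,16,7,6,20,11,18,9,15,17,22,12,5,13,10,21,8,19,14,0],[13,15,12,6,7,23,9,20,10,19,11,18,16,0,14,8,22,3,5,21,2,1,4,17]),
  ([23,2,1,21,15,19,17,14,12,22,13,18,8,10,7,4,20,6,11,5,16,3,9,0],[9,3,21,2,1,12,19,7,17,18,5,6,15,8,10,14,13,20,4,11,0,23,16,22]),
  ([23,2,1,20,6,9,4,13,18,5,17,12,11,7,15,14,19,10,8,16,3,22,21,0],[10,16,19,20,3,15,18,23,4,22,8,6,9,14,1,0,2,11,5,21,13,7,12,17]),
  ([23,2,1,12,13,18,15,9,14,7,19,17,3,4,8,6,22,11,5,10,21,20,16,0],[9,14,8,22,16,2,3,5,17,4,12,11,10,1,6,18,15,21,19,13,0,23,20,7]),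
  ([23,2,1,14,19,17,13,16,9,8,18,15,20,6,3,11,7,5,10,4,12,22,21,0],[10,13,6,22,21,4,11,12,7,1,15,16,8,19,23,20,0,17,9,2,14,3,5,18]),
  ([23,2,1,15,16,20,8,12,6,14,17,21,7,22,9,3,4,10,19,18,5,11,13,0],[0,5,20,11,21,12,19,8,14,22,18,9,4,7,15,6,3,17,16,13,1,2,10,23]),
  ([23,2,1,18,21,11,13,22,14,10,9,5,17,6,8,20,19,12,3,16,15,4,7,0],[1,22,7,11,5,12,14,18,16,20,8,19,9,17,21,3,4,13,10,15,23,0,6,2]),
  ([23,2,1,20,12,10,19,21,13,14,5,16,4,8,9,17,11,15,22,6,3,7,18,0],[13,15,17,1,2,6,5,3,9,7,10,14,22,19,4,20,12,16,18,21,23,0,11,8]),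
  ([23,2,1,19,10,21,14,17,12,16,4,18,8,15,6,13,9,7,11,3,22,5,20,0],[3,11,18,15,13,16,10,20,2,5,4,1,17,9,12,22,8,23,7,21,6,14,0,19]),
  ([23,2,1,8,13,11,9,15,3,6,21,5,14,4,12,7,22,18,17,20,19,10,16,0],[15,21,10,8,3,5,13,1,9,22,4,6,20,11,18,2,17,14,19,16,23,0,12,7]),
  ([23,2,1,13,17,22,7,6,15,18,11,10,20,3,16,8,14,4,9,21,12,19,5,0],[21,2,1,8,15,11,3,14,7,17,13,6,23,10,9,16,18,20,0,4,5,22,12,19]),
  ([23,2,1,17,9,14,8,18,6,4,22,19,21,15,5,13,20,3,7,11,16,12,10,0],[4,22,10,18,7,19,23,5,15,17,0,13,16,11,21,14,12,8,20,3,2,1,6,9]),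
  ([23,2,1,5,22,3,21,19,18,20,15,12,11,16,17,10,13,14,8,7,9,6,4,0],[11,13,16,3,5,17,19,21,4,20,7,22,18,14,0,6,23,1,8,9,15,10,2,12]),
  ([23,2,1,16,14,22,9,20,11,6,19,8,18,17,4,21,3,13,12,10,7,15,5,0],[12,9,6,23,0,8,13,4,7,10,17,20,1,11,3,14,16,22,2,19,21,15,5,18]),
  ([23,2,1,10,16,9,18,11,19,5,3,7,21,22,20,17,4,15,6,8,14,12,13,0],[0,1,2,6,18,19,3,17,13,9,10,22,16,8,21,15,12,7,4,5,20,14,11,23]),
  ([23,2,1,17,13,14,7,6,18,15,20,12,11,4,5,9,22,3,8,21,10,19,16,0],[23,22,16,11,12,8,15,20,4,21,9,13,1,18,5,10,14,3,2,19,6,7,17,0]),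
  ([23,2,1,6,22,21,3,14,20,18,12,15,10,16,7,11,13,19,9,17,8,5,4,0],[4,16,13,12,10,8,7,6,2,5,14,1,0,20,11,3,15,18,23,21,17,19,9,22]),
  ([23,2,1,6,9,7,3,5,12,4,16,18,8,20,19,22,10,21,11,14,13,17,15,0],[11,7,5,20,13,10,9,22,19,12,4,14,23,16,6,15,3,17,0,8,2,1,21,18]),
  ([23,2,1,8,6,12,4,16,3,10,9,17,5,21,18,20,7,11,14,22,15,13,19,0],[14,16,7,4,6,13,12,11,19,2,5,22,8,21,23,17,0,15,3,1,9,10,20,18]),
  ([23,2,1,7,20,6,5,3,12,13,22,18,8,9,21,16,15,19,11,17,4,14,10,0],[16,2,1,20,4,22,7,17,18,0,3,11,9,10,21,19,14,6,13,23,8,12,5,15]),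
  ([23,2,1,16,17,13,18,12,21,20,15,19,7,5,22,10,3,4,6,11,9,8,14,0],[16,14,22,20,9,1,8,19,5,6,21,13,17,2,10,11,15,0,4,18,12,7,23,3]),
  ([23,2,1,7,22,19,14,3,10,11,8,9,20,16,6,18,13,21,15,5,12,17,4,0],[0,18,15,1,2,13,3,14,9,10,7,11,22,16,17,6,21,19,4,8,12,20,5,23]),
  ([23,2,1,19,18,6,5,14,13,15,20,22,16,8,7,9,12,21,4,3,10,17,11,0],[22,19,3,10,20,1,21,7,6,15,17,5,4,2,8,14,13,12,18,9,0,23,16,11]),
  ([23,2,1,5,12,3,15,20,16,19,21,22,4,18,17,6,8,14,13,9,7,10,11,0],[14,7,20,11,22,16,9,6,10,12,19,21,1,8,23,15,0,3,2,4,18,13,5,17]),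
  ([23,2,1,6,11,19,3,17,16,15,20,4,13,12,21,9,8,7,22,5,10,14,18,0],[12,17,7,15,9,0,3,5,14,10,6,21,8,23,22,19,18,4,16,20,1,2,11,13]),
  ([23,2,1,7,8,21,17,3,4,15,20,16,22,18,19,9,11,6,13,14,10,5,12,0],[15,17,6,22,12,4,13,11,14,20,18,19,1,8,3,16,7,21,2,10,23,0,5,9]),
  ([23,2,1,18,13,12,20,10,17,19,7,14,5,4,11,21,22,8,3,9,6,15,16,0],[23,5,12,15,21,20,9,7,3,1,19,18,13,6,17,10,8,11,4,2,16,22,14,0]),
  ([23,2,1,22,14,13,7,6,9,8,12,20,10,5,4,18,17,16,15,21,11,19,3,0],[16,4,14,7,6,0,9,11,22,10,8,3,5,23,1,20,2,19,13,12,18,15,21,17]),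
  ([23,2,1,16,5,4,7,6,10,12,8,15,9,14,13,11,3,22,20,21,18,19,17,0],[5,10,8,19,21,0,18,12,15,2,20,11,17,23,14,9,13,3,22,1,7,6,16,4])]
/-- Elements of order 3 with conjugating element. -/
def triples6 : List (List ℕ × List ℕ) := [([0,1,3,14,11,5,22,21,9,10,8,16,7,19,2,13,4,17,18,15,6,12,20,23],[0,1,5,17,18,2,16,12,8,9,21,15,7,20,14,11,6,3,4,19,13,10,22,23]),
  ([0,1,3,5,15,2,13,10,9,19,11,7,18,21,14,20,12,17,16,8,4,6,22,23],[14,1,17,22,0,4,11,21,18,16,13,8,6,3,20,10,5,15,7,19,9,12,2,23]),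
  ([0,1,3,10,7,13,15,12,20,5,2,11,4,9,6,14,16,8,19,22,17,21,18,23],[0,21,1,16,11,8,2,19,15,14,18,12,22,5,17,10,13,20,3,7,4,6,9,23]),
  ([0,1,3,14,22,5,11,20,6,7,16,8,10,15,2,18,12,17,13,19,9,4,21,23],[0,17,23,5,1,4,20,14,16,12,3,11,2,18,21,7,13,22,9,6,8,10,15,19]),
  ([0,1,3,18,6,9,15,12,17,11,19,5,14,13,7,4,8,16,2,22,20,21,10,23],[1,0,23,21,13,8,4,11,22,10,9,18,5,7,16,15,12,17,6,3,2,19,14,20]),
  ([1,23,3,14,7,5,22,15,8,11,19,13,10,9,2,4,16,17,6,12,20,21,18,0],[20,21,5,17,8,4,22,12,9,11,19,1,10,14,15,6,2,7,18,0,23,13,3,16]),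
  ([0,1,3,6,4,8,2,5,7,22,21,9,16,19,10,15,20,13,18,17,12,14,11,23],[0,15,4,1,18,7,2,12,10,21,20,17,16,9,8,6,22,5,3,19,13,14,11,23]),
  ([0,1,3,5,9,2,4,20,15,6,8,21,12,7,14,10,18,17,22,11,13,19,16,23],[14,17,12,1,0,11,9,8,13,7,10,3,15,16,19,4,18,21,6,2,5,20,22,23]),
  ([0,1,3,18,4,7,6,8,5,12,22,14,17,20,16,15,11,9,2,10,21,13,19,23],[1,6,15,4,23,10,20,3,8,5,2,9,18,14,19,13,16,22,21,17,12,7,11,0]),
  ([0,1,3,4,2,19,18,7,21,8,10,22,12,14,20,6,5,11,15,16,13,9,17,23],[23,12,1,7,10,13,3,21,17,11,8,6,9,19,20,2,16,14,4,15,18,22,5,0]),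
  ([0,1,3,13,5,8,16,7,4,12,22,11,19,2,6,15,14,10,20,9,21,18,17,23],[0,23,7,1,11,4,20,22,9,12,10,14,17,2,8,18,3,5,21,16,6,19,13,15]),
  ([0,1,3,14,4,5,12,15,7,6,13,18,9,20,2,8,11,17,16,21,10,22,19,23],[0,23,5,17,1,22,11,2,13,20,14,12,3,8,21,16,7,19,18,6,9,10,15,4]),
  ([0,1,3,14,21,5,20,11,13,16,7,10,8,12,2,9,15,17,6,4,18,19,22,23],[22,0,1,5,17,18,2,16,12,8,9,21,15,7,20,14,11,6,3,4,19,13,10,23]),
  ([0,1,3,19,7,4,14,5,8,12,22,6,13,9,11,15,16,20,10,2,21,17,18,23],[16,1,8,23,0,22,4,17,9,12,21,14,20,19,10,5,2,18,7,6,11,13,3,15]),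
  ([0,1,3,8,4,13,12,22,2,9,18,5,17,11,10,16,19,6,14,15,7,21,20,23],[1,0,4,21,9,10,3,20,15,16,22,5,7,12,14,2,17,18,8,11,13,19,6,23]),
  ([0,1,3,4,2,20,6,10,9,21,12,16,7,17,11,15,14,19,18,13,22,8,5,23],[23,6,1,15,18,16,9,4,19,13,3,7,2,5,11,8,20,14,21,12,10,17,22,0]),
  ([0,1,3,5,6,2,12,21,19,9,16,20,4,10,14,7,13,17,11,22,18,15,8,23],[17,1,9,14,0,10,8,11,7,21,18,5,20,6,13,22,12,16,19,3,2,15,4,23]),
  ([0,1,3,9,4,7,22,15,8,2,14,6,13,19,18,5,20,16,10,12,17,21,11,23],[8,1,21,4,0,11,10,12,2,3,19,15,13,17,22,18,16,6,14,7,5,9,20,23]),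
  ([0,1,3,10,12,6,20,4,9,14,2,16,7,15,8,17,21,13,18,19,5,11,22,23],[22,18,0,23,19,6,15,2,8,9,10,4,3,16,5,13,21,20,17,7,12,14,11,1]),
  ([0,1,3,15,18,12,4,11,8,14,5,13,10,7,22,2,16,21,6,19,17,20,9,23],[1,16,19,8,0,7,6,3,9,14,2,21,15,5,13,18,12,11,4,17,20,22,10,23]),
  ([1,23,3,5,6,2,9,7,21,4,11,22,12,13,14,19,8,17,15,18,20,16,10,0],[20,7,13,17,12,4,8,2,22,10,5,15,3,0,9,16,1,6,21,18,19,11,23,14]),
  ([0,1,3,6,15,13,2,17,19,9,7,11,20,21,8,18,12,10,4,14,16,5,22,23],[0,1,22,11,9,7,12,3,18,4,2,5,6,8,10,16,19,17,20,21,13,15,14,23]),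
  ([0,1,3,5,11,2,7,18,8,22,15,13,10,4,14,12,20,17,6,9,21,16,19,23],[23,8,17,14,1,11,10,18,2,3,7,22,6,16,4,12,20,13,15,9,19,5,21,0]),
  ([0,1,3,21,8,22,5,14,9,4,11,16,7,13,12,19,10,15,18,17,20,2,6,23],[1,0,18,20,23,21,16,5,9,4,6,12,22,19,3,11,17,2,10,14,7,8,15,13]),
  ([1,23,3,5,4,2,12,22,16,6,10,7,9,19,14,13,20,17,18,15,8,21,11,0],[17,21,4,18,10,22,0,3,8,16,2,9,5,19,7,23,15,11,1,12,6,20,13,14]),
  ([1,23,3,14,8,5,20,4,7,21,12,9,16,13,2,15,10,17,18,19,22,11,6,0],[5,13,18,15,17,2,23,16,21,11,12,6,10,7,14,1,4,3,0,22,20,9,8,19]),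
  ([0,1,3,5,20,2,16,9,10,21,12,6,8,19,14,15,11,17,13,18,22,7,4,23],[23,14,0,15,1,21,8,11,19,18,16,20,6,5,9,12,2,7,10,4,22,13,3,17]),
  ([0,1,3,13,14,6,22,15,16,19,4,7,9,2,10,11,17,8,18,12,20,21,5,23],[20,23,18,0,1,19,4,22,13,2,6,17,5,15,9,10,11,12,14,16,8,3,7,21]),
  ([0,1,3,14,16,5,8,10,19,21,22,11,20,9,2,12,18,17,4,6,15,13,7,23],[23,17,11,5,1,12,8,4,9,21,18,2,16,10,15,6,22,20,19,14,3,13,7,0]),
  ([0,1,3,19,21,20,5,17,16,13,10,7,9,12,4,8,15,11,18,2,6,14,22,23],[1,18,0,23,10,20,3,4,11,7,14,16,21,13,5,2,12,6,19,8,15,17,9,22]),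
  ([0,1,3,14,15,5,19,4,8,18,9,6,13,22,2,7,21,17,10,11,16,20,12,23],[1,17,5,0,8,3,18,11,15,7,19,21,6,13,2,9,22,14,10,16,20,4,12,23]),
  ([0,1,3,17,18,5,12,22,6,11,4,13,8,9,14,20,7,2,10,15,19,21,16,23],[23,14,21,1,5,10,20,22,13,9,7,3,16,12,18,15,8,4,19,2,17,11,6,0]),
  ([0,1,3,17,9,5,15,21,13,20,19,6,10,18,14,11,16,2,8,12,4,22,7,23],[1,14,16,5,23,8,20,22,19,12,21,17,7,15,18,9,11,13,4,3,2,10,6,0]),
  ([0,1,3,7,10,9,14,2,20,21,12,11,4,13,16,15,6,18,19,17,22,5,8,23],[1,23,13,0,11,17,7,9,8,20,5,14,21,4,19,3,10,18,2,6,16,22,12,15]),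
  ([0,1,3,11,8,4,9,7,5,22,21,2,14,13,20,15,10,19,17,18,12,16,6,23],[7,15,0,13,1,3,18,10,14,20,16,9,21,4,2,19,8,11,17,6,22,12,5,23]),
  ([0,1,3,5,12,2,6,8,18,4,20,16,9,22,14,11,15,17,7,10,19,13,21,23],[17,14,0,6,23,22,11,20,4,12,10,7,19,3,13,15,5,21,16,18,8,9,2,1]),
  ([0,1,3,17,6,5,19,20,18,21,15,9,7,13,14,22,8,2,16,4,12,11,10,23],[1,14,23,0,13,2,10,20,9,21,7,18,12,6,17,22,19,3,15,8,16,11,4,5]),
  ([0,1,3,20,10,11,12,22,7,5,14,9,16,13,4,17,6,19,18,15,2,21,8,23],[21,13,0,18,1,7,19,3,4,10,2,6,20,11,8,17,9,22,15,16,12,14,5,23]),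
  ([0,1,3,10,4,8,9,7,15,17,2,21,12,20,13,5,11,6,22,18,14,16,19,23],[1,7,4,0,12,5,21,3,6,9,2,20,10,19,15,11,18,8,16,13,14,17,22,23]),
  ([1,23,3,5,12,2,4,11,8,9,7,10,6,15,14,18,21,17,13,19,16,20,22,0],[22,9,17,8,19,13,7,3,6,4,2,23,5,21,18,10,20,15,11,1,0,12,16,14]),
  ([0,1,3,17,19,5,6,10,12,7,9,15,21,4,14,16,11,2,22,13,18,8,20,23],[14,0,23,6,5,11,20,12,4,19,8,10,21,2,16,22,3,15,18,7,9,13,17,1]),
  ([0,1,3,7,4,16,17,2,22,6,10,15,12,11,18,13,19,9,21,5,8,14,20,23],[12,10,23,0,4,19,18,20,9,6,22,7,8,13,16,14,11,5,21,3,2,17,15,1]),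
  ([0,1,3,19,6,11,17,14,15,9,18,21,12,13,20,16,8,4,22,2,7,5,10,23],[13,12,9,1,23,10,4,2,21,5,19,7,3,8,22,17,15,18,6,20,14,11,16,0]),
  ([0,1,3,5,21,2,8,6,7,20,4,9,16,15,14,19,22,17,18,13,11,10,12,23],[23,14,18,1,0,8,9,4,13,15,10,5,21,16,6,11,22,7,20,3,2,19,12,17]),
  ([0,1,3,12,4,15,16,7,5,13,10,17,2,19,21,8,20,22,14,9,6,18,11,23],[0,7,4,23,1,13,20,15,21,18,5,17,8,3,9,16,12,19,6,11,22,14,2,10]),
  ([0,1,3,21,9,12,14,17,4,8,10,11,19,18,15,6,16,22,20,5,13,2,7,23],[16,1,11,0,10,6,17,4,20,13,8,12,9,21,15,7,2,14,22,5,19,18,3,23]),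
  ([0,1,3,22,5,15,9,7,8,11,19,6,13,14,12,4,17,21,10,18,20,16,2,23],[0,1,8,7,20,4,22,19,11,6,10,12,18,17,15,3,21,5,2,14,13,9,16,23]),
  ([0,1,3,5,7,2,11,19,21,10,13,15,22,9,14,6,16,17,12,4,8,20,18,23],[0,16,17,1,14,8,13,7,2,3,4,11,19,22,20,10,18,21,9,6,15,5,12,23]),
  ([0,1,3,4,2,11,15,12,8,9,7,13,10,5,19,18,17,20,6,22,16,21,14,23],[21,9,8,23,0,7,14,4,20,16,3,11,2,6,10,22,15,12,19,5,13,17,18,1]),
  ([0,1,3,8,21,6,18,7,2,4,11,17,14,12,13,19,15,10,5,16,20,9,22,23],[7,0,1,22,20,10,6,21,3,8,4,16,9,14,17,5,13,11,18,19,15,2,12,23]),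
  ([1,23,3,5,9,2,6,10,20,12,22,11,4,18,14,15,16,17,19,13,21,8,7,0],[11,15,16,17,6,4,7,2,13,18,5,8,3,1,12,22,23,9,10,21,20,19,0,14]),
  ([1,23,3,17,4,5,16,7,8,22,21,6,13,20,14,15,11,2,10,9,12,18,19,0],[8,15,4,14,7,12,22,17,6,16,3,21,2,1,20,9,23,13,19,10,18,11,0,5]),
  ([0,1,3,14,7,5,10,8,4,22,21,20,11,18,2,15,9,17,19,13,12,6,16,23],[23,15,1,17,0,21,9,18,2,3,13,11,19,4,10,16,7,6,22,12,20,14,8,5]),
  ([0,1,3,17,20,5,10,6,22,9,7,21,15,11,14,18,4,2,12,8,16,13,19,23],[9,14,0,1,5,19,3,10,21,13,6,15,7,20,22,2,16,8,17,12,18,11,4,23]),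
  ([0,1,3,16,17,18,6,13,15,4,11,21,12,14,7,19,2,9,22,8,20,10,5,23],[23,6,20,0,12,22,11,2,14,7,16,9,3,15,18,10,19,5,21,17,4,13,8,1]),
  ([0,1,3,8,9,10,11,20,2,21,12,14,5,18,6,15,16,13,17,19,22,4,7,23],[16,15,1,19,0,9,18,8,12,5,3,7,2,11,4,13,14,21,17,22,20,10,6,23]),
  ([0,1,3,5,4,2,9,16,13,12,21,8,6,11,14,22,19,17,10,7,15,18,20,23],[1,17,14,4,0,22,8,7,10,21,19,9,16,2,15,11,3,20,13,6,12,18,5,23]),
  ([0,1,3,21,4,15,17,5,8,9,16,10,6,20,22,7,11,12,13,14,18,2,19,23],[23,9,0,8,4,19,11,21,15,7,3,20,2,17,22,16,12,14,10,13,18,5,6,1]),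
  ([0,1,3,17,12,5,18,16,19,8,13,4,11,15,14,10,21,2,20,9,6,7,22,23],[1,5,23,22,0,7,13,6,9,8,20,12,18,2,21,10,3,16,15,4,11,19,17,14]),
  ([0,1,3,13,17,10,4,11,22,9,16,15,12,2,8,7,5,6,21,19,18,20,14,23],[1,9,19,12,23,11,20,13,5,10,3,4,2,8,7,21,22,15,18,6,17,16,14,0]),
  ([1,23,3,14,4,5,6,8,15,9,16,21,12,11,2,7,19,17,22,10,18,13,20,0],[4,12,6,17,9,21,7,0,10,16,23,18,1,14,11,15,2,13,8,20,22,19,3,5]),
  ([0,1,3,17,4,5,13,8,15,16,18,12,22,19,14,7,20,2,21,6,9,10,11,23],[14,5,0,1,4,2,15,22,18,21,12,19,11,9,17,8,16,3,7,13,6,10,20,23]),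
  ([0,1,3,17,11,5,8,13,21,18,16,22,12,20,14,9,19,2,15,10,7,6,4,23],[5,12,14,1,23,11,7,15,17,2,18,19,9,21,4,20,6,22,13,16,10,3,8,0]),
  ([1,23,3,17,21,5,6,13,9,19,4,16,7,12,14,11,15,2,18,8,20,10,22,0],[18,14,22,20,5,3,4,16,23,0,11,19,15,12,2,10,7,17,21,9,8,1,13,6]),
  ([0,1,3,6,18,10,2,14,21,11,19,22,12,7,13,4,16,8,15,5,20,17,9,23],[23,20,16,12,1,6,15,22,5,10,11,14,9,17,3,18,8,2,4,7,13,19,21,0]),
  ([0,1,3,14,20,5,21,22,18,8,10,7,16,4,2,6,19,17,9,12,13,15,11,23],[0,10,17,23,5,7,21,9,14,2,18,12,8,4,11,6,20,22,15,19,16,3,13,1]),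
  ([0,1,3,17,13,5,4,11,9,22,12,18,16,6,14,21,10,2,7,19,15,20,8,23],[5,23,0,1,19,17,9,16,15,21,12,13,10,18,3,8,7,2,22,4,6,20,11,14]),
  ([0,1,3,14,6,5,9,18,22,4,19,15,12,8,2,20,10,17,21,16,11,7,13,23],[1,17,12,5,0,22,15,7,10,19,21,3,18,6,8,11,9,13,20,2,14,16,4,23]),
  ([0,1,3,17,8,5,11,4,7,12,22,16,18,10,14,15,6,2,9,20,21,19,13,23],[0,5,15,14,23,20,9,22,6,11,10,2,13,7,19,18,4,21,12,17,3,16,8,1]),
  ([0,1,3,9,8,16,11,20,21,2,5,22,12,13,7,17,10,18,15,19,14,4,6,23],[19,13,12,1,0,2,14,8,5,16,4,15,21,6,9,20,11,3,7,18,17,10,22,23]),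
  ([0,1,3,11,12,20,6,13,14,9,16,2,17,15,19,7,21,4,5,8,18,10,22,23],[6,9,1,23,0,15,19,12,20,18,4,10,17,2,13,14,3,7,8,21,16,5,11,22]),
  ([0,1,3,5,18,2,19,11,12,13,10,22,15,16,14,8,9,17,21,20,6,4,7,23],[1,0,10,14,17,18,20,15,13,16,12,3,8,7,4,19,11,21,6,2,5,9,22,23]),
  ([1,23,3,17,18,5,11,20,22,8,10,15,12,7,14,6,16,2,21,19,13,4,9,0],[12,5,19,10,14,23,7,11,2,3,6,9,15,21,1,13,4,0,20,22,8,17,18,16]),
  ([0,1,3,14,9,5,6,13,11,12,15,19,4,16,2,21,7,17,20,8,22,10,18,23],[23,6,5,0,17,22,8,16,3,14,13,12,7,10,20,19,15,18,11,9,4,2,21,1]),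
  ([0,1,3,11,18,19,22,15,17,6,10,2,5,7,4,13,16,20,14,12,8,21,9,23],[16,10,21,1,23,7,4,2,8,17,11,12,3,9,13,14,6,15,18,19,5,20,22,0]),
  ([0,1,3,15,4,22,6,13,16,17,14,7,9,11,21,2,19,12,18,8,5,10,20,23],[4,1,6,18,23,11,5,3,19,8,2,10,15,9,13,20,17,7,22,21,14,16,12,0]),
  ([0,1,3,5,22,2,10,13,16,11,19,18,7,12,14,4,21,17,9,6,20,8,15,23],[0,20,23,1,17,13,4,16,2,3,8,11,21,6,7,15,10,12,22,9,18,5,19,14]),
  ([1,23,3,14,15,5,18,7,4,13,10,11,19,21,2,8,12,17,20,16,6,9,22,0],[5,10,22,11,17,14,0,4,12,19,8,20,15,13,3,23,21,2,1,18,6,16,9,7]),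
  ([0,1,3,17,15,5,9,7,4,10,6,19,20,12,14,8,22,2,11,18,13,16,21,23],[23,5,1,7,14,15,6,22,13,12,16,11,21,17,4,10,2,8,9,18,19,20,3,0]),
  ([0,1,3,14,13,5,18,9,21,19,4,12,15,10,2,11,8,17,22,7,20,16,6,23],[23,5,1,17,20,14,13,9,16,8,7,12,19,6,3,4,18,2,10,11,15,21,22,0]),
  ([0,1,3,5,16,2,20,4,22,8,6,12,21,18,14,13,7,17,15,19,10,11,9,23],[19,14,0,17,1,6,2,4,13,18,7,21,16,22,10,5,9,20,3,12,11,15,8,23]),
  ([0,1,3,7,12,18,5,2,8,19,4,13,10,15,9,11,21,16,6,14,20,17,22,23],[23,20,8,1,22,21,13,2,14,9,7,18,3,12,16,11,10,17,15,5,6,19,4,0]),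
  ([0,1,3,12,7,22,6,10,17,19,4,14,2,9,15,11,16,21,5,13,20,8,18,23],[1,0,6,20,16,18,12,9,7,10,13,21,19,14,22,3,15,5,2,17,8,4,11,23]),
  ([0,1,3,12,10,21,20,4,14,9,7,5,2,13,22,18,6,15,17,19,16,11,8,23],[0,1,19,9,23,6,12,8,10,7,22,11,14,18,16,3,17,20,2,21,5,4,15,13]),
  ([0,1,3,5,10,2,22,15,20,7,18,19,11,6,14,9,8,17,4,12,16,21,13,23],[17,23,1,14,0,19,10,5,22,13,3,9,2,8,11,4,20,12,18,15,7,6,16,21]),
  ([0,1,3,16,5,7,20,4,8,22,21,10,6,17,9,15,2,18,13,19,12,11,14,23],[1,0,19,23,8,17,21,14,12,6,22,7,9,3,13,10,16,18,11,5,4,20,2,15]),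
  ([0,1,3,15,6,21,18,7,19,5,17,11,20,13,12,2,8,22,4,16,14,9,10,23],[0,13,11,1,23,4,16,9,10,17,21,12,5,15,18,19,2,6,8,14,20,22,3,7]),
  ([0,1,3,14,12,5,4,19,10,9,18,13,6,21,2,16,22,17,8,20,7,11,15,23],[1,0,17,23,5,6,18,14,7,19,3,13,2,16,12,10,22,4,8,11,21,20,15,9]),
  ([0,1,3,22,14,12,11,20,7,6,10,9,16,17,21,13,5,15,18,19,8,4,2,23],[23,18,1,19,10,13,8,11,16,5,6,3,9,4,15,20,14,17,7,2,22,12,21,0]),
  ([0,1,3,14,18,5,13,6,20,15,12,4,19,7,2,22,16,17,11,10,21,8,9,23],[0,1,17,5,23,15,4,14,6,13,3,10,2,21,9,11,8,22,18,19,12,7,20,16]),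
  ([0,1,3,14,19,5,15,12,16,13,6,9,18,11,2,10,20,17,7,22,8,21,4,23],[1,21,0,23,5,8,19,9,14,2,11,6,13,12,20,4,18,16,22,10,15,3,7,17]),
  ([0,1,3,17,16,5,22,12,10,4,11,8,13,7,14,19,9,2,6,21,20,15,18,23],[23,5,14,1,20,17,19,11,12,13,10,6,8,16,3,15,9,2,21,18,22,7,4,0]),
  ([0,1,3,20,15,4,16,7,8,14,17,10,6,21,19,5,12,11,13,9,2,18,22,23],[1,0,23,8,22,4,18,9,20,2,19,12,14,10,5,21,17,15,13,16,6,3,11,7]),
  ([0,1,3,5,13,2,15,22,4,18,7,11,19,8,14,16,6,17,20,21,9,12,10,23],[11,1,14,17,0,19,5,20,4,13,18,7,9,16,12,3,6,21,2,10,22,8,15,23]),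
  ([0,1,3,18,15,16,4,11,14,8,10,17,5,21,9,6,12,7,2,19,13,20,22,23],[0,1,19,10,23,4,21,16,2,3,5,17,12,8,6,13,14,15,20,11,7,18,9,22]),
  ([0,1,3,5,19,2,18,7,6,15,22,10,13,20,14,21,4,17,8,16,12,9,11,23],[1,7,0,23,17,12,15,22,3,5,10,8,11,19,20,9,16,13,21,18,6,2,4,14]),
  ([0,1,3,20,9,19,6,8,22,17,5,15,12,18,11,14,16,4,21,10,2,13,7,23],[1,23,12,16,6,5,2,18,22,7,13,15,21,4,10,20,9,19,3,11,14,8,17,0]),
  ([0,1,3,16,14,9,12,22,19,13,10,11,20,5,18,8,2,7,4,15,6,21,17,23],[0,11,10,23,21,17,3,15,4,14,19,9,8,20,22,2,6,7,16,5,13,18,12,1]),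
  ([0,1,3,9,21,18,6,10,4,2,17,11,19,12,16,14,15,7,20,13,5,8,22,23],[22,1,11,6,0,21,14,3,12,19,2,20,9,10,4,15,17,8,16,18,5,13,7,23]),
  ([0,1,3,17,21,5,7,9,11,6,10,20,19,22,14,13,12,2,4,16,8,18,15,23],[0,1,5,10,14,16,20,6,15,13,9,4,7,2,19,11,3,12,8,18,21,22,17,23]),
  ([0,1,3,5,8,2,21,12,11,16,9,4,20,13,14,18,10,17,19,15,7,22,6,23],[14,17,13,23,1,11,19,9,20,7,10,2,16,6,8,18,21,4,15,5,3,12,22,0]),
  ([0,1,3,14,10,5,7,16,12,11,20,21,22,13,2,19,6,17,15,18,4,9,8,23],[0,23,5,13,17,21,12,16,20,4,7,18,6,14,11,8,2,9,22,19,15,10,3,1]),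
  ([0,1,3,17,22,5,16,18,20,13,8,11,4,21,14,6,15,2,19,7,10,9,12,23],[14,11,5,0,23,12,9,19,17,2,18,15,7,20,22,21,10,4,13,16,6,3,8,1]),
  ([0,1,3,17,7,5,21,15,8,19,20,10,6,16,14,4,18,2,13,22,11,12,9,23],[23,14,8,0,1,6,16,19,4,7,9,2,22,20,12,13,11,21,18,17,3,15,10,5]),
  ([0,1,3,17,10,5,20,19,16,15,21,7,9,8,14,12,13,2,18,11,22,4,6,23],[23,1,14,5,0,15,8,17,19,11,3,20,2,21,9,13,4,12,16,6,22,7,10,18]),
  ([0,1,3,22,17,21,6,8,20,9,18,11,4,5,15,16,14,12,19,10,7,13,2,23],[1,0,23,9,11,4,8,13,18,19,21,22,5,15,12,7,16,17,20,3,2,10,14,6]),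
  ([0,1,3,14,8,5,16,7,15,20,11,22,21,6,2,4,13,17,12,9,19,18,10,23],[17,7,23,1,0,19,4,10,2,3,22,21,11,6,20,15,16,9,8,12,18,14,13,5]),
  ([1,23,3,17,10,5,15,12,19,9,18,11,20,13,14,16,6,2,4,22,7,21,8,0],[5,11,9,21,14,1,2,7,15,16,20,22,12,10,0,17,18,23,3,19,8,6,4,13])]
/-- Elements of order 3 with conjugating element. -/
def triples0 : List (List ℕ × List ℕ) := [([1,23,3,4,2,11,9,18,12,10,6,22,15,17,19,8,14,20,21,16,13,7,5,0],[0,1,2,3,4,5,6,7,8,9,10,11,12,13,14,15,16,17,18,19,20,21,22,23]),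
  ([1,23,3,19,21,11,14,5,9,10,8,7,18,22,20,13,12,4,16,2,6,17,15,0],[23,0,16,12,18,19,20,17,13,6,14,2,22,7,10,15,9,5,4,8,11,21,3,1]),
  ([1,23,3,22,17,15,20,19,18,8,6,7,16,5,12,13,14,21,9,11,10,4,2,0],[10,6,19,11,7,8,1,3,12,23,0,18,16,21,13,14,15,4,22,5,17,2,9,20]),
  ([1,23,3,7,20,9,5,2,15,6,8,12,22,4,16,10,19,18,21,14,13,17,11,0],[5,9,14,16,19,13,23,11,2,0,1,4,3,8,21,7,18,15,12,17,10,22,20,6]),
  ([1,23,3,21,20,12,5,14,13,18,9,8,6,11,15,7,4,22,10,17,16,2,19,0],[16,4,19,17,22,23,7,18,21,14,15,0,2,5,13,3,8,12,10,11,6,9,1,20]),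
  ([1,23,3,6,20,13,2,14,7,15,21,18,9,19,8,12,11,10,16,5,22,17,4,0],[0,1,18,16,11,7,5,22,10,13,19,14,21,12,3,17,2,9,4,6,15,20,8,23]),
  ([1,23,3,13,17,8,22,21,16,11,4,18,7,2,6,20,5,10,9,15,19,12,14,0],[7,21,11,18,9,19,1,2,17,23,0,15,10,5,6,4,14,8,3,22,16,13,20,12]),
  ([1,23,3,11,8,19,16,9,14,21,15,2,17,6,4,22,13,20,5,18,12,7,10,0],[9,21,2,3,11,5,6,14,12,16,13,19,17,0,15,20,10,1,4,22,23,8,18,7]),
  ([1,23,3,15,13,22,7,16,4,14,5,19,20,8,21,2,6,12,11,18,17,9,10,0],[0,1,3,15,2,12,6,8,11,7,16,20,19,14,22,18,5,21,4,10,9,13,17,23]),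
  ([1,23,3,13,14,10,16,18,4,15,22,20,11,2,8,21,17,6,19,7,12,9,5,0],[18,19,6,16,17,5,20,13,4,12,11,10,14,9,1,8,0,15,2,23,21,3,22,7]),
  ([1,23,3,15,11,12,13,8,18,5,17,16,9,19,22,2,4,21,7,6,14,10,20,0],[1,23,13,19,6,15,12,14,16,9,5,2,4,10,18,11,8,17,22,7,21,20,3,0]),
  ([1,23,3,19,6,4,5,17,12,18,16,21,22,10,11,9,13,20,15,2,7,14,8,0],[16,13,6,5,4,22,3,20,9,19,2,8,18,0,11,15,14,1,7,21,23,17,12,10]),
  ([1,23,3,7,8,18,17,2,11,21,22,4,20,10,9,12,6,16,19,5,15,14,13,0],[4,8,2,3,7,1,9,17,20,21,14,23,15,22,5,12,19,13,16,18,10,6,0,11]),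
  ([1,23,3,7,22,16,14,2,13,19,20,10,8,12,18,4,21,9,6,17,11,5,15,0],[9,19,18,6,14,22,13,20,21,12,8,15,5,23,7,16,3,0,11,2,1,10,4,17]),
  ([1,23,3,12,9,21,10,13,5,20,19,17,2,16,22,11,7,15,14,6,4,8,18,0],[23,0,15,11,17,16,2,20,8,3,12,7,5,18,6,21,19,14,4,10,22,9,13,1]),
  ([1,23,3,8,16,13,11,4,2,15,12,17,14,18,10,22,7,6,5,20,21,19,9,0],[22,9,7,4,16,14,6,23,3,11,17,10,8,21,5,2,18,19,0,13,20,1,12,15]),
  ([1,23,3,16,14,18,19,4,10,22,12,6,8,5,7,21,2,9,13,11,15,20,17,0],[6,19,13,5,18,2,12,0,15,8,10,3,21,14,9,20,17,7,1,22,4,23,16,11]),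
  ([1,23,3,10,16,8,15,21,20,14,2,19,11,9,13,17,18,6,4,12,5,22,7,0],[0,1,16,18,4,9,5,12,6,8,20,14,15,22,3,17,2,7,11,10,21,19,13,23]),
  ([1,23,3,9,22,7,13,10,11,2,5,19,4,21,18,17,15,16,20,8,14,6,12,0],[0,1,12,4,22,9,7,14,8,10,5,2,11,15,6,19,21,17,18,13,16,20,3,23]),
  ([1,23,3,20,10,19,21,12,16,14,17,9,18,8,11,5,13,4,7,15,2,22,6,0],[15,5,1,23,0,2,16,7,17,13,8,3,4,14,22,10,21,11,12,6,9,18,20,19]),
  ([1,23,3,22,5,12,8,10,19,7,9,20,4,14,21,16,17,15,11,6,18,13,2,0],[22,2,9,7,10,18,17,19,0,15,16,11,1,21,4,23,12,13,6,5,14,8,20,3]),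
  ([1,23,3,6,16,8,2,17,21,4,19,15,22,7,10,20,9,13,12,14,11,5,18,0],[6,2,14,10,19,0,12,4,13,22,18,1,7,11,21,17,8,15,16,5,20,9,23,3]),
  ([1,23,3,13,5,6,4,20,22,7,16,21,15,2,10,18,14,8,12,11,9,19,17,0],[23,0,18,12,15,11,20,6,14,9,7,21,10,13,8,16,17,2,4,22,3,5,19,1]),
  ([1,23,3,9,6,18,19,20,22,2,14,12,21,8,16,5,10,7,15,4,17,11,13,0],[23,0,11,12,21,2,10,7,19,14,16,3,4,5,8,6,13,18,20,22,15,17,9,1]),
  ([1,23,3,18,22,7,19,11,17,8,13,5,14,15,16,10,12,9,2,20,6,4,21,0],[4,22,8,17,9,2,0,16,5,1,23,3,7,19,13,11,10,20,12,15,6,14,18,21]),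
  ([1,23,3,16,5,9,8,13,21,4,20,12,15,17,18,11,2,7,22,10,19,6,14,0],[1,23,16,2,3,13,12,10,8,15,11,17,21,18,4,6,9,22,20,5,14,19,7,0]),
  ([1,23,3,10,21,13,20,11,9,17,2,18,16,15,6,5,22,8,7,4,14,19,12,0],[14,6,17,8,9,11,1,16,2,23,0,18,3,4,15,10,13,21,22,5,19,12,7,20]),
  ([1,23,3,19,7,20,17,14,13,22,15,6,10,18,4,12,9,11,8,2,21,5,16,0],[5,20,14,4,7,22,23,18,2,0,1,16,3,12,6,19,11,10,8,17,15,13,9,21]),
  ([1,23,3,10,11,6,9,16,15,5,2,22,21,20,8,14,19,13,12,7,17,18,4,0],[20,17,9,5,6,16,1,21,10,23,0,19,2,4,8,3,14,11,18,15,22,12,7,13]),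
  ([1,23,3,9,11,16,12,15,6,2,17,13,8,4,7,14,20,18,10,21,5,22,19,0],[13,4,10,17,18,2,12,23,21,8,6,3,22,5,7,19,14,16,0,15,20,1,9,11]),
  ([1,23,3,12,19,22,7,9,14,6,13,5,2,20,15,8,4,21,17,16,10,18,11,0],[1,23,8,14,15,19,3,13,17,12,2,16,21,5,9,18,7,22,20,6,11,10,4,0]),
  ([1,23,3,20,9,4,13,6,12,5,14,15,21,7,19,17,18,11,22,10,2,8,16,0],[14,19,5,4,9,3,17,22,13,11,15,20,7,21,0,6,23,8,16,1,12,18,2,10]),
  ([1,23,3,11,12,4,10,6,17,16,7,2,5,22,20,9,15,19,14,8,18,13,21,0],[19,8,10,7,6,9,4,23,13,12,5,16,22,18,11,21,3,14,0,2,20,1,15,17]),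
  ([1,23,3,8,15,10,18,9,2,19,11,5,17,12,6,20,22,13,14,7,4,16,21,0],[15,20,19,7,9,2,11,21,14,5,10,3,6,0,13,18,17,1,16,12,23,22,8,4]),
  ([1,23,3,11,18,20,21,22,5,10,13,2,14,9,19,6,7,4,17,12,8,15,16,0],[0,1,10,13,9,3,14,18,7,19,12,11,22,20,6,16,15,8,17,21,5,4,2,23]),
  ([1,23,3,20,15,11,18,16,6,17,5,10,13,22,4,14,21,19,8,9,2,7,12,0],[6,18,1,23,0,14,2,22,10,3,20,4,5,21,17,11,9,7,12,19,16,13,15,8]),
  ([1,23,3,21,13,15,14,17,18,20,4,9,7,10,22,19,8,12,16,5,11,2,6,0],[8,18,4,13,10,22,3,15,23,21,2,6,0,17,11,1,20,12,19,9,7,5,14,16]),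
  ([1,23,3,8,19,6,12,21,2,16,18,14,5,11,13,7,20,10,17,22,9,15,4,0],[23,0,2,3,8,17,19,21,20,22,4,10,9,11,5,16,12,14,15,6,13,7,18,1]),
  ([1,23,3,18,19,9,10,8,14,12,21,17,5,4,7,22,11,16,2,13,15,6,20,0],[18,2,4,19,13,20,17,21,1,16,11,15,23,7,12,0,9,8,6,5,14,10,22,3]),
  ([1,23,3,16,17,7,15,22,11,13,6,20,19,14,9,10,2,18,4,21,8,12,5,0],[1,23,2,3,16,14,12,11,15,19,21,9,10,22,17,6,4,5,20,18,7,8,13,0]),
  ([1,23,3,15,7,21,11,19,6,17,14,8,10,16,12,2,18,22,13,4,5,20,9,0],[12,10,18,13,16,8,2,5,9,3,15,6,17,7,23,22,1,19,21,0,4,20,11,14]),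
  ([1,23,3,22,14,21,7,18,10,20,11,8,13,17,15,4,5,12,6,9,19,16,2,0],[4,14,13,17,12,19,6,2,0,7,18,9,1,5,10,23,8,21,3,11,16,22,20,15]),
  ([1,23,3,4,2,19,8,6,7,12,15,16,18,5,20,21,17,11,9,13,22,10,14,0],[0,1,18,9,12,16,14,10,19,20,22,17,13,8,3,5,2,7,15,4,6,21,11,23]),
  ([1,23,3,6,12,10,2,5,19,18,7,4,11,21,13,16,22,8,20,17,9,14,15,0],[11,4,17,8,19,20,6,21,15,2,3,9,16,0,7,22,10,1,14,5,23,13,18,12]),
  ([1,23,3,12,13,15,4,19,17,16,9,14,2,6,21,18,10,22,5,20,7,11,8,0],[7,19,4,13,6,2,11,16,17,14,21,3,22,0,15,8,5,1,10,18,23,9,12,20]),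
  ([1,23,3,18,10,16,22,12,5,11,20,14,17,6,9,19,8,7,2,21,4,15,13,0],[20,4,21,15,19,3,14,22,7,9,11,18,12,0,8,17,16,1,13,5,23,6,2,10]),
  ([1,23,3,4,2,20,21,15,10,7,18,13,6,14,11,9,5,19,8,22,16,12,17,0],[6,21,15,9,7,23,18,20,17,8,10,0,19,14,2,22,4,11,16,3,13,5,1,12]),
  ([1,23,3,21,18,22,17,5,20,13,8,4,19,16,12,6,9,15,11,14,10,2,7,0],[10,8,14,12,19,3,11,23,9,4,18,21,13,15,7,16,22,6,0,5,17,1,2,20])]

/-- Prefixes. -/
def preI : List (List ℕ) := [[0,1,2,3,4,5,6,7,8,9,10,11,12,13,14,15,16,17,18,19,20,21,22,23],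
  [0,1,2,4,8,13,19,6,3,9,20,5,14,11,16,10,12,22,17,7,15,21,18,23],
  [0,1,2,5,18,3,10,9,16,21,19,22,4,12,17,7,11,14,13,20,6,15,8,23],
  [0,1,2,6,18,19,3,17,13,9,10,22,16,8,21,15,12,7,4,5,20,14,11,23],
  [0,1,2,7,16,19,17,5,10,8,11,9,20,22,6,12,4,21,15,3,18,14,13,23],
  [0,1,2,8,4,12,19,6,9,3,14,15,20,22,18,17,13,11,10,7,5,21,16,23],
  [0,1,2,9,19,10,3,5,16,11,18,22,4,7,15,12,21,20,13,14,8,17,6,23],
  [0,1,2,10,4,9,8,12,6,5,3,21,7,13,20,17,16,15,19,18,14,11,22,23],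
  [0,1,2,11,14,18,9,10,21,22,13,6,19,5,12,4,17,8,7,15,16,20,3,23],
  [0,1,2,12,10,8,14,3,13,21,7,16,4,20,11,6,15,18,22,5,19,17,9,23],
  [0,1,2,13,20,22,11,18,5,19,21,14,3,9,16,6,15,4,17,12,7,8,10,23],
  [0,1,2,14,4,3,9,20,19,12,8,21,6,22,5,11,13,17,7,10,18,15,16,23],
  [0,1,2,15,8,10,14,3,6,22,16,7,19,11,20,13,12,9,21,5,4,17,18,23],
  [0,1,2,16,6,22,8,18,20,3,17,15,10,21,4,5,7,13,9,11,14,12,19,23],
  [0,1,2,17,6,3,20,10,8,22,16,12,18,21,14,13,7,5,11,9,4,15,19,23],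
  [0,1,2,18,19,11,16,4,3,10,9,17,5,7,8,20,21,12,14,13,15,22,6,23],
  [0,1,2,19,18,21,16,4,10,3,5,15,9,12,6,14,11,7,20,13,17,22,8,23],
  [0,1,2,20,4,10,5,14,18,7,6,11,8,22,9,21,13,15,12,3,19,17,16,23],
  [0,1,2,21,20,19,5,3,11,22,13,8,18,9,7,4,15,6,12,17,16,14,10,23],
  [0,1,2,22,9,16,17,3,7,12,11,19,6,10,13,18,15,4,21,14,8,5,20,23]]
/-- Prefixes. -/
def preII : List (List ℕ) := [[0,2,1,3,18,14,4,13,9,7,21,10,20,8,5,6,11,17,15,22,19,16,12,23],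
  [0,2,1,4,5,16,12,18,15,7,19,10,9,14,13,21,17,22,20,11,6,8,3,23],
  [0,2,1,5,18,3,7,19,22,20,9,16,4,12,14,10,8,17,13,21,15,6,11,23],
  [0,2,1,6,13,7,20,15,3,8,12,14,5,16,21,11,22,19,17,9,18,10,4,23],
  [0,2,1,7,13,21,5,17,12,20,9,11,8,22,6,10,4,19,18,3,15,14,16,23],
  [0,2,1,8,9,12,6,7,22,14,17,4,13,15,11,5,10,18,16,21,3,19,20,23],
  [0,2,1,9,13,20,12,8,5,21,7,14,17,22,15,19,4,10,3,18,6,11,16,23],
  [0,2,1,10,12,9,6,7,5,16,4,17,3,11,15,22,8,20,14,21,13,19,18,23],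
  [0,2,1,11,6,18,20,9,14,16,22,5,3,21,8,13,19,12,17,10,4,15,7,23],
  [0,2,1,12,13,8,3,5,20,7,6,10,15,16,18,19,22,11,9,17,21,14,4,23],
  [0,2,1,13,12,22,3,5,7,20,15,21,6,11,4,9,8,16,19,17,10,14,18,23],
  [0,2,1,14,15,3,21,7,11,16,22,12,18,20,17,13,10,5,8,19,4,6,9,23],
  [0,2,1,15,13,9,21,6,18,17,5,11,12,16,20,14,22,10,8,7,3,19,4,23],
  [0,2,1,16,20,4,19,7,17,8,11,3,5,9,22,18,10,13,14,6,12,21,15,23],
  [0,2,1,17,4,3,19,21,9,12,11,20,15,16,5,8,13,14,10,7,18,6,22,23],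
  [0,2,1,18,3,11,4,13,7,9,20,19,21,17,12,15,14,8,6,22,10,16,5,23],
  [0,2,1,19,5,7,15,9,12,16,4,8,18,14,6,22,17,21,11,20,13,10,3,23],
  [0,2,1,20,3,9,7,21,4,11,18,16,13,17,10,8,14,15,22,6,12,19,5,23],
  [0,2,1,21,18,7,9,20,4,14,3,16,13,8,19,17,11,6,22,15,5,10,12,23],
  [0,2,1,22,15,16,11,18,21,3,14,6,7,20,4,5,10,13,19,8,17,12,9,23]]
/-- Prefixes. -/
def preIII : List (List ℕ) := [[23,2,1,3,18,17,13,4,7,9,15,19,6,11,5,20,8,14,21,22,10,16,12,0],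
  [23,2,1,4,10,22,7,19,18,14,17,11,8,20,13,3,15,16,12,6,5,21,9,0],
  [23,2,1,5,10,17,22,13,12,19,7,11,18,9,14,21,20,3,8,4,6,16,15,0],
  [23,2,1,6,8,7,4,16,10,3,5,15,9,11,19,14,12,21,20,22,17,13,18,0],
  [23,2,1,7,8,19,9,20,5,4,22,14,3,12,6,13,18,21,17,10,16,15,11,0],
  [23,2,1,8,9,12,17,5,22,19,6,4,16,15,18,7,20,11,13,3,21,14,10,0],
  [23,2,1,9,8,20,17,5,19,22,16,21,6,11,10,13,12,15,7,3,4,14,18,0],
  [23,2,1,10,17,15,18,8,22,7,19,13,4,3,9,6,14,20,16,12,21,11,5,0],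
  [23,2,1,11,19,18,13,22,3,20,15,17,5,7,12,10,21,8,14,16,9,4,6,0],
  [23,2,1,12,6,11,15,10,4,17,14,16,22,19,18,5,21,8,13,20,3,9,7,0],
  [23,2,1,13,5,22,6,7,9,11,18,20,10,14,16,12,3,4,15,19,8,21,17,0],
  [23,2,1,14,6,17,4,22,15,11,12,9,10,19,3,8,21,5,20,13,18,16,7,0],
  [23,2,1,15,16,10,19,7,14,11,12,5,17,4,20,8,13,9,3,21,18,6,22,0],
  [23,2,1,16,8,22,19,6,17,20,9,14,5,11,4,15,12,13,3,7,10,21,18,0],
  [23,2,1,17,10,14,18,8,7,22,4,21,19,20,5,16,15,3,6,12,13,11,9,0],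
  [23,2,1,18,5,11,9,10,6,22,13,21,7,14,8,4,3,12,19,15,16,20,17,0],
  [23,2,1,19,17,7,22,4,18,15,10,11,8,3,21,20,14,6,12,16,9,13,5,0],
  [23,2,1,20,7,9,16,22,12,14,3,18,8,6,15,5,21,10,11,4,17,13,19,0],
  [23,2,1,21,9,7,16,22,5,11,18,3,17,15,6,12,20,19,14,4,8,13,10,0],
  [23,2,1,22,8,4,5,3,9,19,7,15,20,12,16,21,18,13,10,17,6,14,11,0]]
/-- Prefixes. -/
def preIV : List (List ℕ) := [[0,1,3,2,10,17,16,7,22,19,4,15,12,13,14,11,6,5,21,9,20,18,8,23],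
  [0,1,3,4,18,20,15,22,5,13,8,14,17,7,11,6,16,19,2,21,10,12,9,23],
  [0,1,3,5,12,17,7,9,4,13,8,19,20,15,2,6,21,14,11,16,10,18,22,23],
  [0,1,3,6,19,8,17,14,9,15,12,7,18,4,10,22,11,13,16,2,21,5,20,23],
  [0,1,3,7,20,9,22,15,10,5,17,13,6,11,16,2,4,18,8,12,14,21,19,23],
  [0,1,3,8,12,13,4,20,7,17,5,18,9,15,10,14,21,6,16,11,2,19,22,23],
  [0,1,3,9,6,7,14,2,19,15,22,4,11,8,18,21,10,16,20,17,12,5,13,23],
  [0,1,3,10,14,13,19,20,12,9,16,21,22,5,6,7,2,8,15,4,18,11,17,23],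
  [0,1,3,11,22,19,18,9,8,5,2,10,6,12,4,14,21,20,13,7,17,16,15,23],
  [0,1,3,12,6,22,7,18,20,2,14,4,19,13,15,5,8,21,11,9,17,16,10,23],
  [0,1,3,13,15,10,16,9,2,11,4,17,14,22,8,20,21,6,5,18,19,7,12,23],
  [0,1,3,14,20,17,9,16,8,15,22,13,10,19,5,21,11,2,6,7,12,18,4,23],
  [0,1,3,15,17,22,9,7,10,4,20,13,6,2,21,11,5,12,8,18,19,16,14,23],
  [0,1,3,16,14,9,12,22,19,13,10,11,20,5,18,8,2,7,4,15,6,21,17,23],
  [0,1,3,17,20,5,10,6,22,9,7,21,15,11,14,18,4,2,12,8,16,13,19,23],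
  [0,1,3,18,6,9,15,12,17,11,19,5,14,13,7,4,8,16,2,22,20,21,10,23],
  [0,1,3,19,6,11,17,14,15,9,18,21,12,13,20,16,8,4,22,2,7,5,10,23],
  [0,1,3,20,17,4,10,6,9,22,15,16,7,2,19,12,5,11,18,8,21,13,14,23],
  [0,1,3,21,19,22,18,9,14,13,10,2,17,4,12,8,11,15,5,7,6,16,20,23],
  [0,1,3,22,6,15,19,11,14,7,9,5,2,8,12,16,10,21,17,20,18,4,13,23]]
/-- Prefixes. -/
def preV : List (List ℕ) := [[1,23,3,2,4,14,9,18,10,12,15,13,6,20,5,21,11,17,8,16,22,7,19,0],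
  [1,23,3,4,15,11,10,6,14,9,18,5,2,21,19,16,12,20,17,8,7,13,22,0],
  [1,23,3,5,22,14,16,9,19,13,10,20,4,12,17,8,21,2,11,18,6,7,15,0],
  [1,23,3,6,22,10,14,17,11,9,16,20,19,15,13,7,12,8,4,5,18,2,21,0],
  [1,23,3,7,15,16,2,14,6,20,19,8,10,21,18,11,12,9,13,5,4,17,22,0],
  [1,23,3,8,19,10,17,5,16,15,21,9,18,20,6,12,4,13,7,14,22,2,11,0],
  [1,23,3,9,10,16,14,5,19,21,22,20,4,8,7,12,13,18,11,2,15,17,6,0],
  [1,23,3,10,22,13,19,4,16,14,5,7,9,12,6,2,21,8,18,11,17,20,15,0],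
  [1,23,3,11,18,20,21,22,5,10,13,2,14,9,19,6,7,4,17,12,8,15,16,0],
  [1,23,3,12,16,15,2,14,11,13,8,19,4,18,21,6,7,22,20,5,10,17,9,0],
  [1,23,3,13,18,10,5,14,21,20,11,15,22,9,8,4,7,6,12,17,19,2,16,0],
  [1,23,3,14,4,5,6,8,15,9,16,21,12,11,2,7,19,17,22,10,18,13,20,0],
  [1,23,3,15,4,12,10,6,9,14,2,7,18,20,22,17,11,21,16,8,5,13,19,0],
  [1,23,3,16,4,9,15,12,6,5,14,13,8,11,18,17,19,7,10,22,2,21,20,0],
  [1,23,3,17,6,14,18,16,15,20,19,12,22,13,2,11,8,5,21,9,4,7,10,0],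
  [1,23,3,18,4,16,5,2,22,8,6,21,15,20,9,13,11,7,12,14,10,17,19,0],
  [1,23,3,19,6,20,15,22,18,14,17,7,16,13,4,5,8,11,9,21,2,12,10,0],
  [1,23,3,20,9,19,17,14,8,12,21,10,6,16,11,22,7,4,13,2,15,5,18,0],
  [1,23,3,21,2,22,9,16,13,20,11,6,10,5,12,4,17,15,8,7,19,18,14,0],
  [1,23,3,22,10,21,19,4,14,16,9,17,5,8,15,18,13,12,2,11,7,20,6,0]]

/-- The test for involutions. -/
def Q2 (L : List ℕ) : Bool :=
  mulL L L != idL || L == idL || pairs8.any (fun p => p.1 == L) || pairs0.any (fun p => p.1 == L)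

/-- The test for elements of order 3. -/
def Q3 (L : List ℕ) : Bool :=
  mulL L (mulL L L) != idL || L == idL || triples6.any (fun p => p.1 == L) || triples0.any (fun p => p.1 == L)

set_option maxHeartbeats 0 in
theorem patI_ok : patOK Q2 23 0 1 2 preI = true := by decide +kernel
set_option maxHeartbeats 0 in
theorem patII_ok : patOK Q2 23 0 2 1 preII = true := by decide +kernel
set_option maxHeartbeats 0 in
theorem patIII_ok : patOK Q2 0 23 2 1 preIII = true := by decide +kernel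
set_option maxHeartbeats 0 in
theorem patIV_ok : patOK Q3 23 0 1 3 preIV = true := by decide +kernel
set_option maxHeartbeats 0 in
theorem patV_ok : patOK Q3 0 1 23 3 preV = true := by decide +kernel

theorem pairs8_ok : pairs8.all (fun p => inM24 p.2 && mulL p.1 p.2 == mulL p.2 t8L) = true := by decide +kernel
theorem pairs0_ok : pairs0.all (fun p => inM24 p.2 && mulL p.1 p.2 == mulL p.2 t0L) = true := by decide +kernel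
theorem triples6_ok : triples6.all (fun p => inM24 p.2 && mulL p.1 p.2 == mulL p.2 c6L) = true := by decide +kernel
theorem triples0_ok : triples0.all (fun p => inM24 p.2 && mulL p.1 p.2 == mulL p.2 c0L) = true := by decide +kernel

theorem reps_ok : inM24 t8L = true ∧ inM24 t0L = true ∧ inM24 c6L = true ∧ inM24 c0L = true := by decide +kernel

theorem exists_of_inM24 {L : List ℕ} (h : inM24 L = true) : ∃ σ ∈ M24, toL σ = L := by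
  have hv : validL L = true := ctxM24.valid L h
  obtain ⟨σ, hσ⟩ := exists_perm_of_validL hv
  exact ⟨σ, mem_M24_of_inM24 hσ h, (toL_eq_of_codes hv hσ).symm⟩

/-- The representative with eight fixed points. -/
noncomputable def t8P : P := (exists_of_inM24 reps_ok.1).choose
/-- The representative without fixed point. -/
noncomputable def t0P : P := (exists_of_inM24 reps_ok.2.1).choose
/-- The representative of order 3 with six fixed points. -/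
noncomputable def c6P : P := (exists_of_inM24 reps_ok.2.2.1).choose
/-- The representative of order 3 without fixed point. -/
noncomputable def c0P : P := (exists_of_inM24 reps_ok.2.2.2).choose

theorem t8P_mem : t8P ∈ M24 := (exists_of_inM24 reps_ok.1).choose_spec.1
theorem t0P_mem : t0P ∈ M24 := (exists_of_inM24 reps_ok.2.1).choose_spec.1
theorem c6P_mem : c6P ∈ M24 := (exists_of_inM24 reps_ok.2.2.1).choose_spec.1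
theorem c0P_mem : c0P ∈ M24 := (exists_of_inM24 reps_ok.2.2.2).choose_spec.1
theorem t8P_toL : toL (t8P : GolayPt → GolayPt) = t8L := (exists_of_inM24 reps_ok.1).choose_spec.2
theorem t0P_toL : toL (t0P : GolayPt → GolayPt) = t0L := (exists_of_inM24 reps_ok.2.1).choose_spec.2
theorem c6P_toL : toL (c6P : GolayPt → GolayPt) = c6L := (exists_of_inM24 reps_ok.2.2.1).choose_spec.2
theorem c0P_toL : toL (c0P : GolayPt → GolayPt) = c0L := (exists_of_inM24 reps_ok.2.2.2).choose_spec.2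

/-- A pair certificate gives a conjugating element. -/
theorem conj_of_pair {L : List ℕ} {r : P} {q : List ℕ × List ℕ} (hq1 : inM24 q.2 = true)
    (hq2 : mulL q.1 q.2 = mulL q.2 (toL r)) {x : P} (hq3 : q.1 = toL x) : ∃ g ∈ M24, g * r * g⁻¹ = x := by
  obtain ⟨σ, hσ, hσL⟩ := exists_of_inM24 hq1
  refine ⟨σ, hσ, ?_⟩
  rw [hq3, ← hσL, mulL_toL, mulL_toL] at hq2
  have h := eq_of_toL_eq hq2
  rw [← h]
  group

/-! ### Moving tuples -/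

theorem exists_map4 {a b c d a' b' c' d' : GolayPt} (hab : a ≠ b) (hac : a ≠ c) (had : a ≠ d) (hbc : b ≠ c)
    (hbd : b ≠ d) (hcd : c ≠ d) (hab' : a' ≠ b') (hac' : a' ≠ c') (had' : a' ≠ d') (hbc' : b' ≠ c')
    (hbd' : b' ≠ d') (hcd' : c' ≠ d') : ∃ g ∈ M24, g a = a' ∧ g b = b' ∧ g c = c' ∧ g d = d' := by
  have inj : ∀ {a b c d : GolayPt}, a ≠ b → a ≠ c → a ≠ d → b ≠ c → b ≠ d → c ≠ d →
      Function.Injective ![a, b, c, d] := by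
    intro a b c d hab hac had hbc hbd hcd i j hij
    fin_cases i <;> fin_cases j <;> simp_all
  obtain ⟨g, hg, he⟩ := exists_map_embedding (k := 4) (by norm_num)
    ⟨_, inj hab hac had hbc hbd hcd⟩ ⟨_, inj hab' hac' had' hbc' hbd' hcd'⟩
  exact ⟨g, hg, he 0, he 1, he 2, he 3⟩

theorem exists_map5 {a b c d e a' b' c' d' e' : GolayPt} (hab : a ≠ b) (hac : a ≠ c) (had : a ≠ d) (hae : a ≠ e)
    (hbc : b ≠ c) (hbd : b ≠ d) (hbe : b ≠ e) (hcd : c ≠ d) (hce : c ≠ e) (hde : d ≠ e)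
    (hab' : a' ≠ b') (hac' : a' ≠ c') (had' : a' ≠ d') (hae' : a' ≠ e')
    (hbc' : b' ≠ c') (hbd' : b' ≠ d') (hbe' : b' ≠ e') (hcd' : c' ≠ d') (hce' : c' ≠ e') (hde' : d' ≠ e') :
    ∃ g ∈ M24, g a = a' ∧ g b = b' ∧ g c = c' ∧ g d = d' ∧ g e = e' := by
  have inj : ∀ {a b c d e : GolayPt}, a ≠ b → a ≠ c → a ≠ d → a ≠ e → b ≠ c → b ≠ d → b ≠ e → c ≠ d → c ≠ e → d ≠ e →
      Function.Injective ![a, b, c, d, e] := by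
    intro a b c d e hab hac had hae hbc hbd hbe hcd hce hde i j hij
    fin_cases i <;> fin_cases j <;> simp_all
  obtain ⟨g, hg, he⟩ := exists_map_embedding (k := 5) (by norm_num)
    ⟨_, inj hab hac had hae hbc hbd hbe hcd hce hde⟩ ⟨_, inj hab' hac' had' hae' hbc' hbd' hbe' hcd' hce' hde'⟩
  exact ⟨g, hg, he 0, he 1, he 2, he 3, he 4⟩

theorem i_ne : ∀ i j : Fin 24, i ≠ j → idxPt i.val ≠ idxPt j.val := by decide +kernel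

theorem idx_ne {i j : ℕ} (hi : i < 24) (hj : j < 24) (h : i ≠ j) : idxPt i ≠ idxPt j :=
  i_ne ⟨i, hi⟩ ⟨j, hj⟩ (fun h' => h (congrArg Fin.val h'))

/-- Some other point. -/
theorem exists_other (s : Finset GolayPt) (hs : s.card < 24) : ∃ p, p ∉ s := by
  by_contra h
  push Not at h
  have : s = Finset.univ := Finset.eq_univ_iff_forall.2 h
  rw [this] at hs
  exact absurd hs (by decide)

theorem exists_moved_of_ne_one {x : P} (h : x ≠ 1) : ∃ p, x p ≠ p := by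
  by_contra h2
  push Not at h2
  exact h (Equiv.ext h2)

/-- Distinct fixed points. -/
theorem exists_fix_emb (x : P) (k : ℕ) (h : k ≤ (Finset.univ.filter fun p => x p = p).card) :
    ∃ e : Fin k ↪ GolayPt, ∀ i, x (e i) = e i := by
  classical
  have h1 : Fintype.card (Fin k) ≤ Fintype.card {p // x p = p} := by
    rw [Fintype.card_fin, Fintype.card_subtype]
    exact h
  obtain ⟨e⟩ := Function.Embedding.nonempty_of_card_le h1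
  exact ⟨e.trans (Function.Embedding.subtype _), fun i => (e i).2⟩

/-! ### The classes -/

theorem t0L_etc : (t8L.length = 24 ∧ t0L.length = 24) := by decide +kernel

/-- Every involution is conjugate to one of the two representatives. -/
theorem inv_class {x : P} (hx : x ∈ M24) (h2 : x * x = 1) (h1 : x ≠ 1) :
    (∃ g ∈ M24, g * t8P * g⁻¹ = x) ∨ (∃ g ∈ M24, g * t0P * g⁻¹ = x) := by
  have hinv : ∀ p, x (x p) = p := fun p => by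
    have := congrArg (fun f : P => f p) h2
    simpa using this
  -- a conjugate with the test
  have key : ∃ u ∈ M24, Q2 (toL ((u * x * u⁻¹ : P) : GolayPt → GolayPt)) = true := by
    by_cases hf4 : 4 ≤ (Finset.univ.filter fun p => x p = p).card
    · obtain ⟨e, he⟩ := exists_fix_emb x 4 hf4
      have hne : ∀ i j : Fin 4, i ≠ j → e i ≠ e j := fun i j hij h => hij (e.injective h)
      obtain ⟨u, hu, h3, h4, h5, h6⟩ := exists_map4 (a := e 0) (b := e 1) (c := e 2) (d := e 3)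
        (a' := idxPt 23) (b' := idxPt 0) (c' := idxPt 1) (d' := idxPt 2)
        (hne _ _ (by decide)) (hne _ _ (by decide)) (hne _ _ (by decide)) (hne _ _ (by decide))
        (hne _ _ (by decide)) (hne _ _ (by decide)) (by decide) (by decide) (by decide) (by decide) (by decide) (by decide)
      have hm : u * x * u⁻¹ ∈ M24 := M24.mul_mem (M24.mul_mem hu hx) (M24.inv_mem hu)
      have hact : ∀ p, (u * x * u⁻¹ : P) (u p) = u (x p) := fun p => by simp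
      refine ⟨u, hu, cover_pat patI_ok (by norm_num) (by norm_num) (by norm_num) (by norm_num) hm ?_ ?_ ?_ ?_⟩
      · rw [← h3, hact, he]
      · rw [← h4, hact, he]
      · rw [← h5, hact, he]
      · rw [← h6, hact, he]
    · obtain ⟨c, hc⟩ := exists_moved_of_ne_one h1
      have hdc : c ≠ x c := fun h => hc h.symm
      have hfx : ∀ p, x p = p → p ≠ c ∧ p ≠ x c := by
        intro p hp
        refine ⟨fun h => hc (h ▸ hp), fun h => ?_⟩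
        have : x p = c := by rw [h]; exact hinv c
        rw [hp] at this
        exact hc (by rw [← this, hp])
      by_cases hf2 : 2 ≤ (Finset.univ.filter fun p => x p = p).card
      · obtain ⟨e, he⟩ := exists_fix_emb x 2 hf2
        have he01 : e 0 ≠ e 1 := fun h => absurd (e.injective h) (by decide)
        obtain ⟨u, hu, h3, h4, h5, h6⟩ := exists_map4 (a := e 0) (b := e 1) (c := c) (d := x c)
          (a' := idxPt 23) (b' := idxPt 0) (c' := idxPt 1) (d' := idxPt 2)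
          he01 (hfx _ (he 0)).1 (hfx _ (he 0)).2 (hfx _ (he 1)).1 (hfx _ (he 1)).2 hdc
          (by decide) (by decide) (by decide) (by decide) (by decide) (by decide)
        have hm : u * x * u⁻¹ ∈ M24 := M24.mul_mem (M24.mul_mem hu hx) (M24.inv_mem hu)
        have hact : ∀ p, (u * x * u⁻¹ : P) (u p) = u (x p) := fun p => by simp
        refine ⟨u, hu, cover_pat patII_ok (by norm_num) (by norm_num) (by norm_num) (by norm_num) hm ?_ ?_ ?_ ?_⟩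
        · rw [← h3, hact, he]
        · rw [← h4, hact, he]
        · rw [← h5, hact, h6]
        · rw [← h6, hact, hinv, h5]
      · -- at most one fixed point
        have hf : (insert c (insert (x c) (Finset.univ.filter fun p => x p = p))).card < 24 := by
          have h7 := Finset.card_insert_le c (insert (x c) (Finset.univ.filter fun p => x p = p))
          have h8 := Finset.card_insert_le (x c) (Finset.univ.filter fun p => x p = p)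
          omega
        obtain ⟨c', hc'⟩ := exists_other _ hf
        simp only [Finset.mem_insert, Finset.mem_filter, Finset.mem_univ, true_and, not_or] at hc'
        obtain ⟨hc1, hc2, hc3⟩ := hc'
        have hd1 : x c' ≠ c := fun h => hc2 (by rw [← h, hinv])
        have hd2 : x c' ≠ x c := fun h => hc1 (x.injective h)
        have hd3 : c' ≠ x c' := fun h => hc3 h.symm
        obtain ⟨u, hu, h3, h4, h5, h6⟩ := exists_map4 (a := c) (b := x c) (c := c') (d := x c')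
          (a' := idxPt 23) (b' := idxPt 0) (c' := idxPt 1) (d' := idxPt 2)
          hdc (Ne.symm hc1) (Ne.symm hd1) (Ne.symm hc2) (Ne.symm hd2) hd3
          (by decide) (by decide) (by decide) (by decide) (by decide) (by decide)
        have hm : u * x * u⁻¹ ∈ M24 := M24.mul_mem (M24.mul_mem hu hx) (M24.inv_mem hu)
        have hact : ∀ p, (u * x * u⁻¹ : P) (u p) = u (x p) := fun p => by simp
        refine ⟨u, hu, cover_pat patIII_ok (by norm_num) (by norm_num) (by norm_num) (by norm_num) hm ?_ ?_ ?_ ?_⟩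
        · rw [← h3, hact, h4]
        · rw [← h4, hact, hinv, h3]
        · rw [← h5, hact, h6]
        · rw [← h6, hact, hinv, h5]
  obtain ⟨u, hu, hQ⟩ := key
  have hy : u * x * u⁻¹ ≠ 1 := by
    intro h
    apply h1
    have : x = u⁻¹ * (u * x * u⁻¹) * u := by group
    rw [this, h]
    group
  have hyy : u * x * u⁻¹ * (u * x * u⁻¹) = 1 := by
    have : u * x * u⁻¹ * (u * x * u⁻¹) = u * (x * x) * u⁻¹ := by group
    rw [this, h2]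
    group
  simp only [Q2, Bool.or_eq_true, bne_iff_ne, ne_eq, beq_iff_eq, List.any_eq_true] at hQ
  have hfin : ∀ r : P, (∃ g ∈ M24, g * r * g⁻¹ = u * x * u⁻¹) → ∃ g ∈ M24, g * r * g⁻¹ = x := by
    rintro r ⟨g, hg, hgr⟩
    refine ⟨u⁻¹ * g, M24.mul_mem (M24.inv_mem hu) hg, ?_⟩
    have : u⁻¹ * g * r * (u⁻¹ * g)⁻¹ = u⁻¹ * (g * r * g⁻¹) * u := by group
    rw [this, hgr]
    group
  rcases hQ with ((h3 | h3) | ⟨q, hq, hq2⟩) | ⟨q, hq, hq2⟩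
  · exfalso
    apply h3
    rw [mulL_toL, hyy]
    exact toL_one
  · exfalso
    apply hy
    apply eq_of_toL_eq
    rw [h3]
    exact toL_one.symm
  · left
    have h4 := List.all_eq_true.1 pairs8_ok q hq
    simp only [Bool.and_eq_true, beq_iff_eq] at h4
    exact hfin _ (conj_of_pair (L := t8L) h4.1 (by rw [t8P_toL]; exact h4.2) hq2)
  · right
    have h4 := List.all_eq_true.1 pairs0_ok q hq
    simp only [Bool.and_eq_true, beq_iff_eq] at h4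
    exact hfin _ (conj_of_pair (L := t0L) h4.1 (by rw [t0P_toL]; exact h4.2) hq2)

/-- Every element of order dividing 3 other than the identity is conjugate to one of the two representatives. -/
theorem ord3_class {x : P} (hx : x ∈ M24) (h3 : x * (x * x) = 1) (h1 : x ≠ 1) :
    (∃ g ∈ M24, g * c6P * g⁻¹ = x) ∨ (∃ g ∈ M24, g * c0P * g⁻¹ = x) := by
  have hinv : ∀ p, x (x (x p)) = p := fun p => by
    have := congrArg (fun f : P => f p) h3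
    simpa using this
  have hfx : ∀ c, x c ≠ c → c ≠ x c ∧ x c ≠ x (x c) ∧ c ≠ x (x c) := by
    intro c hc
    refine ⟨fun h => hc h.symm, fun h => hc (x.injective h).symm, fun h => ?_⟩
    have : x c = c := by
      conv_lhs => rw [h]
      exact hinv c
    exact hc this
  have key : ∃ u ∈ M24, Q3 (toL ((u * x * u⁻¹ : P) : GolayPt → GolayPt)) = true := by
    obtain ⟨c, hc⟩ := exists_moved_of_ne_one h1
    by_cases hf3 : 3 ≤ (Finset.univ.filter fun p => x p = p).card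
    · obtain ⟨e, he⟩ := exists_fix_emb x 3 hf3
      have hne : ∀ i j : Fin 3, i ≠ j → e i ≠ e j := fun i j hij h => hij (e.injective h)
      have hm1 : ∀ i, e i ≠ c := fun i h => hc (h ▸ he i)
      have hm2 : ∀ i, e i ≠ x c := by
        intro i h
        have h5 : x (e i) = x (x c) := by rw [h]
        rw [he] at h5
        exact (hfx c hc).2.1 (h.symm.trans h5)
      obtain ⟨u, hu, h3', h4, h5, h6, h7⟩ := exists_map5 (a := e 0) (b := e 1) (c := e 2) (d := c) (e := x c)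
        (a' := idxPt 23) (b' := idxPt 0) (c' := idxPt 1) (d' := idxPt 2) (e' := idxPt 3)
        (hne _ _ (by decide)) (hne _ _ (by decide)) (hm1 0) (hm2 0) (hne _ _ (by decide)) (hm1 1) (hm2 1) (hm1 2) (hm2 2)
        (hfx c hc).1 (by decide) (by decide) (by decide) (by decide) (by decide) (by decide) (by decide) (by decide)
        (by decide) (by decide)
      have hm : u * x * u⁻¹ ∈ M24 := M24.mul_mem (M24.mul_mem hu hx) (M24.inv_mem hu)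
      have hact : ∀ p, (u * x * u⁻¹ : P) (u p) = u (x p) := fun p => by simp
      refine ⟨u, hu, cover_pat patIV_ok (by norm_num) (by norm_num) (by norm_num) (by norm_num) hm ?_ ?_ ?_ ?_⟩
      · rw [← h3', hact, he]
      · rw [← h4, hact, he]
      · rw [← h5, hact, he]
      · rw [← h6, hact, h7]
    · have hf : (insert c (insert (x c) (insert (x (x c)) (Finset.univ.filter fun p => x p = p)))).card < 24 := by
        have h7 := Finset.card_insert_le c (insert (x c) (insert (x (x c)) (Finset.univ.filter fun p => x p = p)))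
        have h8 := Finset.card_insert_le (x c) (insert (x (x c)) (Finset.univ.filter fun p => x p = p))
        have h9 := Finset.card_insert_le (x (x c)) (Finset.univ.filter fun p => x p = p)
        omega
      obtain ⟨d, hd⟩ := exists_other _ hf
      simp only [Finset.mem_insert, Finset.mem_filter, Finset.mem_univ, true_and, not_or] at hd
      obtain ⟨hd1, hd2, hd3, hd4⟩ := hd
      obtain ⟨h5, h6, h7⟩ := hfx c hc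
      have he1 : x d ≠ c := fun h => hd3 (by
        have := hinv d
        rw [h] at this
        exact this.symm)
      have he2 : x d ≠ x c := fun h => hd1 (x.injective h)
      have he3 : x d ≠ x (x c) := fun h => hd2 (x.injective h)
      have hde : d ≠ x d := fun h => hd4 h.symm
      obtain ⟨u, hu, h3', h4, h8, h9, h10⟩ := exists_map5 (a := c) (b := x c) (c := x (x c)) (d := d) (e := x d)
        (a' := idxPt 23) (b' := idxPt 0) (c' := idxPt 1) (d' := idxPt 2) (e' := idxPt 3)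
        h5 h7 (Ne.symm hd1) (Ne.symm he1) h6 (Ne.symm hd2) (Ne.symm he2) (Ne.symm hd3) (Ne.symm he3) hde
        (by decide) (by decide) (by decide) (by decide) (by decide) (by decide) (by decide) (by decide)
        (by decide) (by decide)
      have hm : u * x * u⁻¹ ∈ M24 := M24.mul_mem (M24.mul_mem hu hx) (M24.inv_mem hu)
      have hact : ∀ p, (u * x * u⁻¹ : P) (u p) = u (x p) := fun p => by simp
      refine ⟨u, hu, cover_pat patV_ok (by norm_num) (by norm_num) (by norm_num) (by norm_num) hm ?_ ?_ ?_ ?_⟩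
      · rw [← h3', hact, h4]
      · rw [← h4, hact, h8]
      · rw [← h8, hact, hinv, h3']
      · rw [← h9, hact, h10]
  obtain ⟨u, hu, hQ⟩ := key
  have hy : u * x * u⁻¹ ≠ 1 := by
    intro h
    apply h1
    have : x = u⁻¹ * (u * x * u⁻¹) * u := by group
    rw [this, h]
    group
  have hyy : (u * x * u⁻¹) * ((u * x * u⁻¹) * (u * x * u⁻¹)) = 1 := by
    have : (u * x * u⁻¹) * ((u * x * u⁻¹) * (u * x * u⁻¹)) = u * (x * (x * x)) * u⁻¹ := by group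
    rw [this, h3]
    group
  simp only [Q3, Bool.or_eq_true, bne_iff_ne, ne_eq, beq_iff_eq, List.any_eq_true] at hQ
  have hfin : ∀ r : P, (∃ g ∈ M24, g * r * g⁻¹ = u * x * u⁻¹) → ∃ g ∈ M24, g * r * g⁻¹ = x := by
    rintro r ⟨g, hg, hgr⟩
    refine ⟨u⁻¹ * g, M24.mul_mem (M24.inv_mem hu) hg, ?_⟩
    have : u⁻¹ * g * r * (u⁻¹ * g)⁻¹ = u⁻¹ * (g * r * g⁻¹) * u := by group
    rw [this, hgr]
    group
  rcases hQ with ((h3' | h3') | ⟨q, hq, hq2⟩) | ⟨q, hq, hq2⟩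
  · exfalso
    apply h3'
    rw [mulL_toL, mulL_toL, hyy]
    exact toL_one
  · exfalso
    apply hy
    apply eq_of_toL_eq
    rw [h3']
    exact toL_one.symm
  · left
    have h4 := List.all_eq_true.1 triples6_ok q hq
    simp only [Bool.and_eq_true, beq_iff_eq] at h4
    exact hfin _ (conj_of_pair (L := c6L) h4.1 (by rw [c6P_toL]; exact h4.2) hq2)
  · right
    have h4 := List.all_eq_true.1 triples0_ok q hq
    simp only [Bool.and_eq_true, beq_iff_eq] at h4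
    exact hfin _ (conj_of_pair (L := c0L) h4.1 (by rw [c0P_toL]; exact h4.2) hq2)

end Cfsg.Agent.Lib.Compute.M24
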