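import Cfsg.Agent.Lib.Compute.M11Base

/-!
# Exhausting a group by a list of elements as long as its order
-/

set_option autoImplicit false

namespace Cfsg.Agent.Lib.Compute.M24

open Cfsg Cfsg.Agent.Lib.Compute.Golay Cfsg.Agent.Lib.Compute.GolayFast

/-- A list of distinct elements as long as the order of the group exhausts the group. -/
theorem forall_of_list_card {H : Subgroup P} {memK : List ℕ → Bool} {E : List ℕ} (ctx : Ctx H memK E) (F : List ℕ)
    (L : List (List ℕ)) (hL : L.all (fun l => memK l && fixCheck F l) = true) (hnd : L.Nodup)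
    (hcard : Nat.card (fixIn H F) = L.length) : ∀ g ∈ fixIn H F, toL (g : GolayPt → GolayPt) ∈ L := by
  classical
  have hex : ∀ l ∈ L, ∃ σ ∈ fixIn H F, toL σ = l := by
    intro l hl
    have h := List.all_eq_true.1 hL l hl
    simp only [Bool.and_eq_true] at h
    exact exists_of_check ctx F h.1 h.2
  let φ : fixIn H F → List ℕ := fun g => toL ((g : P) : GolayPt → GolayPt)
  have hinj : Function.Injective φ := fun a b h => Subtype.ext (eq_of_toL_eq h)
  have hsurj : ∀ l ∈ L, ∃ g, φ g = l := by
    intro l hl
    obtain ⟨σ, hσ, h⟩ := hex l hl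
    exact ⟨⟨σ, hσ⟩, h⟩
  let S : Finset (List ℕ) := L.toFinset
  have hS : S.card = L.length := List.toFinset_card_of_nodup hnd
  have hfin : Finite (fixIn H F) := inferInstance
  have : Fintype (fixIn H F) := Fintype.ofFinite _
  have himg : S ⊆ Finset.univ.image φ := by
    intro l hl
    obtain ⟨g, hg⟩ := hsurj l (List.mem_toFinset.1 hl)
    exact Finset.mem_image.2 ⟨g, Finset.mem_univ _, hg⟩
  have hc2 : (Finset.univ.image φ).card ≤ S.card := by
    rw [hS, Finset.card_image_of_injective _ hinj, Finset.card_univ, ← Nat.card_eq_fintype_card, hcard]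
  have heq : S = Finset.univ.image φ := Finset.eq_of_subset_of_card_le himg hc2
  intro g hg
  have : φ ⟨g, hg⟩ ∈ S := by
    rw [heq]
    exact Finset.mem_image.2 ⟨_, Finset.mem_univ _, rfl⟩
  exact List.mem_toFinset.1 this

end Cfsg.Agent.Lib.Compute.M24
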