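import Cfsg.Agent.Lib.Compute.M24Tools

/-!
# A fast run of a test over the products of transversal elements

Coded permutations are packed in one number, with five bits for each entry.  The products are computed by arithmetic on
numbers, which the kernel does directly.
-/

set_option autoImplicit false

namespace Cfsg.Agent.Lib.Compute.M24

open Cfsg Cfsg.Agent.Lib.Compute.Golay Cfsg.Agent.Lib.Compute.GolayFast

/-- An entry of a packed list. -/
def getP (x i : ℕ) : ℕ := Nat.land (Nat.shiftRight x (Nat.mul 5 i)) 31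

/-- Packing a list. -/
def packL : List ℕ → ℕ
  | [] => 0
  | a :: l => Nat.add a (Nat.mul 32 (packL l))

theorem getP_packL : ∀ (L : List ℕ), (∀ x ∈ L, x < 32) → ∀ i, getP (packL L) i = L.getD i 0
  | [], _, i => by simp [getP, packL]
  | a :: l, h, 0 => by
    have ha : a < 32 := h a List.mem_cons_self
    have h1 : (a + 32 * packL l) &&& 31 = (a + 32 * packL l) % 2 ^ 5 := Nat.and_two_pow_sub_one_eq_mod _ 5
    rw [List.getD_cons_zero]
    show ((a + 32 * packL l) >>> 0) &&& 31 = a
    rw [Nat.shiftRight_zero, h1]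
    omega
  | a :: l, h, i + 1 => by
    have ha : a < 32 := h a List.mem_cons_self
    have h1 := getP_packL l (fun x hx => h x (List.mem_cons_of_mem _ hx)) i
    rw [List.getD_cons_succ, ← h1]
    show ((a + 32 * packL l) >>> (5 * (i + 1))) &&& 31 = ((packL l) >>> (5 * i)) &&& 31
    have h2 : 5 * (i + 1) = 5 + 5 * i := by ring
    rw [h2, Nat.shiftRight_add]
    have h3 : (a + 32 * packL l) >>> 5 = packL l := by
      rw [Nat.shiftRight_eq_div_pow]
      omega
    rw [h3]

/-- The packed product: the entries of `b` are looked up in `a`. -/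
def mulP (a b : ℕ) : ℕ :=
  Nat.add (getP a (getP b 0)) (Nat.mul 32 (
  Nat.add (getP a (getP b 1)) (Nat.mul 32 (
  Nat.add (getP a (getP b 2)) (Nat.mul 32 (
  Nat.add (getP a (getP b 3)) (Nat.mul 32 (
  Nat.add (getP a (getP b 4)) (Nat.mul 32 (
  Nat.add (getP a (getP b 5)) (Nat.mul 32 (
  Nat.add (getP a (getP b 6)) (Nat.mul 32 (
  Nat.add (getP a (getP b 7)) (Nat.mul 32 (
  Nat.add (getP a (getP b 8)) (Nat.mul 32 (
  Nat.add (getP a (getP b 9)) (Nat.mul 32 (
  Nat.add (getP a (getP b 10)) (Nat.mul 32 (
  Nat.add (getP a (getP b 11)) (Nat.mul 32 (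
  Nat.add (getP a (getP b 12)) (Nat.mul 32 (
  Nat.add (getP a (getP b 13)) (Nat.mul 32 (
  Nat.add (getP a (getP b 14)) (Nat.mul 32 (
  Nat.add (getP a (getP b 15)) (Nat.mul 32 (
  Nat.add (getP a (getP b 16)) (Nat.mul 32 (
  Nat.add (getP a (getP b 17)) (Nat.mul 32 (
  Nat.add (getP a (getP b 18)) (Nat.mul 32 (
  Nat.add (getP a (getP b 19)) (Nat.mul 32 (
  Nat.add (getP a (getP b 20)) (Nat.mul 32 (
  Nat.add (getP a (getP b 21)) (Nat.mul 32 (
  Nat.add (getP a (getP b 22)) (Nat.mul 32 (
  Nat.add (getP a (getP b 23)) (Nat.mul 32 0)))))))))))))))))))))))))))))))))))))))))))))))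

theorem mulP_eq (a b : ℕ) : mulP a b = packL ((List.range 24).map (fun i => getP a (getP b i))) := rfl

theorem lt_of_getD {L : List ℕ} (h : ∀ x ∈ L, x < 32) (i : ℕ) : L.getD i 0 < 32 := by
  by_cases hi : i < L.length
  · rw [List.getD_eq_getElem _ _ hi]
    exact h _ (List.getElem_mem hi)
  · rw [List.getD_eq_default _ _ (by omega)]
    norm_num

theorem mulL_entries {a b : List ℕ} (ha : ∀ x ∈ a, x < 32) : ∀ x ∈ mulL a b, x < 32 := by
  intro x hx
  obtain ⟨i, -, rfl⟩ := List.mem_map.1 hx
  exact lt_of_getD ha i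

theorem mulP_pack {a b : List ℕ} (ha : ∀ x ∈ a, x < 32) (hb : ∀ x ∈ b, x < 32) (hl : b.length = 24) :
    mulP (packL a) (packL b) = packL (mulL a b) := by
  rw [mulP_eq]
  congr 1
  apply List.ext_getElem
  · simp [mulL, hl]
  · intro i h1 h2
    simp only [List.getElem_map, List.getElem_range, mulL]
    have h3 : b.getD i 0 = b[i]'(by simpa [hl] using h1) := List.getD_eq_getElem _ _ _
    rw [getP_packL b hb, getP_packL a ha, h3]

/-- Evaluate the argument. -/
def forceN (v : ℕ) (k : ℕ → Bool) : Bool :=
  match v with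
  | 0 => k 0
  | m + 1 => k (m + 1)

theorem forceN_eq (v : ℕ) (k : ℕ → Bool) : forceN v k = k v := by
  cases v <;> rfl

/-- The run over the products of transversal elements, on packed elements. -/
def allProdP : List (List ℕ) → ℕ → (ℕ → Bool) → Bool
  | [], acc, Q => Q acc
  | T :: Ts, acc, Q => T.all (fun t => forceN (mulP acc t) (fun acc' => allProdP Ts acc' Q))

/-- The packed form of the transversals. -/
def packT (lvs : List Level) : List (List ℕ) := lvs.map (fun lv => lv.T.map packL)

/-- The entries and lengths of the transversals. -/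
def packOK (lvs : List Level) : Bool :=
  lvs.all (fun lv => lv.T.all (fun t => t.length == 24 && t.all (fun x => Nat.blt x 32)))

theorem allProdP_eq (lvs : List Level) (h : packOK lvs = true) (a : List ℕ) (ha : ∀ x ∈ a, x < 32) (Q : ℕ → Bool) :
    allProdP (packT lvs) (packL a) Q = allProd lvs a (fun L => Q (packL L)) := by
  induction lvs generalizing a with
  | nil => rfl
  | cons lv lvs ih =>
    simp only [packOK, List.all_cons, Bool.and_eq_true] at h
    simp only [packT, List.map_cons, allProdP, allProd, List.all_map]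
    rw [Bool.eq_iff_iff, List.all_eq_true, List.all_eq_true]
    refine forall₂_congr fun t ht => ?_
    have h1 := List.all_eq_true.1 h.1 t ht
    simp only [Bool.and_eq_true, beq_iff_eq, List.all_eq_true, Nat.blt_eq] at h1
    rw [Function.comp_apply, forceN_eq, mulP_pack ha h1.2 h1.1]
    exact iff_of_eq (congrArg (· = true) (ih h.2 _ (mulL_entries ha)))

theorem idL_entries : ∀ x ∈ idL, x < 32 := by decide

/-- Packing is injective on lists of the same length with small entries. -/
theorem packL_inj {a b : List ℕ} (ha : ∀ x ∈ a, x < 32) (hb : ∀ x ∈ b, x < 32) (hl : a.length = b.length)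
    (h : packL a = packL b) : a = b := by
  apply List.ext_getElem hl
  intro i h1 h2
  have h3 := getP_packL a ha i
  have h4 := getP_packL b hb i
  rw [h, h4, List.getD_eq_getElem _ _ h2, List.getD_eq_getElem _ _ h1] at h3
  exact h3.symm

theorem toL_entries (σ : P) : ∀ x ∈ toL (σ : GolayPt → GolayPt), x < 32 := by
  intro x hx
  simp only [toL, List.mem_map] at hx
  obtain ⟨i, -, rfl⟩ := hx
  have := ptIdx_lt (σ (idxPt i))
  omega

theorem toL_length (σ : P) : (toL (σ : GolayPt → GolayPt)).length = 24 := by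
  simp [toL]

theorem getP_toL (σ : P) {i : ℕ} (hi : i < 24) :
    getP (packL (toL (σ : GolayPt → GolayPt))) i = ptIdx (σ (idxPt i)) := by
  rw [getP_packL _ (toL_entries σ), getD_toL σ hi]

/-- Equal packed forms give equal permutations. -/
theorem eq_of_pack_eq {σ : P} {L : List ℕ} (hL1 : ∀ x ∈ L, x < 32) (hL2 : L.length = 24)
    (h : packL (toL (σ : GolayPt → GolayPt)) = packL L) : toL (σ : GolayPt → GolayPt) = L :=
  packL_inj (toL_entries σ) hL1 (by rw [toL_length, hL2]) h

end Cfsg.Agent.Lib.Compute.M24
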