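import Cfsg.Agent.Lib.Compute.M24CenT8

/-!
# A Sylow 2-subgroup of `M24` is self-normalizing
-/

set_option autoImplicit false

namespace Cfsg.Agent.Lib.Compute.M24

open Cfsg Cfsg.Agent.Lib.Compute.Golay Cfsg.Agent.Lib.Compute.GolayFast
open Cfsg.Agent.Lib.Sporadic.GolayCore (ofMask mem_ofMask ofMask_inj)
open Cfsg.Agent.Lib.Sporadic.M24Sextet (famOf mem_famOf)
open scoped Pointwise

theorem exists_of_memP0 {L : List ℕ} (h : memP0 L = true) : ∃ σ ∈ P0, toL (σ : GolayPt → GolayPt) = L := by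
  have hv := memP0_valid h
  obtain ⟨σ, hσ⟩ := exists_perm_of_validL hv
  exact ⟨σ, memP0_mem h hσ, (toL_eq_of_codes hv hσ).symm⟩

theorem P0_le_M24 : P0 ≤ M24 := fun _ hg => (mem_Cen.1 (mem_P0.1 hg).1).1

theorem g0_ok : memP0 g0L = true := by decide +kernel

/-- The first transversal of the chain of `P0`. -/
def T23 : List (List ℕ) := (lvlP0.getD 0 ⟨0, [], []⟩).T

/-- The transversal of the point 4. -/
def T4 : List (List ℕ) := (lvlP0.getD 2 ⟨0, [], []⟩).T

theorem T23_ok : T23.all memP0 = true := by decide +kernel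
theorem T4_ok : T4.all (fun t => memP0 t && t.getD 23 0 == 23) = true := by decide +kernel

theorem T23_cover : ∀ i : Fin 24, O8.testBit i.val = true → T23.any (fun t => t.getD 23 0 == i.val) = true := by
  decide +kernel

theorem T4_cover : ∀ i : Fin 24, O8.testBit i.val = false → T4.any (fun t => t.getD 4 0 == i.val) = true := by
  decide +kernel

theorem exists_T23 {p : GolayPt} (h : t8P p = p) : ∃ t ∈ P0, t (idxPt 23) = p := by
  have h1 := T23_cover ⟨ptIdx p, ptIdx_lt p⟩ ((mem_O8_iff p).2 h)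
  simp only [List.any_eq_true, beq_iff_eq] at h1
  obtain ⟨L, hL, he⟩ := h1
  obtain ⟨t, ht, rfl⟩ := exists_of_memP0 (List.all_eq_true.1 T23_ok L hL)
  refine ⟨t, ht, ?_⟩
  rw [getD_toL t (by norm_num)] at he
  exact ptIdx_injective he

theorem exists_T4 {p : GolayPt} (h : t8P p ≠ p) : ∃ t ∈ P0, t (idxPt 4) = p ∧ t (idxPt 23) = idxPt 23 := by
  have h0 : O8.testBit (ptIdx p) = false := by
    rw [← Bool.not_eq_true, mem_O8_iff]
    exact h
  have h1 := T4_cover ⟨ptIdx p, ptIdx_lt p⟩ h0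
  simp only [List.any_eq_true, beq_iff_eq] at h1
  obtain ⟨L, hL, he⟩ := h1
  have h2 := List.all_eq_true.1 T4_ok L hL
  simp only [Bool.and_eq_true, beq_iff_eq] at h2
  obtain ⟨t, ht, rfl⟩ := exists_of_memP0 h2.1
  refine ⟨t, ht, ?_, ?_⟩
  · rw [getD_toL t (by norm_num)] at he
    exact ptIdx_injective he
  · have h3 := h2.2
    rw [getD_toL t (by norm_num)] at h3
    have h4 := congrArg idxPt h3
    rwa [idxPt_ptIdx] at h4

theorem trans_C0 {c r : GolayPt} (hc : t8P c ≠ c) (hr : t8P r ≠ r) : ∃ t ∈ P0, t c = r := by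
  obtain ⟨a, ha, ha4, -⟩ := exists_T4 hc
  obtain ⟨b, hb, hb4, -⟩ := exists_T4 hr
  refine ⟨b * a⁻¹, P0.mul_mem hb (P0.inv_mem ha), ?_⟩
  rw [Equiv.Perm.mul_apply, ← ha4]
  simp [hb4]

theorem P0_comm {t : P} (h : t ∈ P0) (p : GolayPt) : t (t8P p) = t8P (t p) := by
  have hc := (mem_Cen.1 (mem_P0.1 h).1).2
  have := congrArg (fun f : P => f p) hc
  simpa using this

theorem card_fix_ne : (Finset.univ.filter fun p => t8P p ≠ p).card = 16 := by
  have h1 : (Finset.univ.filter fun p => t8P p ≠ p) = (Finset.univ.filter fun p => t8P p = p)ᶜ := by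
    ext p
    simp
  have h2 : Fintype.card GolayPt = 24 := by decide
  rw [h1, Finset.card_compl, card_fix_t8, h2]

/-- Normalizing elements preserve the octad. -/
theorem octad_of_norm {τ : P} (hτ : ∀ g ∈ P0, τ⁻¹ * g * τ ∈ P0) {p : GolayPt} (hp : t8P p = p) : t8P (τ p) = τ p := by
  classical
  by_contra hc
  have hsub : (Finset.univ.filter fun r => t8P r ≠ r) ⊆ (Finset.univ.filter fun q => t8P q = q).image τ := by
    intro r hr
    have hr' := (Finset.mem_filter.1 hr).2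
    obtain ⟨t, ht, htc⟩ := trans_C0 hc hr'
    have h1 := hτ t ht
    have h2 : (τ⁻¹ * t * τ) p = τ⁻¹ r := by
      simp only [Equiv.Perm.mul_apply]
      rw [htc]
    refine Finset.mem_image.2 ⟨τ⁻¹ r, Finset.mem_filter.2 ⟨Finset.mem_univ _, ?_⟩, by simp⟩
    rw [← h2, ← P0_comm h1, hp]
  have h3 := Finset.card_le_card hsub
  rw [card_fix_ne, Finset.card_image_of_injective _ τ.injective, card_fix_t8] at h3
  omega

/-- The test for the images of the central involution. -/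
def Q8 (L : List ℕ) : Bool :=
  !(L.getD 5 0 == 5 && L.getD 14 0 == 14 && L.getD 17 0 == 17) || mulL L g0L != mulL g0L L || L == t8L || L == idL

theorem Q8_ok : allProd lvl48 idL Q8 = true := by decide +kernel

theorem O8_pts : ∀ i ∈ [3, 2, 1, 0, 23, 5, 14, 17], i < 24 ∧ O8.testBit i = true := by decide +kernel

theorem t8P_fix {i : ℕ} (hi : i ∈ [3, 2, 1, 0, 23, 5, 14, 17]) : t8P (idxPt i) = idxPt i := by
  obtain ⟨h1, h2⟩ := O8_pts i hi
  have := (mem_O8_iff (idxPt i)).1 (by rwa [ptIdx_idxPt h1])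
  exact this

/-- Normalizing elements centralize the central involution. -/
theorem cen_of_norm {σ : P} (hσ : σ ∈ M24) (h1 : ∀ g ∈ P0, σ * g * σ⁻¹ ∈ P0) (h2 : ∀ g ∈ P0, σ⁻¹ * g * σ ∈ P0) :
    σ ∈ Cen t8P := by
  obtain ⟨g0, hg0, hg0L⟩ := exists_of_memP0 g0_ok
  set z : P := σ * t8P * σ⁻¹ with hz
  have hzM : z ∈ M24 := M24.mul_mem (M24.mul_mem hσ t8P_mem) (M24.inv_mem hσ)
  have hzfix : ∀ i ∈ [3, 2, 1, 0, 23, 5, 14, 17], z (idxPt i) = idxPt i := by
    intro i hi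
    have h3 : t8P ((σ⁻¹ : P) (idxPt i)) = (σ⁻¹ : P) (idxPt i) := by
      refine octad_of_norm (τ := σ⁻¹) ?_ (t8P_fix hi)
      intro g hg
      simpa using h1 g hg
    simp only [hz, Equiv.Perm.mul_apply]
    rw [h3]
    simp
  have hQ := cover Q8 (a := 1) M24.one_mem (by rw [show toL ((1 : P) : GolayPt → GolayPt) = idL from toL_one]; exact Q8_ok)
    hzM (x := z) (by
      intro i hi
      have hi' : i ∈ [3, 2, 1, 0, 23, 5, 14, 17] := by
        simp only [List.mem_cons, List.not_mem_nil, or_false] at hi ⊢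
        omega
      simpa using hzfix i hi')
  simp only [Q8, Bool.or_eq_true, Bool.not_eq_true', Bool.and_eq_false_iff, bne_iff_ne, ne_eq, beq_iff_eq,
    beq_eq_false_iff_ne] at hQ
  have hget : ∀ i ∈ [3, 2, 1, 0, 23, 5, 14, 17], (toL (z : GolayPt → GolayPt)).getD i 0 = i := by
    intro i hi
    obtain ⟨h3, -⟩ := O8_pts i hi
    rw [getD_toL z h3, hzfix i hi, ptIdx_idxPt h3]
  rcases hQ with ((((h5 | h5) | h5) | h5) | h5) | h5
  · exact absurd (hget 5 (by simp)) h5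
  · exact absurd (hget 14 (by simp)) h5
  · exact absurd (hget 17 (by simp)) h5
  · exfalso
    apply h5
    rw [← hg0L, ← toL_mul, ← toL_mul]
    congr 2
    have h6 := h2 g0 hg0
    have hc := (mem_Cen.1 (mem_P0.1 h6).1).2
    have h7 : z * g0 = σ * (t8P * (σ⁻¹ * g0 * σ)) * σ⁻¹ := by
      rw [hz]
      group
    have h8 : g0 * z = σ * ((σ⁻¹ * g0 * σ) * t8P) * σ⁻¹ := by
      rw [hz]
      group
    rw [h7, h8, hc]
  · have h9 : z = t8P := by
      apply eq_of_toL_eq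
      rw [h5, t8P_toL]
    refine mem_Cen.2 ⟨hσ, ?_⟩
    rw [hz] at h9
    have h10 : σ * t8P = z * σ := by
      rw [hz]
      group
    rw [h10, hz, h9]
  · exfalso
    have h9 : z = 1 := by
      apply eq_of_toL_eq
      rw [h5]
      exact toL_one.symm
    have h10 : t8P = σ⁻¹ * z * σ := by
      rw [hz]
      group
    rw [h9] at h10
    apply t8_ne
    rw [h10]
    group

/-- The image of a family. -/
def imgFam (L A : List ℕ) : List ℕ := A.map (imgMask L)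

theorem smul_famOf (σ : P) (A : List ℕ) : σ • famOf A = famOf (imgFam (toL (σ : GolayPt → GolayPt)) A) := by
  classical
  ext x
  rw [Finset.mem_smul_finset, mem_famOf]
  constructor
  · rintro ⟨y, hy, rfl⟩
    obtain ⟨m, hm, rfl⟩ := mem_famOf.1 hy
    exact ⟨_, List.mem_map_of_mem hm, (smul_ofMask σ m).symm⟩
  · rintro ⟨m', hm', rfl⟩
    obtain ⟨m, hm, rfl⟩ := List.mem_map.1 hm'
    exact ⟨ofMask m, mem_famOf.2 ⟨m, hm, rfl⟩, smul_ofMask σ m⟩

theorem imgFam_lt (σ : P) (A : List ℕ) : ∀ m ∈ imgFam (toL (σ : GolayPt → GolayPt)) A, m < 2 ^ 24 := by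
  intro m hm
  obtain ⟨a, -, rfl⟩ := List.mem_map.1 hm
  exact imgMask_lt (validL_toL σ) a

/-- The test on the elements of the centralizer fixing two points. -/
def Q168 (L : List ℕ) : Bool :=
  !(fixFam g0L (imgFam L A8) && fixFam g0L (imgFam L B8)) || memP0 L

theorem lvlC8_drop_ok : chainCheckB (memCen t8L) (blockFams t8L [O8] []) FallC [4, 23] (lvlC8.drop 2) = true := by
  decide +kernel

set_option maxHeartbeats 0 in
theorem Q168_ok : allProd (lvlC8.drop 2) idL Q168 = true := by decide +kernel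

/-- A normalizing element belongs to `P0`. -/
theorem mem_P0_of_norm {σ : P} (hσ : σ ∈ M24) (h1 : ∀ g ∈ P0, σ * g * σ⁻¹ ∈ P0) (h2 : ∀ g ∈ P0, σ⁻¹ * g * σ ∈ P0) :
    σ ∈ P0 := by
  have hcen := cen_of_norm hσ h1 h2
  obtain ⟨p₁, hp₁, hp₁23⟩ := exists_T23 (octad_of_norm h2 (t8P_fix (i := 23) (by simp)))
  set σ₁ : P := p₁⁻¹ * σ with hσ₁
  have hσ₁cen : σ₁ ∈ Cen t8P := (Cen t8P).mul_mem ((Cen t8P).inv_mem (mem_P0.1 hp₁).1) hcen
  have hσ₁23 : σ₁ (idxPt 23) = idxPt 23 := by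
    rw [hσ₁, Equiv.Perm.mul_apply, ← hp₁23]
    simp
  have h4ne : t8P (idxPt 4) ≠ idxPt 4 := by
    intro h
    have := (mem_O8_iff (idxPt 4)).2 h
    rw [ptIdx_idxPt (by norm_num)] at this
    exact absurd this (by decide +kernel)
  have hne : t8P (σ₁ (idxPt 4)) ≠ σ₁ (idxPt 4) := by
    intro h
    have hc := (mem_Cen.1 hσ₁cen).2
    have h3 := congrArg (fun f : P => f (idxPt 4)) hc
    simp only [Equiv.Perm.mul_apply] at h3
    rw [h] at h3
    exact h4ne (σ₁.injective h3)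
  obtain ⟨p₂, hp₂, hp₂4, hp₂23⟩ := exists_T4 hne
  set σ' : P := p₂⁻¹ * σ₁ with hσ'
  have hσ'cen : σ' ∈ Cen t8P := (Cen t8P).mul_mem ((Cen t8P).inv_mem (mem_P0.1 hp₂).1) hσ₁cen
  have hfix : σ' ∈ fixIn (Cen t8P) [4, 23] := by
    refine ⟨hσ'cen, fun i hi => ?_⟩
    simp only [List.mem_cons, List.not_mem_nil, or_false] at hi
    rcases hi with rfl | rfl
    · rw [hσ', Equiv.Perm.mul_apply, ← hp₂4]
      simp
    · rw [hσ', Equiv.Perm.mul_apply, hσ₁23]
      rw [Equiv.Perm.inv_eq_iff_eq, hp₂23]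
  have hσ'eq : σ' = p₂⁻¹ * p₁⁻¹ * σ := by
    rw [hσ', hσ₁, mul_assoc]
  have hconj : ∀ g ∈ P0, σ'⁻¹ * g * σ' ∈ P0 := by
    intro g hg
    have h3 : σ'⁻¹ * g * σ' = σ⁻¹ * (p₁ * (p₂ * g * p₂⁻¹) * p₁⁻¹) * σ := by
      rw [hσ'eq]
      group
    rw [h3]
    exact h2 _ (P0.mul_mem (P0.mul_mem hp₁ (P0.mul_mem (P0.mul_mem hp₂ hg) (P0.inv_mem hp₂))) (P0.inv_mem hp₁))
  have hQ := chain_forallB ctxC8 FallC fixC8_trivial Q168 [4, 23] (lvlC8.drop 2) lvlC8_drop_ok 1
    (by rw [show toL ((1 : P) : GolayPt → GolayPt) = idL from toL_one]; exact Q168_ok) σ' hfix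
  rw [one_mul] at hQ
  obtain ⟨g0, hg0, hg0L⟩ := exists_of_memP0 g0_ok
  have hinv : ∀ A, (∀ g ∈ P0, g • famOf A = famOf A) →
      fixFam g0L (imgFam (toL (σ' : GolayPt → GolayPt)) A) = true := by
    intro A hA
    rw [← hg0L]
    refine (smul_famOf_iff g0 (imgFam_lt σ' A)).1 ?_
    rw [← smul_famOf, smul_smul]
    have h3 : g0 * σ' = σ' * (σ'⁻¹ * g0 * σ') := by group
    rw [h3, mul_smul, hA _ (hconj g0 hg0)]
  have h5 : (fixFam g0L (imgFam (toL (σ' : GolayPt → GolayPt)) A8) && fixFam g0L (imgFam (toL (σ' : GolayPt → GolayPt)) B8)) = true := by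
    rw [Bool.and_eq_true]
    exact ⟨hinv A8 (fun g hg => (mem_P0.1 hg).2.1), hinv B8 (fun g hg => (mem_P0.1 hg).2.2)⟩
  simp only [Q168, h5, Bool.not_true, Bool.false_or] at hQ
  have h6 : σ' ∈ P0 := memP0_mem hQ (codes_toL σ')
  have h7 : σ = p₁ * p₂ * σ' := by
    rw [hσ'eq]
    group
  rw [h7]
  exact P0.mul_mem (P0.mul_mem hp₁ hp₂) h6

/-! ### Sylow subgroups -/

section

variable {G : Type*} [Group G]

theorem mem_conj_iff₂ {g h : G} {S : Subgroup G} : h ∈ MulAut.conj g • S ↔ g⁻¹ * h * g ∈ S := by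
  rw [Subgroup.mem_pointwise_smul_iff_inv_smul_mem, MulAut.smul_def, ← map_inv, MulAut.conj_apply, inv_inv]

theorem mem_N_conj_iff₂ {g n : G} {S : Subgroup G} :
    n ∈ Subgroup.normalizer ((MulAut.conj g • S : Subgroup G) : Set G) ↔
      g⁻¹ * n * g ∈ Subgroup.normalizer (S : Set G) := by
  rw [Subgroup.mem_normalizer_iff, Subgroup.mem_normalizer_iff]
  constructor
  · intro H h
    have h1 := H (g * h * g⁻¹)
    simp only [SetLike.mem_coe, mem_conj_iff₂] at h1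
    have h2 : g⁻¹ * (g * h * g⁻¹) * g = h := by group
    have h3 : g⁻¹ * (n * (g * h * g⁻¹) * n⁻¹) * g = g⁻¹ * n * g * h * (g⁻¹ * n * g)⁻¹ := by group
    rw [h2, h3] at h1
    exact h1
  · intro H h
    have h1 := H (g⁻¹ * h * g)
    simp only [SetLike.mem_coe, mem_conj_iff₂] at h1 ⊢
    have h3 : g⁻¹ * n * g * (g⁻¹ * h * g) * (g⁻¹ * n * g)⁻¹ = g⁻¹ * (n * h * n⁻¹) * g := by group
    rw [h3] at h1
    exact h1

end

/-- `P0` as a subgroup of `M24`. -/
noncomputable def P0' : Subgroup ↥Cfsg.M24 := P0.subgroupOf Cfsg.M24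

theorem card_P0' : Nat.card P0' = 1024 := by
  rw [← card_P0]
  exact Nat.card_congr (Subgroup.subgroupOfEquivOfLe P0_le_M24).toEquiv

theorem norm_P0'_le {n : ↥Cfsg.M24} (hn : n ∈ Subgroup.normalizer (P0' : Set ↥Cfsg.M24)) : n ∈ P0' := by
  have hn' := Subgroup.inv_mem _ hn
  rw [Subgroup.mem_normalizer_iff] at hn hn'
  have key : ∀ m : ↥Cfsg.M24, (∀ h, (h ∈ (P0' : Set ↥Cfsg.M24) ↔ m * h * m⁻¹ ∈ (P0' : Set ↥Cfsg.M24))) →
      ∀ g ∈ P0, (m : P) * g * (m : P)⁻¹ ∈ P0 := by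
    intro m hm g hg
    have h1 := (hm ⟨g, P0_le_M24 hg⟩).1 (by
      show (⟨g, P0_le_M24 hg⟩ : ↥Cfsg.M24) ∈ P0.subgroupOf Cfsg.M24
      rw [Subgroup.mem_subgroupOf]
      exact hg)
    have h2 : (m * ⟨g, P0_le_M24 hg⟩ * m⁻¹ : ↥Cfsg.M24) ∈ P0.subgroupOf Cfsg.M24 := h1
    rw [Subgroup.mem_subgroupOf] at h2
    exact h2
  have h3 := mem_P0_of_norm n.2 (key n hn) (by
    intro g hg
    have := key n⁻¹ hn' g hg
    simpa using this)
  show n ∈ P0.subgroupOf Cfsg.M24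
  rw [Subgroup.mem_subgroupOf]
  exact h3

/-- Every Sylow 2-subgroup of `M24` is self-normalizing. -/
theorem sylow2_self_normalizing (S : Sylow 2 ↥Cfsg.M24) :
    Subgroup.normalizer ((S : Subgroup ↥Cfsg.M24) : Set ↥Cfsg.M24) = (S : Subgroup ↥Cfsg.M24) := by
  haveI : Fact (Nat.Prime 2) := ⟨Nat.prime_two⟩
  have hfac : (Nat.card ↥Cfsg.M24).factorization 2 = 10 := by
    rw [show Nat.card ↥Cfsg.M24 = 244823040 from card_M24]
    have hp : Nat.Prime 2 := Nat.prime_two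
    have hn : (244823040 : ℕ) ≠ 0 := by norm_num
    have h1 := (hp.pow_dvd_iff_le_factorization hn (k := 10)).1 (by norm_num)
    have h2 : ¬ 11 ≤ (244823040 : ℕ).factorization 2 := fun h =>
      absurd ((hp.pow_dvd_iff_le_factorization hn (k := 11)).2 h) (by norm_num)
    omega
  let Q₀ : Sylow 2 ↥Cfsg.M24 := Sylow.ofCard P0' (by rw [card_P0', hfac]; norm_num)
  obtain ⟨g, hg⟩ := MulAction.exists_smul_eq ↥Cfsg.M24 Q₀ S
  have hS : (S : Subgroup ↥Cfsg.M24) = MulAut.conj g • P0' := by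
    have := congrArg (fun X : Sylow 2 ↥Cfsg.M24 => (X : Subgroup ↥Cfsg.M24)) hg
    simp only [Sylow.coe_subgroup_smul] at this
    exact this.symm
  refine le_antisymm ?_ Subgroup.le_normalizer
  intro n hn
  rw [hS] at hn ⊢
  rw [mem_N_conj_iff₂] at hn
  rw [mem_conj_iff₂]
  exact norm_P0'_le hn

end Cfsg.Agent.Lib.Compute.M24
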