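import Cfsg.Agent.Lib.Compute.M24Tools
import Cfsg.Agent.Lib.Compute.SLHom
import Cfsg.Agent.Lib.Sporadic.M24Act

/-!
# Homomorphisms into subgroups of `M24` from tables

* `exists_hom_of_table`: a function `G → fixIn H F` on codes, multiplicative on generators, is a homomorphism;
* `exists_hom_sl2`: the version for `SL₂(K)` with a `FieldModel` of `K`;
* `conjEquiv`: conjugation in the symmetric group as an isomorphism between a subgroup of `M24` (as a type) and a
  subgroup of the permutations.
-/

set_option autoImplicit false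

namespace Cfsg.Agent.Lib.Compute.M24

open Cfsg Cfsg.Agent.Lib.Compute.Golay Cfsg.Agent.Lib.Compute.GolayFast
open Matrix
open scoped MatrixGroups
open Cfsg.Agent.Lib.Compute.GFModel Cfsg.Agent.Lib.Compute.SLHom

/-- `L` fixes all the points of `F`. -/
def fixCheck (F L : List ℕ) : Bool := F.all (fun i => L.getD i 0 == i)

section

variable {H : Subgroup P} {memK : List ℕ → Bool} {E : List ℕ}

theorem exists_of_check (ctx : Ctx H memK E) (F : List ℕ) {L : List ℕ} (h1 : memK L = true)
    (h2 : fixCheck F L = true) : ∃ σ ∈ fixIn H F, toL σ = L := by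
  have hv := ctx.valid L h1
  obtain ⟨σ, hσ⟩ := exists_perm_of_validL hv
  refine ⟨σ, ⟨ctx.mem L σ h1 hσ, fun i hi => ?_⟩, (toL_eq_of_codes hv hσ).symm⟩
  have h5 : L.getD i 0 = i := by
    have := List.all_eq_true.1 h2 i hi
    simpa using this
  have hi24 : i < 24 ∨ 24 ≤ i := by omega
  rw [hσ (idxPt i)]
  rcases hi24 with hi24 | hi24
  · rw [ptIdx_idxPt hi24, h5]
  · have : i < 24 := by
      have := getD_lt_of_validL hv i
      omega
    omega

/-- A table multiplicative on generators gives a homomorphism. -/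
theorem exists_hom_of_table {G : Type*} [Group G] (ctx : Ctx H memK E) (F : List ℕ) (c : G → ℕ) (T : ℕ → List ℕ)
    (S : G → Prop) (hind : ∀ Q : G → Prop, (∀ s, S s → Q s) → (∀ x y, Q x → Q y → Q (x * y)) → ∀ g, Q g)
    (hmem : ∀ g, memK (T (c g)) = true ∧ fixCheck F (T (c g)) = true)
    (hmul : ∀ g s, S s → T (c (g * s)) = mulL (T (c g)) (T (c s))) :
    ∃ f : G →* fixIn H F, ∀ g, toL ((f g : P) : GolayPt → GolayPt) = T (c g) := by
  have hex : ∀ g, ∃ σ ∈ fixIn H F, toL σ = T (c g) := fun g => exists_of_check ctx F (hmem g).1 (hmem g).2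
  choose φ hφ hφL using hex
  have hinj : ∀ {σ τ : P}, toL σ = toL τ → σ = τ := fun h => eq_of_toL_eq h
  have hstep : ∀ g s, S s → φ (g * s) = φ g * φ s := by
    intro g s hs
    apply hinj
    rw [toL_mul, hφL, hφL, hφL, hmul g s hs]
  have hall : ∀ b, ∀ a, φ (a * b) = φ a * φ b := by
    refine hind _ (fun s hs a => hstep a s hs) ?_
    intro x y hx hy a
    rw [← mul_assoc, hy, hx, hy, mul_assoc]
  refine ⟨MonoidHom.mk' (fun g => ⟨φ g, hφ g⟩) (fun a b => Subtype.ext (hall b a)), fun g => hφL g⟩

end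

section

variable {K : Type*} [Field K] {m : FieldModel K} {oneN : ℕ}
variable {H : Subgroup P} {memK : List ℕ → Bool} {E : List ℕ}

/-- A table on codes of `SL₂(K)`, checked on generators containing the transvections, gives a homomorphism. -/
theorem exists_hom_sl2 (ctx : Ctx H memK E) (F : List ℕ) (hone : m.enc 1 = oneN) (T : ℕ → List ℕ) (gens : List ℕ)
    (chk : (List.range (m.q ^ 4)).all (fun x => !valid2 m oneN x ||
      (memK (T x) && fixCheck F (T x) && gens.all (fun s => T (mul2N m x s) == mulL (T x) (T s)))) = true)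
    (hgens : ∀ (i j : Fin 2) (h : i ≠ j) (c : K), enc2 m (SpecialLinearGroup.transvection h c).1 ∈ gens) :
    ∃ f : SL(2, K) →* fixIn H F, ∀ A, toL ((f A : P) : GolayPt → GolayPt) = T (enc2 m A.1) := by
  have hall := forall_sl2 hone chk
  simp only [Bool.and_eq_true, List.all_eq_true, beq_iff_eq] at hall
  refine exists_hom_of_table ctx F (fun A : SL(2, K) => enc2 m A.1) T
    (fun s => ∃ (i j : Fin 2) (h : i ≠ j) (c : K), s = SpecialLinearGroup.transvection h c) ?_ ?_ ?_
  · intro Q hQ hmul g
    refine Matrix.SL2.transvection_induction Q (fun i j h c => hQ _ ⟨i, j, h, c, rfl⟩) hmul g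
  · intro g
    exact (hall g).1
  · rintro g _ ⟨i, j, h, c, rfl⟩
    have h1 := (hall g).2 _ (hgens i j h c)
    rw [← enc2_mul] at h1
    exact h1

end

/-- `SL₂(𝔽_p)` is generated by two transvections: induction principle. -/
theorem sl2_zmod_induction {p : ℕ} [Fact p.Prime] (Q : SL(2, ZMod p) → Prop)
    (h1 : Q (SpecialLinearGroup.transvection (Fin.zero_ne_one) 1))
    (h2 : Q (SpecialLinearGroup.transvection (Fin.zero_ne_one (n := 0)).symm 1))
    (hmul : ∀ x y, Q x → Q y → Q (x * y)) : ∀ g, Q g := by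
  have hadd : ∀ {i j : Fin 2} (h : i ≠ j) (a b : ZMod p), SpecialLinearGroup.transvection h (a + b) =
      SpecialLinearGroup.transvection h a * SpecialLinearGroup.transvection h b := by
    intro i j h a b
    apply Subtype.ext
    simp only [SpecialLinearGroup.transvection_coe]
    exact (Matrix.transvection_mul_transvection_same _ _ h a b).symm
  have hn : ∀ {i j : Fin 2} (h : i ≠ j), Q (SpecialLinearGroup.transvection h 1) → ∀ n : ℕ,
      Q (SpecialLinearGroup.transvection h ((n + 1 : ℕ) : ZMod p)) := by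
    intro i j h h0 n
    induction n with
    | zero => simpa using h0
    | succ n ih =>
      have := hmul _ _ ih h0
      rwa [← hadd, show (((n + 1 : ℕ) : ZMod p) + 1) = ((n + 1 + 1 : ℕ) : ZMod p) by push_cast; rfl] at this
  have hall : ∀ {i j : Fin 2} (h : i ≠ j) (c : ZMod p), Q (SpecialLinearGroup.transvection h 1) →
      Q (SpecialLinearGroup.transvection h c) := by
    intro i j h c h0
    have hp : 0 < p := (Fact.out : p.Prime).pos
    have h3 := hn h h0 (c.val + p - 1)
    have h4 : c.val + p - 1 + 1 = c.val + p := by omega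
    rw [h4] at h3
    have h5 : ((c.val + p : ℕ) : ZMod p) = c := by simp
    rwa [h5] at h3
  intro g
  refine Matrix.SL2.transvection_induction Q (fun i j h c => ?_) hmul g
  apply hall h c
  fin_cases i <;> fin_cases j
  · exact absurd rfl h
  · exact h1
  · exact h2
  · exact absurd rfl h

section

variable {p : ℕ} [Fact p.Prime]
variable {H : Subgroup P} {memK : List ℕ → Bool} {E : List ℕ}

/-- The version for `SL₂(𝔽_p)`, checked on two generators `s1`, `s2`. -/
theorem exists_hom_sl2_zmod (ctx : Ctx H memK E) (F : List ℕ) (T : ℕ → List ℕ) (s1 s2 : ℕ)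
    (chk : (List.range (p ^ 4)).all (fun x => !valid2 (zmodModel p) (1 % p) x ||
      (memK (T x) && fixCheck F (T x) && (T (mul2N (zmodModel p) x s1) == mulL (T x) (T s1)) &&
        (T (mul2N (zmodModel p) x s2) == mulL (T x) (T s2)))) = true)
    (h1 : enc2 (zmodModel p) (SpecialLinearGroup.transvection (Fin.zero_ne_one) (1 : ZMod p)).1 = s1)
    (h2 : enc2 (zmodModel p) (SpecialLinearGroup.transvection (Fin.zero_ne_one (n := 0)).symm (1 : ZMod p)).1 = s2) :
    ∃ f : SL(2, ZMod p) →* fixIn H F, ∀ A, toL ((f A : P) : GolayPt → GolayPt) = T (enc2 (zmodModel p) A.1) := by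
  have hall := forall_sl2 (m := zmodModel p) (oneN := 1 % p) (by
    simp only [zmodModel]
    rw [ZMod.val_one_eq_one_mod]) chk
  simp only [Bool.and_eq_true, beq_iff_eq] at hall
  refine exists_hom_of_table ctx F (fun A : SL(2, ZMod p) => enc2 (zmodModel p) A.1) T
    (fun s => s = SpecialLinearGroup.transvection (Fin.zero_ne_one) 1 ∨
      s = SpecialLinearGroup.transvection (Fin.zero_ne_one (n := 0)).symm 1) ?_ ?_ ?_
  · intro Q hQ hmul g
    exact sl2_zmod_induction Q (hQ _ (Or.inl rfl)) (hQ _ (Or.inr rfl)) hmul g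
  · intro g
    exact (hall g).1.1
  · rintro g _ (rfl | rfl)
    · have h3 := (hall g).1.2
      rw [← h1, ← enc2_mul] at h3
      rw [h1]
      rw [← h1]
      exact h3
    · have h3 := (hall g).2
      rw [← h2, ← enc2_mul] at h3
      exact h3

end

/-- Conjugation from a subgroup of `M24` to a subgroup of the permutations. -/
def conjEquiv {A : Subgroup (M24 : Subgroup P)} {B : Subgroup P} {u : P} (hu : u ∈ (M24 : Subgroup P))
    (hB : B ≤ M24) (h : ∀ x : (M24 : Subgroup P), x ∈ A ↔ u * (x : P) * u⁻¹ ∈ B) : ↥A ≃* ↥B where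
  toFun x := ⟨u * ((x : (M24 : Subgroup P)) : P) * u⁻¹, (h x.1).1 x.2⟩
  invFun y := ⟨⟨u⁻¹ * y.1 * u, M24.mul_mem (M24.mul_mem (M24.inv_mem hu) (hB y.2)) hu⟩, by
    rw [h]
    have : u * (u⁻¹ * y.1 * u) * u⁻¹ = y.1 := by group
    simpa [this] using y.2⟩
  left_inv x := by
    apply Subtype.ext
    apply Subtype.ext
    simp only
    group
  right_inv y := by
    apply Subtype.ext
    simp only
    group
  map_mul' x y := by
    apply Subtype.ext
    simp only [Subgroup.coe_mul, MulMemClass.mk_mul_mk]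
    group

@[simp] theorem conjEquiv_coe {A : Subgroup (M24 : Subgroup P)} {B : Subgroup P} {u : P} (hu : u ∈ (M24 : Subgroup P))
    (hB : B ≤ M24) (h : ∀ x : (M24 : Subgroup P), x ∈ A ↔ u * (x : P) * u⁻¹ ∈ B) (x : A) :
    ((conjEquiv hu hB h x : B) : P) = u * ((x : (M24 : Subgroup P)) : P) * u⁻¹ := rfl

end Cfsg.Agent.Lib.Compute.M24
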