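import Cfsg.Agent.Lib.Compute.M24Simple

/-!
# Simplicity of `M24`, `M23`, `M22`

`M23` and `M22` are generated by their elements of order 23, respectively 11, which is checked on stabilizer chains
and straight line programs; then `M24` is 3-transitive with a simple point stabilizer.
-/

set_option autoImplicit false

namespace Cfsg.Agent.Lib.Compute.M24

open Cfsg Cfsg.Agent.Lib.Compute.Golay Cfsg.Agent.Lib.Compute.GolayFast
open Cfsg.Agent.Lib.Sporadic.M24Act (exists_map_embedding exists_map_one exists_map_two exists_map_three card_stab_one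
  card_stab_two mem_stabilizer_M24)
open scoped Pointwise

/-- A stabilizer chain of the stabilizer of the point 23. -/
def m23Levels : List Level := [
  ⟨0, [[0,1,2,3,4,5,6,7,8,9,10,11,12,13,14,15,16,17,18,19,20,21,22,23],
    [1,2,3,4,5,6,7,8,9,10,11,12,13,14,15,16,17,18,19,20,21,22,0,23],
    [2,3,4,5,6,7,8,9,10,11,12,13,14,15,16,17,18,19,20,21,22,0,1,23],
    [3,4,5,6,7,8,9,10,11,12,13,14,15,16,17,18,19,20,21,22,0,1,2,23],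
    [4,5,6,7,8,9,10,11,12,13,14,15,16,17,18,19,20,21,22,0,1,2,3,23],
    [5,17,14,0,6,2,20,18,12,8,15,7,4,11,1,19,9,3,10,13,16,21,22,23],
    [6,18,15,1,7,3,21,19,13,9,16,8,5,12,2,20,10,4,11,14,17,22,0,23],
    [7,19,16,2,8,4,22,20,14,10,17,9,6,13,3,21,11,5,12,15,18,0,1,23],
    [8,20,17,3,9,5,0,21,15,11,18,10,7,14,4,22,12,6,13,16,19,1,2,23],
    [9,11,22,2,17,13,3,7,18,1,20,0,15,5,10,12,14,8,4,19,16,21,6,23],
    [10,12,0,3,18,14,4,8,19,2,21,1,16,6,11,13,15,9,5,20,17,22,7,23],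
    [11,22,2,17,13,3,7,18,1,20,0,15,5,10,12,14,8,4,19,16,21,6,9,23],
    [12,15,21,17,9,4,14,20,3,5,13,22,1,6,8,7,11,18,0,10,19,16,2,23],
    [13,16,22,18,10,5,15,21,4,6,14,0,2,7,9,8,12,19,1,11,20,17,3,23],
    [14,0,6,2,20,18,12,8,15,7,4,11,1,19,9,3,10,13,16,21,22,5,17,23],
    [15,1,7,3,21,19,13,9,16,8,5,12,2,20,10,4,11,14,17,22,0,6,18,23],
    [16,2,12,15,21,17,9,4,14,20,3,5,13,22,1,6,8,7,11,18,0,10,19,23],
    [17,14,0,6,2,20,18,12,8,15,7,4,11,1,19,9,3,10,13,16,21,22,5,23],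
    [18,15,1,7,3,21,19,13,9,16,8,5,12,2,20,10,4,11,14,17,22,0,6,23],
    [19,17,7,1,16,9,12,0,11,13,14,6,4,21,5,2,18,20,15,3,22,8,10,23],
    [20,10,19,17,18,0,21,13,11,8,9,12,2,4,14,16,15,6,7,1,3,22,5,23],
    [21,6,9,11,22,2,17,13,3,7,18,1,20,0,15,5,10,12,14,8,4,19,16,23],
    [22,5,17,14,0,6,2,20,18,12,8,15,7,4,11,1,19,9,3,10,13,16,21,23]], []⟩,
  ⟨1, [[0,1,2,3,4,5,6,7,8,9,10,11,12,13,14,15,16,17,18,19,20,21,22,23],
    [0,2,14,19,22,12,17,5,9,8,16,18,6,11,4,7,20,15,13,3,10,1,21,23],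
    [0,3,4,2,6,21,15,17,11,5,13,20,19,7,8,18,14,9,1,16,12,10,22,23],
    [0,4,15,13,1,20,10,3,19,18,9,2,14,7,6,11,5,21,12,16,22,17,8,23],
    [0,5,1,10,8,12,11,21,6,3,2,18,22,4,19,14,7,16,20,9,17,13,15,23],
    [0,6,18,15,1,7,3,21,19,13,9,16,8,5,12,2,20,10,4,11,14,17,22,23],
    [0,7,6,9,19,8,16,17,3,15,18,4,22,1,11,12,21,20,14,13,10,5,2,23],
    [0,8,11,16,9,5,21,10,17,2,1,13,4,20,22,18,7,3,14,15,12,19,6,23],
    [0,9,18,21,14,20,8,5,4,1,3,15,22,2,12,16,13,19,11,17,7,10,6,23],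
    [0,10,12,11,4,3,13,17,16,7,18,5,19,20,14,15,22,9,1,2,6,21,8,23],
    [0,11,20,14,5,21,10,13,9,4,3,7,6,12,22,1,17,2,8,18,19,16,15,23],
    [0,12,20,18,13,21,15,17,10,16,6,4,8,7,19,2,14,9,22,5,3,11,1,23],
    [0,13,4,17,12,14,19,7,1,6,15,2,22,18,8,20,5,11,16,10,21,9,3,23],
    [0,14,16,2,9,7,3,21,17,11,1,18,12,5,8,15,20,10,22,13,6,19,4,23],
    [0,15,1,18,3,17,2,10,16,7,5,14,11,21,19,4,12,13,6,20,8,9,22,23],
    [0,16,9,11,21,19,18,3,13,5,20,12,15,10,17,14,22,2,8,7,4,1,6,23],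
    [0,17,12,4,19,9,20,11,2,14,18,21,10,7,1,16,8,6,13,5,22,15,3,23],
    [0,18,12,11,22,8,10,7,13,19,20,4,3,16,1,21,14,2,5,15,9,6,17,23],
    [0,19,16,20,13,7,17,9,10,18,6,5,1,14,22,4,21,15,12,2,8,11,3,23],
    [0,20,9,3,4,22,15,10,8,21,18,11,6,14,17,12,5,13,7,1,19,2,16,23],
    [0,21,14,18,8,10,16,19,15,20,2,7,17,5,4,11,12,1,9,13,22,3,6,23],
    [0,22,7,11,2,10,16,19,3,13,8,14,4,5,17,18,12,1,6,20,21,15,9,23]], []⟩,
  ⟨2, [[0,1,2,3,4,5,6,7,8,9,10,11,12,13,14,15,16,17,18,19,20,21,22,23],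
    [0,1,3,18,21,9,8,13,11,17,2,4,20,12,7,5,15,16,19,10,14,6,22,23],
    [0,1,4,8,17,7,2,22,11,14,18,20,3,12,15,10,9,5,19,16,21,13,6,23],
    [0,1,5,15,10,8,17,3,13,22,18,9,11,19,4,6,12,7,21,2,20,14,16,23],
    [0,1,6,22,17,5,16,14,2,8,13,7,21,4,18,3,9,20,19,11,10,15,12,23],
    [0,1,7,13,21,14,17,10,18,8,15,9,16,19,12,4,6,20,3,11,5,22,2,23],
    [0,1,8,6,18,13,7,15,19,16,21,22,9,2,10,17,11,3,14,5,20,4,12,23],
    [0,1,9,18,11,3,10,20,4,22,14,12,17,21,16,19,5,7,6,2,8,15,13,23],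
    [0,1,10,13,7,3,5,16,9,4,21,20,15,11,6,18,22,8,2,12,14,19,17,23],
    [0,1,11,10,12,7,4,20,14,9,21,16,6,18,22,13,2,17,15,19,5,3,8,23],
    [0,1,12,14,17,20,11,8,16,22,15,5,10,6,13,21,9,7,19,2,3,18,4,23],
    [0,1,13,4,14,22,5,9,8,17,15,10,3,7,16,19,12,2,6,21,18,11,20,23],
    [0,1,14,4,15,18,20,13,19,2,3,8,9,11,21,17,16,10,22,7,5,12,6,23],
    [0,1,15,6,8,14,20,9,22,17,18,3,21,5,11,19,4,16,12,10,13,2,7,23],
    [0,1,16,21,6,20,12,5,22,9,3,2,4,15,8,18,11,17,13,19,7,10,14,23],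
    [0,1,17,16,7,8,12,4,5,13,19,3,14,10,21,15,22,20,2,9,18,6,11,23],
    [0,1,18,19,3,15,8,12,22,10,14,20,6,9,17,21,16,13,5,11,4,2,7,23],
    [0,1,19,2,14,21,16,10,4,15,13,3,11,22,7,18,9,6,20,5,17,12,8,23],
    [0,1,20,21,15,16,7,14,6,4,19,22,5,2,17,11,10,8,18,12,3,13,9,23],
    [0,1,21,18,20,10,7,2,9,12,3,5,13,16,4,15,8,14,11,6,22,19,17,23],
    [0,1,22,19,5,14,15,3,17,4,13,10,7,18,9,2,20,8,11,12,16,21,6,23]], []⟩,
  ⟨3, [[0,1,2,3,4,5,6,7,8,9,10,11,12,13,14,15,16,17,18,19,20,21,22,23],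
    [0,1,2,4,8,16,10,20,21,3,14,7,6,18,22,17,11,13,19,15,5,9,12,23],
    [0,1,2,5,13,17,10,15,19,8,12,21,6,16,14,18,4,3,7,9,11,20,22,23],
    [0,1,2,6,5,7,9,15,4,11,12,22,13,17,19,8,14,21,16,20,18,10,3,23],
    [0,1,2,7,20,19,8,11,4,17,5,13,16,15,6,3,10,21,22,12,14,18,9,23],
    [0,1,2,8,15,18,21,19,17,22,16,5,3,20,11,13,9,12,14,7,4,6,10,23],
    [0,1,2,9,7,15,11,8,5,22,13,3,17,21,20,4,19,10,14,18,16,12,6,23],
    [0,1,2,10,19,9,17,14,22,18,11,16,13,7,20,8,21,15,4,5,12,3,6,23],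
    [0,1,2,11,15,8,22,4,7,3,17,6,21,10,18,5,20,12,19,16,14,13,9,23],
    [0,1,2,12,20,11,21,19,3,16,22,14,17,15,18,4,10,8,5,7,13,6,9,23],
    [0,1,2,13,6,16,20,15,14,18,12,3,5,7,4,11,19,22,17,10,8,9,21,23],
    [0,1,2,14,4,3,9,20,19,12,8,21,6,22,5,11,13,17,7,10,18,15,16,23],
    [0,1,2,15,18,20,4,22,5,21,7,17,14,8,9,6,12,10,3,13,19,16,11,23],
    [0,1,2,16,8,22,6,19,14,10,15,17,3,11,4,9,12,13,5,21,20,7,18,23],
    [0,1,2,17,9,14,18,8,19,16,13,6,7,15,5,22,20,3,21,12,4,11,10,23],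
    [0,1,2,18,15,11,3,14,16,21,7,13,22,9,8,6,10,12,4,17,19,5,20,23],
    [0,1,2,19,5,6,11,18,20,13,4,10,9,3,7,22,17,21,15,12,16,8,14,23],
    [0,1,2,20,16,15,18,11,6,3,5,21,7,22,10,14,4,9,19,8,17,12,13,23],
    [0,1,2,21,14,6,13,16,11,20,9,18,12,5,19,15,17,7,8,4,10,22,3,23],
    [0,1,2,22,19,13,5,17,18,10,20,8,12,6,4,15,7,16,11,14,9,3,21,23]], []⟩,
  ⟨4, [[0,1,2,3,4,5,6,7,8,9,10,11,12,13,14,15,16,17,18,19,20,21,22,23],
    [0,1,2,3,6,17,15,9,12,16,22,8,11,21,5,4,7,14,18,10,13,20,19,23],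
    [0,1,2,3,7,14,8,12,13,15,10,16,4,6,17,20,21,5,22,18,9,11,19,23],
    [0,1,2,3,8,5,20,15,4,21,19,13,16,11,14,7,12,17,22,10,6,9,18,23],
    [0,1,2,3,9,14,13,22,8,21,6,18,11,10,17,19,15,5,12,16,7,4,20,23],
    [0,1,2,3,10,17,21,7,22,18,12,13,4,15,5,11,9,14,16,6,8,19,20,23],
    [0,1,2,3,11,14,21,6,15,13,22,20,9,12,17,16,8,5,10,19,4,7,18,23],
    [0,1,2,3,12,17,13,4,6,20,10,21,7,8,5,9,11,14,19,22,15,16,18,23],
    [0,1,2,3,13,14,9,20,7,11,18,6,21,16,17,12,4,5,19,10,8,15,22,23],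
    [0,1,2,3,15,14,4,16,11,7,19,12,8,20,17,6,9,5,18,22,21,13,10,23],
    [0,1,2,3,16,17,11,8,20,6,19,9,15,4,5,21,13,14,10,18,7,12,22,23],
    [0,1,2,3,18,17,4,13,19,10,20,7,21,11,5,15,8,14,6,16,9,22,12,23],
    [0,1,2,3,19,17,9,15,18,22,16,11,8,7,5,13,21,14,12,20,4,10,6,23],
    [0,1,2,3,20,17,7,21,16,12,18,4,13,9,5,8,15,14,22,19,11,6,10,23],
    [0,1,2,3,21,5,16,13,9,8,18,15,20,7,14,11,6,17,10,22,12,4,19,23],
    [0,1,2,3,22,14,20,9,19,18,11,21,6,4,17,8,16,5,7,15,12,10,13,23]], [8536111]⟩,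
  ⟨5, [[0,1,2,3,4,5,6,7,8,9,10,11,12,13,14,15,16,17,18,19,20,21,22,23],
    [0,1,2,3,4,14,15,10,21,8,12,19,7,22,17,18,13,5,6,20,11,9,16,23],
    [0,1,2,3,4,17,18,12,9,21,7,20,10,16,5,6,22,14,15,11,19,8,13,23]], [9963547, 10486557, 8683614, 5279, 12656663]⟩,
  ⟨6, [[0,1,2,3,4,5,6,7,8,9,10,11,12,13,14,15,16,17,18,19,20,21,22,23]], [8391797, 9963547, 12584506]⟩,
  ⟨7, [[0,1,2,3,4,5,6,7,8,9,10,11,12,13,14,15,16,17,18,19,20,21,22,23]], [8391797, 262637, 786999, 10486557]⟩,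
  ⟨8, [[0,1,2,3,4,5,6,7,8,9,10,11,12,13,14,15,16,17,18,19,20,21,22,23]], [8391797, 262637, 525274]⟩,
  ⟨9, [[0,1,2,3,4,5,6,7,8,9,10,11,12,13,14,15,16,17,18,19,20,21,22,23]], [8391797, 262637, 525274, 1050548]⟩,
  ⟨10, [[0,1,2,3,4,5,6,7,8,9,10,11,12,13,14,15,16,17,18,19,20,21,22,23]], [8391797, 1050548]⟩,
  ⟨11, [[0,1,2,3,4,5,6,7,8,9,10,11,12,13,14,15,16,17,18,19,20,21,22,23]], [8391797]⟩,
  ⟨12, [[0,1,2,3,4,5,6,7,8,9,10,11,12,13,14,15,16,17,18,19,20,21,22,23]], [262637, 525274, 1050548, 2101096, 4196943, 36294, 69395, 133817, 5279]⟩,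
  ⟨13, [[0,1,2,3,4,5,6,7,8,9,10,11,12,13,14,15,16,17,18,19,20,21,22,23]], [262637, 525274, 1050548, 2101096, 4196943, 36294, 69395, 133817, 10558]⟩,
  ⟨14, [[0,1,2,3,4,5,6,7,8,9,10,11,12,13,14,15,16,17,18,19,20,21,22,23]], [262637, 525274, 1050548, 2101096, 4196943, 36294, 69395, 133817]⟩,
  ⟨15, [[0,1,2,3,4,5,6,7,8,9,10,11,12,13,14,15,16,17,18,19,20,21,22,23]], [262637, 525274, 1050548, 2101096, 4196943, 36294]⟩,
  ⟨16, [[0,1,2,3,4,5,6,7,8,9,10,11,12,13,14,15,16,17,18,19,20,21,22,23]], [262637, 525274, 1050548, 2101096, 4196943, 69395]⟩,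
  ⟨17, [[0,1,2,3,4,5,6,7,8,9,10,11,12,13,14,15,16,17,18,19,20,21,22,23]], [262637, 525274, 1050548, 2101096, 4196943]⟩,
  ⟨18, [[0,1,2,3,4,5,6,7,8,9,10,11,12,13,14,15,16,17,18,19,20,21,22,23]], [262637]⟩,
  ⟨19, [[0,1,2,3,4,5,6,7,8,9,10,11,12,13,14,15,16,17,18,19,20,21,22,23]], [525274]⟩,
  ⟨20, [[0,1,2,3,4,5,6,7,8,9,10,11,12,13,14,15,16,17,18,19,20,21,22,23]], [1050548]⟩,
  ⟨21, [[0,1,2,3,4,5,6,7,8,9,10,11,12,13,14,15,16,17,18,19,20,21,22,23]], [2101096]⟩,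
  ⟨22, [[0,1,2,3,4,5,6,7,8,9,10,11,12,13,14,15,16,17,18,19,20,21,22,23]], []⟩
]

/-- A straight line program from two elements of order 23 to the transversals. -/
def m23Prog : List (ℕ × ℕ) := [
  (1,1),(3,2),(4,4),(4,2),(6,3),(6,3),(8,3),(8,3),(10,4),(10,4),(12,5),(12,5),(14,5),(14,4),(16,5),(16,4),
  (18,5),(18,5),(20,6),(20,2),(21,22),(0,0),(1,0),(2,0),(18,18),(0,19),(0,20),(0,21),(0,22),(0,23),(32,28),
  (1,0),(0,11),(12,1),(2,12),(14,2),(4,3),(16,3),(6,4),(7,16),(19,5),(9,6),(21,6),(11,6),(23,6),(13,7),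
  (25,7),(26,3),(16,0),(17,17),(0,0),(12,12),(0,13),(0,14),(0,15),(0,31),(0,6),(7,1),(2,2),(3,8),(10,3),
  (5,4),(12,4),(13,4),(8,5),(9,5),(10,5),(11,5),(12,5),(13,5),(20,5),(21,4),(16,2),(13,13),(0,14),(0,15),
  (0,16),(0,17),(22,20),(28,0),(0,0),(1,0),(1,1),(0,2),(0,3),(35,25),(8,0),(0,7),(8,1),(2,2),(3,9),(11,3),
  (5,4),(13,4),(7,12),(8,3),(16,1),(10,2),(18,2),(19,2),(20,2),(21,1),(15,13),(18,0),(0,0),(25,15),(0,2),
  (3,1),(2,2),(3,4),(4,3),(7,3),(8,3),(33,21),(24,0),(8,0),(0,0),(1,13),(12,0),(3,11),(4,11),(5,11)]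

/-- The initial list: the identity and two elements of order 23. -/
def m23Init : List (List ℕ) := [[0,1,2,3,4,5,6,7,8,9,10,11,12,13,14,15,16,17,18,19,20,21,22,23],[1,2,3,4,5,6,7,8,9,10,11,12,13,14,15,16,17,18,19,20,21,22,0,23],[22,5,17,14,0,6,2,20,18,12,8,15,7,4,11,1,19,9,3,10,13,16,21,23]]

/-- A stabilizer chain of the stabilizer of the points 0 and 23. -/
def m22Levels : List Level := [
  ⟨1, [[0,1,2,3,4,5,6,7,8,9,10,11,12,13,14,15,16,17,18,19,20,21,22,23],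
    [0,2,19,8,1,5,10,3,14,9,16,12,15,7,13,17,21,20,4,18,11,22,6,23],
    [0,3,2,12,8,16,10,22,11,1,14,7,13,9,20,5,21,6,15,19,17,18,4,23],
    [0,4,6,19,7,8,11,5,1,21,20,9,12,3,18,15,22,16,17,10,13,2,14,23],
    [0,5,4,1,6,15,13,3,9,17,21,20,16,11,8,19,2,7,14,18,22,12,10,23],
    [0,6,7,15,16,18,3,4,19,20,9,1,2,5,10,8,13,12,21,14,11,22,17,23],
    [0,7,14,3,18,4,21,17,20,8,10,1,13,5,6,2,19,22,12,9,16,15,11,23],
    [0,8,10,20,15,22,13,6,2,9,5,14,16,19,4,17,11,12,7,3,18,1,21,23],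
    [0,9,16,14,22,20,15,13,17,18,7,19,11,21,5,3,6,4,2,8,1,12,10,23],
    [0,10,3,15,9,17,13,8,5,19,22,20,7,14,16,18,11,4,21,1,2,6,12,23],
    [0,11,9,3,18,14,2,19,7,1,13,6,8,15,10,5,4,12,20,17,21,16,22,23],
    [0,12,1,9,16,6,11,2,3,7,14,15,21,10,17,20,5,4,22,8,13,18,19,23],
    [0,13,8,10,15,6,17,4,21,19,2,22,18,12,3,20,9,1,7,14,5,11,16,23],
    [0,14,5,8,1,21,11,18,4,15,13,9,16,17,12,10,3,6,20,19,22,7,2,23],
    [0,15,13,4,7,6,16,12,10,19,17,5,22,3,21,18,2,20,14,8,1,9,11,23],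
    [0,16,8,17,9,20,7,14,5,18,6,11,3,13,21,4,12,1,22,2,19,10,15,23],
    [0,17,21,9,12,7,16,8,19,18,11,4,22,2,15,3,10,14,5,1,6,20,13,23],
    [0,18,11,19,20,14,22,15,3,1,2,21,6,10,7,8,13,5,17,9,12,4,16,23],
    [0,19,22,5,6,4,7,16,18,1,14,3,2,11,17,8,12,21,10,15,9,20,13,23],
    [0,20,9,19,22,12,2,10,8,14,5,7,11,13,18,4,17,21,6,15,16,1,3,23],
    [0,21,20,1,2,16,12,18,15,10,3,6,13,22,8,5,14,17,4,19,7,9,11,23],
    [0,22,15,18,19,4,14,5,17,1,12,2,8,16,11,21,20,9,6,10,3,13,7,23]], []⟩,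
  ⟨2, [[0,1,2,3,4,5,6,7,8,9,10,11,12,13,14,15,16,17,18,19,20,21,22,23],
    [0,1,3,6,20,10,21,15,2,16,7,5,17,19,13,9,11,8,14,22,18,12,4,23],
    [0,1,4,10,22,21,5,15,12,20,19,17,6,16,14,3,2,18,9,7,11,8,13,23],
    [0,1,5,9,2,11,6,18,12,7,4,10,19,17,13,8,3,21,16,20,15,22,14,23],
    [0,1,6,18,16,20,12,17,8,19,2,3,10,11,22,21,15,5,13,9,7,4,14,23],
    [0,1,7,8,18,15,6,19,13,22,10,12,20,3,4,17,9,5,14,2,11,21,16,23],
    [0,1,8,11,22,18,21,20,5,3,13,7,15,9,2,6,19,12,4,17,10,16,14,23],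
    [0,1,9,20,19,15,5,13,18,12,6,3,16,22,2,17,14,10,7,11,4,21,8,23],
    [0,1,10,5,11,19,8,3,4,2,15,21,18,7,16,20,17,12,14,13,9,6,22,23],
    [0,1,11,17,15,10,8,2,20,5,21,19,4,16,22,9,14,7,3,18,13,12,6,23],
    [0,1,12,17,13,9,8,11,21,10,16,15,3,20,4,5,7,6,22,18,19,2,14,23],
    [0,1,13,7,16,12,8,10,5,17,15,9,21,4,14,19,22,20,11,3,18,6,2,23],
    [0,1,14,18,20,21,2,17,8,15,11,22,9,12,4,16,13,10,19,5,6,3,7,23],
    [0,1,15,6,5,16,21,12,19,9,2,18,13,7,14,10,4,11,17,22,20,3,8,23],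
    [0,1,16,15,2,6,12,19,21,18,3,20,8,22,14,7,13,11,17,10,9,5,4,23],
    [0,1,17,8,19,16,2,5,12,7,11,9,6,18,20,10,15,21,4,14,22,3,13,23],
    [0,1,18,9,10,7,6,22,17,8,12,15,13,4,16,11,14,3,19,20,2,5,21,23],
    [0,1,19,15,11,17,2,7,10,8,9,16,12,20,13,22,4,18,5,6,14,21,3,23],
    [0,1,20,11,7,3,21,16,9,6,5,10,2,13,4,18,14,19,15,17,22,8,12,23],
    [0,1,21,20,4,17,5,9,6,15,22,19,7,18,16,12,10,8,2,11,3,13,14,23],
    [0,1,22,19,13,8,21,3,6,11,7,18,5,2,14,10,4,9,20,15,17,12,16,23]], []⟩,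
  ⟨3, [[0,1,2,3,4,5,6,7,8,9,10,11,12,13,14,15,16,17,18,19,20,21,22,23],
    [0,1,2,4,14,22,11,8,19,15,20,21,6,3,13,9,5,16,7,18,10,12,17,23],
    [0,1,2,5,21,3,4,22,15,18,8,9,10,7,17,12,6,14,20,13,11,16,19,23],
    [0,1,2,6,18,7,4,16,9,14,17,20,10,12,19,3,11,21,15,22,5,13,8,23],
    [0,1,2,7,22,21,20,15,12,5,14,11,18,13,19,3,4,6,8,10,17,9,16,23],
    [0,1,2,8,17,12,10,9,6,22,13,21,7,3,18,4,14,11,19,20,16,15,5,23],
    [0,1,2,9,17,15,22,13,19,11,8,6,7,14,20,18,5,10,21,4,12,16,3,23],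
    [0,1,2,10,4,20,17,3,11,6,7,18,12,22,15,19,13,9,8,14,21,5,16,23],
    [0,1,2,11,15,12,19,21,3,13,4,14,17,20,8,22,9,18,5,6,16,7,10,23],
    [0,1,2,12,19,18,3,17,15,4,22,10,20,21,8,13,6,11,9,5,16,14,7,23],
    [0,1,2,13,7,4,18,8,15,3,17,20,9,19,22,5,6,16,10,12,14,11,21,23],
    [0,1,2,14,13,17,21,19,18,9,10,12,11,4,3,15,22,5,8,7,20,6,16,23],
    [0,1,2,15,22,9,5,14,8,6,7,12,18,4,10,19,16,20,11,3,21,17,13,23],
    [0,1,2,16,10,4,11,18,14,7,6,5,17,15,13,21,9,22,3,12,19,8,20,23],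
    [0,1,2,17,20,3,6,19,4,18,12,16,22,9,14,11,15,5,13,21,8,7,10,23],
    [0,1,2,18,3,11,15,20,19,22,13,7,21,17,8,4,5,12,6,9,16,10,14,23],
    [0,1,2,19,13,6,9,10,8,5,14,18,11,22,7,3,16,21,12,15,17,20,4,23],
    [0,1,2,20,14,10,16,4,21,11,8,7,6,17,9,18,3,15,19,13,12,22,5,23],
    [0,1,2,21,17,19,9,15,13,12,11,16,4,5,7,18,3,6,22,20,8,10,14,23],
    [0,1,2,22,10,13,12,8,3,19,21,17,5,15,4,6,9,16,14,11,7,18,20,23]], []⟩,
  ⟨4, [[0,1,2,3,4,5,6,7,8,9,10,11,12,13,14,15,16,17,18,19,20,21,22,23],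
    [0,1,2,3,6,17,15,9,12,16,22,8,11,21,5,4,7,14,18,10,13,20,19,23],
    [0,1,2,3,7,17,20,10,11,13,4,18,12,19,5,22,6,14,8,9,16,15,21,23],
    [0,1,2,3,8,14,7,19,9,4,16,10,15,18,17,22,11,5,20,6,13,21,12,23],
    [0,1,2,3,9,17,19,6,4,8,11,16,22,20,5,12,10,14,13,7,18,21,15,23],
    [0,1,2,3,10,17,21,7,22,18,12,13,4,15,5,11,9,14,16,6,8,19,20,23],
    [0,1,2,3,11,5,10,9,13,7,6,4,22,8,14,21,18,17,16,20,19,15,12,23],
    [0,1,2,3,12,14,19,7,20,16,4,15,10,11,17,13,18,5,9,21,22,6,8,23],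
    [0,1,2,3,13,14,9,20,7,11,18,6,21,16,17,12,4,5,19,10,8,15,22,23],
    [0,1,2,3,15,17,6,19,13,11,8,22,16,10,5,18,20,14,4,21,12,7,9,23],
    [0,1,2,3,16,5,21,19,12,20,15,18,8,22,14,10,4,17,11,7,9,6,13,23],
    [0,1,2,3,18,14,6,21,10,22,13,9,20,8,17,4,12,5,15,7,16,19,11,23],
    [0,1,2,3,19,14,12,8,22,10,15,4,16,21,17,9,6,5,13,11,20,18,7,23],
    [0,1,2,3,20,17,7,21,16,12,18,4,13,9,5,8,15,14,22,19,11,6,10,23],
    [0,1,2,3,21,17,10,20,8,4,13,12,18,6,5,16,19,14,11,15,22,9,7,23],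
    [0,1,2,3,22,14,20,9,19,18,11,21,6,4,17,8,16,5,7,15,12,10,13,23]], [8536111]⟩,
  ⟨5, [[0,1,2,3,4,5,6,7,8,9,10,11,12,13,14,15,16,17,18,19,20,21,22,23],
    [0,1,2,3,4,14,15,10,21,8,12,19,7,22,17,18,13,5,6,20,11,9,16,23],
    [0,1,2,3,4,17,18,12,9,21,7,20,10,16,5,6,22,14,15,11,19,8,13,23]], [9963547, 10486557, 8683614, 5279, 12656663]⟩,
  ⟨6, [[0,1,2,3,4,5,6,7,8,9,10,11,12,13,14,15,16,17,18,19,20,21,22,23]], [8391797, 9963547, 12584506]⟩,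
  ⟨7, [[0,1,2,3,4,5,6,7,8,9,10,11,12,13,14,15,16,17,18,19,20,21,22,23]], [8391797, 262637, 786999, 10486557]⟩,
  ⟨8, [[0,1,2,3,4,5,6,7,8,9,10,11,12,13,14,15,16,17,18,19,20,21,22,23]], [8391797, 262637, 525274]⟩,
  ⟨9, [[0,1,2,3,4,5,6,7,8,9,10,11,12,13,14,15,16,17,18,19,20,21,22,23]], [8391797, 262637, 525274, 1050548]⟩,
  ⟨10, [[0,1,2,3,4,5,6,7,8,9,10,11,12,13,14,15,16,17,18,19,20,21,22,23]], [8391797, 1050548]⟩,
  ⟨11, [[0,1,2,3,4,5,6,7,8,9,10,11,12,13,14,15,16,17,18,19,20,21,22,23]], [8391797]⟩,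
  ⟨12, [[0,1,2,3,4,5,6,7,8,9,10,11,12,13,14,15,16,17,18,19,20,21,22,23]], [262637, 525274, 1050548, 2101096, 4196943, 36294, 69395, 133817, 5279]⟩,
  ⟨13, [[0,1,2,3,4,5,6,7,8,9,10,11,12,13,14,15,16,17,18,19,20,21,22,23]], [262637, 525274, 1050548, 2101096, 4196943, 36294, 69395, 133817, 10558]⟩,
  ⟨14, [[0,1,2,3,4,5,6,7,8,9,10,11,12,13,14,15,16,17,18,19,20,21,22,23]], [262637, 525274, 1050548, 2101096, 4196943, 36294, 69395, 133817]⟩,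
  ⟨15, [[0,1,2,3,4,5,6,7,8,9,10,11,12,13,14,15,16,17,18,19,20,21,22,23]], [262637, 525274, 1050548, 2101096, 4196943, 36294]⟩,
  ⟨16, [[0,1,2,3,4,5,6,7,8,9,10,11,12,13,14,15,16,17,18,19,20,21,22,23]], [262637, 525274, 1050548, 2101096, 4196943, 69395]⟩,
  ⟨17, [[0,1,2,3,4,5,6,7,8,9,10,11,12,13,14,15,16,17,18,19,20,21,22,23]], [262637, 525274, 1050548, 2101096, 4196943]⟩,
  ⟨18, [[0,1,2,3,4,5,6,7,8,9,10,11,12,13,14,15,16,17,18,19,20,21,22,23]], [262637]⟩,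
  ⟨19, [[0,1,2,3,4,5,6,7,8,9,10,11,12,13,14,15,16,17,18,19,20,21,22,23]], [525274]⟩,
  ⟨20, [[0,1,2,3,4,5,6,7,8,9,10,11,12,13,14,15,16,17,18,19,20,21,22,23]], [1050548]⟩,
  ⟨21, [[0,1,2,3,4,5,6,7,8,9,10,11,12,13,14,15,16,17,18,19,20,21,22,23]], [2101096]⟩,
  ⟨22, [[0,1,2,3,4,5,6,7,8,9,10,11,12,13,14,15,16,17,18,19,20,21,22,23]], []⟩
]

/-- A straight line program from two elements of order 11 to the transversals. -/
def m22Prog : List (ℕ × ℕ) := [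
  (1,1),(3,2),(3,4),(5,5),(5,3),(7,4),(7,4),(9,5),(9,4),(11,4),(12,4),(12,4),(14,5),(14,5),(15,5),(17,5),
  (17,5),(18,4),(20,5),(20,16),(0,0),(1,0),(2,0),(2,3),(0,4),(27,22),(0,6),(7,1),(2,2),(9,2),(4,3),(11,3),
  (12,3),(7,4),(14,4),(15,3),(16,3),(11,14),(18,3),(13,4),(20,4),(15,20),(17,0),(0,0),(1,0),(19,17),(0,3),
  (4,1),(2,2),(3,5),(4,3),(5,3),(9,3),(10,3),(8,4),(12,4),(13,4),(11,5),(12,5),(16,4),(17,4),(15,5),(15,15),
  (0,16),(0,17),(0,20),(0,0),(17,17),(25,20),(1,0),(0,4),(5,1),(2,5),(7,2),(8,2),(5,3),(1,1),(23,23),(0,24),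
  (0,25),(34,26),(1,0),(5,0),(0,0),(1,14),(2,18),(3,15),(17,2),(5,15),(19,3),(7,3)]

/-- The initial list: the identity and two elements of order 11. -/
def m22Init : List (List ℕ) := [[0,1,2,3,4,5,6,7,8,9,10,11,12,13,14,15,16,17,18,19,20,21,22,23],[0,18,11,19,20,14,22,15,3,1,2,21,6,10,7,8,13,5,17,9,12,4,16,23],[0,19,22,5,6,4,7,16,18,1,14,3,2,11,17,8,12,21,10,15,9,20,13,23]]

theorem m23Chain_ok : chainCheck inM24 [] [23] m23Levels = true := by decide +kernel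

theorem m23Init_ok : m23Init.all (fun L => L == idL || orderCheck inM24 [23] 23 L) = true := by decide +kernel

theorem m23Slp_ok : m23Levels.all (fun lv => lv.T.all (fun L => (slpRun m23Init m23Prog).contains L)) = true := by
  decide +kernel

theorem m22Chain_ok : chainCheck inM24 [] [0, 23] m22Levels = true := by decide +kernel

theorem m22Init_ok : m22Init.all (fun L => L == idL || orderCheck inM24 [0, 23] 11 L) = true := by decide +kernel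

theorem m22Slp_ok : m22Levels.all (fun lv => lv.T.all (fun L => (slpRun m22Init m22Prog).contains L)) = true := by
  decide +kernel

theorem mem_stab_iff (x : Cfsg.M24) (p : GolayPt) :
    x ∈ MulAction.stabilizer Cfsg.M24 p ↔ (x : P) p = p := mem_stabilizer_M24 x p

/-- The stabilizer of the point 23 is simple. -/
theorem m23_simple_base : IsSimpleGroup (MulAction.stabilizer Cfsg.M24 (idxPt 23)) := by
  have : Fact (Nat.Prime 23) := ⟨by norm_num⟩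
  have hcard := card_stab_one (idxPt 23)
  have : Nontrivial (MulAction.stabilizer Cfsg.M24 (idxPt 23)) := by
    rw [← Finite.one_lt_card_iff_nontrivial, hcard]
    norm_num
  refine SimpleCrit.isSimpleGroup_of_gen_prime (α := GolayPt) (Finset.univ.erase (idxPt 23)) ?_ ?_ ?_ 23 ?_ ?_ ?_
  · rintro ⟨⟨g, hg⟩, hg'⟩ h
    apply Subtype.ext
    apply Subtype.ext
    refine Equiv.ext fun x => ?_
    by_cases hx : x = idxPt 23
    · subst hx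
      exact (mem_stab_iff _ _).1 hg'
    · exact h x (by simp [hx])
  · rintro ⟨⟨g, hg⟩, hg'⟩ x hx
    have hg'' : g (idxPt 23) = idxPt 23 := (mem_stab_iff _ _).1 hg'
    simp only [Finset.mem_erase, Finset.mem_univ, and_true] at hx ⊢
    intro h
    apply hx
    have h2 : g x = idxPt 23 := h
    rw [← hg''] at h2
    exact g.injective h2
  · intro x hx y hy hxy x' hx' y' hy' hxy'
    simp only [Finset.mem_erase, Finset.mem_univ, and_true] at hx hy hx' hy'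
    obtain ⟨g, hg, h0, h1, h2⟩ := exists_map_three (a := idxPt 23) (b := x) (c := y) (a' := idxPt 23)
      (b' := x') (c' := y') (Ne.symm hx) (Ne.symm hy) hxy (Ne.symm hx') (Ne.symm hy') hxy'
    exact ⟨⟨⟨g, hg⟩, (mem_stab_iff _ _).2 h0⟩, h1, h2⟩
  · rw [Finset.card_erase_of_mem (Finset.mem_univ _)]
    decide
  · rw [hcard]
    norm_num
  · refine hgen_of_chain ctxM24 [23] m23Levels m23Chain_ok
      (Cfsg.M24.subtype.comp (MulAction.stabilizer Cfsg.M24 (idxPt 23)).subtype) ?_ ?_ ?_ 23 m23Init m23Prog m23Init_ok m23Slp_ok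
    · exact fun a b h => Subtype.ext (Subtype.ext h)
    · rintro ⟨⟨g, hg⟩, hg'⟩
      refine ⟨hg, fun i hi => ?_⟩
      rw [List.mem_singleton.1 hi]
      exact (mem_stab_iff _ _).1 hg'
    · rintro σ ⟨h1, h2⟩
      exact ⟨⟨⟨σ, h1⟩, (mem_stab_iff _ _).2 (h2 23 (by simp))⟩, rfl⟩

/-- A point stabilizer in `M24` is simple. -/
theorem m23_simple (p : GolayPt) : IsSimpleGroup (MulAction.stabilizer Cfsg.M24 p) := by
  obtain ⟨g, hg, hgp⟩ := exists_map_one (idxPt 23) p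
  refine isSimpleGroup_of_conj (MulAction.stabilizer Cfsg.M24 (idxPt 23)) _ ⟨g, hg⟩ (fun x => ?_) m23_simple_base
  rw [mem_stab_iff, mem_stab_iff]
  change _ ↔ ((g⁻¹ * (x : P) * g : P)) (idxPt 23) = idxPt 23
  rw [Equiv.Perm.mul_apply, Equiv.Perm.mul_apply, hgp, Equiv.Perm.inv_eq_iff_eq, hgp]

/-- The stabilizer of the points 0 and 23 is simple. -/
theorem m22_simple_base :
    IsSimpleGroup ↥(MulAction.stabilizer Cfsg.M24 (idxPt 23) ⊓ MulAction.stabilizer Cfsg.M24 (idxPt 0)) := by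
  have : Fact (Nat.Prime 11) := ⟨by norm_num⟩
  have h01 : idxPt 23 ≠ idxPt 0 := by decide
  have hcard := card_stab_two h01
  have : Nontrivial ↥(MulAction.stabilizer Cfsg.M24 (idxPt 23) ⊓ MulAction.stabilizer Cfsg.M24 (idxPt 0)) := by
    rw [← Finite.one_lt_card_iff_nontrivial, hcard]
    norm_num
  refine SimpleCrit.isSimpleGroup_of_gen_prime (α := GolayPt) ((Finset.univ.erase (idxPt 23)).erase (idxPt 0)) ?_ ?_ ?_ 11 ?_ ?_ ?_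
  · rintro ⟨⟨g, hg⟩, hg'⟩ h
    apply Subtype.ext
    apply Subtype.ext
    refine Equiv.ext fun x => ?_
    obtain ⟨h1, h2⟩ := Subgroup.mem_inf.1 hg'
    by_cases hx : x = idxPt 23
    · subst hx
      exact (mem_stab_iff _ _).1 h1
    by_cases hx' : x = idxPt 0
    · subst hx'
      exact (mem_stab_iff _ _).1 h2
    exact h x (by simp [hx, hx'])
  · rintro ⟨⟨g, hg⟩, hg'⟩ x hx
    obtain ⟨h1, h2⟩ := Subgroup.mem_inf.1 hg'
    have h1' : g (idxPt 23) = idxPt 23 := (mem_stab_iff _ _).1 h1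
    have h2' : g (idxPt 0) = idxPt 0 := (mem_stab_iff _ _).1 h2
    simp only [Finset.mem_erase, Finset.mem_univ, and_true] at hx ⊢
    refine ⟨fun h => hx.1 ?_, fun h => hx.2 ?_⟩
    · have h3 : g x = idxPt 0 := h
      rw [← h2'] at h3
      exact g.injective h3
    · have h3 : g x = idxPt 23 := h
      rw [← h1'] at h3
      exact g.injective h3
  · intro x hx y hy hxy x' hx' y' hy' hxy'
    simp only [Finset.mem_erase, Finset.mem_univ, and_true] at hx hy hx' hy'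
    have hinj : ∀ {a b : GolayPt}, a ≠ idxPt 23 → a ≠ idxPt 0 → b ≠ idxPt 23 → b ≠ idxPt 0 → a ≠ b →
        Function.Injective ![idxPt 23, idxPt 0, a, b] := by
      intro a b h1 h2 h3 h4 h5 i j hij
      fin_cases i <;> fin_cases j <;> simp_all [eq_comm]
    obtain ⟨g, hg, he⟩ := exists_map_embedding (k := 4) (by norm_num)
      ⟨_, hinj hx.2 hx.1 hy.2 hy.1 hxy⟩ ⟨_, hinj hx'.2 hx'.1 hy'.2 hy'.1 hxy'⟩
    exact ⟨⟨⟨g, hg⟩, Subgroup.mem_inf.2 ⟨(mem_stab_iff _ _).2 (he 0), (mem_stab_iff _ _).2 (he 1)⟩⟩, he 2, he 3⟩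
  · have : ((Finset.univ.erase (idxPt 23)).erase (idxPt 0)).card = 22 := by decide
    rw [this]
    norm_num
  · rw [hcard]
    norm_num
  · refine hgen_of_chain ctxM24 [0, 23] m22Levels m22Chain_ok
      (Cfsg.M24.subtype.comp (MulAction.stabilizer Cfsg.M24 (idxPt 23) ⊓ MulAction.stabilizer Cfsg.M24 (idxPt 0)).subtype)
      ?_ ?_ ?_ 11 m22Init m22Prog m22Init_ok m22Slp_ok
    · exact fun a b h => Subtype.ext (Subtype.ext h)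
    · rintro ⟨⟨g, hg⟩, hg'⟩
      obtain ⟨h1, h2⟩ := Subgroup.mem_inf.1 hg'
      refine ⟨hg, fun i hi => ?_⟩
      simp only [List.mem_cons, List.not_mem_nil, or_false] at hi
      rcases hi with rfl | rfl
      · exact (mem_stab_iff _ _).1 h2
      · exact (mem_stab_iff _ _).1 h1
    · rintro σ ⟨h1, h2⟩
      exact ⟨⟨⟨σ, h1⟩, Subgroup.mem_inf.2 ⟨(mem_stab_iff _ _).2 (h2 23 (by simp)), (mem_stab_iff _ _).2 (h2 0 (by simp))⟩⟩, rfl⟩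

/-- A two-point stabilizer in `M24` is simple. -/
theorem m22_simple {p q : GolayPt} (hpq : p ≠ q) :
    IsSimpleGroup ↥(MulAction.stabilizer Cfsg.M24 p ⊓ MulAction.stabilizer Cfsg.M24 q) := by
  have h01 : idxPt 23 ≠ idxPt 0 := by decide
  obtain ⟨g, hg, hgp, hgq⟩ := exists_map_two h01 hpq
  refine isSimpleGroup_of_conj (MulAction.stabilizer Cfsg.M24 (idxPt 23) ⊓ MulAction.stabilizer Cfsg.M24 (idxPt 0)) _
    ⟨g, hg⟩ (fun x => ?_) m22_simple_base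
  rw [Subgroup.mem_inf, Subgroup.mem_inf, mem_stab_iff, mem_stab_iff, mem_stab_iff, mem_stab_iff]
  change _ ↔ ((g⁻¹ * (x : P) * g : P)) (idxPt 23) = idxPt 23 ∧ ((g⁻¹ * (x : P) * g : P)) (idxPt 0) = idxPt 0
  rw [Equiv.Perm.mul_apply, Equiv.Perm.mul_apply, Equiv.Perm.mul_apply, Equiv.Perm.mul_apply, hgp, hgq,
    Equiv.Perm.inv_eq_iff_eq, Equiv.Perm.inv_eq_iff_eq, hgp, hgq]

/-- `M24` is simple. -/
theorem m24_simple : IsSimpleGroup Cfsg.M24 := by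
  have : Nontrivial Cfsg.M24 := by
    rw [← Finite.one_lt_card_iff_nontrivial]
    have := card_stab_one (idxPt 23)
    have h2 := Subgroup.card_subgroup_dvd_card (MulAction.stabilizer Cfsg.M24 (idxPt 23))
    rw [this] at h2
    have h3 := Nat.le_of_dvd Nat.card_pos h2
    omega
  refine SimpleCrit.isSimpleGroup_of_stabilizer_simple (α := GolayPt) Finset.univ ?_ ?_ ?_ ?_ ?_ (idxPt 23) (Finset.mem_univ _)
    (m23_simple _)
  · rintro ⟨g, hg⟩ h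
    apply Subtype.ext
    refine Equiv.ext fun x => ?_
    exact h x (Finset.mem_univ _)
  · exact fun _ _ _ => Finset.mem_univ _
  · intro x _ y _ z _ hxy hxz hyz x' _ y' _ z' _ hxy' hxz' hyz'
    obtain ⟨g, hg, h1, h2, h3⟩ := exists_map_three hxy hxz hyz hxy' hxz' hyz'
    exact ⟨⟨g, hg⟩, h1, h2, h3⟩
  · decide
  · intro k hk
    have h24 : (Finset.univ : Finset GolayPt).card = 24 := by decide
    rw [h24] at hk
    have h3 : (3 : ℕ) ∣ 2 ^ k := by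
      rw [← hk]
      norm_num
    have := Nat.Prime.dvd_of_dvd_pow Nat.prime_three h3
    omega

end Cfsg.Agent.Lib.Compute.M24
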