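import Mathlib
import Cfsg.Agent.Lib.Compute.PermCert
import Cfsg.Agent.Lib.Compute.ToddCoxeterCore

/-!
# Exact stabiliser chains of permutation groups of known order, and searches in them

A level of a chain is a base point, generators, a word for each generator in the generators of the level before, and
a Schreier tree of the orbit of the base point (a packed table).  The product of the orbit sizes is a lower bound for
the order of the group, and when the order is known to be this product the chain is exact: the orbits of the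
stabilisers are the trees, and an element fixing the base is trivial.  No Schreier generators are checked.

Then the set of the `c` in the group with `c * X = X' * c` can be enumerated by following the images of the base points.
-/

set_option autoImplicit false

namespace Cfsg.Agent.Lib.Compute.OutChain

open Cfsg.Agent.Lib.Compute.PermCert
open Cfsg.Agent.Lib.Compute.ToddCoxeterCore (frc frc_eq)

/-- `if b then t else e` on booleans, through the recursor. -/
local notation "bB(" b ", " t ", " e ")" => Bool.rec (motive := fun _ => Bool) e t b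

/-- A level of a chain. -/
structure Lv where
  /-- the base point -/
  b : Nat
  /-- the generators -/
  gens : List Elt
  /-- the words of the generators in the generators of the level before -/
  gw : List (List Nat)
  /-- the Schreier tree: for each point, `0`, or parent, generator (6 bits) and depth (6 bits), the root having depth 1 -/
  tree : Nat
  /-- the size of the orbit -/
  n : Nat

section Defs

variable (w m N tw tm : Nat)

/-- The entry of a point. -/
def ent (l : Lv) (x : Nat) : Nat := get tw tm l.tree x

/-- The parent of an entry. -/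
def par (e : Nat) : Nat := Nat.land e m

/-- The generator of an entry. -/
def gnr (e : Nat) : Nat := Nat.land (Nat.shiftRight e w) 63

/-- The depth of an entry. -/
def dep (e : Nat) : Nat := Nat.shiftRight e (Nat.add w 6)

/-- A generator of a level on points. -/
def gF (l : Lv) (j y : Nat) : Nat :=
  match nth l.gens j with
  | none => y
  | some g => get w m g.f y

/-- The inverse of a generator of a level on points. -/
def gI (l : Lv) (j y : Nat) : Nat :=
  match nth l.gens j with
  | none => y
  | some g => get w m g.g y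

/-- A generator of a level. -/
def elG (l : Lv) (j : Nat) : Equiv.Perm (Fin N) :=
  match nth l.gens j with
  | none => 1
  | some g => permOf w m N g

/-- The inverse of the transversal element of the point `x` of depth `d + 1`. -/
noncomputable def invU (l : Lv) (d : Nat) : Nat → Nat → Nat :=
  Nat.rec (motive := fun _ => Nat → Nat → Nat) (fun _ y => y)
    (fun _ ih x y => ih (par m (ent tw tm l x)) (gI w m l (gnr w (ent tw tm l x)) y)) d

/-- The transversal element of the point `x` of depth `d + 1`. -/
noncomputable def fwdU (l : Lv) (d : Nat) : Nat → Nat → Nat :=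
  Nat.rec (motive := fun _ => Nat → Nat → Nat) (fun _ y => y)
    (fun _ ih x y => gF w m l (gnr w (ent tw tm l x)) (ih (par m (ent tw tm l x)) y)) d

/-- The check of the tree at a point. -/
def treeOK (l : Lv) (x : Nat) : Bool :=
  bif Nat.beq (dep w (ent tw tm l x)) 0 then true
  else bif Nat.beq (dep w (ent tw tm l x)) 1 then Nat.beq x l.b
  else Nat.blt (par m (ent tw tm l x)) N &&
    Nat.beq (Nat.succ (dep w (ent tw tm l (par m (ent tw tm l x))))) (dep w (ent tw tm l x)) &&
    Nat.beq (gF w m l (gnr w (ent tw tm l x)) (par m (ent tw tm l x))) x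

/-- The number of `i < n` with `f i`. -/
def cnt (f : Nat → Bool) : Nat → Nat
  | 0 => 0
  | k + 1 => (bif f k then 1 else 0) + cnt f k

/-- The point is in the tree. -/
def inT (l : Lv) (x : Nat) : Bool := !(Nat.beq (dep w (ent tw tm l x)) 0)

/-- The check of a level. -/
def chkLv (l : Lv) : Bool :=
  Nat.blt l.b N && l.gens.all (validB w m N) && Nat.beq (dep w (ent tw tm l l.b)) 1 && allB (treeOK w m N tw tm l) N &&
    Nat.beq (cnt (inT w tw tm l) N) l.n

/-- The generators of the first level of a list. -/
def hdG : List Lv → List Elt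
  | [] => []
  | l :: _ => l.gens

/-- The words of the first level of a list. -/
def hdW : List Lv → List (List Nat)
  | [] => []
  | l :: _ => l.gw

/-- The check of a chain. -/
def chkChain : List Lv → Bool
  | [] => true
  | l :: ls => chkLv w m N tw tm l && nextCheck w m N l.gens l.b (hdG ls) (hdW ls) && chkChain ls

/-- The order given by a chain. -/
def ordC : List Lv → Nat
  | [] => 1
  | l :: ls => l.n * ordC ls

/-- The rule of a level in a search. -/
inductive Rule
  /-- The image of the base point is unknown; it is fixed by the `k`-th power of the element when `k ≠ 0`. -/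
  | free (k : Nat)
  /-- The base point is the image of the point `s` under the `e`-th power of the element. -/
  | forced (e s : Nat)

/-- The static check of the rules. -/
def rulesOK (x : Nat → Nat) : List Nat → List (Lv × Rule) → Bool
  | _, [] => true
  | pre, (l, .free k) :: ls => (Nat.beq k 0 || Nat.beq (x^[k] l.b) l.b) && rulesOK x (l.b :: pre) ls
  | pre, (l, .forced e s) :: ls =>
    pre.elem s && Nat.blt s N && Nat.beq (x^[e] s) l.b && rulesOK x (l.b :: pre) ls

/-- The search: all the leaves of the tree of the images of the base points satisfy `P`. -/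
noncomputable def search (x' : Nat → Nat) (P : (Nat → Nat) → (Nat → Nat) → Bool) :
    List (Lv × Rule) → (Nat → Nat) → (Nat → Nat) → Bool
  | [], vf, vi => P vf vi
  | (l, .free k) :: ls, vf, vi =>
    allB (fun y =>
      bif Nat.beq (dep w (ent tw tm l y)) 0 then true
      else bif (!(Nat.beq k 0) && !(Nat.beq (x'^[k] (vf y)) (vf y))) then true
      else search x' P ls (fun a => vf (fwdU w m tw tm l (Nat.pred (dep w (ent tw tm l y))) y a))
        (fun a => invU w m tw tm l (Nat.pred (dep w (ent tw tm l y))) y (vi a))) N
  | (l, .forced e s) :: ls, vf, vi =>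
    bif Nat.beq (dep w (ent tw tm l (vi (x'^[e] (vf s))))) 0 then true
    else search x' P ls
      (fun a => vf (fwdU w m tw tm l (Nat.pred (dep w (ent tw tm l (vi (x'^[e] (vf s)))))) (vi (x'^[e] (vf s))) a))
      (fun a => invU w m tw tm l (Nat.pred (dep w (ent tw tm l (vi (x'^[e] (vf s)))))) (vi (x'^[e] (vf s))) (vi a))

/-- The sifting of a function through a chain. -/
noncomputable def siftC : List Lv → (Nat → Nat) → Bool
  | [], g => allB (fun i => Nat.beq (g i) i) N
  | l :: ls, g =>
    bif Nat.beq (dep w (ent tw tm l (g l.b))) 0 then false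
    else siftC ls (fun a => invU w m tw tm l (Nat.pred (dep w (ent tw tm l (g l.b)))) (g l.b) (g a))

end Defs

section Theory

variable {w m N tw tm : Nat}

theorem gF_eq {l : Lv} (hg : l.gens.all (validB w m N) = true) (j : Nat) (i : Fin N) :
    gF w m l j i = (elG w m N l j i : Nat) := by
  unfold gF elG
  cases h : nth l.gens j with
  | none => simp
  | some e =>
    have hv : validB w m N e = true := by
      rw [List.all_eq_true] at hg
      exact hg e (nth_mem h)
    simp [permOf_apply hv]

theorem gI_eq {l : Lv} (hg : l.gens.all (validB w m N) = true) (j : Nat) (i : Fin N) :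
    gI w m l j i = (((elG w m N l j)⁻¹ : Equiv.Perm (Fin N)) i : Nat) := by
  unfold gI elG
  cases h : nth l.gens j with
  | none => simp
  | some e =>
    have hv : validB w m N e = true := by
      rw [List.all_eq_true] at hg
      exact hg e (nth_mem h)
    simpa using (permOf_symm_apply hv i).symm

theorem elG_mem (l : Lv) (j : Nat) : elG w m N l j ∈ genGroup w m N l.gens := by
  unfold elG
  cases h : nth l.gens j with
  | none => exact Subgroup.one_mem _
  | some e => exact permOf_mem_genGroup (nth_mem h)

theorem invU_succ (l : Lv) (d x y : Nat) :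
    invU w m tw tm l (d + 1) x y = invU w m tw tm l d (par m (ent tw tm l x)) (gI w m l (gnr w (ent tw tm l x)) y) := rfl

theorem fwdU_succ (l : Lv) (d x y : Nat) :
    fwdU w m tw tm l (d + 1) x y = gF w m l (gnr w (ent tw tm l x)) (fwdU w m tw tm l d (par m (ent tw tm l x)) y) := rfl

/-- The facts from the check of a level. -/
structure LvFacts (w m N tw tm : Nat) (l : Lv) : Prop where
  b_lt : l.b < N
  valid : l.gens.all (validB w m N) = true
  root : dep w (ent tw tm l l.b) = 1
  tree : ∀ x, x < N → treeOK w m N tw tm l x = true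
  count : cnt (inT w tw tm l) N = l.n

theorem lvFacts {l : Lv} (h : chkLv w m N tw tm l = true) : LvFacts w m N tw tm l := by
  simp only [chkLv, Bool.and_eq_true, Nat.blt_eq, Nat.beq_eq] at h
  obtain ⟨⟨⟨⟨h1, h2⟩, h3⟩, h4⟩, h5⟩ := h
  exact ⟨h1, h2, h3, (allB_iff _ _).mp h4, h5⟩

/-- The transversal element of a point of the tree. -/
theorem tree_spec {l : Lv} (hl : LvFacts w m N tw tm l) (d : Nat) :
    ∀ x (hx : x < N), dep w (ent tw tm l x) = d + 1 →
      ∃ u ∈ genGroup w m N l.gens, u ⟨l.b, hl.b_lt⟩ = ⟨x, hx⟩ ∧
        ∀ y : Fin N, invU w m tw tm l d x y = ((u⁻¹ : Equiv.Perm (Fin N)) y : Nat) ∧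
          fwdU w m tw tm l d x y = (u y : Nat) := by
  induction d with
  | zero =>
    intro x hx hd
    have ht := hl.tree x hx
    simp only [treeOK] at ht
    rw [hd] at ht
    have hxb : x = l.b := by
      have : Nat.beq x l.b = true := by simpa using ht
      exact Nat.eq_of_beq_eq_true this
    refine ⟨1, Subgroup.one_mem _, ?_, fun y => ⟨rfl, rfl⟩⟩
    apply Fin.ext
    simp [hxb]
  | succ d ih =>
    intro x hx hd
    have ht := hl.tree x hx
    simp only [treeOK] at ht
    rw [hd] at ht
    have ht' : (Nat.blt (par m (ent tw tm l x)) N &&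
      Nat.beq (Nat.succ (dep w (ent tw tm l (par m (ent tw tm l x))))) (d + 1 + 1) &&
      Nat.beq (gF w m l (gnr w (ent tw tm l x)) (par m (ent tw tm l x))) x) = true := ht
    simp only [Bool.and_eq_true, Nat.blt_eq, Nat.beq_eq, Nat.succ_eq_add_one, Nat.add_right_cancel_iff] at ht'
    obtain ⟨⟨h1, h2⟩, h3⟩ := ht'
    obtain ⟨u', hu', hub, hfn⟩ := ih _ h1 h2
    refine ⟨elG w m N l (gnr w (ent tw tm l x)) * u', Subgroup.mul_mem _ (elG_mem _ _) hu', ?_, fun y => ?_⟩
    · rw [Equiv.Perm.mul_apply, hub]
      apply Fin.ext
      have := gF_eq hl.valid (gnr w (ent tw tm l x)) ⟨par m (ent tw tm l x), h1⟩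
      simp only at this
      rw [← this, h3]
    · constructor
      · rw [invU_succ, gI_eq hl.valid, (hfn _).1]
        simp [mul_inv_rev, Equiv.Perm.mul_apply]
      · rw [fwdU_succ, (hfn y).2, gF_eq hl.valid]
        rfl

/-- The count of the tree. -/
theorem cnt_eq (f : Nat → Bool) (n : Nat) : cnt f n = (Finset.univ.filter fun x : Fin n => f x = true).card := by
  rw [Finset.card_filter]
  induction n with
  | zero => simp [cnt]
  | succ k ih =>
    rw [cnt, ih, Fin.sum_univ_castSucc]
    simp only [Fin.val_castSucc, Fin.val_last]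
    rcases Bool.eq_false_or_eq_true (f k) with h | h <;> simp [h, add_comm]

/-- One step of a chain of subgroups of a permutation group. -/
theorem card_step {K : Subgroup (Equiv.Perm (Fin N))} (b : Fin N) (S : Finset (Fin N)) (hS : ∀ x ∈ S, ∃ u ∈ K, u b = x) :
    S.card * Nat.card (K ⊓ MulAction.stabilizer (Equiv.Perm (Fin N)) b : Subgroup _) ≤ Nat.card K ∧
    (S.card * Nat.card (K ⊓ MulAction.stabilizer (Equiv.Perm (Fin N)) b : Subgroup _) = Nat.card K → ∀ g ∈ K, g b ∈ S) := by
  classical
  set St := MulAction.stabilizer (Equiv.Perm (Fin N)) b with hSt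
  have h1 := Subgroup.card_mul_index (MulAction.stabilizer K b)
  rw [MulAction.index_stabilizer] at h1
  have hcard : Nat.card (K ⊓ St : Subgroup _) = Nat.card (MulAction.stabilizer K b) := by
    have h2 : (K ⊓ St : Subgroup _).subgroupOf K = MulAction.stabilizer K b := by
      ext x
      rw [Subgroup.mem_subgroupOf, MulAction.mem_stabilizer_iff]
      constructor
      · rintro ⟨-, hx⟩
        exact hx
      · intro hx
        exact ⟨x.2, hx⟩
    rw [← h2]
    exact Nat.card_congr (Subgroup.subgroupOfEquivOfLe inf_le_left).symm.toEquiv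
  have hsub : (S : Set (Fin N)) ⊆ MulAction.orbit K b := by
    intro x hx
    obtain ⟨u, hu, hux⟩ := hS x hx
    exact ⟨⟨u, hu⟩, hux⟩
  have hle : S.card ≤ (MulAction.orbit K b).ncard := by
    rw [← Set.ncard_coe_finset]
    exact Set.ncard_le_ncard hsub (Set.toFinite _)
  rw [hcard]
  refine ⟨?_, fun heq g hg => ?_⟩
  · rw [← h1, mul_comm]
    exact Nat.mul_le_mul_left _ hle
  · have hpos : 0 < Nat.card (MulAction.stabilizer K b) := Nat.card_pos
    have h3 : S.card = (MulAction.orbit K b).ncard := by
      rw [← h1, mul_comm (Nat.card (MulAction.stabilizer K b))] at heq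
      exact Nat.eq_of_mul_eq_mul_right hpos heq
    have h4 : (S : Set (Fin N)) = MulAction.orbit K b :=
      Set.eq_of_subset_of_ncard_le hsub (by rw [Set.ncard_coe_finset, h3]) (Set.toFinite _)
    have h5 : g b ∈ MulAction.orbit K b := ⟨⟨g, hg⟩, rfl⟩
    rw [← h4] at h5
    exact h5

/-- The exactness of a chain. -/
def Exact (w N tw tm : Nat) : List Lv → Subgroup (Equiv.Perm (Fin N)) → Prop
  | [], K => ∀ g ∈ K, g = 1
  | l :: ls, K => ∃ hb : l.b < N, (∀ g ∈ K, dep w (ent tw tm l (g ⟨l.b, hb⟩ : Fin N)) ≠ 0) ∧
      Exact w N tw tm ls (K ⊓ MulAction.stabilizer (Equiv.Perm (Fin N)) (⟨l.b, hb⟩ : Fin N))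

/-- The lower bound of a chain and its exactness. -/
theorem chain_lower (ls : List Lv) : ∀ K : Subgroup (Equiv.Perm (Fin N)), chkChain w m N tw tm ls = true →
    genGroup w m N (hdG ls) ≤ K → ordC ls ≤ Nat.card K ∧ (ordC ls = Nat.card K → Exact w N tw tm ls K) := by
  induction ls with
  | nil =>
    intro K _ _
    refine ⟨Nat.card_pos, fun h g hg => ?_⟩
    have h1 : Nat.card K = 1 := h.symm
    have h2 : Subsingleton K := (Finite.card_le_one_iff_subsingleton (α := K)).mp h1.le
    have := Subsingleton.elim (⟨g, hg⟩ : K) 1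
    exact congrArg Subtype.val this
  | cons l ls ih =>
    intro K hc hle
    simp only [chkChain, Bool.and_eq_true] at hc
    obtain ⟨⟨hl, hn⟩, hc'⟩ := hc
    have hf := lvFacts hl
    have hb := hf.b_lt
    set b : Fin N := ⟨l.b, hb⟩ with hbdef
    set St := MulAction.stabilizer (Equiv.Perm (Fin N)) b with hSt
    -- the next group
    have hv' : (hdG ls).all (validB w m N) = true := by
      cases ls with
      | nil => rfl
      | cons l' ls' =>
        simp only [chkChain, Bool.and_eq_true] at hc'
        exact (lvFacts hc'.1.1).valid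
    have hle' : genGroup w m N (hdG ls) ≤ (K ⊓ St : Subgroup _) := by
      refine (Subgroup.closure_le _).mpr ?_
      rintro _ ⟨t, ht, rfl⟩
      have hm := nextCheck_mem hf.valid hv' hn t ht
      refine ⟨hle hm, ?_⟩
      have hfix := nextCheck_fix hn t ht
      have hvt : validB w m N t = true := by
        rw [List.all_eq_true] at hv'
        exact hv' t ht
      show permOf w m N t ∈ St
      rw [hSt, MulAction.mem_stabilizer_iff]
      apply Fin.ext
      show ((permOf w m N t b : Fin N) : Nat) = b
      rw [permOf_apply hvt]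
      exact hfix
    obtain ⟨ih1, ih2⟩ := ih _ hc' hle'
    -- the set of the tree
    let S : Finset (Fin N) := Finset.univ.filter fun x : Fin N => inT w tw tm l x = true
    have hScard : S.card = l.n := by
      rw [← hf.count, cnt_eq]
    have hS : ∀ x ∈ S, ∃ u ∈ K, u b = x := by
      intro x hx
      have hx' : inT w tw tm l x = true := (Finset.mem_filter.mp hx).2
      have hx2 : dep w (ent tw tm l x) ≠ 0 := by
        intro h0
        simp [inT, h0] at hx'
      obtain ⟨d, hd⟩ := Nat.exists_eq_succ_of_ne_zero hx2
      obtain ⟨u, hu, hub, -⟩ := tree_spec hf d x x.2 hd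
      exact ⟨u, hle hu, hub⟩
    obtain ⟨hc1, hc2⟩ := card_step b S hS
    rw [hScard] at hc1 hc2
    have hnpos : 0 < l.n := by
      rw [← hScard]
      refine Finset.card_pos.mpr ⟨b, Finset.mem_filter.mpr ⟨Finset.mem_univ _, ?_⟩⟩
      show inT w tw tm l l.b = true
      rw [inT, hf.root]
      rfl
    refine ⟨?_, fun heq => ?_⟩
    · show l.n * ordC ls ≤ _
      exact le_trans (Nat.mul_le_mul_left _ ih1) hc1
    · have heq' : l.n * ordC ls = Nat.card K := heq
      have h3 : Nat.card (K ⊓ St : Subgroup _) = ordC ls := by
        apply le_antisymm _ ih1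
        have : l.n * Nat.card (K ⊓ St : Subgroup _) ≤ l.n * ordC ls := by
          rw [heq']
          exact hc1
        exact Nat.le_of_mul_le_mul_left this hnpos
      have h4 := hc2 (by rw [h3, heq'])
      refine ⟨hb, fun g hg => ?_, ih2 h3.symm⟩
      have h5 : inT w tw tm l (g b : Fin N) = true := (Finset.mem_filter.mp (h4 g hg)).2
      intro h0
      have h0' : dep w (ent tw tm l (g b : Fin N)) = 0 := h0
      rw [inT, h0'] at h5
      exact absurd h5 (by decide)

/-- An element fixing the base of an exact chain is trivial. -/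
theorem rigid (ls : List Lv) : ∀ K : Subgroup (Equiv.Perm (Fin N)), Exact w N tw tm ls K →
    ∀ g ∈ K, (∀ l ∈ ls, ∀ hb : l.b < N, g ⟨l.b, hb⟩ = ⟨l.b, hb⟩) → g = 1 := by
  induction ls with
  | nil => intro K hE g hg _; exact hE g hg
  | cons l ls ih =>
    intro K hE g hg hfix
    obtain ⟨hb, -, hE'⟩ := hE
    refine ih _ hE' g ⟨hg, ?_⟩ (fun l' hl' => hfix l' (List.mem_cons_of_mem _ hl'))
    show g ∈ MulAction.stabilizer (Equiv.Perm (Fin N)) (⟨l.b, hb⟩ : Fin N)
    rw [MulAction.mem_stabilizer_iff]
    exact hfix l List.mem_cons_self hb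

/-- The representation of a permutation by functions on points. -/
def Rep (V : Equiv.Perm (Fin N)) (vf vi : Nat → Nat) : Prop :=
  ∀ i : Fin N, vf i = (V i : Nat) ∧ vi i = ((V⁻¹ : Equiv.Perm (Fin N)) i : Nat)

theorem iter_eq {X : Equiv.Perm (Fin N)} {x : Nat → Nat} (hx : ∀ i : Fin N, x i = (X i : Nat)) (k : Nat) (i : Fin N) :
    x^[k] i = ((X ^ k) i : Nat) := by
  induction k with
  | zero => simp
  | succ k ih => rw [Function.iterate_succ_apply', pow_succ', Equiv.Perm.mul_apply, ih, hx]

theorem comm_pow {c X X' : Equiv.Perm (Fin N)} (hc : ∀ a, c (X a) = X' (c a)) (k : Nat) (a : Fin N) :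
    c ((X ^ k) a) = (X' ^ k) (c a) := by
  induction k with
  | zero => simp
  | succ k ih => rw [pow_succ', pow_succ', Equiv.Perm.mul_apply, Equiv.Perm.mul_apply, hc, ih]

/-- The soundness of the search. -/
theorem search_sound {X X' c : Equiv.Perm (Fin N)} {x x' : Nat → Nat} (hx : ∀ i : Fin N, x i = (X i : Nat))
    (hx' : ∀ i : Fin N, x' i = (X' i : Nat)) (hc : ∀ a, c (X a) = X' (c a))
    {P : (Nat → Nat) → (Nat → Nat) → Bool} (lr : List (Lv × Rule)) :
    ∀ (K : Subgroup (Equiv.Perm (Fin N))) (pre : List Nat) (V : Equiv.Perm (Fin N)) (vf vi : Nat → Nat),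
      Exact w N tw tm (lr.map Prod.fst) K → chkChain w m N tw tm (lr.map Prod.fst) = true →
      genGroup w m N (hdG (lr.map Prod.fst)) ≤ K → rulesOK N x pre lr = true →
      (∀ k ∈ K, ∀ p ∈ pre, ∀ hp : p < N, k ⟨p, hp⟩ = ⟨p, hp⟩) → Rep V vf vi → V⁻¹ * c ∈ K →
      search w m N tw tm x' P lr vf vi = true →
      ∃ vf' vi', Rep c vf' vi' ∧ P vf' vi' = true := by
  induction lr with
  | nil =>
    intro K pre V vf vi hE _ _ _ _ hV hm hs
    have h1 : V⁻¹ * c = 1 := hE _ hm
    have h2 : c = V := (inv_mul_eq_one.mp h1).symm
    exact ⟨vf, vi, h2 ▸ hV, hs⟩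
  | cons a lr ih =>
    obtain ⟨l, r⟩ := a
    intro K pre V vf vi hE hC hle hR hK hV hm hs
    obtain ⟨hb, hEo, hE'⟩ := hE
    simp only [List.map_cons, chkChain, Bool.and_eq_true] at hC
    obtain ⟨⟨hl, hn⟩, hC'⟩ := hC
    have hf := lvFacts hl
    set b : Fin N := ⟨l.b, hb⟩ with hbdef
    set St := MulAction.stabilizer (Equiv.Perm (Fin N)) b with hSt
    have hv' : (hdG (lr.map Prod.fst)).all (validB w m N) = true := by
      cases hlr : lr.map Prod.fst with
      | nil => rfl
      | cons l' ls' =>
        rw [hlr] at hC'
        simp only [chkChain, Bool.and_eq_true] at hC'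
        exact (lvFacts hC'.1.1).valid
    have hle0 : genGroup w m N l.gens ≤ K := hle
    have hle' : genGroup w m N (hdG (lr.map Prod.fst)) ≤ (K ⊓ St : Subgroup _) := by
      refine (Subgroup.closure_le _).mpr ?_
      rintro _ ⟨t, ht, rfl⟩
      have hm' := nextCheck_mem hf.valid hv' hn t ht
      refine ⟨hle0 hm', ?_⟩
      have hfix := nextCheck_fix hn t ht
      have hvt : validB w m N t = true := by
        rw [List.all_eq_true] at hv'
        exact hv' t ht
      show permOf w m N t ∈ St
      rw [hSt, MulAction.mem_stabilizer_iff]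
      apply Fin.ext
      show ((permOf w m N t b : Fin N) : Nat) = b
      rw [permOf_apply hvt]
      exact hfix
    -- the element of the next level
    set h := V⁻¹ * c with hh
    have hK' : ∀ k ∈ (K ⊓ St : Subgroup _), ∀ p ∈ l.b :: pre, ∀ hp : p < N, k ⟨p, hp⟩ = ⟨p, hp⟩ := by
      rintro k ⟨hk1, hk2⟩ p hp hpN
      rcases List.mem_cons.mp hp with rfl | hp'
      · exact hk2
      · exact hK k hk1 p hp' hpN
    have hdep := hEo h hm
    set y : Fin N := h b with hy
    have hVy : V y = c b := by
      show V ((V⁻¹ * c) b) = c b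
      rw [Equiv.Perm.mul_apply]
      simp
    -- the recursive step, for a function equal to the value at `y`
    have step : ∀ (vf2 vi2 : Nat → Nat) (d : Nat), dep w (ent tw tm l y) = d + 1 →
        (∀ a, vf2 a = vf (fwdU w m tw tm l d y a)) → (∀ a, vi2 a = invU w m tw tm l d y (vi a)) →
        search w m N tw tm x' P lr vf2 vi2 = true → ∃ vf' vi', Rep c vf' vi' ∧ P vf' vi' = true := by
      intro vf2 vi2 d hd hf2 hi2 hs2
      obtain ⟨u, hu, hub, hfn⟩ := tree_spec hf d y y.2 hd
      refine ih (K ⊓ St) (l.b :: pre) (V * u) vf2 vi2 hE' hC' hle' ?_ hK' ?_ ?_ hs2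
      · cases r with
        | free k =>
          simp only [rulesOK, Bool.and_eq_true] at hR
          exact hR.2
        | forced e s =>
          simp only [rulesOK, Bool.and_eq_true] at hR
          exact hR.2
      · intro i
        constructor
        · rw [hf2, (hfn i).2, (hV _).1]
          rfl
        · rw [hi2, (hV i).2, (hfn _).1]
          simp [mul_inv_rev, Equiv.Perm.mul_apply]
      · have e1 : (V * u)⁻¹ * c = u⁻¹ * h := by
          rw [hh]; group
        rw [e1]
        refine ⟨K.mul_mem (K.inv_mem (hle0 hu)) hm, ?_⟩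
        show u⁻¹ * h ∈ St
        rw [hSt, MulAction.mem_stabilizer_iff]
        show (u⁻¹ * h) b = b
        rw [Equiv.Perm.mul_apply, Equiv.Perm.inv_eq_iff_eq, hub]
    obtain ⟨d, hd⟩ := Nat.exists_eq_succ_of_ne_zero hdep
    cases r with
    | free k =>
      simp only [rulesOK, Bool.and_eq_true, Bool.or_eq_true] at hR
      rw [search] at hs
      have hs1 : (bif Nat.beq (dep w (ent tw tm l y)) 0 then true
          else bif (!(Nat.beq k 0) && !(Nat.beq (x'^[k] (vf y)) (vf y))) then true
          else search w m N tw tm x' P lr (fun a => vf (fwdU w m tw tm l (Nat.pred (dep w (ent tw tm l y))) y a))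
            (fun a => invU w m tw tm l (Nat.pred (dep w (ent tw tm l y))) y (vi a))) = true :=
        (allB_iff _ _).mp hs y y.2
      rw [hd] at hs1
      have hfilter : (!(Nat.beq k 0) && !(Nat.beq (x'^[k] (vf y)) (vf y))) = false := by
        rcases hR.1 with h0 | h0
        · rw [h0]; rfl
        · have h1 : x^[k] (b : Nat) = (b : Nat) := Nat.eq_of_beq_eq_true h0
          rw [iter_eq hx] at h1
          have h2 : (X ^ k) b = b := Fin.ext h1
          have h3 : (X' ^ k) (c b) = c b := by
            rw [← comm_pow hc, h2]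
          have h4 : x'^[k] (vf y) = vf y := by
            rw [(hV y).1, hVy, iter_eq hx', h3]
          rw [h4, Nat.beq_refl]
          simp
      rw [hfilter] at hs1
      exact step _ _ d hd (fun _ => rfl) (fun _ => rfl) hs1
    | forced e s =>
      simp only [rulesOK, Bool.and_eq_true] at hR
      obtain ⟨⟨⟨h1, h2⟩, h3⟩, -⟩ := hR
      have hsN : s < N := by simpa [Nat.blt] using h2
      have hsp : s ∈ pre := List.elem_iff.mp h1
      have hb2 : x^[e] s = l.b := Nat.eq_of_beq_eq_true h3
      have e1 : (X ^ e) ⟨s, hsN⟩ = b := by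
        apply Fin.ext
        have := iter_eq hx e ⟨s, hsN⟩
        simp only at this
        rw [← this, hb2]
      have e2 : h ⟨s, hsN⟩ = ⟨s, hsN⟩ := hK h hm s hsp hsN
      have e3 : c ⟨s, hsN⟩ = V ⟨s, hsN⟩ := by
        have : V (h ⟨s, hsN⟩) = c ⟨s, hsN⟩ := by
          show V ((V⁻¹ * c) ⟨s, hsN⟩) = c ⟨s, hsN⟩
          rw [Equiv.Perm.mul_apply]
          simp
        rw [← this, e2]
      have key : vi (x'^[e] (vf s)) = (y : Nat) := by
        have a1 : vf s = (V ⟨s, hsN⟩ : Nat) := (hV ⟨s, hsN⟩).1
        have a2 : x'^[e] (V ⟨s, hsN⟩ : Nat) = ((X' ^ e) (V ⟨s, hsN⟩) : Nat) := iter_eq hx' e _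
        have a3 : (X' ^ e) (V ⟨s, hsN⟩) = c b := by
          rw [← e3, ← comm_pow hc, e1]
        rw [a1, a2, a3, (hV (c b)).2]
        show ((V⁻¹ * c) b : Fin N).1 = _ 
        rfl
      rw [search, key, hd] at hs
      exact step _ _ d hd (fun _ => rfl) (fun _ => rfl) hs

/-- The use of the search: every element of the group with `c * X = X' * c` satisfies `P`. -/
theorem search_main {X X' : Equiv.Perm (Fin N)} {x x' : Nat → Nat} (hx : ∀ i : Fin N, x i = (X i : Nat))
    (hx' : ∀ i : Fin N, x' i = (X' i : Nat)) {P : (Nat → Nat) → (Nat → Nat) → Bool} {lr : List (Lv × Rule)}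
    {K : Subgroup (Equiv.Perm (Fin N))} (hC : chkChain w m N tw tm (lr.map Prod.fst) = true)
    (hle : genGroup w m N (hdG (lr.map Prod.fst)) ≤ K) (hord : ordC (lr.map Prod.fst) = Nat.card K)
    (hR : rulesOK N x [] lr = true) (hs : search w m N tw tm x' P lr id id = true) :
    ∀ c ∈ K, (∀ a, c (X a) = X' (c a)) → ∃ vf vi, Rep c vf vi ∧ P vf vi = true := by
  intro c hc hcx
  have hE := (chain_lower _ K hC hle).2 hord
  refine search_sound hx hx' hcx lr K [] 1 id id hE hC hle hR (by simp) (fun i => ?_) ?_ hs
  · simp
  · simpa using hc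

/-- Sifting through a chain shows membership. -/
theorem siftC_sound (ls : List Lv) : ∀ (X : Equiv.Perm (Fin N)) (g : Nat → Nat),
    chkChain w m N tw tm ls = true → (∀ i : Fin N, g i = (X i : Nat)) → siftC w m N tw tm ls g = true →
    X ∈ genGroup w m N (hdG ls) := by
  induction ls with
  | nil =>
    intro X g _ hg hs
    have : X = 1 := by
      ext i
      have h1 := (allB_iff _ _).mp hs i i.2
      rw [Nat.beq_eq, hg] at h1
      simpa using h1
    rw [this]
    exact Subgroup.one_mem _
  | cons l ls ih =>
    intro X g hC hg hs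
    simp only [chkChain, Bool.and_eq_true] at hC
    obtain ⟨⟨hl, hn⟩, hC'⟩ := hC
    have hf := lvFacts hl
    have hb := hf.b_lt
    have hgb : g l.b = (X ⟨l.b, hb⟩ : Nat) := hg ⟨l.b, hb⟩
    rw [siftC] at hs
    cases hd : dep w (ent tw tm l (g l.b)) with
    | zero =>
      rw [hd] at hs
      change false = true at hs
      exact absurd hs (by decide)
    | succ d =>
      rw [hd] at hs
      have hlt : g l.b < N := by
        rw [hgb]
        exact Fin.is_lt _
      obtain ⟨u, hu, -, hfn⟩ := tree_spec hf d (g l.b) hlt hd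
      have hv' : (hdG ls).all (validB w m N) = true := by
        cases ls with
        | nil => rfl
        | cons l' ls' =>
          simp only [chkChain, Bool.and_eq_true] at hC'
          exact (lvFacts hC'.1.1).valid
      have hle : genGroup w m N (hdG ls) ≤ genGroup w m N l.gens := by
        refine (Subgroup.closure_le _).mpr ?_
        rintro _ ⟨t, ht, rfl⟩
        exact nextCheck_mem hf.valid hv' hn t ht
      have h1 := ih (u⁻¹ * X) _ hC' (fun i => ?_) hs
      · have : X = u * (u⁻¹ * X) := by group
        rw [this]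
        exact Subgroup.mul_mem _ hu (hle h1)
      · have h2 := (hfn (X i)).1
        rw [Equiv.Perm.mul_apply, ← h2, ← hg]
        rfl

end Theory

/-! ### The fast versions of the checks

The checks above, written for the evaluation by the kernel: values are forced before they are used, and the ranges
are cut in two, so that the depth of the recursion is small. -/

section Fast

theorem bB_eq (a b c : Bool) : bB(a, b, c) = bif a then b else c := by cases a <;> rfl

/-- All the `2 ^ d` numbers from `lo` satisfy `f`. -/
noncomputable def allDC (f : Nat → Bool) (d : Nat) : Nat → Bool :=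
  Nat.rec (motive := fun _ => Nat → Bool) f
    (fun d ih lo => bB(ih lo, frc (Nat.add lo (Nat.pow 2 d)) ih, false)) d

theorem allDC_iff (f : Nat → Bool) (d lo : Nat) :
    allDC f d lo = true ↔ ∀ i, lo ≤ i → i < lo + 2 ^ d → f i = true := by
  induction d generalizing lo with
  | zero =>
    constructor
    · intro h i h1 h2
      have : i = lo := by simp at h2; omega
      exact this ▸ h
    · intro h
      exact h lo le_rfl (by simp)
  | succ d ih =>
    have h0 : allDC f (d + 1) lo = bB(allDC f d lo, allDC f d (lo + 2 ^ d), false) := by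
      show bB(allDC f d lo, frc (Nat.add lo (Nat.pow 2 d)) (allDC f d), false) = _
      rw [frc_eq]
      rfl
    rw [h0, bB_eq]
    cases h1 : allDC f d lo with
    | true =>
      simp only [cond_true]
      rw [ih]
      have h2 := (ih lo).1 h1
      constructor
      · intro h3 i h4 h5
        by_cases h6 : i < lo + 2 ^ d
        · exact h2 i h4 h6
        · refine h3 i (by omega) ?_
          rw [pow_succ] at h5
          omega
      · intro h3 i h4 h5
        refine h3 i (by omega) ?_
        rw [pow_succ]
        omega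
    | false =>
      simp only [cond_false, Bool.false_eq_true, false_iff]
      intro h3
      have : allDC f d lo = true := (ih lo).2 (fun i h4 h5 => h3 i h4 (by rw [pow_succ]; omega))
      rw [h1] at this
      exact absurd this (by decide)

/-- All the numbers under `N` satisfy `f`, when `N ≤ 2 ^ d`. -/
noncomputable def allN (f : Nat → Bool) (N d : Nat) : Bool :=
  allDC (fun i => bB(Nat.ble (Nat.succ i) N, f i, true)) d 0

theorem allN_eq (f : Nat → Bool) {N d : Nat} (hd : N ≤ 2 ^ d) : allN f N d = allB f N := by
  rw [Bool.eq_iff_iff, allN, allDC_iff, allB_iff]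
  constructor
  · intro h i hi
    have := h i (Nat.zero_le _) (by omega)
    rw [bB_eq] at this
    have h2 : Nat.ble (Nat.succ i) N = true := Nat.ble_eq_true_of_le hi
    simpa [h2] using this
  · intro h i _ _
    rw [bB_eq]
    cases h2 : Nat.ble (Nat.succ i) N with
    | false => rfl
    | true => simpa using h i (Nat.le_of_ble_eq_true h2)

/-- The number of the `2 ^ d` numbers from `lo` satisfying `f`. -/
noncomputable def cntDC (f : Nat → Bool) (d : Nat) : Nat → Nat :=
  Nat.rec (motive := fun _ => Nat → Nat) (fun lo => Bool.rec (motive := fun _ => Nat) 0 1 (f lo))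
    (fun d ih lo => Nat.add (ih lo) (frc (Nat.add lo (Nat.pow 2 d)) ih)) d

theorem cntDC_eq (f : Nat → Bool) (d lo : Nat) :
    cntDC f d lo = (Finset.Ico lo (lo + 2 ^ d)).sum (fun i => bif f i then 1 else 0) := by
  induction d generalizing lo with
  | zero =>
    simp only [pow_zero, Nat.Ico_succ_singleton, Finset.sum_singleton]
    show Bool.rec (motive := fun _ => Nat) 0 1 (f lo) = _
    cases f lo <;> rfl
  | succ d ih =>
    have h0 : cntDC f (d + 1) lo = cntDC f d lo + cntDC f d (lo + 2 ^ d) := by
      show Nat.add (cntDC f d lo) (frc (Nat.add lo (Nat.pow 2 d)) (cntDC f d)) = _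
      rw [frc_eq]
      rfl
    rw [h0, ih, ih, Finset.sum_Ico_consecutive _ (Nat.le_add_right _ _) (Nat.le_add_right _ _)]
    congr 2
    rw [pow_succ]
    omega

theorem cnt_sum (f : Nat → Bool) (n : Nat) : cnt f n = (Finset.range n).sum (fun i => bif f i then 1 else 0) := by
  induction n with
  | zero => rfl
  | succ k ih =>
    rw [cnt, ih, Finset.sum_range_succ, add_comm]

/-- The number of the numbers under `N` satisfying `f`, when `N ≤ 2 ^ d`. -/
noncomputable def cntN (f : Nat → Bool) (N d : Nat) : Nat :=
  cntDC (fun i => bB(Nat.ble (Nat.succ i) N, f i, false)) d 0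

theorem cntN_eq (f : Nat → Bool) {N d : Nat} (hd : N ≤ 2 ^ d) : cntN f N d = cnt f N := by
  rw [cntN, cntDC_eq, cnt_sum, zero_add]
  have hsub : Finset.range N ⊆ Finset.Ico 0 (2 ^ d) := by
    intro i hi
    simp only [Finset.mem_range] at hi
    simp only [Finset.mem_Ico]
    omega
  rw [← Finset.sum_subset hsub]
  · apply Finset.sum_congr
    · rfl
    · intro i hi
      have h2 : Nat.ble (Nat.succ i) N = true := Nat.ble_eq_true_of_le (Finset.mem_range.1 hi)
      rw [bB_eq, h2]
      rfl
  · intro i _ hi
    have h2 : Nat.ble (Nat.succ i) N = false := by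
      cases h : Nat.ble (Nat.succ i) N with
      | false => rfl
      | true => exact absurd (Finset.mem_range.2 (Nat.le_of_ble_eq_true h)) hi
    rw [bB_eq, h2]
    rfl

/-- The iteration of a function. -/
noncomputable def iterF (x : Nat → Nat) (k : Nat) : Nat → Nat :=
  Nat.rec (motive := fun _ => Nat → Nat) (fun a => a) (fun _ ih a => frc (x a) ih) k

theorem iterF_eq (x : Nat → Nat) (k a : Nat) : iterF x k a = x^[k] a := by
  induction k generalizing a with
  | zero => rfl
  | succ k ih =>
    show frc (x a) (iterF x k) = _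
    rw [frc_eq, ih]
    rfl

variable (w m N tw tm d : Nat)

/-- The fast version of `validB`. -/
noncomputable def validF (e : Elt) : Bool :=
  allN (fun i => frc (get w m e.f i) fun a => frc (get w m e.g i) fun c =>
    bB(Nat.blt a N, bB(Nat.beq (get w m e.g a) i, bB(Nat.blt c N, Nat.beq (get w m e.f c) i, false), false), false)) N d

/-- The fast version of `invU`. -/
noncomputable def invUF (l : Lv) (k : Nat) : Nat → Nat → Nat :=
  Nat.rec (motive := fun _ => Nat → Nat → Nat) (fun _ y => y)
    (fun _ ih x y => frc (ent tw tm l x) fun e => frc (gI w m l (gnr w e) y) (ih (par m e))) k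

/-- The fast version of `fwdU`. -/
noncomputable def fwdUF (l : Lv) (k : Nat) : Nat → Nat → Nat :=
  Nat.rec (motive := fun _ => Nat → Nat → Nat) (fun _ y => y)
    (fun _ ih x y => frc (ent tw tm l x) fun e => frc (ih (par m e) y) (gF w m l (gnr w e))) k

theorem invUF_eq (l : Lv) (k x y : Nat) : invUF w m tw tm l k x y = invU w m tw tm l k x y := by
  induction k generalizing x y with
  | zero => rfl
  | succ k ih =>
    have h1 : invUF w m tw tm l (k + 1) x y = frc (ent tw tm l x) fun e =>
        frc (gI w m l (gnr w e) y) (invUF w m tw tm l k (par m e)) := rfl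
    rw [h1]
    simp only [frc_eq, ih]
    rfl

theorem fwdUF_eq (l : Lv) (k x y : Nat) : fwdUF w m tw tm l k x y = fwdU w m tw tm l k x y := by
  induction k generalizing x y with
  | zero => rfl
  | succ k ih =>
    have h1 : fwdUF w m tw tm l (k + 1) x y = frc (ent tw tm l x) fun e =>
        frc (fwdUF w m tw tm l k (par m e) y) (gF w m l (gnr w e)) := rfl
    rw [h1]
    simp only [frc_eq, ih]
    rfl

/-- The fast version of `treeOK`. -/
noncomputable def treeF (l : Lv) (x : Nat) : Bool :=
  frc (ent tw tm l x) fun e => frc (dep w e) fun k =>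
    bB(Nat.beq k 0, true, bB(Nat.beq k 1, Nat.beq x l.b,
      frc (par m e) fun p =>
        bB(Nat.blt p N, bB(Nat.beq (Nat.succ (dep w (ent tw tm l p))) k, Nat.beq (gF w m l (gnr w e) p) x, false), false)))

theorem treeF_eq (l : Lv) (x : Nat) : treeF w m N tw tm l x = treeOK w m N tw tm l x := by
  simp only [treeF, treeOK, frc_eq, bB_eq]
  cases Nat.beq (dep w (ent tw tm l x)) 0 <;> cases Nat.beq (dep w (ent tw tm l x)) 1 <;> try rfl
  all_goals
    cases Nat.blt (par m (ent tw tm l x)) N <;> cases Nat.beq (Nat.succ (dep w (ent tw tm l (par m (ent tw tm l x))))) (dep w (ent tw tm l x)) <;> rfl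

/-- The fast version of the evaluation of a word. -/
noncomputable def wordF (gens : List Elt) (u : List Nat) : Nat → Nat :=
  List.rec (motive := fun _ => Nat → Nat) (fun i => i) (fun c _ ih i => frc (ih i) (letterFn w m gens c)) u

theorem wordF_eq (gens : List Elt) (u : List Nat) (i : Nat) : wordF w m gens u i = wordFn w m gens u i := by
  induction u with
  | nil => rfl
  | cons c u ih =>
    have h1 : wordF w m gens (c :: u) i = frc (wordF w m gens u i) (letterFn w m gens c) := rfl
    rw [h1, frc_eq, ih]
    rfl

/-- The fast version of `nextCheck`. -/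
noncomputable def nextF (gens : List Elt) (b : Nat) : List Elt → List (List Nat) → Bool
  | [], _ => true
  | _ :: _, [] => false
  | t :: ts, u :: us =>
    bB(allN (fun i => Nat.beq (get w m t.f i) (wordF w m gens u i)) N d,
      bB(Nat.beq (get w m t.f b) b, nextF gens b ts us, false), false)

/-- The fast version of `chkLv`. -/
noncomputable def chkLvF (l : Lv) : Bool :=
  bB(Nat.blt l.b N, bB(List.rec (motive := fun _ => Bool) true (fun e _ ih => bB(validF w m N d e, ih, false)) l.gens,
    bB(Nat.beq (dep w (ent tw tm l l.b)) 1, bB(allN (treeF w m N tw tm l) N d,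
      Nat.beq (cntN (inT w tw tm l) N d) l.n, false), false), false), false)

/-- The fast version of `chkChain`. -/
noncomputable def chkChainF : List Lv → Bool
  | [] => true
  | l :: ls => bB(chkLvF w m N tw tm d l, bB(nextF w m N d l.gens l.b (hdG ls) (hdW ls), chkChainF ls, false), false)

/-- The fast version of `search`. -/
noncomputable def searchF (x' : Nat → Nat) (P : (Nat → Nat) → (Nat → Nat) → Bool) :
    List (Lv × Rule) → (Nat → Nat) → (Nat → Nat) → Bool
  | [], vf, vi => P vf vi
  | (l, .free k) :: ls, vf, vi =>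
    allN (fun y => frc (dep w (ent tw tm l y)) fun e =>
      bB(Nat.beq e 0, true, frc (vf y) fun q =>
        bB(bB(Nat.beq k 0, true, Nat.beq (iterF x' k q) q),
          frc (Nat.pred e) fun e' => searchF x' P ls (fun a => frc (fwdUF w m tw tm l e' y a) vf)
            (fun a => frc (vi a) (invUF w m tw tm l e' y)), true))) N d
  | (l, .forced f s) :: ls, vf, vi =>
    frc (vf s) fun q => frc (iterF x' f q) fun q' => frc (vi q') fun y => frc (dep w (ent tw tm l y)) fun e =>
      bB(Nat.beq e 0, true, frc (Nat.pred e) fun e' => searchF x' P ls (fun a => frc (fwdUF w m tw tm l e' y a) vf)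
        (fun a => frc (vi a) (invUF w m tw tm l e' y)))

/-- The fast version of `siftC`. -/
noncomputable def siftF : List Lv → (Nat → Nat) → Bool
  | [], g => allN (fun i => Nat.beq (g i) i) N d
  | l :: ls, g =>
    frc (g l.b) fun q => frc (dep w (ent tw tm l q)) fun e =>
      bB(Nat.beq e 0, false, frc (Nat.pred e) fun e' => siftF ls (fun a => frc (g a) (invUF w m tw tm l e' q)))

variable {w m N tw tm d}

theorem validF_eq (hd : N ≤ 2 ^ d) (e : Elt) : validF w m N d e = validB w m N e := by
  unfold validF validB
  rw [allN_eq _ hd]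
  congr 1
  funext i
  simp only [frc_eq, bB_eq]
  cases Nat.blt (get w m e.f i) N <;> cases Nat.beq (get w m e.g (get w m e.f i)) i <;> cases Nat.blt (get w m e.g i) N <;> rfl

theorem nextF_eq (hd : N ≤ 2 ^ d) (gens : List Elt) (b : Nat) (ts : List Elt) (us : List (List Nat)) :
    nextF w m N d gens b ts us = nextCheck w m N gens b ts us := by
  induction ts generalizing us with
  | nil => cases us <;> rfl
  | cons t ts ih =>
    cases us with
    | nil => rfl
    | cons u us =>
      rw [nextF, nextCheck, allN_eq _ hd, ih, wordCheck]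
      simp only [bB_eq, wordF_eq]
      cases allB (fun i => Nat.beq (get w m t.f i) (wordFn w m gens u i)) N <;>
        cases Nat.beq (get w m t.f b) b <;> rfl

theorem chkLvF_eq (hd : N ≤ 2 ^ d) (l : Lv) : chkLvF w m N tw tm d l = chkLv w m N tw tm l := by
  have h1 : (List.rec (motive := fun _ => Bool) true (fun e _ ih => bB(validF w m N d e, ih, false)) l.gens) =
      l.gens.all (validB w m N) := by
    induction l.gens with
    | nil => rfl
    | cons e es ih =>
      have h0 : (List.rec (motive := fun _ => Bool) true (fun e _ ih => bB(validF w m N d e, ih, false)) (e :: es)) =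
          bB(validF w m N d e, (List.rec (motive := fun _ => Bool) true (fun e _ ih => bB(validF w m N d e, ih, false)) es), false) := rfl
      rw [h0, List.all_cons, ← ih, ← validF_eq hd e, bB_eq]
      cases validF w m N d e <;> rfl
  have h2 : allN (treeF w m N tw tm l) N d = allB (treeOK w m N tw tm l) N := by
    rw [allN_eq _ hd]
    congr 1
    funext x
    exact treeF_eq w m N tw tm l x
  unfold chkLvF chkLv
  rw [h1, h2, cntN_eq _ hd]
  simp only [bB_eq]
  cases Nat.blt l.b N <;> cases l.gens.all (validB w m N) <;> cases Nat.beq (dep w (ent tw tm l l.b)) 1 <;>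
    cases allB (treeOK w m N tw tm l) N <;> rfl

theorem chkChainF_eq (hd : N ≤ 2 ^ d) (ls : List Lv) : chkChainF w m N tw tm d ls = chkChain w m N tw tm ls := by
  induction ls with
  | nil => rfl
  | cons l ls ih =>
    rw [chkChainF, chkChain, ih, chkLvF_eq hd, nextF_eq hd]
    simp only [bB_eq]
    cases chkLv w m N tw tm l <;> cases nextCheck w m N l.gens l.b (hdG ls) (hdW ls) <;> rfl

theorem searchF_eq (hd : N ≤ 2 ^ d) (x' : Nat → Nat) (P : (Nat → Nat) → (Nat → Nat) → Bool) (ls : List (Lv × Rule))
    (vf vi : Nat → Nat) : searchF w m N tw tm d x' P ls vf vi = search w m N tw tm x' P ls vf vi := by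
  induction ls generalizing vf vi with
  | nil => rfl
  | cons a ls ih =>
    obtain ⟨l, r⟩ := a
    cases r with
    | free k =>
      rw [searchF, search, allN_eq _ hd]
      congr 1
      funext y
      simp only [frc_eq, bB_eq, ih, fwdUF_eq, invUF_eq, iterF_eq]
      cases Nat.beq (dep w (ent tw tm l y)) 0 with
      | true => rfl
      | false =>
        simp only [cond_false]
        cases Nat.beq k 0 <;> cases Nat.beq (x'^[k] (vf y)) (vf y) <;> rfl
    | forced f s =>
      rw [searchF, search]
      simp only [frc_eq, bB_eq, ih, fwdUF_eq, invUF_eq, iterF_eq]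

theorem siftF_eq (hd : N ≤ 2 ^ d) (ls : List Lv) (g : Nat → Nat) :
    siftF w m N tw tm d ls g = siftC w m N tw tm ls g := by
  induction ls generalizing g with
  | nil => exact allN_eq _ hd
  | cons l ls ih =>
    rw [siftF, siftC]
    simp only [frc_eq, bB_eq, ih, invUF_eq]

end Fast

end Cfsg.Agent.Lib.Compute.OutChain
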