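import Mathlib
import Cfsg.Agent.Lib.Compute.OutChain

/-!
# Exact chains: checks for groups of larger degree

The versions of the checks of `OutChain` with tables read in two steps, so that the kernel does not keep big numbers
in its caches: a table is cut in chunks of 64 entries.  The functions have abstract table readers `L`, `Lt`.
-/

set_option autoImplicit false

namespace Cfsg.Agent.Lib.Compute.OutChainC

open Cfsg.Agent.Lib.Compute.PermCert Cfsg.Agent.Lib.Compute.OutChain
open Cfsg.Agent.Lib.Compute.ToddCoxeterCore (frc frc_eq)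

/-- `if b then t else e` on booleans, through the recursor. -/
local notation "bB(" b ", " t ", " e ")" => Bool.rec (motive := fun _ => Bool) e t b

/-- The entry `i` of a packed table, read in two steps: `W = 64 * w`, `M = 2 ^ W - 1`. -/
noncomputable def getC (w m W M p i : Nat) : Nat :=
  frc (Nat.shiftRight i 6) fun q => frc (Nat.land (Nat.shiftRight p (Nat.mul W q)) M) fun c =>
    Nat.land (Nat.shiftRight c (Nat.mul w (Nat.land i 63))) m

theorem getC_eq {w m W M : Nat} (hW : W = 64 * w) (hM : M = 2 ^ W - 1) (hm : m = 2 ^ w - 1) (p i : Nat) :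
    getC w m W M p i = get w m p i := by
  unfold getC PermCert.get
  simp only [frc_eq]
  subst hW hM hm
  apply Nat.eq_of_testBit_eq
  intro j
  have e1 : Nat.land (Nat.shiftRight (Nat.land (Nat.shiftRight p (Nat.mul (64 * w) (Nat.shiftRight i 6))) (2 ^ (64 * w) - 1))
      (Nat.mul w (Nat.land i 63))) (2 ^ w - 1) =
      ((p >>> ((64 * w) * (i >>> 6))) &&& (2 ^ (64 * w) - 1)) >>> (w * (i &&& 63)) &&& (2 ^ w - 1) := rfl
  have e2 : Nat.land (Nat.shiftRight p (Nat.mul w i)) (2 ^ w - 1) = (p >>> (w * i)) &&& (2 ^ w - 1) := rfl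
  rw [e1, e2]
  simp only [Nat.testBit_land, Nat.testBit_shiftRight, Nat.testBit_two_pow_sub_one]
  have hi : i = 64 * (i >>> 6) + (i &&& 63) := by
    have h1 : i >>> 6 = i / 64 := by
      rw [Nat.shiftRight_eq_div_pow]
    have h2 : i &&& 63 = i % 64 := by
      exact Nat.and_two_pow_sub_one_eq_mod i 6
    rw [h1, h2]
    omega
  have hr : i &&& 63 < 64 := by
    have h2 : i &&& 63 = i % 64 := Nat.and_two_pow_sub_one_eq_mod i 6
    rw [h2]
    exact Nat.mod_lt _ (by norm_num)
  generalize i &&& 63 = r at hi hr
  generalize i >>> 6 = q at hi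
  subst hi
  by_cases hj : j < w
  · have e3 : w * r + j < 64 * w := by
      have : w * r + w ≤ 64 * w := by nlinarith
      omega
    have e4 : 64 * w * q + (w * r + j) = w * (64 * q + r) + j := by ring
    simp [hj, e3, e4]
  · simp [hj]

section Fast

variable (L Lt : Nat → Nat → Nat) (w m N d : Nat)

/-- A generator of a level on points. -/
def gFL (l : Lv) (j y : Nat) : Nat :=
  match nth l.gens j with
  | none => y
  | some g => L g.f y

/-- The inverse of a generator of a level on points. -/
def gIL (l : Lv) (j y : Nat) : Nat :=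
  match nth l.gens j with
  | none => y
  | some g => L g.g y

/-- A letter of a word. -/
def letterL (gens : List Elt) (c i : Nat) : Nat :=
  match nth gens (Nat.div c 2) with
  | none => i
  | some e => Bool.rec (motive := fun _ => Nat) (L e.g i) (L e.f i) (Nat.beq (Nat.mod c 2) 0)

/-- The fast version of `validB`. -/
noncomputable def validL (e : Elt) : Bool :=
  allN (fun i => frc (L e.f i) fun a => frc (L e.g i) fun c =>
    bB(Nat.blt a N, bB(Nat.beq (L e.g a) i, bB(Nat.blt c N, Nat.beq (L e.f c) i, false), false), false)) N d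

/-- The fast version of `invU`. -/
noncomputable def invUL (l : Lv) (k : Nat) : Nat → Nat → Nat :=
  Nat.rec (motive := fun _ => Nat → Nat → Nat) (fun _ y => y)
    (fun _ ih x y => frc (Lt l.tree x) fun e => frc (gIL L l (gnr w e) y) (ih (par m e))) k

/-- The fast version of `fwdU`. -/
noncomputable def fwdUL (l : Lv) (k : Nat) : Nat → Nat → Nat :=
  Nat.rec (motive := fun _ => Nat → Nat → Nat) (fun _ y => y)
    (fun _ ih x y => frc (Lt l.tree x) fun e => frc (ih (par m e) y) (gFL L l (gnr w e))) k

/-- The fast version of `treeOK`. -/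
noncomputable def treeL (l : Lv) (x : Nat) : Bool :=
  frc (Lt l.tree x) fun e => frc (dep w e) fun k =>
    bB(Nat.beq k 0, true, bB(Nat.beq k 1, Nat.beq x l.b,
      frc (par m e) fun p =>
        bB(Nat.blt p N, bB(Nat.beq (Nat.succ (dep w (Lt l.tree p))) k, Nat.beq (gFL L l (gnr w e) p) x, false), false)))

/-- The fast version of the evaluation of a word. -/
noncomputable def wordL (gens : List Elt) (u : List Nat) : Nat → Nat :=
  List.rec (motive := fun _ => Nat → Nat) (fun i => i) (fun c _ ih i => frc (ih i) (letterL L gens c)) u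

/-- The fast version of `nextCheck`. -/
noncomputable def nextL (gens : List Elt) (b : Nat) : List Elt → List (List Nat) → Bool
  | [], _ => true
  | _ :: _, [] => false
  | t :: ts, u :: us =>
    bB(allN (fun i => Nat.beq (L t.f i) (wordL L gens u i)) N d,
      bB(Nat.beq (L t.f b) b, nextL gens b ts us, false), false)

/-- The fast version of `chkLv`. -/
noncomputable def chkLvL (l : Lv) : Bool :=
  bB(Nat.blt l.b N, bB(List.rec (motive := fun _ => Bool) true (fun e _ ih => bB(validL L N d e, ih, false)) l.gens,
    bB(Nat.beq (dep w (Lt l.tree l.b)) 1, bB(allN (treeL L Lt w m N l) N d,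
      Nat.beq (cntN (fun x => !(Nat.beq (dep w (Lt l.tree x)) 0)) N d) l.n, false), false), false), false)

/-- The fast version of `chkChain`. -/
noncomputable def chkChainL : List Lv → Bool
  | [] => true
  | l :: ls => bB(chkLvL L Lt w m N d l, bB(nextL L N d l.gens l.b (hdG ls) (hdW ls), chkChainL ls, false), false)

/-- The fast version of `search`. -/
noncomputable def searchL (x' : Nat → Nat) (P : (Nat → Nat) → (Nat → Nat) → Bool) :
    List (Lv × Rule) → (Nat → Nat) → (Nat → Nat) → Bool
  | [], vf, vi => P vf vi
  | (l, .free k) :: ls, vf, vi =>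
    allN (fun y => frc (dep w (Lt l.tree y)) fun e =>
      bB(Nat.beq e 0, true, frc (vf y) fun q =>
        bB(bB(Nat.beq k 0, true, Nat.beq (iterF x' k q) q),
          frc (Nat.pred e) fun e' => searchL x' P ls (fun a => frc (fwdUL L Lt w m l e' y a) vf)
            (fun a => frc (vi a) (invUL L Lt w m l e' y)), true))) N d
  | (l, .forced f s) :: ls, vf, vi =>
    frc (vf s) fun q => frc (iterF x' f q) fun q' => frc (vi q') fun y => frc (dep w (Lt l.tree y)) fun e =>
      bB(Nat.beq e 0, true, frc (Nat.pred e) fun e' => searchL x' P ls (fun a => frc (fwdUL L Lt w m l e' y a) vf)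
        (fun a => frc (vi a) (invUL L Lt w m l e' y)))

/-- The fast version of `siftC`. -/
noncomputable def siftL : List Lv → (Nat → Nat) → Bool
  | [], g => allN (fun i => Nat.beq (g i) i) N d
  | l :: ls, g =>
    frc (g l.b) fun q => frc (dep w (Lt l.tree q)) fun e =>
      bB(Nat.beq e 0, false, frc (Nat.pred e) fun e' => siftL ls (fun a => frc (g a) (invUL L Lt w m l e' q)))

end Fast

section Eq

variable {L Lt : Nat → Nat → Nat} {w m N tw tm d : Nat}

/-- The readers of the tables. -/
structure Readers (L Lt : Nat → Nat → Nat) (w m tw tm : Nat) : Prop where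
  hL : ∀ p i, L p i = get w m p i
  hLt : ∀ p i, Lt p i = get tw tm p i

theorem Readers.mk' {w m tw tm W M Wt Mt : Nat} (hW : W = 64 * w) (hM : M = 2 ^ W - 1) (hm : m = 2 ^ w - 1)
    (hWt : Wt = 64 * tw) (hMt : Mt = 2 ^ Wt - 1) (htm : tm = 2 ^ tw - 1) :
    Readers (getC w m W M) (getC tw tm Wt Mt) w m tw tm :=
  ⟨fun p i => getC_eq hW hM hm p i, fun p i => getC_eq hWt hMt htm p i⟩

theorem bB_eq' (a b c : Bool) : bB(a, b, c) = bif a then b else c := by cases a <;> rfl

theorem gFL_eq (hL : ∀ p i, L p i = get w m p i) (l : Lv) (j y : Nat) : gFL L l j y = gF w m l j y := by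
  unfold gFL gF
  cases nth l.gens j with
  | none => rfl
  | some g => exact hL _ _

theorem gIL_eq (hL : ∀ p i, L p i = get w m p i) (l : Lv) (j y : Nat) : gIL L l j y = gI w m l j y := by
  unfold gIL gI
  cases nth l.gens j with
  | none => rfl
  | some g => exact hL _ _

theorem letterL_eq (hL : ∀ p i, L p i = get w m p i) (gens : List Elt) (c i : Nat) :
    letterL L gens c i = letterFn w m gens c i := by
  unfold letterL letterFn
  cases nth gens (Nat.div c 2) with
  | none => rfl
  | some e =>
    cases Nat.beq (Nat.mod c 2) 0 with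
    | false => exact hL _ _
    | true => exact hL _ _

theorem wordL_eq (hL : ∀ p i, L p i = get w m p i) (gens : List Elt) (u : List Nat) (i : Nat) :
    wordL L gens u i = wordFn w m gens u i := by
  induction u with
  | nil => rfl
  | cons c u ih =>
    have h1 : wordL L gens (c :: u) i = frc (wordL L gens u i) (letterL L gens c) := rfl
    rw [h1, frc_eq, ih, letterL_eq hL]
    rfl

theorem validL_eq (hL : ∀ p i, L p i = get w m p i) (hd : N ≤ 2 ^ d) (e : Elt) : validL L N d e = validB w m N e := by
  unfold validL validB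
  rw [allN_eq _ hd]
  congr 1
  funext i
  simp only [frc_eq, bB_eq', hL]
  cases Nat.blt (get w m e.f i) N <;> cases Nat.beq (get w m e.g (get w m e.f i)) i <;>
    cases Nat.blt (get w m e.g i) N <;> rfl

theorem invUL_eq (hr : Readers L Lt w m tw tm) (l : Lv) (k x y : Nat) :
    invUL L Lt w m l k x y = invU w m tw tm l k x y := by
  induction k generalizing x y with
  | zero => rfl
  | succ k ih =>
    have h1 : invUL L Lt w m l (k + 1) x y = frc (Lt l.tree x) fun e =>
        frc (gIL L l (gnr w e) y) (invUL L Lt w m l k (par m e)) := rfl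
    rw [h1]
    simp only [frc_eq, ih, hr.hLt, gIL_eq hr.hL]
    rfl

theorem fwdUL_eq (hr : Readers L Lt w m tw tm) (l : Lv) (k x y : Nat) :
    fwdUL L Lt w m l k x y = fwdU w m tw tm l k x y := by
  induction k generalizing x y with
  | zero => rfl
  | succ k ih =>
    have h1 : fwdUL L Lt w m l (k + 1) x y = frc (Lt l.tree x) fun e =>
        frc (fwdUL L Lt w m l k (par m e) y) (gFL L l (gnr w e)) := rfl
    rw [h1]
    simp only [frc_eq, ih, hr.hLt, gFL_eq hr.hL]
    rfl

theorem treeL_eq (hr : Readers L Lt w m tw tm) (l : Lv) (x : Nat) :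
    treeL L Lt w m N l x = treeOK w m N tw tm l x := by
  simp only [treeL, treeOK, frc_eq, bB_eq', hr.hLt, gFL_eq hr.hL, ent]
  cases Nat.beq (dep w (get tw tm l.tree x)) 0 <;> cases Nat.beq (dep w (get tw tm l.tree x)) 1 <;> try rfl
  all_goals
    cases Nat.blt (par m (get tw tm l.tree x)) N <;>
      cases Nat.beq (Nat.succ (dep w (get tw tm l.tree (par m (get tw tm l.tree x))))) (dep w (get tw tm l.tree x)) <;> rfl

theorem nextL_eq (hL : ∀ p i, L p i = get w m p i) (hd : N ≤ 2 ^ d) (gens : List Elt) (b : Nat) (ts : List Elt)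
    (us : List (List Nat)) : nextL L N d gens b ts us = nextCheck w m N gens b ts us := by
  induction ts generalizing us with
  | nil => cases us <;> rfl
  | cons t ts ih =>
    cases us with
    | nil => rfl
    | cons u us =>
      rw [nextL, nextCheck, allN_eq _ hd, ih, wordCheck]
      simp only [bB_eq', wordL_eq hL, hL]
      cases allB (fun i => Nat.beq (get w m t.f i) (wordFn w m gens u i)) N <;>
        cases Nat.beq (get w m t.f b) b <;> rfl

theorem chkLvL_eq (hr : Readers L Lt w m tw tm) (hd : N ≤ 2 ^ d) (l : Lv) :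
    chkLvL L Lt w m N d l = chkLv w m N tw tm l := by
  have h1 : (List.rec (motive := fun _ => Bool) true (fun e _ ih => bB(validL L N d e, ih, false)) l.gens) =
      l.gens.all (validB w m N) := by
    induction l.gens with
    | nil => rfl
    | cons e es ih =>
      have h0 : (List.rec (motive := fun _ => Bool) true (fun e _ ih => bB(validL L N d e, ih, false)) (e :: es)) =
          bB(validL L N d e, (List.rec (motive := fun _ => Bool) true (fun e _ ih => bB(validL L N d e, ih, false)) es), false) := rfl
      rw [h0, List.all_cons, ← ih, ← validL_eq hr.hL hd e, bB_eq']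
      cases validL L N d e <;> rfl
  have h2 : allN (treeL L Lt w m N l) N d = allB (treeOK w m N tw tm l) N := by
    rw [allN_eq _ hd]
    congr 1
    funext x
    exact treeL_eq hr l x
  have h3 : cntN (fun x => !(Nat.beq (dep w (Lt l.tree x)) 0)) N d = cnt (inT w tw tm l) N := by
    rw [cntN_eq _ hd]
    congr 1
    funext x
    simp only [inT, ent, hr.hLt]
  unfold chkLvL chkLv
  rw [h1, h2, h3]
  simp only [bB_eq', ent, hr.hLt]
  cases Nat.blt l.b N <;> cases l.gens.all (validB w m N) <;> cases Nat.beq (dep w (get tw tm l.tree l.b)) 1 <;>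
    cases allB (treeOK w m N tw tm l) N <;> rfl

theorem chkChainL_eq (hr : Readers L Lt w m tw tm) (hd : N ≤ 2 ^ d) (ls : List Lv) :
    chkChainL L Lt w m N d ls = chkChain w m N tw tm ls := by
  induction ls with
  | nil => rfl
  | cons l ls ih =>
    rw [chkChainL, chkChain, ih, chkLvL_eq hr hd, nextL_eq hr.hL hd]
    simp only [bB_eq']
    cases chkLv w m N tw tm l <;> cases nextCheck w m N l.gens l.b (hdG ls) (hdW ls) <;> rfl

theorem searchL_eq (hr : Readers L Lt w m tw tm) (hd : N ≤ 2 ^ d) (x' : Nat → Nat)
    (P : (Nat → Nat) → (Nat → Nat) → Bool) (ls : List (Lv × Rule)) (vf vi : Nat → Nat) :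
    searchL L Lt w m N d x' P ls vf vi = search w m N tw tm x' P ls vf vi := by
  induction ls generalizing vf vi with
  | nil => rfl
  | cons a ls ih =>
    obtain ⟨l, r⟩ := a
    cases r with
    | free k =>
      rw [searchL, search, allN_eq _ hd]
      congr 1
      funext y
      simp only [frc_eq, bB_eq', ih, fwdUL_eq hr, invUL_eq hr, iterF_eq, hr.hLt, ent]
      cases Nat.beq (dep w (get tw tm l.tree y)) 0 with
      | true => rfl
      | false =>
        simp only [cond_false]
        cases Nat.beq k 0 <;> cases Nat.beq (x'^[k] (vf y)) (vf y) <;> rfl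
    | forced f s =>
      rw [searchL, search]
      simp only [frc_eq, bB_eq', ih, fwdUL_eq hr, invUL_eq hr, iterF_eq, hr.hLt, ent]

theorem siftL_eq (hr : Readers L Lt w m tw tm) (hd : N ≤ 2 ^ d) (ls : List Lv) (g : Nat → Nat) :
    siftL L Lt w m N d ls g = siftC w m N tw tm ls g := by
  induction ls generalizing g with
  | nil => exact allN_eq _ hd
  | cons l ls ih =>
    rw [siftL, siftC]
    simp only [frc_eq, bB_eq', ih, invUL_eq hr, hr.hLt, ent]

end Eq

end Cfsg.Agent.Lib.Compute.OutChainC
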