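import Mathlib
import Cfsg.Agent.Lib.Compute.OutChain

/-!
# Checks on the numbers below a bound, cut in chunks

Each chunk can be checked by the kernel in a declaration of its own, which limits the size of the caches of the kernel.
-/

set_option autoImplicit false

namespace Cfsg.Agent.Lib.Compute.OutChunk

open Cfsg.Agent.Lib.Compute.PermCert Cfsg.Agent.Lib.Compute.OutChain

/-- The check of a predicate on the numbers below `N` in the interval of length `2 ^ e` from `lo`. -/
noncomputable def chunkOK (f : Nat → Bool) (N e lo : Nat) : Bool :=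
  allDC (fun i => Bool.rec (motive := fun _ => Bool) true (f i) (Nat.ble (Nat.succ i) N)) e lo

/-- The chunks give the whole check. -/
theorem allN_of_chunks {f : Nat → Bool} {N d e c : Nat} (hd : N ≤ 2 ^ d) (hN : N ≤ c * 2 ^ e)
    (h : ∀ j, j < c → chunkOK f N e (j * 2 ^ e) = true) : allN f N d = true := by
  rw [allN_eq f hd, allB_iff]
  intro i hi
  have hp : 0 < 2 ^ e := by positivity
  have hj : i / 2 ^ e < c := by
    apply Nat.div_lt_of_lt_mul
    rw [mul_comm]
    omega
  have h1 := h _ hj
  unfold chunkOK at h1
  rw [allDC_iff] at h1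
  have h2 := h1 i (Nat.div_mul_le_self i _) (by
    have h3 := Nat.div_add_mod i (2 ^ e)
    have h4 := Nat.mod_lt i hp
    rw [mul_comm] at h3
    omega)
  have h3 : Nat.ble (Nat.succ i) N = true := Nat.ble_eq_true_of_le hi
  rw [h3] at h2
  exact h2

end Cfsg.Agent.Lib.Compute.OutChunk
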