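import Mathlib
import Cfsg.Agent.Lib.Compute.OutCert

/-!
# Outer automorphism groups of concrete groups: further steps

Complements to `OutCert`: the case where the twisting element centralises the normalised data (so that the final
step gives two possibilities), the description of the elements acting on `π` like `ρ` from the centraliser of `π`,
and the invariance of `Out` under isomorphisms.
-/

set_option autoImplicit false

namespace Cfsg.Agent.Lib.Compute.PermOut

open Cfsg Cfsg.Agent.Lib.Compute.OutCert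

variable {G : Type*} [Group G]

section Basic

variable {H : Subgroup G} {F : G → G}

theorem pHom_map_inv (hF : PHom H F) {x : G} (hx : x ∈ H) : F x⁻¹ = (F x)⁻¹ := by
  have h1 : F x⁻¹ * F x = 1 := by
    rw [← hF.mul _ (H.inv_mem hx) _ hx, inv_mul_cancel, hF.map_one]
  exact eq_inv_of_mul_eq_one_left h1

theorem pHom_surj [Finite H] (hF : PHom H F) {y : G} (hy : y ∈ H) : ∃ x ∈ H, F x = y := by
  let f : H → H := fun x => ⟨F x, hF.mem x x.2⟩
  have hinj : Function.Injective f := by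
    intro a b hab
    have h1 : F a = F b := congrArg Subtype.val hab
    apply Subtype.ext
    have h2 : F ((a : G) * (b : G)⁻¹) = 1 := by
      rw [hF.mul _ a.2 _ (H.inv_mem b.2), pHom_map_inv hF b.2, h1, mul_inv_cancel]
    have h3 := hF.inj _ (H.mul_mem a.2 (H.inv_mem b.2)) h2
    exact mul_inv_eq_one.mp h3
  obtain ⟨x, hx⟩ := (Finite.injective_iff_surjective.mp hinj) ⟨y, hy⟩
  exact ⟨x, x.2, congrArg Subtype.val hx⟩

end Basic

section Steps

variable {H : Subgroup G} {F : G → G} {π ρ τ : G} {p r : ℕ}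

/-- Sylow's theorem when `ρ` induces a generator of the automorphism group of `⟨π⟩`. -/
theorem step_sylow_one [Finite H] [Fact p.Prime] (hF : PHom H F) (hπ : π ∈ H) (hρ : ρ ∈ H)
    (hp2 : ¬ p ^ 2 ∣ Nat.card H) (hπp : π ^ p = 1) (hπ1 : π ≠ 1) (hρπ : ρ * π = π ^ r * ρ)
    (hexp : ∀ k, ¬ p ∣ k → ∃ j, (k * r ^ j) % p = 1) :
    ∃ h ∈ H, h * F π * h⁻¹ = π := by
  have hp : p.Prime := Fact.out
  let a : H := ⟨π, hπ⟩
  let x : H := ⟨F π, hF.mem π hπ⟩
  have hapow : a ^ p = 1 := Subtype.ext hπp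
  have ha1 : a ≠ 1 := fun h => hπ1 (congrArg Subtype.val h)
  have hxpow : x ^ p = 1 := by
    apply Subtype.ext
    show F π ^ p = 1
    rw [← hF.map_pow hπ, hπp, hF.map_one]
  have hx1 : x ≠ 1 := fun h => hπ1 (hF.inj π hπ (congrArg Subtype.val h))
  have hoa : orderOf a = p := orderOf_eq_prime hapow ha1
  have hox : orderOf x = p := orderOf_eq_prime hxpow hx1
  obtain ⟨g, k, hgk⟩ := exists_conj_eq_pow hp2 hoa hox
  have hgk' : (g : G) * F π * (g : G)⁻¹ = π ^ k := congrArg Subtype.val hgk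
  have hk : ¬ p ∣ k := by
    rintro ⟨t, rfl⟩
    apply hx1
    have h1 : a ^ (p * t) = 1 := by rw [pow_mul, hapow, one_pow]
    rw [h1] at hgk
    have : x = g⁻¹ * (g * x * g⁻¹) * g := by group
    rw [this, hgk]
    group
  obtain ⟨j, hj⟩ := hexp k hk
  refine ⟨ρ ^ j * g, H.mul_mem (H.pow_mem hρ j) g.2, ?_⟩
  have h2 : ρ ^ j * π ^ k * (ρ ^ j)⁻¹ = π := by
    rw [rho_pow_conj hρπ j k, pow_eq_pow_mod_of hπp, hj, pow_one]
  calc ρ ^ j * (g : G) * F π * (ρ ^ j * (g : G))⁻¹ = ρ ^ j * ((g : G) * F π * (g : G)⁻¹) * (ρ ^ j)⁻¹ := by group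
    _ = π := by rw [hgk', h2]

/-- The version of `inner_or_twist` for `τ` which centralises `π` and `ρ`: the automorphisms fixing `π` and `ρ` are
the identity and (on `H`) the conjugation by `τ`. -/
theorem inner_or_twist_fix [Finite H] [Fact p.Prime] (hτH : ∀ x ∈ H, τ * x * τ⁻¹ ∈ H)
    (hπ : π ∈ H) (hρ : ρ ∈ H) (hp2 : ¬ p ^ 2 ∣ Nat.card H)
    (hπp : π ^ p = 1) (hπ1 : π ≠ 1) (hρπ : ρ * π = π ^ r * ρ)
    (hexp : ∀ k, ¬ p ∣ k → ∃ j, (k * r ^ j) % p = 1)
    (hconj : ∀ x ∈ H, x * π = π ^ r * x → ∃ c : ℕ, x = π ^ c * ρ * (π ^ c)⁻¹)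
    (hfin : ∀ F', PHom H F' → F' π = π → F' ρ = ρ →
      (∀ x ∈ H, F' x = x) ∨ (∀ x ∈ H, τ * F' x * τ⁻¹ = x))
    (hF : PHom H F) : IsInnerF H F ∨ IsInnerF H (conjF τ F) := by
  obtain ⟨h1, hh1, h1F⟩ := step_sylow_one hF hπ hρ hp2 hπp hπ1 hρπ hexp
  have hF1 := hF.conj (conj_mem_of_mem hh1)
  obtain ⟨h2, hh2, h2π, h2ρ⟩ := step_rho (e := 1) hF1 hπ hρ hπp hρπ hconj (Or.inl rfl)
    (by rw [pow_one, conjF_apply]; exact h1F)
  have hF2 := hF1.conj (conj_mem_of_mem hh2)
  rcases hfin _ hF2 (by simpa using h2π) h2ρ with h | h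
  · left
    refine IsInnerF.of_conj hh1 (IsInnerF.of_conj hh2 ⟨1, H.one_mem, fun x hx => ?_⟩)
    simpa using h x hx
  · right
    refine ⟨τ * (h2 * h1) * τ⁻¹, hτH _ (H.mul_mem hh2 hh1), fun x hx => ?_⟩
    have := h x hx
    simp only [conjF_apply] at this
    calc τ * (h2 * h1) * τ⁻¹ * conjF τ F x * (τ * (h2 * h1) * τ⁻¹)⁻¹
        = τ * (h2 * (h1 * F x * h1⁻¹) * h2⁻¹) * τ⁻¹ := by
          simp only [conjF_apply]
          group
      _ = x := this

end Steps

section Centraliser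

variable {H : Subgroup G} {π ρ : G} {p r : ℕ}

/-- In a group without elements of order `p ℓ` with `ℓ ≠ p` prime and with cyclic Sylow `p`-subgroups of order `p`,
the centraliser of an element of order `p` is the group generated by it. -/
theorem centraliser_eq_zpowers [Finite H] [Fact p.Prime] (hπ : π ∈ H) (hord : orderOf π = p)
    (hp2 : ¬ p ^ 2 ∣ Nat.card H)
    (hspec : ∀ x ∈ H, ∀ l : ℕ, l.Prime → l ≠ p → orderOf x ≠ p * l) :
    ∀ x ∈ H, x * π = π * x → x ∈ Subgroup.zpowers π := by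
  classical
  have hp : p.Prime := Fact.out
  intro x hx hcomm
  have hpos : 0 < orderOf x := by
    rw [← Subgroup.orderOf_mk x hx]
    exact orderOf_pos _
  -- the order of `x` is a power of `p`
  have hpow : ∀ l : ℕ, l.Prime → l ∣ orderOf x → l = p := by
    intro l hl hd
    by_contra hne
    have hx' : x ^ (orderOf x / l) ∈ H := H.pow_mem hx _
    have ho : orderOf (x ^ (orderOf x / l)) = l := by
      rw [orderOf_pow' _ (by
        have : 0 < orderOf x / l := Nat.div_pos (Nat.le_of_dvd hpos hd) hl.pos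
        exact this.ne'), Nat.gcd_eq_right (Nat.div_dvd_of_dvd hd)]
      exact Nat.div_div_self hd hpos.ne'
    have hc : Commute (x ^ (orderOf x / l)) π := (show Commute x π from hcomm).pow_left _
    have hco : Nat.Coprime (orderOf (x ^ (orderOf x / l))) (orderOf π) := by
      rw [ho, hord]
      exact (Nat.coprime_primes hl hp).2 hne
    have h2 := hc.orderOf_mul_eq_mul_orderOf_of_coprime hco
    rw [ho, hord, mul_comm] at h2
    exact hspec _ (H.mul_mem hx' hπ) l hl hne h2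
  have hpg : ∃ n, orderOf x = p ^ n :=
    ⟨_, Nat.eq_prime_pow_of_unique_prime_dvd hpos.ne' (fun {d} hd hd2 => hpow d hd hd2)⟩
  -- now use Sylow's theorem in `H`
  obtain ⟨n, hn⟩ := hpg
  let a : H := ⟨π, hπ⟩
  let b : H := ⟨x, hx⟩
  have hoa : orderOf a = p := by
    rw [← hord]
    exact (Subgroup.orderOf_mk π hπ)
  have hob : orderOf b = p ^ n := by
    rw [← hn]
    exact (Subgroup.orderOf_mk x hx)
  have hne : Nat.card H ≠ 0 := Nat.card_pos.ne'
  have hdvd : p ∣ Nat.card H := hoa ▸ orderOf_dvd_natCard a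
  have hfac : (Nat.card H).factorization p = 1 := by
    have h1 : 1 ≤ (Nat.card H).factorization p := (hp.dvd_iff_one_le_factorization hne).1 hdvd
    have h2 : (Nat.card H).factorization p < 2 := by
      by_contra hcon
      exact hp2 ((hp.pow_dvd_iff_le_factorization hne).2 (by omega))
    omega
  have hca : Nat.card (Subgroup.zpowers a) = p ^ (Nat.card H).factorization p := by
    rw [hfac, pow_one, Nat.card_zpowers, hoa]
  let S : Sylow p H := Sylow.ofCard _ hca
  have hSc : (S : Subgroup H) = Subgroup.zpowers a := rfl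
  have hbP : IsPGroup p (Subgroup.zpowers b) := by
    rw [IsPGroup.iff_card]
    exact ⟨n, by rw [Nat.card_zpowers, hob]⟩
  have hmem : b ∈ (Subgroup.zpowers b) ⊓ Subgroup.normalizer (S : Set H) := by
    refine ⟨Subgroup.mem_zpowers b, ?_⟩
    show b ∈ Subgroup.normalizer (S : Set H)
    rw [Subgroup.mem_set_normalizer_iff]
    intro h
    have hcomm' : Commute b a := Subtype.ext hcomm
    show h ∈ Subgroup.zpowers a ↔ b * h * b⁻¹ ∈ Subgroup.zpowers a
    constructor
    · rintro ⟨k, rfl⟩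
      refine ⟨k, ?_⟩
      simp only
      rw [(hcomm'.zpow_right k).eq]
      group
    · rintro ⟨k, hk⟩
      simp only at hk
      refine ⟨k, ?_⟩
      have hcc : Commute b (a ^ k) := hcomm'.zpow_right k
      have h9 : h = a ^ k := by
        calc h = b⁻¹ * (b * h * b⁻¹) * b := by group
          _ = b⁻¹ * a ^ k * b := by rw [← hk]
          _ = b⁻¹ * (a ^ k * b) := by group
          _ = b⁻¹ * (b * a ^ k) := by rw [hcc.eq]
          _ = a ^ k := by group
      exact h9.symm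
  have h3 := IsPGroup.inf_normalizer_sylow hbP S
  rw [h3] at hmem
  obtain ⟨k, hk⟩ := hmem.2
  refine ⟨k, ?_⟩
  have := congrArg Subtype.val hk
  simpa [a, b] using this

/-- The elements acting on `π` as `ρ` are the conjugates of `ρ` under powers of `π`. -/
theorem hconj_of_centraliser [Fact p.Prime] (hρ : ρ ∈ H) (hπp : π ^ p = 1) (hρπ : ρ * π = π ^ r * ρ)
    (hcent : ∀ x ∈ H, x * π = π * x → x ∈ Subgroup.zpowers π) {a : ℕ}
    (ha : (a * (1 + (p - 1) * r)) % p = r % p) :
    ∀ x ∈ H, x * π = π ^ r * x → ∃ c : ℕ, x = π ^ c * ρ * (π ^ c)⁻¹ := by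
  have hp : p.Prime := Fact.out
  have hfin : IsOfFinOrder π := isOfFinOrder_iff_pow_eq_one.2 ⟨p, hp.pos, hπp⟩
  intro x hx hr
  have h1 : (ρ⁻¹ * x) * π = π * (ρ⁻¹ * x) := by
    have h2 : ρ⁻¹ * π ^ r = π * ρ⁻¹ := by
      have : π ^ r = ρ * π * ρ⁻¹ := by rw [hρπ]; group
      rw [this]; group
    calc ρ⁻¹ * x * π = ρ⁻¹ * (x * π) := by group
      _ = ρ⁻¹ * (π ^ r * x) := by rw [hr]
      _ = (ρ⁻¹ * π ^ r) * x := by group
      _ = π * (ρ⁻¹ * x) := by rw [h2]; group
  have hm := hcent _ (H.mul_mem (H.inv_mem hρ) hx) h1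
  obtain ⟨k, hk⟩ := hfin.mem_powers_iff_mem_zpowers.2 hm
  have hxk : x = ρ * π ^ k := by
    have : ρ⁻¹ * x = π ^ k := hk.symm
    rw [← this]; group
  -- `ρ π ^ k ρ⁻¹ = π ^ (k r)`
  have hs : ∀ n : ℕ, ρ * π ^ n * ρ⁻¹ = π ^ (n * r) := by
    intro n
    have := rho_pow_conj hρπ 1 n
    simpa using this
  have hp1 : π ^ (p - 1) * π = 1 := by
    rw [← pow_succ, Nat.sub_add_cancel hp.one_le, hπp]
  have hinv : ∀ n : ℕ, (π ^ n)⁻¹ = π ^ ((p - 1) * n) := by
    intro n
    rw [pow_mul, ← inv_pow]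
    congr 1
    exact (eq_of_mul_inv_eq_one (by rw [inv_inv]; exact hp1)).symm
  refine ⟨a * k, ?_⟩
  rw [hxk, hinv]
  have e1 : ρ * π ^ ((p - 1) * (a * k)) = π ^ ((p - 1) * (a * k) * r) * ρ := by
    have := hs ((p - 1) * (a * k))
    rw [← this]; group
  have e2 : ρ * π ^ k = π ^ (k * r) * ρ := by
    have := hs k
    rw [← this]; group
  rw [e2, mul_assoc, e1, ← mul_assoc, ← pow_add]
  congr 1
  rw [pow_eq_pow_mod_of hπp (k * r), pow_eq_pow_mod_of hπp (a * k + (p - 1) * (a * k) * r)]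
  congr 1
  have e3 : a * k + (p - 1) * (a * k) * r = (a * (1 + (p - 1) * r)) * k := by ring
  have e4 : (a * (1 + (p - 1) * r)) * k % p = (k * r) % p := by
    rw [Nat.mul_mod, ha, ← Nat.mul_mod, mul_comm]
  rw [e3, e4]

end Centraliser

/-- `Out` is invariant under isomorphisms. -/
theorem card_out_congr {A B : Type*} [Group A] [Group B] (e : A ≃* B) :
    Nat.card (Out A) = Nat.card (Out B) := by
  let c : MulAut A ≃* MulAut B := MulAut.congr e
  have hInn : ∀ φ, c φ ∈ Inn B ↔ φ ∈ Inn A := by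
    intro φ
    constructor
    · rintro ⟨b, hb⟩
      refine ⟨e.symm b, ?_⟩
      apply c.injective
      rw [← hb]
      ext y
      simp [c, MulAut.congr, MulAut.conj_apply]
    · rintro ⟨a, rfl⟩
      refine ⟨e a, ?_⟩
      ext y
      simp [c, MulAut.congr, MulAut.conj_apply]
  have : Inn A = (Inn B).comap c.toMonoidHom := by
    ext φ
    exact (hInn φ).symm
  show (Inn A).index = (Inn B).index
  rw [this]
  exact Subgroup.index_comap_of_surjective _ c.surjective

end Cfsg.Agent.Lib.Compute.PermOut
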