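import Mathlib
import Cfsg.Agent.Lib.Compute.OutChain
import Cfsg.Agent.Lib.Compute.PermOut

/-!
# Outer automorphism groups of permutation groups of known order

Let `K` be a group of permutations, of known order, with a prime `p` dividing its order once, an element `π` of order
`p`, an element `ρ` acting on `⟨π⟩` by a generator of its automorphism group, and an element `y` commuting with `ρ` such
that `π`, `ρ`, `y` generate `K`.  An automorphism of `K` can be brought, by inner automorphisms, to a map fixing `π` and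
`ρ`, and the image of `y` lies in the centraliser of `ρ`.  All this is given by the enumeration of elements with the
help of exact stabiliser chains (`OutChain`).
-/

set_option autoImplicit false

namespace Cfsg.Agent.Lib.Compute.OutFinal

open Cfsg Cfsg.Agent.Lib.Compute.PermCert Cfsg.Agent.Lib.Compute.OutChain
open Cfsg.Agent.Lib.Compute.OutCert Cfsg.Agent.Lib.Compute.PermOut
open Cfsg.Agent.Lib.Compute.ToddCoxeterCore (frc frc_eq)

/-! ### Pure group theory -/

section Group

variable {G : Type*} [Group G] {H : Subgroup G} {π ρ : G} {p r : ℕ}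

/-- An element of `H` commuting with `π` and `ρ` is trivial. -/
theorem eq_one_of_comm [Fact p.Prime] (hπp : π ^ p = 1) (hρ : ρ ∈ H) (hρπ : ρ * π = π ^ r * ρ)
    (hr : ¬ p ∣ r - 1) (hr0 : 1 ≤ r)
    (hconj : ∀ x ∈ H, x * π = π ^ r * x → ∃ c : ℕ, x = π ^ c * ρ * (π ^ c)⁻¹)
    {h : G} (hh : h ∈ H) (h1 : h * π = π * h) (h2 : h * ρ = ρ * h) : h = 1 := by
  have hp : p.Prime := Fact.out
  have hx : (ρ * h) * π = π ^ r * (ρ * h) := by
    calc ρ * h * π = ρ * (h * π) := by group
      _ = ρ * (π * h) := by rw [h1]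
      _ = (ρ * π) * h := by group
      _ = π ^ r * ρ * h := by rw [hρπ]
      _ = π ^ r * (ρ * h) := by group
  obtain ⟨c, hc⟩ := hconj _ (H.mul_mem hρ hh) hx
  have hs : ∀ n : ℕ, ρ * π ^ n * ρ⁻¹ = π ^ (n * r) := by
    intro n
    have := rho_pow_conj hρπ 1 n
    simpa using this
  -- `h` is a power of `π`
  have e1 : h = π ^ c * (π ^ (c * r))⁻¹ := by
    have e2 : ρ * (π ^ c)⁻¹ * ρ⁻¹ = (π ^ (c * r))⁻¹ := by
      rw [← hs c]
      group
    have e3 : ρ * h * ρ⁻¹ = h := by
      rw [← h2]
      group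
    calc h = ρ * h * ρ⁻¹ := e3.symm
      _ = π ^ c * ρ * (π ^ c)⁻¹ * ρ⁻¹ := by rw [hc]
      _ = π ^ c * (ρ * (π ^ c)⁻¹ * ρ⁻¹) := by group
      _ = _ := by rw [e2]
  -- write it as `π ^ d`
  obtain ⟨d, hd⟩ : ∃ d : ℕ, h = π ^ d := by
    refine ⟨c + (p - 1) * (c * r), ?_⟩
    have e4 : (π ^ (c * r))⁻¹ = π ^ ((p - 1) * (c * r)) := by
      rw [eq_comm, pow_mul, ← inv_pow]
      congr 1
      rw [eq_inv_iff_mul_eq_one, ← pow_succ, Nat.sub_add_cancel hp.one_le, hπp]
    rw [e1, e4, pow_add]
  have e5 : π ^ (d * r) = π ^ d := by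
    rw [← hs d, ← hd, ← h2]
    group
  -- so `π ^ (d * (r - 1)) = 1`
  have e6 : π ^ (d * (r - 1)) = 1 := by
    have e7 : d * r = d * (r - 1) + d := by
      obtain ⟨s, rfl⟩ : ∃ s, r = s + 1 := ⟨r - 1, by omega⟩
      simp
      ring
    rw [e7, pow_add] at e5
    exact mul_eq_right.1 e5
  by_cases hπ1 : π = 1
  · rw [hd, hπ1, one_pow]
  · have ho : orderOf π = p := orderOf_eq_prime hπp hπ1
    have hdv : p ∣ d * (r - 1) := ho ▸ orderOf_dvd_of_pow_eq_one e6
    have hdd : p ∣ d := (hp.dvd_mul.1 hdv).resolve_right hr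
    obtain ⟨t, rfl⟩ := hdd
    rw [hd, pow_mul, hπp, one_pow]

theorem hexp_of_check {p r : ℕ} (hp : 0 < p)
    (h : ∀ k, k < p → k ≠ 0 → ∃ j, j < p ∧ (k * r ^ j) % p = 1) : ∀ k, ¬ p ∣ k → ∃ j, (k * r ^ j) % p = 1 := by
  intro k hk
  have h0 : k % p ≠ 0 := fun h0 => hk (Nat.dvd_of_mod_eq_zero h0)
  obtain ⟨j, -, hj⟩ := h (k % p) (Nat.mod_lt _ hp) h0
  refine ⟨j, ?_⟩
  rw [Nat.mod_mul_mod] at hj
  exact hj

theorem hexp2_of_check {p r : ℕ} (hp : 0 < p)
    (h : ∀ k, k < p → k ≠ 0 → ∃ j, j < p ∧ ((k * r ^ j) % p = 1 ∨ (k * r ^ j) % p = p - 1)) :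
    ∀ k, ¬ p ∣ k → ∃ j, (k * r ^ j) % p = 1 ∨ (k * r ^ j) % p = p - 1 := by
  intro k hk
  have h0 : k % p ≠ 0 := fun h0 => hk (Nat.dvd_of_mod_eq_zero h0)
  obtain ⟨j, -, hj⟩ := h (k % p) (Nat.mod_lt _ hp) h0
  refine ⟨j, ?_⟩
  rw [Nat.mod_mul_mod] at hj
  exact hj

end Group

/-! ### Words -/

section Words

variable {N : Nat}

/-- A letter of a word in three functions. -/
def letter (a b v : Nat → Nat) (c x : Nat) : Nat :=
  bif Nat.beq c 0 then a x else bif Nat.beq c 1 then b x else v x

/-- A word in three functions. -/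
noncomputable def wFn (a b v : Nat → Nat) (u : List Nat) : Nat → Nat :=
  List.rec (motive := fun _ => Nat → Nat) (fun x => x) (fun c _ ih x => frc (ih x) (letter a b v c)) u

/-- A letter of a word in three permutations. -/
def lPerm (A B V : Equiv.Perm (Fin N)) (c : Nat) : Equiv.Perm (Fin N) :=
  bif Nat.beq c 0 then A else bif Nat.beq c 1 then B else V

/-- A word in three permutations. -/
def wPerm (A B V : Equiv.Perm (Fin N)) : List Nat → Equiv.Perm (Fin N)
  | [] => 1
  | c :: u => lPerm A B V c * wPerm A B V u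

theorem wFn_eq {a b v : Nat → Nat} {A B V : Equiv.Perm (Fin N)} (ha : ∀ i : Fin N, a i = A i)
    (hb : ∀ i : Fin N, b i = B i) (hv : ∀ i : Fin N, v i = V i) (u : List Nat) (i : Fin N) :
    wFn a b v u i = wPerm A B V u i := by
  induction u with
  | nil => rfl
  | cons c u ih =>
    have h1 : wFn a b v (c :: u) i = frc (wFn a b v u i) (letter a b v c) := rfl
    rw [h1, frc_eq, ih, wPerm, Equiv.Perm.mul_apply]
    unfold letter lPerm
    cases Nat.beq c 0 with
    | true => simpa using ha _
    | false =>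
      cases Nat.beq c 1 with
      | true => simpa using hb _
      | false => simpa using hv _

theorem wPerm_mem {K : Subgroup (Equiv.Perm (Fin N))} {A B V : Equiv.Perm (Fin N)} (hA : A ∈ K) (hB : B ∈ K)
    (hV : V ∈ K) (u : List Nat) : wPerm A B V u ∈ K := by
  induction u with
  | nil => exact K.one_mem
  | cons c u ih =>
    refine K.mul_mem ?_ ih
    unfold lPerm
    cases Nat.beq c 0 with
    | true => simpa using hA
    | false =>
      cases Nat.beq c 1 with
      | true => simpa using hB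
      | false => simpa using hV

theorem map_wPerm {K : Subgroup (Equiv.Perm (Fin N))} {F : Equiv.Perm (Fin N) → Equiv.Perm (Fin N)} (hF : PHom K F)
    {A B V : Equiv.Perm (Fin N)} (hA : A ∈ K) (hB : B ∈ K) (hV : V ∈ K) (u : List Nat) :
    F (wPerm A B V u) = wPerm (F A) (F B) (F V) u := by
  induction u with
  | nil => exact hF.map_one
  | cons c u ih =>
    have hl : lPerm A B V c ∈ K := by
      unfold lPerm
      cases Nat.beq c 0 with
      | true => simpa using hA
      | false =>
        cases Nat.beq c 1 with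
        | true => simpa using hB
        | false => simpa using hV
    rw [wPerm, hF.mul _ hl _ (wPerm_mem hA hB hV u), ih, wPerm]
    congr 1
    unfold lPerm
    cases Nat.beq c 0 with
    | true => simp
    | false =>
      cases Nat.beq c 1 with
      | true => simp
      | false => simp

/-- The iterate of a function fixes the points of a list. -/
noncomputable def powFix (c : Nat → Nat) (k : Nat) (pts : List Nat) : Bool :=
  pts.all fun b => Nat.beq (iterF c k b) b

theorem powFix_complete {C : Equiv.Perm (Fin N)} {c : Nat → Nat} (hc : ∀ i : Fin N, c i = C i) {k : Nat}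
    (hk : C ^ k = 1) {pts : List Nat} (hpts : ∀ b ∈ pts, b < N) : powFix c k pts = true := by
  unfold powFix
  rw [List.all_eq_true]
  intro b hb
  have h1 := iter_eq hc k ⟨b, hpts b hb⟩
  rw [hk] at h1
  simp only [Equiv.Perm.coe_one, id_eq] at h1
  rw [Nat.beq_eq, iterF_eq]
  exact h1

/-- Two functions agree on the points of a list. -/
def eqB (f g : Nat → Nat) (pts : List Nat) : Bool :=
  pts.all fun b => Nat.beq (f b) (g b)

theorem eqB_spec {f g : Nat → Nat} {pts : List Nat} (h : eqB f g pts = true) : ∀ b ∈ pts, f b = g b := by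
  unfold eqB at h
  rw [List.all_eq_true] at h
  exact fun b hb => Nat.beq_eq ▸ h b hb

/-- No power of a word in `a`, `b` and `v` from the list is trivial on the points of a list. -/
noncomputable def killed (a b v : Nat → Nat) (kills : List (List Nat × Nat)) (pts : List Nat) : Bool :=
  kills.any fun wm => !(powFix (wFn a b v wm.1) wm.2 pts)

/-- The kills cannot happen for an image of `y`. -/
theorem killed_false {K : Subgroup (Equiv.Perm (Fin N))} {F : Equiv.Perm (Fin N) → Equiv.Perm (Fin N)} (hF : PHom K F)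
    {A B V : Equiv.Perm (Fin N)} (hA : A ∈ K) (hB : B ∈ K) (hV : V ∈ K) {a b v : Nat → Nat}
    (ha : ∀ i : Fin N, a i = F A i) (hb : ∀ i : Fin N, b i = F B i) (hv : ∀ i : Fin N, v i = F V i)
    {kills : List (List Nat × Nat)} (hk : ∀ wm ∈ kills, wPerm A B V wm.1 ^ wm.2 = 1) {pts : List Nat}
    (hpts : ∀ b ∈ pts, b < N) : killed a b v kills pts = false := by
  unfold killed
  rw [List.any_eq_false]
  intro wm hwm
  have h1 := hk wm hwm
  have h2 : (wPerm (F A) (F B) (F V) wm.1) ^ wm.2 = 1 := by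
    rw [← map_wPerm hF hA hB hV, ← hF.map_pow (wPerm_mem hA hB hV _), h1, hF.map_one]
  have h3 := powFix_complete (c := wFn a b v wm.1) (fun i => wFn_eq ha hb hv _ i) h2 hpts
  rw [h3]
  decide

/-- The check of the forward direction of the kills. -/
noncomputable def killsOK (N d : Nat) (a b v : Nat → Nat) (kills : List (List Nat × Nat)) : Bool :=
  kills.all fun wm => allN (fun i => Nat.beq (iterF (wFn a b v wm.1) wm.2 i) i) N d

theorem killsOK_spec {d : Nat} (hd : N ≤ 2 ^ d) {a b v : Nat → Nat} {A B V : Equiv.Perm (Fin N)}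
    (ha : ∀ i : Fin N, a i = A i) (hb : ∀ i : Fin N, b i = B i) (hv : ∀ i : Fin N, v i = V i)
    {kills : List (List Nat × Nat)} (h : killsOK N d a b v kills = true) :
    ∀ wm ∈ kills, wPerm A B V wm.1 ^ wm.2 = 1 := by
  intro wm hwm
  unfold killsOK at h
  rw [List.all_eq_true] at h
  have h1 := h wm hwm
  rw [allN_eq _ hd, allB_iff] at h1
  ext i
  have h2 := h1 i i.2
  rw [Nat.beq_eq, iterF_eq, iter_eq (fun i => wFn_eq ha hb hv wm.1 i)] at h2
  simpa using h2

end Words

/-! ### Chains of a group -/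

section Chains

variable {w m N tw tm d : Nat}

/-- The facts about a chain of the group `K`. -/
structure ChainFor (w m N tw tm : Nat) (K : Subgroup (Equiv.Perm (Fin N))) (ls : List Lv) : Prop where
  chk : chkChain w m N tw tm ls = true
  le : genGroup w m N (hdG ls) ≤ K
  ord : ordC ls = Nat.card K

theorem ChainFor.of_fast {K : Subgroup (Equiv.Perm (Fin N))} {ls : List Lv} (hd : N ≤ 2 ^ d)
    (h1 : chkChainF w m N tw tm d ls = true) (h2 : genGroup w m N (hdG ls) ≤ K) (h3 : ordC ls = Nat.card K) :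
    ChainFor w m N tw tm K ls :=
  ⟨by rwa [← chkChainF_eq hd], h2, h3⟩

variable {K : Subgroup (Equiv.Perm (Fin N))} {ls : List Lv}

theorem ChainFor.exact (h : ChainFor w m N tw tm K ls) : Exact w N tw tm ls K :=
  (chain_lower ls K h.chk h.le).2 h.ord

/-- The generators of the chain generate the group. -/
theorem ChainFor.gen_eq (h : ChainFor w m N tw tm K ls) : genGroup w m N (hdG ls) = K := by
  have h1 := (chain_lower ls (genGroup w m N (hdG ls)) h.chk le_rfl).1
  rw [h.ord] at h1
  exact Subgroup.eq_of_le_of_card_ge h.le h1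

/-- Sifting shows membership. -/
theorem ChainFor.mem_of_sift (h : ChainFor w m N tw tm K ls) (hd : N ≤ 2 ^ d) {X : Equiv.Perm (Fin N)} {g : Nat → Nat}
    (hg : ∀ i : Fin N, g i = X i) (hs : siftF w m N tw tm d ls g = true) : X ∈ K := by
  rw [siftF_eq hd] at hs
  exact h.le (siftC_sound ls X g h.chk hg hs)

/-- The base points of a chain. -/
def baseL (ls : List Lv) : List Nat := ls.map Lv.b

/-- Two elements of the group agreeing on the base are the same. -/
theorem ChainFor.eq_of_base (h : ChainFor w m N tw tm K ls) {g g' : Equiv.Perm (Fin N)} (hg : g ∈ K) (hg' : g' ∈ K)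
    (hb : ∀ b ∈ baseL ls, ∀ hlt : b < N, g ⟨b, hlt⟩ = g' ⟨b, hlt⟩) : g = g' := by
  have h1 : g'⁻¹ * g = 1 := by
    refine rigid ls K h.exact _ (K.mul_mem (K.inv_mem hg') hg) (fun l hl hlt => ?_)
    have h2 := hb l.b (List.mem_map_of_mem hl) hlt
    rw [Equiv.Perm.mul_apply, h2]
    simp
  exact (inv_mul_eq_one.mp h1).symm

theorem base_lt_of_chk {ls : List Lv} (hc : chkChain w m N tw tm ls = true) : ∀ b ∈ baseL ls, b < N := by
  intro b hb
  obtain ⟨l, hl, rfl⟩ := List.mem_map.1 hb
  clear hb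
  induction ls with
  | nil => cases hl
  | cons a ls ih =>
    simp only [chkChain, Bool.and_eq_true] at hc
    rcases List.mem_cons.1 hl with rfl | hl'
    · exact (lvFacts hc.1.1).b_lt
    · exact ih hc.2 hl'

theorem hdG_valid {ls : List Lv} (hc : chkChain w m N tw tm ls = true) : (hdG ls).all (validB w m N) = true := by
  cases ls with
  | nil => rfl
  | cons l ls =>
    simp only [chkChain, Bool.and_eq_true] at hc
    exact (lvFacts hc.1.1).valid

theorem ChainFor.base_lt (h : ChainFor w m N tw tm K ls) : ∀ b ∈ baseL ls, b < N := base_lt_of_chk h.chk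

theorem search_use {lr : List (Lv × Rule)} (hC : ChainFor w m N tw tm K (lr.map Prod.fst)) (hd : N ≤ 2 ^ d)
    {X X' : Equiv.Perm (Fin N)} {x x' : Nat → Nat} (hx : ∀ i : Fin N, x i = (X i : Nat))
    (hx' : ∀ i : Fin N, x' i = (X' i : Nat)) (hR : rulesOK N x [] lr = true)
    {P : (Nat → Nat) → (Nat → Nat) → Bool} (hs : searchF w m N tw tm d x' P lr id id = true) :
    ∀ c ∈ K, (∀ a, c (X a) = X' (c a)) → ∃ vf vi, Rep c vf vi ∧ P vf vi = true := by
  rw [searchF_eq hd] at hs
  exact search_main hx hx' hC.chk hC.le hC.ord hR hs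

end Chains

/-! ### The leaves of the searches -/

section Main

variable {w m N tw tm d : Nat}

/-- The table of an element. -/
abbrev gt (w m : Nat) (e : Elt) (x : Nat) : Nat := get w m e.f x

/-- The inverse table of an element. -/
abbrev gi (w m : Nat) (e : Elt) (x : Nat) : Nat := get w m e.g x

theorem gt_eq {e : Elt} (hv : validB w m N e = true) (i : Fin N) : gt w m e i = permOf w m N e i :=
  (permOf_apply hv i).symm

theorem gi_eq {e : Elt} (hv : validB w m N e = true) (i : Fin N) :
    gi w m e i = ((permOf w m N e)⁻¹ : Equiv.Perm (Fin N)) i :=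
  (permOf_symm_apply hv i).symm

theorem eq_of_check {X Y : Equiv.Perm (Fin N)} {f g : Nat → Nat} (hf : ∀ i : Fin N, f i = X i)
    (hg : ∀ i : Fin N, g i = Y i) (hd : N ≤ 2 ^ d) (h : allN (fun i => Nat.beq (f i) (g i)) N d = true) : X = Y := by
  rw [allN_eq _ hd, allB_iff] at h
  ext i
  rw [← hf, ← hg]
  exact Nat.eq_of_beq_eq_true (h i i.2)

theorem comm_of_check {A B : Elt} (vA : validB w m N A = true) (vB : validB w m N B = true) (hd : N ≤ 2 ^ d)
    (h : allN (fun i => Nat.beq (gt w m A (gt w m B i)) (gt w m B (gt w m A i))) N d = true) :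
    permOf w m N A * permOf w m N B = permOf w m N B * permOf w m N A := by
  refine eq_of_check (fun i => ?_) (fun i => ?_) hd h
  · rw [Equiv.Perm.mul_apply, ← gt_eq vA, ← gt_eq vB]
  · rw [Equiv.Perm.mul_apply, ← gt_eq vB, ← gt_eq vA]

theorem pow_of_check {A : Elt} {k : Nat} (vA : validB w m N A = true) (hd : N ≤ 2 ^ d)
    (h : allN (fun i => Nat.beq (iterF (gt w m A) k i) i) N d = true) : permOf w m N A ^ k = 1 := by
  refine eq_of_check (f := iterF (gt w m A) k) (g := fun i => i) (fun i => ?_) (fun i => rfl) hd h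
  rw [iterF_eq, iter_eq (gt_eq vA)]

theorem rel_of_check {P R : Elt} {r : Nat} (vP : validB w m N P = true) (vR : validB w m N R = true) (hd : N ≤ 2 ^ d)
    (h : allN (fun i => Nat.beq (gt w m R (gt w m P i)) (iterF (gt w m P) r (gt w m R i))) N d = true) :
    permOf w m N R * permOf w m N P = permOf w m N P ^ r * permOf w m N R := by
  refine eq_of_check (fun i => ?_) (fun i => ?_) hd h
  · rw [Equiv.Perm.mul_apply, ← gt_eq vR, ← gt_eq vP]
  · rw [Equiv.Perm.mul_apply, iterF_eq, gt_eq vR i]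
    exact iter_eq (gt_eq vP) r (permOf w m N R i)

theorem eq_pow_of_check {Z R : Elt} {k : Nat} (vZ : validB w m N Z = true) (vR : validB w m N R = true) (hd : N ≤ 2 ^ d)
    (h : allN (fun i => Nat.beq (gt w m Z i) (iterF (gt w m R) k i)) N d = true) :
    permOf w m N Z = permOf w m N R ^ k := by
  refine eq_of_check (g := iterF (gt w m R) k) (gt_eq vZ) (fun i => ?_) hd h
  rw [iterF_eq, iter_eq (gt_eq vR)]

theorem ne_one_of_point {A : Elt} (vA : validB w m N A = true) {i : Nat} (hi : i < N)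
    (h : Nat.beq (gt w m A i) i = false) : permOf w m N A ≠ 1 := by
  intro h1
  have h2 := gt_eq vA ⟨i, hi⟩
  rw [h1] at h2
  simp only [Equiv.Perm.coe_one, id_eq] at h2
  rw [h2] at h
  simp at h

theorem ne_comm_of_point {A B : Elt} (vA : validB w m N A = true) (vB : validB w m N B = true) {i : Nat} (hi : i < N)
    (h : Nat.beq (gt w m A (gt w m B i)) (gt w m B (gt w m A i)) = false) :
    permOf w m N A * permOf w m N B ≠ permOf w m N B * permOf w m N A := by
  intro h1
  have h2 := congrArg (fun g : Equiv.Perm (Fin N) => ((g ⟨i, hi⟩ : Fin N) : Nat)) h1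
  simp only [Equiv.Perm.mul_apply] at h2
  rw [← gt_eq vA, ← gt_eq vB, ← gt_eq vB, ← gt_eq vA] at h2
  simp only at h2
  rw [h2] at h
  simp at h

theorem conj_rep {T Y : Elt} (vT : validB w m N T = true) (vY : validB w m N Y = true) (i : Fin N) :
    gt w m T (gt w m Y (gi w m T i)) = (permOf w m N T * permOf w m N Y * (permOf w m N T)⁻¹) i := by
  simp only [Equiv.Perm.mul_apply]
  rw [gi_eq vT, gt_eq vY, gt_eq vT]

theorem conj_rep' {T Y : Elt} (vT : validB w m N T = true) (vY : validB w m N Y = true) (i : Fin N) :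
    gi w m T (gt w m Y (gt w m T i)) = ((permOf w m N T)⁻¹ * permOf w m N Y * permOf w m N T) i := by
  simp only [Equiv.Perm.mul_apply]
  rw [gt_eq vT, gt_eq vY, gi_eq vT]

/-- The top generators of a chain are given by the functions of a family. -/
noncomputable def gensOK (w m N d : Nat) (ev : Nat → Nat → Nat) : Nat → List Elt → Bool
  | _, [] => true
  | j, e :: es => allN (fun i => Nat.beq (get w m e.f i) (ev j i)) N d && gensOK w m N d ev (j + 1) es

theorem gens_le {K : Subgroup (Equiv.Perm (Fin N))} {ev : Nat → Nat → Nat} (hd : N ≤ 2 ^ d)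
    (hfn : ∀ j, ∃ x ∈ K, ∀ i : Fin N, ev j i = x i) {gens : List Elt} {j0 : Nat}
    (hv : gens.all (validB w m N) = true) (h : gensOK w m N d ev j0 gens = true) : genGroup w m N gens ≤ K := by
  refine (Subgroup.closure_le _).mpr ?_
  rintro _ ⟨e, he, rfl⟩
  induction gens generalizing j0 with
  | nil => cases he
  | cons a es ih =>
    simp only [gensOK, Bool.and_eq_true] at h
    simp only [List.all_cons, Bool.and_eq_true] at hv
    rcases List.mem_cons.1 he with rfl | he'
    · obtain ⟨x, hx, hfx⟩ := hfn j0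
      have : permOf w m N e = x := eq_of_check (gt_eq hv.1) hfx hd h.1
      rw [this]
      exact hx
    · exact ih hv.2 h.2 he'

/-- The leaves of the search of the elements acting like `ρ` on `π`: they are the conjugates of `ρ` under the powers
of `π`. -/
noncomputable def conjLeaf (w m : Nat) (pe re : Elt) (p : Nat) (pts : List Nat) (vf _vi : Nat → Nat) : Bool :=
  (List.range p).any fun c =>
    pts.all fun b => Nat.beq (vf b) (iterF (gt w m pe) c (gt w m re (iterF (gt w m pe) (p - c) b)))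

variable {K : Subgroup (Equiv.Perm (Fin N))}

/-- The elements acting like `ρ` on `π` from the search. -/
theorem hconj_of_search {pe re : Elt} {p r : Nat} {lr : List (Lv × Rule)}
    (hC : ChainFor w m N tw tm K (lr.map Prod.fst)) (hd : N ≤ 2 ^ d)
    (vP : validB w m N pe = true) (vR : validB w m N re = true)
    (mP : permOf w m N pe ∈ K) (mR : permOf w m N re ∈ K)
    (hpow : permOf w m N pe ^ p = 1)
    (hR : rulesOK N (gt w m pe) [] lr = true)
    (hs : searchF w m N tw tm d (iterF (gt w m pe) r)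
      (conjLeaf w m pe re p (baseL (lr.map Prod.fst))) lr id id = true) :
    ∀ x ∈ K, x * permOf w m N pe = permOf w m N pe ^ r * x →
      ∃ c : ℕ, x = permOf w m N pe ^ c * permOf w m N re * (permOf w m N pe ^ c)⁻¹ := by
  intro x hx hxr
  set P := permOf w m N pe with hP
  set R := permOf w m N re with hRR
  have hfnP : ∀ i : Fin N, gt w m pe i = P i := gt_eq vP
  have hfnR : ∀ i : Fin N, gt w m re i = R i := gt_eq vR
  obtain ⟨vf, vi, hrep, hleaf⟩ := search_use hC hd (X := P) (X' := P ^ r) (x := gt w m pe) (x' := iterF (gt w m pe) r)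
    hfnP (fun i => by rw [iterF_eq, iter_eq hfnP]) hR hs x hx (fun a => by
      have := congrArg (fun g : Equiv.Perm (Fin N) => g a) hxr
      simpa [Equiv.Perm.mul_apply] using this)
  unfold conjLeaf at hleaf
  rw [List.any_eq_true] at hleaf
  obtain ⟨c, hc, hleaf⟩ := hleaf
  have hcp : c ≤ p := (List.mem_range.1 hc).le
  rw [List.all_eq_true] at hleaf
  refine ⟨c, hC.eq_of_base hx (K.mul_mem (K.mul_mem (K.pow_mem mP c) mR) (K.inv_mem (K.pow_mem mP c))) ?_⟩
  intro b hb hlt
  have h1 := Nat.eq_of_beq_eq_true (hleaf b hb)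
  have h2 : (P ^ c)⁻¹ = P ^ (p - c) := by
    rw [inv_eq_iff_mul_eq_one, ← pow_add, Nat.add_sub_cancel' hcp, hpow]
  apply Fin.ext
  have h3 := (hrep ⟨b, hlt⟩).1
  simp only at h3
  rw [← h3, h1, iterF_eq, iterF_eq]
  have h4 := iter_eq hfnP (p - c) ⟨b, hlt⟩
  simp only at h4
  rw [h4, hfnR]
  have h5 := iter_eq hfnP c (R ((P ^ (p - c)) ⟨b, hlt⟩))
  rw [h5, h2]
  rfl

/-- The leaves of the last search, with a twist: the element is `y`, or its conjugate by `τ`, or is excluded by
the orders of words. -/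
noncomputable def finLeaf2 (w m : Nat) (pe re ye te : Elt) (kills : List (List Nat × Nat)) (pts : List Nat)
    (vf _vi : Nat → Nat) : Bool :=
  eqB vf (gt w m ye) pts || eqB vf (fun b => gi w m te (gt w m ye (gt w m te b))) pts ||
    killed (gt w m pe) (gt w m re) vf kills pts

/-- The last step, with a twist by a permutation commuting with `π` and `ρ`. -/
theorem hfin_of_search {pe re ye te ze : Elt} {zk : Nat} {lr : List (Lv × Rule)} {kills : List (List Nat × Nat)}
    (hC : ChainFor w m N tw tm K (lr.map Prod.fst)) (hd : N ≤ 2 ^ d)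
    (hgen : hdG (lr.map Prod.fst) = [pe, re, ye])
    (vP : validB w m N pe = true) (vR : validB w m N re = true) (vY : validB w m N ye = true)
    (vT : validB w m N te = true)
    (hτK : ∀ x ∈ K, permOf w m N te * x * (permOf w m N te)⁻¹ ∈ K)
    (mT' : (permOf w m N te)⁻¹ * permOf w m N ye * permOf w m N te ∈ K)
    (hτP : permOf w m N te * permOf w m N pe = permOf w m N pe * permOf w m N te)
    (hτR : permOf w m N te * permOf w m N re = permOf w m N re * permOf w m N te)
    (vZ : validB w m N ze = true) (hZ : permOf w m N ze = permOf w m N re ^ zk)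
    (hyZ : permOf w m N ye * permOf w m N ze = permOf w m N ze * permOf w m N ye)
    (hR : rulesOK N (gt w m ze) [] lr = true)
    (hs : searchF w m N tw tm d (gt w m ze) (finLeaf2 w m pe re ye te kills (baseL (lr.map Prod.fst))) lr id id = true)
    (hk : killsOK N d (gt w m pe) (gt w m re) (gt w m ye) kills = true)
    {F : Equiv.Perm (Fin N) → Equiv.Perm (Fin N)} (hF : PHom K F)
    (hFP : F (permOf w m N pe) = permOf w m N pe) (hFR : F (permOf w m N re) = permOf w m N re) :
    (∀ x ∈ K, F x = x) ∨ (∀ x ∈ K, permOf w m N te * F x * (permOf w m N te)⁻¹ = x) := by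
  set P := permOf w m N pe with hP
  set R := permOf w m N re with hRR
  set Y := permOf w m N ye with hY
  set T := permOf w m N te with hT
  have hfnP : ∀ i : Fin N, gt w m pe i = P i := gt_eq vP
  have hfnR : ∀ i : Fin N, gt w m re i = R i := gt_eq vR
  have hfnY : ∀ i : Fin N, gt w m ye i = Y i := gt_eq vY
  have hfnT : ∀ i : Fin N, gt w m te i = T i := gt_eq vT
  have hfiT : ∀ i : Fin N, gi w m te i = (T⁻¹ : Equiv.Perm (Fin N)) i := gi_eq vT
  have hgK := hC.gen_eq
  rw [hgen] at hgK
  have mP : P ∈ K := hgK ▸ permOf_mem_genGroup (by simp)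
  have mR : R ∈ K := hgK ▸ permOf_mem_genGroup (by simp)
  have mY : Y ∈ K := hgK ▸ permOf_mem_genGroup (by simp)
  have hfix : ∀ F' : Equiv.Perm (Fin N) → Equiv.Perm (Fin N), PHom K F' → F' P = P → F' R = R → F' Y = Y →
      ∀ x ∈ K, F' x = x := by
    intro F' hF' h1 h2 h3
    refine eq_id_of_fix_gens hF' (S := {x | ∃ e ∈ [pe, re, ye], permOf w m N e = x}) hgK.ge ?_ ?_
    · rintro _ ⟨e, he, rfl⟩
      rw [← hgK]
      exact permOf_mem_genGroup he
    · rintro _ ⟨e, he, rfl⟩
      simp only [List.mem_cons, List.not_mem_nil, or_false] at he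
      rcases he with rfl | rfl | rfl
      · exact h1
      · exact h2
      · exact h3
  set Z := permOf w m N ze with hZZ
  have hfnZ : ∀ i : Fin N, gt w m ze i = Z i := gt_eq vZ
  have mZ : Z ∈ K := hZ ▸ K.pow_mem mR zk
  have hFZ : F Z = Z := by
    rw [hZ, hF.map_pow mR, hFR]
  have hcomm : F Y * Z = Z * F Y := by
    have h1 := congrArg F hyZ
    rw [hF.mul _ mY _ mZ, hF.mul _ mZ _ mY, hFZ] at h1
    exact h1
  have hmFY : F Y ∈ K := hF.mem _ mY
  obtain ⟨vf, vi, hrep, hleaf⟩ := search_use hC hd (X := Z) (X' := Z) (x := gt w m ze) (x' := gt w m ze)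
    hfnZ hfnZ hR hs (F Y) hmFY (fun a => by
      have := congrArg (fun g : Equiv.Perm (Fin N) => g a) hcomm
      simpa [Equiv.Perm.mul_apply] using this)
  have hbase := hC.base_lt
  have hkill : killed (gt w m pe) (gt w m re) vf kills (baseL (lr.map Prod.fst)) = false := by
    refine killed_false hF mP mR mY (fun i => ?_) (fun i => ?_) (fun i => (hrep i).1)
      (killsOK_spec hd hfnP hfnR hfnY hk) hbase
    · rw [hFP]; exact hfnP i
    · rw [hFR]; exact hfnR i
  unfold finLeaf2 at hleaf
  rw [hkill] at hleaf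
  simp only [Bool.or_false, Bool.or_eq_true] at hleaf
  rcases hleaf with h | h
  · left
    refine hfix F hF hFP hFR ?_
    refine hC.eq_of_base hmFY mY (fun b hb hlt => ?_)
    apply Fin.ext
    have h1 := (hrep ⟨b, hlt⟩).1
    simp only at h1
    rw [← h1, eqB_spec h b hb]
    exact hfnY ⟨b, hlt⟩
  · right
    have hFY : F Y = T⁻¹ * Y * T := by
      refine hC.eq_of_base hmFY mT' (fun b hb hlt => ?_)
      apply Fin.ext
      have h1 := (hrep ⟨b, hlt⟩).1
      simp only at h1
      rw [← h1, eqB_spec h b hb]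
      have h2 : gt w m te b = (T ⟨b, hlt⟩ : Fin N) := hfnT ⟨b, hlt⟩
      rw [h2, hfnY, hfiT]
      rfl
    have hF' : PHom K (conjF T F) := hF.conj hτK
    refine hfix _ hF' ?_ ?_ ?_
    · show T * F P * T⁻¹ = P
      rw [hFP, hτP]
      group
    · show T * F R * T⁻¹ = R
      rw [hFR, hτR]
      group
    · show T * F Y * T⁻¹ = Y
      rw [hFY]
      group

/-- The outer automorphism group has order two. -/
theorem card_out_two {pe re ye te ze : Elt} {p r zk : Nat} [Fact p.Prime] {lrA lrB : List (Lv × Rule)}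
    {kills : List (List Nat × Nat)}
    (hA : ChainFor w m N tw tm K (lrA.map Prod.fst)) (hB : ChainFor w m N tw tm K (lrB.map Prod.fst)) (hd : N ≤ 2 ^ d)
    (hgen : hdG (lrB.map Prod.fst) = [pe, re, ye])
    (vP : validB w m N pe = true) (vR : validB w m N re = true) (vY : validB w m N ye = true)
    (vT : validB w m N te = true)
    (hp2 : ¬ p ^ 2 ∣ Nat.card K)
    (hpow : permOf w m N pe ^ p = 1) (hne : permOf w m N pe ≠ 1)
    (hrel : permOf w m N re * permOf w m N pe = permOf w m N pe ^ r * permOf w m N re)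
    (hexp : ∀ k, ¬ p ∣ k → ∃ j, (k * r ^ j) % p = 1) (hr : ¬ p ∣ r - 1) (hr0 : 1 ≤ r)
    (hτY : permOf w m N te * permOf w m N ye * (permOf w m N te)⁻¹ ∈ K)
    (hτY' : (permOf w m N te)⁻¹ * permOf w m N ye * permOf w m N te ∈ K)
    (hτP : permOf w m N te * permOf w m N pe = permOf w m N pe * permOf w m N te)
    (hτR : permOf w m N te * permOf w m N re = permOf w m N re * permOf w m N te)
    (hτne : permOf w m N te * permOf w m N ye ≠ permOf w m N ye * permOf w m N te)
    (vZ : validB w m N ze = true) (hZ : permOf w m N ze = permOf w m N re ^ zk)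
    (hyZ : permOf w m N ye * permOf w m N ze = permOf w m N ze * permOf w m N ye)
    (hRA : rulesOK N (gt w m pe) [] lrA = true)
    (hsA : searchF w m N tw tm d (iterF (gt w m pe) r)
      (conjLeaf w m pe re p (baseL (lrA.map Prod.fst))) lrA id id = true)
    (hRB : rulesOK N (gt w m ze) [] lrB = true)
    (hsB : searchF w m N tw tm d (gt w m ze) (finLeaf2 w m pe re ye te kills (baseL (lrB.map Prod.fst))) lrB id id = true)
    (hk : killsOK N d (gt w m pe) (gt w m re) (gt w m ye) kills = true) :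
    Nat.card (Out K) = 2 := by
  set P := permOf w m N pe with hP
  set R := permOf w m N re with hRR
  set Y := permOf w m N ye with hY
  set T := permOf w m N te with hT
  have hgK := hB.gen_eq
  rw [hgen] at hgK
  have mP : P ∈ K := hgK ▸ permOf_mem_genGroup (by simp)
  have mR : R ∈ K := hgK ▸ permOf_mem_genGroup (by simp)
  have mY : Y ∈ K := hgK ▸ permOf_mem_genGroup (by simp)
  -- the conjugation by `T` on `K`
  have hnorm : ∀ Tt : Equiv.Perm (Fin N), Tt * P = P * Tt → Tt * R = R * Tt → Tt * Y * Tt⁻¹ ∈ K →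
      ∀ x ∈ K, Tt * x * Tt⁻¹ ∈ K := by
    intro Tt h1 h2 h3
    have hle : K ≤ K.comap (MulAut.conj Tt).toMonoidHom := by
      conv_lhs => rw [← hgK]
      refine (Subgroup.closure_le _).mpr ?_
      rintro _ ⟨e, he, rfl⟩
      simp only [List.mem_cons, List.not_mem_nil, or_false] at he
      show (MulAut.conj Tt).toMonoidHom _ ∈ K
      simp only [MulEquiv.toMonoidHom_eq_coe, MonoidHom.coe_coe, MulAut.conj_apply]
      rcases he with rfl | rfl | rfl
      · show Tt * P * Tt⁻¹ ∈ K
        rw [h1]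
        simpa using mP
      · show Tt * R * Tt⁻¹ ∈ K
        rw [h2]
        simpa using mR
      · exact h3
    intro x hx
    have := hle hx
    simpa [MulAut.conj_apply] using this
  have hτK : ∀ x ∈ K, T * x * T⁻¹ ∈ K := hnorm T hτP hτR hτY
  have hτK' : ∀ x ∈ K, T⁻¹ * x * T ∈ K := by
    have h1 : T⁻¹ * P = P * T⁻¹ := by
      have : Commute T P := hτP
      exact this.inv_left.eq
    have h2 : T⁻¹ * R = R * T⁻¹ := by
      have : Commute T R := hτR
      exact this.inv_left.eq
    have := hnorm T⁻¹ h1 h2 (by simpa using hτY')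
    simpa using this
  have hconj := hconj_of_search hA hd vP vR mP mR hpow hRA hsA
  haveI hfinK : Finite K := inferInstance
  refine card_out_eq_two (conjAut T hτK hτK') ?_ fun φ => ?_
  · -- the automorphism is not inner
    rintro ⟨h, hh⟩
    have hk : ∀ x (hx : x ∈ K), (h : Equiv.Perm (Fin N)) * x * (h : Equiv.Perm (Fin N))⁻¹ = T * x * T⁻¹ := by
      intro x hx
      have := congrArg (fun ψ : MulAut K => ((ψ ⟨x, hx⟩ : K) : Equiv.Perm (Fin N))) hh
      simpa [MulAut.conj_apply, conjAut] using this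
    have h1 : (h : Equiv.Perm (Fin N)) * P = P * h := by
      have e1 := hk P mP
      have e2 : T * P * T⁻¹ = P := by rw [hτP]; group
      rw [e2] at e1
      calc (h : Equiv.Perm (Fin N)) * P = (h * P * (h : Equiv.Perm (Fin N))⁻¹) * h := by group
        _ = P * h := by rw [e1]
    have h2 : (h : Equiv.Perm (Fin N)) * R = R * h := by
      have e1 := hk R mR
      have e2 : T * R * T⁻¹ = R := by rw [hτR]; group
      rw [e2] at e1
      calc (h : Equiv.Perm (Fin N)) * R = (h * R * (h : Equiv.Perm (Fin N))⁻¹) * h := by group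
        _ = R * h := by rw [e1]
    have h3 := eq_one_of_comm hpow mR hrel hr hr0 hconj h.2 h1 h2
    apply hτne
    have e1 := hk Y mY
    rw [h3] at e1
    have e2 : Y = T * Y * T⁻¹ := by simpa using e1
    calc T * Y = (T * Y * T⁻¹) * T := by group
      _ = Y * T := by rw [← e2]
  · have hfin : ∀ F', PHom K F' → F' P = P → F' R = R → (∀ x ∈ K, F' x = x) ∨ (∀ x ∈ K, T * F' x * T⁻¹ = x) :=
      fun F' hF' h1 h2 => hfin_of_search hB hd hgen vP vR vY vT hτK (hτK' _ mY) hτP hτR vZ hZ hyZ hRB hsB hk hF' h1 h2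
    rcases inner_or_twist_fix (π := P) (ρ := R) (τ := T) (p := p) (r := r) hτK mP mR hp2 hpow hne hrel hexp hconj hfin
      (pHom_ofAut φ) with h | h
    · exact Or.inl (mem_inn_of_isInnerF h)
    · exact Or.inr (mem_inn_of_conj T hτK hτK' h)

/-- The leaves of the last search when there is no outer automorphism, and the elements are not conjugate to their
inverses: the element is `y` or is excluded by the orders of words; and no map sends `π` to its inverse. -/
noncomputable def finLeaf1i (w m : Nat) (pe re ye : Elt) (kills : List (List Nat × Nat)) (pts : List Nat)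
    (vf _vi : Nat → Nat) : Bool :=
  (eqB vf (gt w m ye) pts || killed (gt w m pe) (gt w m re) vf kills pts) &&
    killed (gi w m pe) (gt w m re) vf kills pts

/-- There are no outer automorphisms, in the case where `π` may not be conjugate to its inverse. -/
theorem card_out_one_inv {pe re ye ze : Elt} {p r zk : Nat} [Fact p.Prime] {lrA lrB : List (Lv × Rule)}
    {kills : List (List Nat × Nat)}
    (hA : ChainFor w m N tw tm K (lrA.map Prod.fst)) (hB : ChainFor w m N tw tm K (lrB.map Prod.fst)) (hd : N ≤ 2 ^ d)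
    (hgen : hdG (lrB.map Prod.fst) = [pe, re, ye])
    (vP : validB w m N pe = true) (vR : validB w m N re = true) (vY : validB w m N ye = true)
    (hp2 : ¬ p ^ 2 ∣ Nat.card K)
    (hpow : permOf w m N pe ^ p = 1) (hne : permOf w m N pe ≠ 1)
    (hrel : permOf w m N re * permOf w m N pe = permOf w m N pe ^ r * permOf w m N re)
    (hexp : ∀ k, ¬ p ∣ k → ∃ j, (k * r ^ j) % p = 1 ∨ (k * r ^ j) % p = p - 1)
    (vZ : validB w m N ze = true) (hZ : permOf w m N ze = permOf w m N re ^ zk)
    (hyZ : permOf w m N ye * permOf w m N ze = permOf w m N ze * permOf w m N ye)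
    (hRA : rulesOK N (gt w m pe) [] lrA = true)
    (hsA : searchF w m N tw tm d (iterF (gt w m pe) r)
      (conjLeaf w m pe re p (baseL (lrA.map Prod.fst))) lrA id id = true)
    (hRB : rulesOK N (gt w m ze) [] lrB = true)
    (hsB : searchF w m N tw tm d (gt w m ze) (finLeaf1i w m pe re ye kills (baseL (lrB.map Prod.fst))) lrB id id = true)
    (hk : killsOK N d (gt w m pe) (gt w m re) (gt w m ye) kills = true) :
    Nat.card (Out K) = 1 := by
  have hp : p.Prime := Fact.out
  set P := permOf w m N pe with hP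
  set R := permOf w m N re with hRR
  set Y := permOf w m N ye with hY
  set Z := permOf w m N ze with hZZ
  have hfnP : ∀ i : Fin N, gt w m pe i = P i := gt_eq vP
  have hfiP : ∀ i : Fin N, gi w m pe i = (P⁻¹ : Equiv.Perm (Fin N)) i := gi_eq vP
  have hfnR : ∀ i : Fin N, gt w m re i = R i := gt_eq vR
  have hfnY : ∀ i : Fin N, gt w m ye i = Y i := gt_eq vY
  have hfnZ : ∀ i : Fin N, gt w m ze i = Z i := gt_eq vZ
  have hgK := hB.gen_eq
  rw [hgen] at hgK
  have mP : P ∈ K := hgK ▸ permOf_mem_genGroup (by simp)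
  have mR : R ∈ K := hgK ▸ permOf_mem_genGroup (by simp)
  have mY : Y ∈ K := hgK ▸ permOf_mem_genGroup (by simp)
  have mZ : Z ∈ K := hZ ▸ K.pow_mem mR zk
  have hconj := hconj_of_search hA hd vP vR mP mR hpow hRA hsA
  have hfix : ∀ F' : Equiv.Perm (Fin N) → Equiv.Perm (Fin N), PHom K F' → F' P = P → F' R = R → F' Y = Y →
      ∀ x ∈ K, F' x = x := by
    intro F' hF' h1 h2 h3
    refine eq_id_of_fix_gens hF' (S := {x | ∃ e ∈ [pe, re, ye], permOf w m N e = x}) hgK.ge ?_ ?_
    · rintro _ ⟨e, he, rfl⟩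
      rw [← hgK]
      exact permOf_mem_genGroup he
    · rintro _ ⟨e, he, rfl⟩
      simp only [List.mem_cons, List.not_mem_nil, or_false] at he
      rcases he with rfl | rfl | rfl
      · exact h1
      · exact h2
      · exact h3
  have hfin : ∀ F', PHom K F' → ∀ e, (e = 1 ∨ e = p - 1) → F' P = P ^ e → F' R = R → ∀ x ∈ K, F' x = x := by
    intro F hF e he hFP hFR
    have hFZ : F Z = Z := by
      rw [hZ, hF.map_pow mR, hFR]
    have hcomm : F Y * Z = Z * F Y := by
      have h1 := congrArg F hyZ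
      rw [hF.mul _ mY _ mZ, hF.mul _ mZ _ mY, hFZ] at h1
      exact h1
    have hmFY : F Y ∈ K := hF.mem _ mY
    obtain ⟨vf, vi, hrep, hleaf⟩ := search_use hB hd (X := Z) (X' := Z) (x := gt w m ze) (x' := gt w m ze)
      hfnZ hfnZ hRB hsB (F Y) hmFY (fun a => by
        have := congrArg (fun g : Equiv.Perm (Fin N) => g a) hcomm
        simpa [Equiv.Perm.mul_apply] using this)
    have hbase := hB.base_lt
    unfold finLeaf1i at hleaf
    simp only [Bool.and_eq_true, Bool.or_eq_true] at hleaf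
    obtain ⟨hl1, hl2⟩ := hleaf
    rcases he with rfl | rfl
    · rw [pow_one] at hFP
      have hkill : killed (gt w m pe) (gt w m re) vf kills (baseL (lrB.map Prod.fst)) = false := by
        refine killed_false hF mP mR mY (fun i => ?_) (fun i => ?_) (fun i => (hrep i).1)
          (killsOK_spec hd hfnP hfnR hfnY hk) hbase
        · rw [hFP]; exact hfnP i
        · rw [hFR]; exact hfnR i
      rcases hl1 with h | h
      · refine hfix F hF hFP hFR ?_
        refine hB.eq_of_base hmFY mY (fun b hb hlt => ?_)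
        apply Fin.ext
        have h1 := (hrep ⟨b, hlt⟩).1
        simp only at h1
        rw [← h1, eqB_spec h b hb]
        exact hfnY ⟨b, hlt⟩
      · rw [hkill] at h
        exact absurd h (by decide)
    · exfalso
      have hinv : P ^ (p - 1) = P⁻¹ := by
        rw [eq_inv_iff_mul_eq_one, ← pow_succ, Nat.sub_add_cancel hp.one_le, hpow]
      rw [hinv] at hFP
      have hkill : killed (gi w m pe) (gt w m re) vf kills (baseL (lrB.map Prod.fst)) = false := by
        refine killed_false hF mP mR mY (fun i => ?_) (fun i => ?_) (fun i => (hrep i).1)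
          (killsOK_spec hd hfnP hfnR hfnY hk) hbase
        · rw [hFP]; exact hfiP i
        · rw [hFR]; exact hfnR i
      rw [hkill] at hl2
      exact absurd hl2 (by decide)
  refine card_out_eq_one fun φ => mem_inn_of_isInnerF ?_
  exact inner_of_rigid mP mR hp2 hpow hne hrel hexp hconj hfin (pHom_ofAut φ)

/-- The leaves of the search of the elements acting like `ρ` on `π`, when `ρ ^ q = 1`. -/
noncomputable def conjLeafQ (w m : Nat) (pe re : Elt) (p q : Nat) (pts : List Nat) (vf vi : Nat → Nat) : Bool :=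
  !(powFix vf q pts) || conjLeaf w m pe re p pts vf vi

/-- The elements of order dividing `q` acting like `ρ` on `π` from the search. -/
theorem hconjQ_of_search {pe re : Elt} {p r q : Nat} {lr : List (Lv × Rule)}
    (hC : ChainFor w m N tw tm K (lr.map Prod.fst)) (hd : N ≤ 2 ^ d)
    (vP : validB w m N pe = true) (vR : validB w m N re = true)
    (mP : permOf w m N pe ∈ K) (mR : permOf w m N re ∈ K)
    (hpow : permOf w m N pe ^ p = 1)
    (hR : rulesOK N (gt w m pe) [] lr = true)
    (hs : searchF w m N tw tm d (iterF (gt w m pe) r)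
      (conjLeafQ w m pe re p q (baseL (lr.map Prod.fst))) lr id id = true) :
    ∀ x ∈ K, x * permOf w m N pe = permOf w m N pe ^ r * x → x ^ q = 1 →
      ∃ c : ℕ, x = permOf w m N pe ^ c * permOf w m N re * (permOf w m N pe ^ c)⁻¹ := by
  intro x hx hxr hxq
  set P := permOf w m N pe with hP
  set R := permOf w m N re with hRR
  have hfnP : ∀ i : Fin N, gt w m pe i = P i := gt_eq vP
  have hfnR : ∀ i : Fin N, gt w m re i = R i := gt_eq vR
  obtain ⟨vf, vi, hrep, hleaf⟩ := search_use hC hd (X := P) (X' := P ^ r) (x := gt w m pe) (x' := iterF (gt w m pe) r)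
    hfnP (fun i => by rw [iterF_eq, iter_eq hfnP]) hR hs x hx (fun a => by
      have := congrArg (fun g : Equiv.Perm (Fin N) => g a) hxr
      simpa [Equiv.Perm.mul_apply] using this)
  unfold conjLeafQ at hleaf
  have hq := powFix_complete (c := vf) (fun i => (hrep i).1) hxq hC.base_lt
  rw [hq] at hleaf
  simp only [Bool.not_true, Bool.false_or] at hleaf
  unfold conjLeaf at hleaf
  rw [List.any_eq_true] at hleaf
  obtain ⟨c, hc, hleaf⟩ := hleaf
  have hcp : c ≤ p := (List.mem_range.1 hc).le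
  rw [List.all_eq_true] at hleaf
  refine ⟨c, hC.eq_of_base hx (K.mul_mem (K.mul_mem (K.pow_mem mP c) mR) (K.inv_mem (K.pow_mem mP c))) ?_⟩
  intro b hb hlt
  have h1 := Nat.eq_of_beq_eq_true (hleaf b hb)
  have h2 : (P ^ c)⁻¹ = P ^ (p - c) := by
    rw [inv_eq_iff_mul_eq_one, ← pow_add, Nat.add_sub_cancel' hcp, hpow]
  apply Fin.ext
  have h3 := (hrep ⟨b, hlt⟩).1
  simp only at h3
  rw [← h3, h1, iterF_eq, iterF_eq]
  have h4 := iter_eq hfnP (p - c) ⟨b, hlt⟩
  simp only at h4
  rw [h4, hfnR]
  have h5 := iter_eq hfnP c (R ((P ^ (p - c)) ⟨b, hlt⟩))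
  rw [h5, h2]
  rfl

/-- The normalisation of the image of `ρ`, with the order of `ρ`. -/
theorem step_rho_q {G : Type*} [Group G] {H : Subgroup G} {F : G → G} {π ρ : G} {p r q : ℕ} [Fact p.Prime]
    (hF : PHom H F) (hπ : π ∈ H) (hρ : ρ ∈ H) (hπp : π ^ p = 1) (hρπ : ρ * π = π ^ r * ρ) (hρq : ρ ^ q = 1)
    (hconj : ∀ x ∈ H, x * π = π ^ r * x → x ^ q = 1 → ∃ c : ℕ, x = π ^ c * ρ * (π ^ c)⁻¹)
    (hFπ : F π = π) : ∃ h ∈ H, conjF h F π = π ∧ conjF h F ρ = ρ := by
  have hrel : F ρ * F π = F π ^ r * F ρ := by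
    rw [← hF.mul ρ hρ π hπ, hρπ, hF.mul _ (H.pow_mem hπ r) _ hρ, hF.map_pow hπ]
  rw [hFπ] at hrel
  have hq : F ρ ^ q = 1 := by
    rw [← hF.map_pow hρ, hρq, hF.map_one]
  obtain ⟨c, hc⟩ := hconj (F ρ) (hF.mem ρ hρ) hrel hq
  refine ⟨(π ^ c)⁻¹, H.inv_mem (H.pow_mem hπ c), ?_, ?_⟩
  · rw [conjF_apply, hFπ, inv_inv]
    have : Commute (π ^ c)⁻¹ π := ((Commute.refl π).pow_left c).inv_left
    rw [this.eq]
    group
  · rw [conjF_apply, hc]
    group

/-- The version of `inner_or_twist` with the order of `ρ`, and with inner maps at the end. -/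
theorem inner_or_twist_gen {G : Type*} [Group G] {H : Subgroup G} {F : G → G} {π ρ τ : G} {p r q : ℕ} [Finite H]
    [Fact p.Prime] (hτH : ∀ x ∈ H, τ * x * τ⁻¹ ∈ H) (hτπ : τ * π⁻¹ * τ⁻¹ = π)
    (hπ : π ∈ H) (hρ : ρ ∈ H) (hp2 : ¬ p ^ 2 ∣ Nat.card H)
    (hπp : π ^ p = 1) (hπ1 : π ≠ 1) (hρπ : ρ * π = π ^ r * ρ) (hρq : ρ ^ q = 1)
    (hexp : ∀ k, ¬ p ∣ k → ∃ j, (k * r ^ j) % p = 1 ∨ (k * r ^ j) % p = p - 1)
    (hconj : ∀ x ∈ H, x * π = π ^ r * x → x ^ q = 1 → ∃ c : ℕ, x = π ^ c * ρ * (π ^ c)⁻¹)
    (hfin : ∀ F', PHom H F' → F' π = π → F' ρ = ρ → IsInnerF H F')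
    (hF : PHom H F) : IsInnerF H F ∨ IsInnerF H (conjF τ F) := by
  have hp : p.Prime := Fact.out
  obtain ⟨h1, hh1, e, he, h1F⟩ := step_sylow hF hπ hρ hp2 hπp hπ1 hρπ hexp
  have hfinish : ∀ F', PHom H F' → F' π = π → IsInnerF H F' := by
    intro F' hF' hπ'
    obtain ⟨h2, hh2, h2π, h2ρ⟩ := step_rho_q hF' hπ hρ hπp hρπ hρq hconj hπ'
    have hF2 := hF'.conj (conj_mem_of_mem hh2)
    exact IsInnerF.of_conj hh2 (hfin _ hF2 h2π h2ρ)
  rcases he with rfl | rfl
  · left
    refine IsInnerF.of_conj hh1 (hfinish _ (hF.conj (conj_mem_of_mem hh1)) ?_)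
    rw [conjF_apply, h1F, pow_one]
  · right
    have hinv : π ^ (p - 1) = π⁻¹ := by
      rw [eq_inv_iff_mul_eq_one, ← pow_succ, Nat.sub_add_cancel hp.one_le, hπp]
    have hk' : τ * h1 * τ⁻¹ ∈ H := hτH _ hh1
    refine IsInnerF.of_conj hk' (hfinish _ ((hF.conj hτH).conj (conj_mem_of_mem hk')) ?_)
    have : conjF (τ * h1 * τ⁻¹) (conjF τ F) π = τ * (h1 * F π * h1⁻¹) * τ⁻¹ := by
      simp only [conjF]
      group
    rw [this, h1F, hinv, hτπ]

/-- The leaves of the last search when a map fixing `π` and `ρ` is inner: the image of `y` is `y`, or a conjugate of it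
by an element of the list, which commute with `π` and `ρ`, or is excluded by the orders of words. -/
noncomputable def finLeafT (w m : Nat) (pe re ye : Elt) (ts : List Elt) (kills : List (List Nat × Nat)) (pts : List Nat)
    (vf _vi : Nat → Nat) : Bool :=
  eqB vf (gt w m ye) pts || ts.any (fun t => eqB vf (fun b => gt w m t (gt w m ye (gi w m t b))) pts) ||
    killed (gt w m pe) (gt w m re) vf kills pts

/-- A map fixing `π` and `ρ` is inner. -/
theorem hfinT_of_search {pe re ye ze : Elt} {zk : Nat} {lr : List (Lv × Rule)} {kills : List (List Nat × Nat)}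
    {ts : List Elt} (hC : ChainFor w m N tw tm K (lr.map Prod.fst)) (hd : N ≤ 2 ^ d)
    (hgen : hdG (lr.map Prod.fst) = [pe, re, ye])
    (vP : validB w m N pe = true) (vR : validB w m N re = true) (vY : validB w m N ye = true)
    (hts : ∀ t ∈ ts, validB w m N t = true ∧ permOf w m N t ∈ K ∧ permOf w m N t * permOf w m N pe = permOf w m N pe * permOf w m N t ∧
      permOf w m N t * permOf w m N re = permOf w m N re * permOf w m N t)
    (vZ : validB w m N ze = true) (hZ : permOf w m N ze = permOf w m N re ^ zk)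
    (hyZ : permOf w m N ye * permOf w m N ze = permOf w m N ze * permOf w m N ye)
    (hR : rulesOK N (gt w m ze) [] lr = true)
    (hs : searchF w m N tw tm d (gt w m ze) (finLeafT w m pe re ye ts kills (baseL (lr.map Prod.fst))) lr id id = true)
    (hk : killsOK N d (gt w m pe) (gt w m re) (gt w m ye) kills = true)
    {F : Equiv.Perm (Fin N) → Equiv.Perm (Fin N)} (hF : PHom K F)
    (hFP : F (permOf w m N pe) = permOf w m N pe) (hFR : F (permOf w m N re) = permOf w m N re) :
    IsInnerF K F := by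
  set P := permOf w m N pe with hP
  set R := permOf w m N re with hRR
  set Y := permOf w m N ye with hY
  set Z := permOf w m N ze with hZZ
  have hfnP : ∀ i : Fin N, gt w m pe i = P i := gt_eq vP
  have hfnR : ∀ i : Fin N, gt w m re i = R i := gt_eq vR
  have hfnY : ∀ i : Fin N, gt w m ye i = Y i := gt_eq vY
  have hfnZ : ∀ i : Fin N, gt w m ze i = Z i := gt_eq vZ
  have hgK := hC.gen_eq
  rw [hgen] at hgK
  have mP : P ∈ K := hgK ▸ permOf_mem_genGroup (by simp)
  have mR : R ∈ K := hgK ▸ permOf_mem_genGroup (by simp)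
  have mY : Y ∈ K := hgK ▸ permOf_mem_genGroup (by simp)
  have mZ : Z ∈ K := hZ ▸ K.pow_mem mR zk
  have hfix : ∀ F' : Equiv.Perm (Fin N) → Equiv.Perm (Fin N), PHom K F' → F' P = P → F' R = R → F' Y = Y →
      ∀ x ∈ K, F' x = x := by
    intro F' hF' h1 h2 h3
    refine eq_id_of_fix_gens hF' (S := {x | ∃ e ∈ [pe, re, ye], permOf w m N e = x}) hgK.ge ?_ ?_
    · rintro _ ⟨e, he, rfl⟩
      rw [← hgK]
      exact permOf_mem_genGroup he
    · rintro _ ⟨e, he, rfl⟩
      simp only [List.mem_cons, List.not_mem_nil, or_false] at he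
      rcases he with rfl | rfl | rfl
      · exact h1
      · exact h2
      · exact h3
  have hFZ : F Z = Z := by
    rw [hZ, hF.map_pow mR, hFR]
  have hcomm : F Y * Z = Z * F Y := by
    have h1 := congrArg F hyZ
    rw [hF.mul _ mY _ mZ, hF.mul _ mZ _ mY, hFZ] at h1
    exact h1
  have hmFY : F Y ∈ K := hF.mem _ mY
  obtain ⟨vf, vi, hrep, hleaf⟩ := search_use hC hd (X := Z) (X' := Z) (x := gt w m ze) (x' := gt w m ze)
    hfnZ hfnZ hR hs (F Y) hmFY (fun a => by
      have := congrArg (fun g : Equiv.Perm (Fin N) => g a) hcomm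
      simpa [Equiv.Perm.mul_apply] using this)
  have hbase := hC.base_lt
  have hkill : killed (gt w m pe) (gt w m re) vf kills (baseL (lr.map Prod.fst)) = false := by
    refine killed_false hF mP mR mY (fun i => ?_) (fun i => ?_) (fun i => (hrep i).1)
      (killsOK_spec hd hfnP hfnR hfnY hk) hbase
    · rw [hFP]; exact hfnP i
    · rw [hFR]; exact hfnR i
  unfold finLeafT at hleaf
  rw [hkill] at hleaf
  simp only [Bool.or_false, Bool.or_eq_true, List.any_eq_true] at hleaf
  rcases hleaf with hleaf | ⟨t, htm, hleaf⟩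
  · refine ⟨1, K.one_mem, fun x hx => ?_⟩
    have := hfix F hF hFP hFR (hC.eq_of_base hmFY mY (fun b hb hlt => ?_)) x hx
    · rw [this]; group
    · apply Fin.ext
      have h1 := (hrep ⟨b, hlt⟩).1
      simp only at h1
      rw [← h1, eqB_spec hleaf b hb]
      exact hfnY ⟨b, hlt⟩
  · obtain ⟨vT, mT, hTP, hTR⟩ := hts t htm
    set T := permOf w m N t with hT
    have hFY : F Y = T * Y * T⁻¹ := by
      refine hC.eq_of_base hmFY (K.mul_mem (K.mul_mem mT mY) (K.inv_mem mT)) (fun b hb hlt => ?_)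
      apply Fin.ext
      have h1 := (hrep ⟨b, hlt⟩).1
      simp only at h1
      rw [← h1, eqB_spec hleaf b hb]
      exact conj_rep vT vY ⟨b, hlt⟩
    refine ⟨T⁻¹, K.inv_mem mT, fun x hx => ?_⟩
    have hF' : PHom K (conjF T⁻¹ F) := hF.conj (conj_mem_of_mem (K.inv_mem mT))
    refine hfix _ hF' ?_ ?_ ?_ x hx
    · show T⁻¹ * F P * T⁻¹⁻¹ = P
      rw [hFP, inv_inv, mul_assoc, ← hTP]
      group
    · show T⁻¹ * F R * T⁻¹⁻¹ = R
      rw [hFR, inv_inv, mul_assoc, ← hTR]
      group
    · show T⁻¹ * F Y * T⁻¹⁻¹ = Y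
      rw [hFY]
      group

/-- A leaf which is not a solution of `c * X = X' * c`. -/
noncomputable def notSol (N d : Nat) (x x' : Nat → Nat) (vf _vi : Nat → Nat) : Bool :=
  !(allN (fun i => Nat.beq (vf (x i)) (x' (vf i))) N d)

theorem notSol_false {X X' c : Equiv.Perm (Fin N)} {x x' vf vi : Nat → Nat} (hd : N ≤ 2 ^ d)
    (hx : ∀ i : Fin N, x i = X i) (hx' : ∀ i : Fin N, x' i = X' i) (hrep : Rep c vf vi) (hc : ∀ a, c (X a) = X' (c a)) :
    notSol N d x x' vf vi = false := by
  unfold notSol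
  rw [allN_eq _ hd]
  have h : allB (fun i => Nat.beq (vf (x i)) (x' (vf i))) N = true := by
    rw [allB_iff]
    intro i hi
    rw [Nat.beq_eq]
    have e1 := hx ⟨i, hi⟩
    have e2 := (hrep (X ⟨i, hi⟩)).1
    have e3 := (hrep ⟨i, hi⟩).1
    have e4 := hx' (c ⟨i, hi⟩)
    simp only at e1 e3
    rw [e1, e2, e3, e4, hc]
  rw [h]
  rfl

/-- The outer automorphism group has order two, when the outer automorphism inverts `π`, and `π` is not conjugate
to its inverse in `K`. -/
theorem card_out_two_inv {pe re ye te ze : Elt} {p r q zk : Nat} [Fact p.Prime] {lrA lrB : List (Lv × Rule)}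
    {kills : List (List Nat × Nat)} {ts : List Elt}
    (hA : ChainFor w m N tw tm K (lrA.map Prod.fst)) (hB : ChainFor w m N tw tm K (lrB.map Prod.fst)) (hd : N ≤ 2 ^ d)
    (hgen : hdG (lrB.map Prod.fst) = [pe, re, ye])
    (vP : validB w m N pe = true) (vR : validB w m N re = true) (vY : validB w m N ye = true)
    (vT : validB w m N te = true)
    (hp2 : ¬ p ^ 2 ∣ Nat.card K)
    (hpow : permOf w m N pe ^ p = 1) (hne : permOf w m N pe ≠ 1)
    (hrel : permOf w m N re * permOf w m N pe = permOf w m N pe ^ r * permOf w m N re)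
    (hRq : permOf w m N re ^ q = 1)
    (hexp : ∀ k, ¬ p ∣ k → ∃ j, (k * r ^ j) % p = 1 ∨ (k * r ^ j) % p = p - 1)
    (hτP : permOf w m N te * (permOf w m N pe)⁻¹ = permOf w m N pe * permOf w m N te)
    (hτR : permOf w m N te * permOf w m N re * (permOf w m N te)⁻¹ ∈ K)
    (hτR' : (permOf w m N te)⁻¹ * permOf w m N re * permOf w m N te ∈ K)
    (hτY : permOf w m N te * permOf w m N ye * (permOf w m N te)⁻¹ ∈ K)
    (hτY' : (permOf w m N te)⁻¹ * permOf w m N ye * permOf w m N te ∈ K)
    (hts : ∀ t ∈ ts, validB w m N t = true ∧ permOf w m N t ∈ K ∧ permOf w m N t * permOf w m N pe = permOf w m N pe * permOf w m N t ∧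
      permOf w m N t * permOf w m N re = permOf w m N re * permOf w m N t)
    (vZ : validB w m N ze = true) (hZ : permOf w m N ze = permOf w m N re ^ zk)
    (hyZ : permOf w m N ye * permOf w m N ze = permOf w m N ze * permOf w m N ye)
    (hRA : rulesOK N (gt w m pe) [] lrA = true)
    (hsA : searchF w m N tw tm d (iterF (gt w m pe) r)
      (conjLeafQ w m pe re p q (baseL (lrA.map Prod.fst))) lrA id id = true)
    (hsI : searchF w m N tw tm d (gi w m pe) (notSol N d (gt w m pe) (gi w m pe)) lrA id id = true)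
    (hRB : rulesOK N (gt w m ze) [] lrB = true)
    (hsB : searchF w m N tw tm d (gt w m ze) (finLeafT w m pe re ye ts kills (baseL (lrB.map Prod.fst))) lrB id id = true)
    (hk : killsOK N d (gt w m pe) (gt w m re) (gt w m ye) kills = true) :
    Nat.card (Out K) = 2 := by
  set P := permOf w m N pe with hP
  set R := permOf w m N re with hRR
  set Y := permOf w m N ye with hY
  set T := permOf w m N te with hT
  have hgK := hB.gen_eq
  rw [hgen] at hgK
  have mP : P ∈ K := hgK ▸ permOf_mem_genGroup (by simp)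
  have mR : R ∈ K := hgK ▸ permOf_mem_genGroup (by simp)
  have mY : Y ∈ K := hgK ▸ permOf_mem_genGroup (by simp)
  have hτP1 : T * P⁻¹ * T⁻¹ = P := by
    rw [hτP]; group
  have hτP2 : T * P * T⁻¹ = P⁻¹ := by
    have : T * P * T⁻¹ = (T * P⁻¹ * T⁻¹)⁻¹ := by group
    rw [this, hτP1]
  have hτP3 : T⁻¹ * P * T = P⁻¹ := by
    have h1 : T⁻¹ * (T * P⁻¹) = T⁻¹ * (P * T) := by rw [hτP]
    rw [← mul_assoc, inv_mul_cancel, one_mul, ← mul_assoc] at h1
    exact h1.symm
  have hnorm : ∀ Tt : Equiv.Perm (Fin N), Tt * P * Tt⁻¹ ∈ K → Tt * R * Tt⁻¹ ∈ K → Tt * Y * Tt⁻¹ ∈ K →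
      ∀ x ∈ K, Tt * x * Tt⁻¹ ∈ K := by
    intro Tt h1 h2 h3
    have hle : K ≤ K.comap (MulAut.conj Tt).toMonoidHom := by
      conv_lhs => rw [← hgK]
      refine (Subgroup.closure_le _).mpr ?_
      rintro _ ⟨e, he, rfl⟩
      simp only [List.mem_cons, List.not_mem_nil, or_false] at he
      show (MulAut.conj Tt).toMonoidHom _ ∈ K
      simp only [MulEquiv.toMonoidHom_eq_coe, MonoidHom.coe_coe, MulAut.conj_apply]
      rcases he with rfl | rfl | rfl
      · exact h1
      · exact h2
      · exact h3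
    intro x hx
    have := hle hx
    simpa [MulAut.conj_apply] using this
  have hτK : ∀ x ∈ K, T * x * T⁻¹ ∈ K := hnorm T (by rw [hτP2]; exact K.inv_mem mP) hτR hτY
  have hτK' : ∀ x ∈ K, T⁻¹ * x * T ∈ K := by
    have := hnorm T⁻¹ (by rw [inv_inv, hτP3]; exact K.inv_mem mP) (by simpa using hτR') (by simpa using hτY')
    simpa using this
  have hconj := hconjQ_of_search hA hd vP vR mP mR hpow hRA hsA
  have hfnP : ∀ i : Fin N, gt w m pe i = P i := gt_eq vP
  have hfiP : ∀ i : Fin N, gi w m pe i = (P⁻¹ : Equiv.Perm (Fin N)) i := gi_eq vP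
  refine card_out_eq_two (conjAut T hτK hτK') ?_ fun φ => ?_
  · -- the automorphism is not inner
    rintro ⟨h, hh⟩
    have hk : (h : Equiv.Perm (Fin N)) * P * (h : Equiv.Perm (Fin N))⁻¹ = T * P * T⁻¹ := by
      have := congrArg (fun ψ : MulAut K => ((ψ ⟨P, mP⟩ : K) : Equiv.Perm (Fin N))) hh
      simpa [MulAut.conj_apply, conjAut] using this
    rw [hτP2] at hk
    have h1 : (h : Equiv.Perm (Fin N)) * P = P⁻¹ * h := by
      rw [← hk]; group
    have h2 : ∀ a, (h : Equiv.Perm (Fin N)) (P a) = P⁻¹ ((h : Equiv.Perm (Fin N)) a) := fun a => by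
      have := congrArg (fun g : Equiv.Perm (Fin N) => g a) h1
      simpa [Equiv.Perm.mul_apply] using this
    obtain ⟨vf, vi, hrep, hleaf⟩ := search_use hA hd (X := P) (X' := P⁻¹) (x := gt w m pe) (x' := gi w m pe)
      hfnP hfiP hRA hsI h h.2 h2
    rw [notSol_false hd hfnP hfiP hrep h2] at hleaf
    exact absurd hleaf (by decide)
  · have hfin : ∀ F', PHom K F' → F' P = P → F' R = R → IsInnerF K F' :=
      fun F' hF' h1 h2 => hfinT_of_search hB hd hgen vP vR vY hts vZ hZ hyZ hRB hsB hk hF' h1 h2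
    rcases inner_or_twist_gen (π := P) (ρ := R) (τ := T) (p := p) (r := r) hτK hτP1 mP mR hp2 hpow hne hrel hRq hexp hconj hfin
      (pHom_ofAut φ) with h | h
    · exact Or.inl (mem_inn_of_isInnerF h)
    · exact Or.inr (mem_inn_of_conj T hτK hτK' h)

end Main

end Cfsg.Agent.Lib.Compute.OutFinal
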