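import Mathlib
import Cfsg.Agent.Lib.Compute.OutFinal
import Cfsg.Agent.Lib.Compute.OutChainC

/-!
# Outer automorphism groups of permutation groups of known order: variants for larger groups
-/

set_option autoImplicit false

namespace Cfsg.Agent.Lib.Compute.OutFinal2

open Cfsg Cfsg.Agent.Lib.Compute.PermCert Cfsg.Agent.Lib.Compute.OutChain Cfsg.Agent.Lib.Compute.OutFinal
open Cfsg.Agent.Lib.Compute.OutCert Cfsg.Agent.Lib.Compute.PermOut
open Cfsg.Agent.Lib.Compute.OutChainC
open Cfsg.Agent.Lib.Compute.ToddCoxeterCore (frc frc_eq)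

section Main

variable {w m N tw tm d : Nat} {K : Subgroup (Equiv.Perm (Fin N))}

/-! ### Variants for larger groups -/

/-- A word in a family of functions. -/
noncomputable def wordEv (ev : Nat → Nat → Nat) (u : List Nat) : Nat → Nat :=
  List.rec (motive := fun _ => Nat → Nat) (fun i => i) (fun c _ ih i => frc (ih i) (ev c)) u

/-- The top generators of a chain are given by words in the functions of a family. -/
noncomputable def gensWOK (w m N d : Nat) (ev : Nat → Nat → Nat) : List Elt → List (List Nat) → Bool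
  | [], _ => true
  | _ :: _, [] => false
  | e :: es, u :: us => allN (fun i => Nat.beq (get w m e.f i) (wordEv ev u i)) N d && gensWOK w m N d ev es us

theorem gensW_le {ev : Nat → Nat → Nat} (hd : N ≤ 2 ^ d)
    (hfn : ∀ j, ∃ x ∈ K, ∀ i : Fin N, ev j i = x i) {gens : List Elt} {us : List (List Nat)}
    (hv : gens.all (validB w m N) = true) (h : gensWOK w m N d ev gens us = true) : genGroup w m N gens ≤ K := by
  have hword : ∀ u : List Nat, ∃ x ∈ K, ∀ i : Fin N, wordEv ev u i = x i := by
    intro u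
    induction u with
    | nil => exact ⟨1, K.one_mem, fun i => rfl⟩
    | cons c u ih =>
      obtain ⟨x, hx, hfx⟩ := ih
      obtain ⟨y, hy, hfy⟩ := hfn c
      refine ⟨y * x, K.mul_mem hy hx, fun i => ?_⟩
      have h1 : wordEv ev (c :: u) i = frc (wordEv ev u i) (ev c) := rfl
      rw [h1, frc_eq, hfx, hfy]
      rfl
  refine (Subgroup.closure_le _).mpr ?_
  rintro _ ⟨e, he, rfl⟩
  induction gens generalizing us with
  | nil => cases he
  | cons a es ih =>
    cases us with
    | nil => simp [gensWOK] at h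
    | cons u us =>
      simp only [gensWOK, Bool.and_eq_true] at h
      simp only [List.all_cons, Bool.and_eq_true] at hv
      rcases List.mem_cons.1 he with rfl | he'
      · obtain ⟨x, hx, hfx⟩ := hword u
        have : permOf w m N e = x := eq_of_check (gt_eq hv.1) hfx hd h.1
        rw [this]
        exact hx
      · exact ih hv.2 h.2 he'

/-- The search (in the unfolded form) for the solutions of `c * X = X' * c`, where the leaves are first tested. -/
theorem search_useS {lr : List (Lv × Rule)} (hC : ChainFor w m N tw tm K (lr.map Prod.fst)) (hd : N ≤ 2 ^ d)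
    {X X' : Equiv.Perm (Fin N)} {x x' : Nat → Nat} (hx : ∀ i : Fin N, x i = (X i : Nat))
    (hx' : ∀ i : Fin N, x' i = (X' i : Nat)) (hR : rulesOK N x [] lr = true)
    {P : (Nat → Nat) → (Nat → Nat) → Bool}
    (hs : search w m N tw tm x' (fun vf vi => notSol N d x x' vf vi || P vf vi) lr id id = true) :
    ∀ c ∈ K, (∀ a, c (X a) = X' (c a)) → ∃ vf vi, Rep c vf vi ∧ P vf vi = true := by
  intro c hc hcx
  obtain ⟨vf, vi, hrep, hleaf⟩ := search_main hx hx' hC.chk hC.le hC.ord hR hs c hc hcx
  rw [notSol_false hd hx hx' hrep hcx] at hleaf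
  exact ⟨vf, vi, hrep, by simpa using hleaf⟩

/-- The elements acting like `ρ` on `π`, from the search. -/
theorem hconjS_of_search {pe re : Elt} {p r : Nat} {lr : List (Lv × Rule)}
    (hC : ChainFor w m N tw tm K (lr.map Prod.fst)) (hd : N ≤ 2 ^ d)
    (vP : validB w m N pe = true) (vR : validB w m N re = true)
    (mP : permOf w m N pe ∈ K) (mR : permOf w m N re ∈ K)
    (hpow : permOf w m N pe ^ p = 1)
    (hs : ∀ c ∈ K, (∀ a, c (permOf w m N pe a) = (permOf w m N pe ^ r) (c a)) →
      ∃ vf vi, Rep c vf vi ∧ conjLeaf w m pe re p (baseL (lr.map Prod.fst)) vf vi = true) :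
    ∀ x ∈ K, x * permOf w m N pe = permOf w m N pe ^ r * x →
      ∃ c : ℕ, x = permOf w m N pe ^ c * permOf w m N re * (permOf w m N pe ^ c)⁻¹ := by
  intro x hx hxr
  set P := permOf w m N pe with hP
  set R := permOf w m N re with hRR
  have hfnP : ∀ i : Fin N, gt w m pe i = P i := gt_eq vP
  have hfnR : ∀ i : Fin N, gt w m re i = R i := gt_eq vR
  obtain ⟨vf, vi, hrep, hleaf⟩ := hs x hx (fun a => by
      have := congrArg (fun g : Equiv.Perm (Fin N) => g a) hxr
      simpa [Equiv.Perm.mul_apply] using this)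
  unfold conjLeaf at hleaf
  rw [List.any_eq_true] at hleaf
  obtain ⟨c, hc, hleaf⟩ := hleaf
  have hcp : c ≤ p := (List.mem_range.1 hc).le
  rw [List.all_eq_true] at hleaf
  refine ⟨c, hC.eq_of_base hx (K.mul_mem (K.mul_mem (K.pow_mem mP c) mR) (K.inv_mem (K.pow_mem mP c))) ?_⟩
  intro b hb hlt
  have h1 := Nat.eq_of_beq_eq_true (hleaf b hb)
  have h2 : (P ^ c)⁻¹ = P ^ (p - c) := by
    rw [inv_eq_iff_mul_eq_one, ← pow_add, Nat.add_sub_cancel' hcp, hpow]
  apply Fin.ext
  have h3 := (hrep ⟨b, hlt⟩).1
  simp only at h3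
  rw [← h3, h1, iterF_eq, iterF_eq]
  have h4 := iter_eq hfnP (p - c) ⟨b, hlt⟩
  simp only at h4
  rw [h4, hfnR]
  have h5 := iter_eq hfnP c (R ((P ^ (p - c)) ⟨b, hlt⟩))
  rw [h5, h2]
  rfl

/-- The search for the solutions of `c * X = X' * c`, where the leaves are first tested. -/
theorem search_useN {lr : List (Lv × Rule)} (hC : ChainFor w m N tw tm K (lr.map Prod.fst)) (hd : N ≤ 2 ^ d)
    {X X' : Equiv.Perm (Fin N)} {x x' : Nat → Nat} (hx : ∀ i : Fin N, x i = (X i : Nat))
    (hx' : ∀ i : Fin N, x' i = (X' i : Nat)) (hR : rulesOK N x [] lr = true)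
    {P : (Nat → Nat) → (Nat → Nat) → Bool}
    (hs : searchF w m N tw tm d x' (fun vf vi => notSol N d x x' vf vi || P vf vi) lr id id = true) :
    ∀ c ∈ K, (∀ a, c (X a) = X' (c a)) → ∃ vf vi, Rep c vf vi ∧ P vf vi = true := by
  intro c hc hcx
  obtain ⟨vf, vi, hrep, hleaf⟩ := search_use hC hd hx hx' hR hs c hc hcx
  rw [notSol_false hd hx hx' hrep hcx] at hleaf
  exact ⟨vf, vi, hrep, by simpa using hleaf⟩

/-- The elements acting like `ρ` on `π` from the search with tested leaves. -/
theorem hconjN_of_search {pe re : Elt} {p r : Nat} {lr : List (Lv × Rule)}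
    (hC : ChainFor w m N tw tm K (lr.map Prod.fst)) (hd : N ≤ 2 ^ d)
    (vP : validB w m N pe = true) (vR : validB w m N re = true)
    (mP : permOf w m N pe ∈ K) (mR : permOf w m N re ∈ K)
    (hpow : permOf w m N pe ^ p = 1)
    (hR : rulesOK N (gt w m pe) [] lr = true)
    (hs : searchF w m N tw tm d (iterF (gt w m pe) r)
      (fun vf vi => notSol N d (gt w m pe) (iterF (gt w m pe) r) vf vi ||
        conjLeaf w m pe re p (baseL (lr.map Prod.fst)) vf vi) lr id id = true) :
    ∀ x ∈ K, x * permOf w m N pe = permOf w m N pe ^ r * x →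
      ∃ c : ℕ, x = permOf w m N pe ^ c * permOf w m N re * (permOf w m N pe ^ c)⁻¹ := by
  intro x hx hxr
  set P := permOf w m N pe with hP
  set R := permOf w m N re with hRR
  have hfnP : ∀ i : Fin N, gt w m pe i = P i := gt_eq vP
  have hfnR : ∀ i : Fin N, gt w m re i = R i := gt_eq vR
  obtain ⟨vf, vi, hrep, hleaf⟩ := search_useN hC hd (X := P) (X' := P ^ r) (x := gt w m pe) (x' := iterF (gt w m pe) r)
    hfnP (fun i => by rw [iterF_eq, iter_eq hfnP]) hR hs x hx (fun a => by
      have := congrArg (fun g : Equiv.Perm (Fin N) => g a) hxr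
      simpa [Equiv.Perm.mul_apply] using this)
  unfold conjLeaf at hleaf
  rw [List.any_eq_true] at hleaf
  obtain ⟨c, hc, hleaf⟩ := hleaf
  have hcp : c ≤ p := (List.mem_range.1 hc).le
  rw [List.all_eq_true] at hleaf
  refine ⟨c, hC.eq_of_base hx (K.mul_mem (K.mul_mem (K.pow_mem mP c) mR) (K.inv_mem (K.pow_mem mP c))) ?_⟩
  intro b hb hlt
  have h1 := Nat.eq_of_beq_eq_true (hleaf b hb)
  have h2 : (P ^ c)⁻¹ = P ^ (p - c) := by
    rw [inv_eq_iff_mul_eq_one, ← pow_add, Nat.add_sub_cancel' hcp, hpow]
  apply Fin.ext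
  have h3 := (hrep ⟨b, hlt⟩).1
  simp only at h3
  rw [← h3, h1, iterF_eq, iterF_eq]
  have h4 := iter_eq hfnP (p - c) ⟨b, hlt⟩
  simp only at h4
  rw [h4, hfnR]
  have h5 := iter_eq hfnP c (R ((P ^ (p - c)) ⟨b, hlt⟩))
  rw [h5, h2]
  rfl

/-- There are no outer automorphisms, in the case where `π` may not be conjugate to its inverse; the elements acting
on `π` like `ρ` are given. -/
theorem card_out_one_inv' {pe re ye ze : Elt} {p r zk : Nat} [Fact p.Prime] {lrB : List (Lv × Rule)}
    {kills : List (List Nat × Nat)}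
    (hB : ChainFor w m N tw tm K (lrB.map Prod.fst)) (hd : N ≤ 2 ^ d)
    (hgen : hdG (lrB.map Prod.fst) = [pe, re, ye])
    (vP : validB w m N pe = true) (vR : validB w m N re = true) (vY : validB w m N ye = true)
    (hp2 : ¬ p ^ 2 ∣ Nat.card K)
    (hpow : permOf w m N pe ^ p = 1) (hne : permOf w m N pe ≠ 1)
    (hrel : permOf w m N re * permOf w m N pe = permOf w m N pe ^ r * permOf w m N re)
    (hexp : ∀ k, ¬ p ∣ k → ∃ j, (k * r ^ j) % p = 1 ∨ (k * r ^ j) % p = p - 1)
    (vZ : validB w m N ze = true) (hZ : permOf w m N ze = permOf w m N re ^ zk)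
    (hyZ : permOf w m N ye * permOf w m N ze = permOf w m N ze * permOf w m N ye)
    (hconj : ∀ x ∈ K, x * permOf w m N pe = permOf w m N pe ^ r * x →
      ∃ c : ℕ, x = permOf w m N pe ^ c * permOf w m N re * (permOf w m N pe ^ c)⁻¹)
    (hsB : ∀ c ∈ K, (∀ a, c (permOf w m N ze a) = permOf w m N ze (c a)) →
      ∃ vf vi, Rep c vf vi ∧ finLeaf1i w m pe re ye kills (baseL (lrB.map Prod.fst)) vf vi = true)
    (hk : killsOK N d (gt w m pe) (gt w m re) (gt w m ye) kills = true) :
    Nat.card (Out K) = 1 := by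
  have hp : p.Prime := Fact.out
  set P := permOf w m N pe with hP
  set R := permOf w m N re with hRR
  set Y := permOf w m N ye with hY
  set Z := permOf w m N ze with hZZ
  have hfnP : ∀ i : Fin N, gt w m pe i = P i := gt_eq vP
  have hfiP : ∀ i : Fin N, gi w m pe i = (P⁻¹ : Equiv.Perm (Fin N)) i := gi_eq vP
  have hfnR : ∀ i : Fin N, gt w m re i = R i := gt_eq vR
  have hfnY : ∀ i : Fin N, gt w m ye i = Y i := gt_eq vY
  have hfnZ : ∀ i : Fin N, gt w m ze i = Z i := gt_eq vZ
  have hgK := hB.gen_eq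
  rw [hgen] at hgK
  have mP : P ∈ K := hgK ▸ permOf_mem_genGroup (by simp)
  have mR : R ∈ K := hgK ▸ permOf_mem_genGroup (by simp)
  have mY : Y ∈ K := hgK ▸ permOf_mem_genGroup (by simp)
  have mZ : Z ∈ K := hZ ▸ K.pow_mem mR zk
  have hfix : ∀ F' : Equiv.Perm (Fin N) → Equiv.Perm (Fin N), PHom K F' → F' P = P → F' R = R → F' Y = Y →
      ∀ x ∈ K, F' x = x := by
    intro F' hF' h1 h2 h3
    refine eq_id_of_fix_gens hF' (S := {x | ∃ e ∈ [pe, re, ye], permOf w m N e = x}) hgK.ge ?_ ?_
    · rintro _ ⟨e, he, rfl⟩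
      rw [← hgK]
      exact permOf_mem_genGroup he
    · rintro _ ⟨e, he, rfl⟩
      simp only [List.mem_cons, List.not_mem_nil, or_false] at he
      rcases he with rfl | rfl | rfl
      · exact h1
      · exact h2
      · exact h3
  have hfin : ∀ F', PHom K F' → ∀ e, (e = 1 ∨ e = p - 1) → F' P = P ^ e → F' R = R → ∀ x ∈ K, F' x = x := by
    intro F hF e he hFP hFR
    have hFZ : F Z = Z := by
      rw [hZ, hF.map_pow mR, hFR]
    have hcomm : F Y * Z = Z * F Y := by
      have h1 := congrArg F hyZ
      rw [hF.mul _ mY _ mZ, hF.mul _ mZ _ mY, hFZ] at h1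
      exact h1
    have hmFY : F Y ∈ K := hF.mem _ mY
    obtain ⟨vf, vi, hrep, hleaf⟩ := hsB (F Y) hmFY (fun a => by
        have := congrArg (fun g : Equiv.Perm (Fin N) => g a) hcomm
        simpa [Equiv.Perm.mul_apply] using this)
    have hbase := hB.base_lt
    unfold finLeaf1i at hleaf
    simp only [Bool.and_eq_true, Bool.or_eq_true] at hleaf
    obtain ⟨hl1, hl2⟩ := hleaf
    rcases he with rfl | rfl
    · rw [pow_one] at hFP
      have hkill : killed (gt w m pe) (gt w m re) vf kills (baseL (lrB.map Prod.fst)) = false := by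
        refine killed_false hF mP mR mY (fun i => ?_) (fun i => ?_) (fun i => (hrep i).1)
          (killsOK_spec hd hfnP hfnR hfnY hk) hbase
        · rw [hFP]; exact hfnP i
        · rw [hFR]; exact hfnR i
      rcases hl1 with h | h
      · refine hfix F hF hFP hFR ?_
        refine hB.eq_of_base hmFY mY (fun b hb hlt => ?_)
        apply Fin.ext
        have h1 := (hrep ⟨b, hlt⟩).1
        simp only at h1
        rw [← h1, eqB_spec h b hb]
        exact hfnY ⟨b, hlt⟩
      · rw [hkill] at h
        exact absurd h (by decide)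
    · exfalso
      have hinv : P ^ (p - 1) = P⁻¹ := by
        rw [eq_inv_iff_mul_eq_one, ← pow_succ, Nat.sub_add_cancel hp.one_le, hpow]
      rw [hinv] at hFP
      have hkill : killed (gi w m pe) (gt w m re) vf kills (baseL (lrB.map Prod.fst)) = false := by
        refine killed_false hF mP mR mY (fun i => ?_) (fun i => ?_) (fun i => (hrep i).1)
          (killsOK_spec hd hfnP hfnR hfnY hk) hbase
        · rw [hFP]; exact hfiP i
        · rw [hFR]; exact hfnR i
      rw [hkill] at hl2
      exact absurd hl2 (by decide)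
  refine card_out_eq_one fun φ => mem_inn_of_isInnerF ?_
  exact inner_of_rigid mP mR hp2 hpow hne hrel hexp hconj hfin (pHom_ofAut φ)

/-- The version of `gensWOK` with an abstract reader. -/
noncomputable def gensWL (L : Nat → Nat → Nat) (N d : Nat) (ev : Nat → Nat → Nat) : List Elt → List (List Nat) → Bool
  | [], _ => true
  | _ :: _, [] => false
  | e :: es, u :: us => allN (fun i => Nat.beq (L e.f i) (wordEv ev u i)) N d && gensWL L N d ev es us

theorem gensWL_eq {L : Nat → Nat → Nat} (hL : ∀ p i, L p i = get w m p i) (ev : Nat → Nat → Nat) (gens : List Elt)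
    (us : List (List Nat)) : gensWL L N d ev gens us = gensWOK w m N d ev gens us := by
  induction gens generalizing us with
  | nil => rfl
  | cons e es ih =>
    cases us with
    | nil => rfl
    | cons u us =>
      simp only [gensWL, gensWOK, ih, hL]

/-- The leaves of the search of the elements acting like `ρ` on `π`, with an abstract reader. -/
noncomputable def conjLeafL (L : Nat → Nat → Nat) (pe re : Elt) (p : Nat) (pts : List Nat) (vf _vi : Nat → Nat) : Bool :=
  (List.range p).any fun c => pts.all fun b => Nat.beq (vf b) (iterF (L pe.f) c (L re.f (iterF (L pe.f) (p - c) b)))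

/-- The leaves of the last search, with an abstract reader. -/
noncomputable def finLeaf1iL (L : Nat → Nat → Nat) (pe re ye : Elt) (kills : List (List Nat × Nat)) (pts : List Nat)
    (vf _vi : Nat → Nat) : Bool :=
  (eqB vf (L ye.f) pts || killed (L pe.f) (L re.f) vf kills pts) && killed (L pe.g) (L re.f) vf kills pts

theorem chkChain_cons {l : Lv} {ls : List Lv} (h1 : chkLv w m N tw tm l = true)
    (h2 : nextCheck w m N l.gens l.b (hdG ls) (hdW ls) = true) (h3 : chkChain w m N tw tm ls = true) :
    chkChain w m N tw tm (l :: ls) = true := by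
  rw [chkChain, h1, h2, h3]
  rfl

end Main

end Cfsg.Agent.Lib.Compute.OutFinal2
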