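import Mathlib
import Cfsg.Agent.Lib.Compute.OutFinal2
import Cfsg.Agent.Lib.Compute.OutChunk

/-!
# The checks of `OutChainC` cut in small steps

The top loop of a search, the last step of a sift and the comparison of generators with words can be checked in chunks.
-/

set_option autoImplicit false

namespace Cfsg.Agent.Lib.Compute.OutChunk2

open Cfsg.Agent.Lib.Compute.PermCert Cfsg.Agent.Lib.Compute.OutChain Cfsg.Agent.Lib.Compute.OutChainC
  Cfsg.Agent.Lib.Compute.OutFinal2 Cfsg.Agent.Lib.Compute.OutChunk
open Cfsg.Agent.Lib.Compute.ToddCoxeterCore (frc frc_eq)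

local notation "bB(" b ", " t ", " e ")" => Bool.rec (motive := fun _ => Bool) e t b

variable {L Lt : Nat → Nat → Nat} {w m N d : Nat}

/-- One step of a sift. -/
theorem siftL_step {l : Lv} {ls : List Lv} {g : Nat → Nat} (q e' : Nat) (hq : Nat.beq (g l.b) q = true)
    (he : Nat.beq (dep w (Lt l.tree q)) (Nat.succ e') = true)
    (h : siftL L Lt w m N d ls (fun a => frc (g a) (invUL L Lt w m l e' q)) = true) :
    siftL L Lt w m N d (l :: ls) g = true := by
  have hq' : g l.b = q := Nat.eq_of_beq_eq_true hq
  have he' : dep w (Lt l.tree q) = Nat.succ e' := Nat.eq_of_beq_eq_true he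
  rw [siftL, frc_eq, hq', frc_eq, he']
  show frc e' _ = true
  rw [frc_eq]
  exact h

/-- The last step of a sift. -/
theorem siftL_nil {g : Nat → Nat} (h : allN (fun i => Nat.beq (g i) i) N d = true) :
    siftL L Lt w m N d [] g = true := by
  rw [siftL]
  exact h

/-- The body of the loop of a search at a free level. -/
noncomputable def freeBody (L Lt : Nat → Nat → Nat) (w m N d : Nat) (x' : Nat → Nat) (P : (Nat → Nat) → (Nat → Nat) → Bool) (l : Lv)
    (k : Nat) (ls : List (Lv × Rule)) (vf vi : Nat → Nat) (y : Nat) : Bool :=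
  frc (dep w (Lt l.tree y)) fun e =>
    bB(Nat.beq e 0, true, frc (vf y) fun q =>
      bB(bB(Nat.beq k 0, true, Nat.beq (iterF x' k q) q),
        frc (Nat.pred e) fun e' => searchL L Lt w m N d x' P ls (fun a => frc (fwdUL L Lt w m l e' y a) vf)
          (fun a => frc (vi a) (invUL L Lt w m l e' y)), true))

/-- A search with a free first level. -/
theorem searchL_free {x' : Nat → Nat} {P : (Nat → Nat) → (Nat → Nat) → Bool} {l : Lv} {k : Nat} {ls : List (Lv × Rule)}
    {vf vi : Nat → Nat} (h : allN (freeBody L Lt w m N d x' P l k ls vf vi) N d = true) :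
    searchL L Lt w m N d x' P ((l, .free k) :: ls) vf vi = true := by
  rw [searchL]
  exact h

/-- The comparison of generators with words, one at a time. -/
theorem gensWL_cons {N d : Nat} {L : Nat → Nat → Nat} {ev : Nat → Nat → Nat} {e : Elt} {es : List Elt} {u : List Nat}
    {us : List (List Nat)}
    (h : allN (fun i => Nat.beq (L e.f i) (wordEv ev u i)) N d = true) (h' : gensWL L N d ev es us = true) :
    gensWL L N d ev (e :: es) (u :: us) = true := by
  rw [gensWL, h, h']
  rfl

end Cfsg.Agent.Lib.Compute.OutChunk2
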