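import Mathlib
import Cfsg.Agent.Lib.Compute.OutFinal2
import Cfsg.Agent.Lib.Compute.OutChainC

/-!
# Checks of identities in a permutation group on a base of a stabiliser chain
-/

set_option autoImplicit false

namespace Cfsg.Agent.Lib.Compute.OutFast

open Cfsg.Agent.Lib.Compute.PermCert Cfsg.Agent.Lib.Compute.OutChain Cfsg.Agent.Lib.Compute.OutFinal

variable {w m N tw tm d : Nat} {K : Subgroup (Equiv.Perm (Fin N))} {ls : List Lv}

/-- Two elements of the group, given by functions, which agree on a base, are the same. -/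
theorem eq_of_eqB (hC : ChainFor w m N tw tm K ls) {X Y : Equiv.Perm (Fin N)} (mX : X ∈ K) (mY : Y ∈ K)
    {x y : Nat → Nat} (hx : ∀ i : Fin N, x i = X i) (hy : ∀ i : Fin N, y i = Y i)
    (h : eqB x y (baseL ls) = true) : X = Y := by
  refine hC.eq_of_base mX mY fun b hb hlt => ?_
  apply Fin.ext
  rw [← hx ⟨b, hlt⟩, ← hy ⟨b, hlt⟩]
  exact eqB_spec h b hb

/-- The power of a table. -/
theorem pow_of_base (hC : ChainFor w m N tw tm K ls) {A : Elt} {k : Nat} (vA : validB w m N A = true)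
    (mA : permOf w m N A ∈ K) (h : eqB (iterF (gt w m A) k) (fun i => i) (baseL ls) = true) : permOf w m N A ^ k = 1 :=
  eq_of_eqB hC (K.pow_mem mA k) K.one_mem (fun i => by rw [iterF_eq]; exact iter_eq (gt_eq vA) _ _) (fun _ => rfl) h

/-- Two tables commute. -/
theorem comm_of_base (hC : ChainFor w m N tw tm K ls) {A B : Elt} (vA : validB w m N A = true)
    (vB : validB w m N B = true) (mA : permOf w m N A ∈ K) (mB : permOf w m N B ∈ K)
    (h : eqB (fun i => gt w m A (gt w m B i)) (fun i => gt w m B (gt w m A i)) (baseL ls) = true) :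
    permOf w m N A * permOf w m N B = permOf w m N B * permOf w m N A := by
  refine eq_of_eqB hC (K.mul_mem mA mB) (K.mul_mem mB mA) (fun i => ?_) (fun i => ?_) h
  · rw [Equiv.Perm.mul_apply, ← gt_eq vA, ← gt_eq vB]
  · rw [Equiv.Perm.mul_apply, ← gt_eq vB, ← gt_eq vA]

/-- A table acts on another one like a power. -/
theorem rel_of_base (hC : ChainFor w m N tw tm K ls) {P R : Elt} {r : Nat} (vP : validB w m N P = true)
    (vR : validB w m N R = true) (mP : permOf w m N P ∈ K) (mR : permOf w m N R ∈ K)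
    (h : eqB (fun i => gt w m R (gt w m P i)) (fun i => iterF (gt w m P) r (gt w m R i)) (baseL ls) = true) :
    permOf w m N R * permOf w m N P = permOf w m N P ^ r * permOf w m N R := by
  refine eq_of_eqB hC (K.mul_mem mR mP) (K.mul_mem (K.pow_mem mP r) mR) (fun i => ?_) (fun i => ?_) h
  · rw [Equiv.Perm.mul_apply, ← gt_eq vR, ← gt_eq vP]
  · rw [Equiv.Perm.mul_apply, iterF_eq, gt_eq vR i]
    exact iter_eq (gt_eq vP) r (permOf w m N R i)

/-- The check of the words which exclude candidates, on a base. -/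
theorem killsOK_of_base (hC : ChainFor w m N tw tm K ls) (hd : N ≤ 2 ^ d) {a b v : Nat → Nat}
    {A B V : Equiv.Perm (Fin N)} (mA : A ∈ K) (mB : B ∈ K) (mV : V ∈ K) (ha : ∀ i : Fin N, a i = A i)
    (hb : ∀ i : Fin N, b i = B i) (hv : ∀ i : Fin N, v i = V i) {kills : List (List Nat × Nat)}
    (h : kills.all (fun wm => eqB (iterF (wFn a b v wm.1) wm.2) (fun i => i) (baseL ls)) = true) :
    killsOK N d a b v kills = true := by
  unfold killsOK
  rw [List.all_eq_true]
  intro wm hwm
  have h1 := List.all_eq_true.1 h wm hwm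
  have h2 : wPerm A B V wm.1 ^ wm.2 = 1 :=
    eq_of_eqB hC (K.pow_mem (wPerm_mem mA mB mV _) _) K.one_mem
      (fun i => by rw [iterF_eq]; exact iter_eq (fun i => wFn_eq ha hb hv wm.1 i) _ _) (fun _ => rfl) h1
  rw [allN_eq _ hd, allB_iff]
  intro i hi
  have h3 := congrArg (fun g : Equiv.Perm (Fin N) => ((g ⟨i, hi⟩ : Fin N) : Nat)) h2
  simp only [Equiv.Perm.coe_one, id_eq] at h3
  rw [iterF_eq, Nat.beq_eq]
  have h4 := iter_eq (fun i => wFn_eq ha hb hv wm.1 i) wm.2 ⟨i, hi⟩
  exact h4.trans h3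

/-- A search where the leaves are tested last. -/
theorem search_useO {lr : List (Lv × Rule)} (hC : ChainFor w m N tw tm K (lr.map Prod.fst)) (hd : N ≤ 2 ^ d)
    {X X' : Equiv.Perm (Fin N)} {x x' : Nat → Nat} (hx : ∀ i : Fin N, x i = (X i : Nat))
    (hx' : ∀ i : Fin N, x' i = (X' i : Nat)) (hR : rulesOK N x [] lr = true)
    {P : (Nat → Nat) → (Nat → Nat) → Bool}
    (hs : search w m N tw tm x' (fun vf vi => P vf vi || notSol N d x x' vf vi) lr id id = true) :
    ∀ c ∈ K, (∀ a, c (X a) = X' (c a)) → ∃ vf vi, Rep c vf vi ∧ P vf vi = true := by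
  intro c hc hcx
  obtain ⟨vf, vi, hrep, hleaf⟩ := search_main hx hx' hC.chk hC.le hC.ord hR hs c hc hcx
  rw [notSol_false hd hx hx' hrep hcx] at hleaf
  exact ⟨vf, vi, hrep, by simpa using hleaf⟩

/-- A search. -/
theorem search_useP {lr : List (Lv × Rule)} (hC : ChainFor w m N tw tm K (lr.map Prod.fst))
    {X X' : Equiv.Perm (Fin N)} {x x' : Nat → Nat} (hx : ∀ i : Fin N, x i = (X i : Nat))
    (hx' : ∀ i : Fin N, x' i = (X' i : Nat)) (hR : rulesOK N x [] lr = true)
    {P : (Nat → Nat) → (Nat → Nat) → Bool}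
    (hs : search w m N tw tm x' P lr id id = true) :
    ∀ c ∈ K, (∀ a, c (X a) = X' (c a)) → ∃ vf vi, Rep c vf vi ∧ P vf vi = true :=
  search_main hx hx' hC.chk hC.le hC.ord hR hs

end Cfsg.Agent.Lib.Compute.OutFast
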