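import Mathlib
import Cfsg.Agent.Lib.Compute.OutCert

/-!
# Outer automorphism groups: an automorphism moving the class of an element of prime order

Let `π` be an element of prime order `p` of a finite group `A`, with `p ^ 2` not dividing the order of `A`, and let `ρ`
act on `⟨π⟩` with the `k r ^ j` being `1` or `a` modulo `p`, and let `σ` be an automorphism mapping `π` to `π ^ a`, which is
not conjugate to `π`.  If the automorphisms fixing `π` and `ρ` are inner, the outer automorphism group has order two.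
-/

set_option autoImplicit false

namespace Cfsg.Agent.Lib.Compute.OutSigma

open Cfsg Cfsg.Agent.Lib.Compute.OutCert

variable {A : Type*} [Group A]

theorem conj_mem_inn (g : A) : MulAut.conj g ∈ Inn A := ⟨g, rfl⟩

/-- An automorphism fixing `π` is inner. -/
theorem inner_of_fix {r q : ℕ} {π ρ : A} (hρπ : ρ * π = π ^ r * ρ) (hρq : ρ ^ q = 1)
    (hconj : ∀ x : A, x * π = π ^ r * x → x ^ q = 1 → ∃ c : ℕ, x = π ^ c * ρ * (π ^ c)⁻¹)
    (hfin : ∀ ψ : MulAut A, ψ π = π → ψ ρ = ρ → ψ ∈ Inn A) (ψ : MulAut A) (hψ : ψ π = π) : ψ ∈ Inn A := by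
  have h1 : ψ ρ * π = π ^ r * ψ ρ := by
    have := congrArg ψ hρπ
    rwa [map_mul, map_mul, map_pow, hψ] at this
  have h2 : ψ ρ ^ q = 1 := by
    rw [← map_pow, hρq, map_one]
  obtain ⟨c, hc⟩ := hconj _ h1 h2
  have hin := hfin (MulAut.conj (π ^ c)⁻¹ * ψ) (by
    rw [MulAut.mul_apply, hψ, MulAut.conj_apply, inv_inv]
    have : Commute (π ^ c)⁻¹ π := ((Commute.refl π).pow_left c).inv_left
    rw [this.eq]
    group) (by
    rw [MulAut.mul_apply, hc, MulAut.conj_apply]
    group)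
  have e1 : ψ = MulAut.conj (π ^ c) * (MulAut.conj (π ^ c)⁻¹ * ψ) := by
    rw [map_inv]
    group
  rw [e1]
  exact (Inn A).mul_mem (conj_mem_inn _) hin

/-- The outer automorphism group has order two. -/
theorem card_out_two_sigma [Finite A] {p r a q : ℕ} [Fact p.Prime] {π ρ : A} (σ : MulAut A)
    (hp2 : ¬ p ^ 2 ∣ Nat.card A) (hπp : π ^ p = 1) (hπ1 : π ≠ 1) (hρπ : ρ * π = π ^ r * ρ) (hρq : ρ ^ q = 1)
    (hexp : ∀ k, ¬ p ∣ k → ∃ j, (k * r ^ j) % p = 1 ∨ (k * r ^ j) % p = a % p)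
    (hσ : σ π = π ^ a)
    (hconj : ∀ x : A, x * π = π ^ r * x → x ^ q = 1 → ∃ c : ℕ, x = π ^ c * ρ * (π ^ c)⁻¹)
    (hnot : ∀ x : A, x * π ≠ π ^ a * x)
    (hfin : ∀ ψ : MulAut A, ψ π = π → ψ ρ = ρ → ψ ∈ Inn A) :
    Nat.card (Out A) = 2 := by
  have hp : p.Prime := Fact.out
  refine card_out_eq_two σ⁻¹ ?_ fun φ => ?_
  · intro h
    have h1 : σ ∈ Inn A := by
      have := (Inn A).inv_mem h
      simpa using this
    obtain ⟨g, hg⟩ := h1
    apply hnot g
    have h2 : g * π * g⁻¹ = π ^ a := by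
      rw [← hσ, ← hg]
      rfl
    rw [← h2]
    group
  · have ho : orderOf π = p := orderOf_eq_prime hπp hπ1
    have hx1 : φ π ≠ 1 := by
      intro h
      exact hπ1 ((map_eq_one_iff φ φ.injective).1 h)
    have hxp : φ π ^ p = 1 := by
      rw [← map_pow, hπp, map_one]
    have hox : orderOf (φ π) = p := orderOf_eq_prime hxp hx1
    obtain ⟨g, k, hgk⟩ := exists_conj_eq_pow hp2 ho hox
    have hk : ¬ p ∣ k := by
      rintro ⟨t, rfl⟩
      apply hx1
      rw [pow_mul, hπp, one_pow] at hgk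
      have : φ π = g⁻¹ * (g * φ π * g⁻¹) * g := by group
      rw [this, hgk]
      group
    obtain ⟨j, hj⟩ := hexp k hk
    set h := ρ ^ j * g with hh
    have hmod : ∀ n : ℕ, π ^ n = π ^ (n % p) := pow_eq_pow_mod_of hπp
    have h1 : h * φ π * h⁻¹ = π ^ (k * r ^ j) := by
      rw [← rho_pow_conj hρπ j k, ← hgk, hh]
      group
    have hcomp : (MulAut.conj h * φ) π = π ^ (k * r ^ j) := by
      rw [MulAut.mul_apply, MulAut.conj_apply, h1]
    have hfix := inner_of_fix hρπ hρq hconj hfin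
    have hφ : φ = MulAut.conj h⁻¹ * (MulAut.conj h * φ) := by
      rw [map_inv]
      group
    rcases hj with hj | hj
    · left
      rw [hφ]
      refine (Inn A).mul_mem (conj_mem_inn _) (hfix _ ?_)
      rw [hcomp, hmod, hj, pow_one]
    · right
      have e1 : (σ⁻¹ * (MulAut.conj h * φ)) π = π := by
        rw [MulAut.mul_apply, hcomp, hmod, hj, ← hmod, ← hσ]
        simp
      have hin := hfix _ e1
      have e2 : σ⁻¹ * φ = (σ⁻¹ * MulAut.conj h⁻¹ * σ) * (σ⁻¹ * (MulAut.conj h * φ)) := by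
        rw [map_inv]
        group
      rw [e2]
      refine (Inn A).mul_mem ?_ hin
      have := (innNormal A).conj_mem _ (conj_mem_inn h⁻¹) σ⁻¹
      simpa using this

end Cfsg.Agent.Lib.Compute.OutSigma
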