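import Mathlib
import Cfsg.Agent.Lib.Compute.OutFinal2
import Cfsg.Agent.Lib.Compute.OutSigma

/-!
# Outer automorphism groups of permutation groups of known order: a permutation moving the class of `π`
-/

set_option autoImplicit false

namespace Cfsg.Agent.Lib.Compute.OutFinal3

open Cfsg Cfsg.Agent.Lib.Compute.PermCert Cfsg.Agent.Lib.Compute.OutChain Cfsg.Agent.Lib.Compute.OutFinal
open Cfsg.Agent.Lib.Compute.OutFinal2 Cfsg.Agent.Lib.Compute.OutSigma
open Cfsg.Agent.Lib.Compute.OutCert Cfsg.Agent.Lib.Compute.PermOut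

section Main

variable {w m N tw tm d : Nat} {K : Subgroup (Equiv.Perm (Fin N))}

/-- A map fixing `π` and `ρ` is inner, when the images of `y` are given by the leaves of a search. -/
theorem hfinT_of_leaf {pe re ye ze : Elt} {zk : Nat} {lr : List (Lv × Rule)} {kills : List (List Nat × Nat)}
    {ts : List Elt} (hC : ChainFor w m N tw tm K (lr.map Prod.fst)) (hd : N ≤ 2 ^ d)
    (hgen : hdG (lr.map Prod.fst) = [pe, re, ye])
    (vP : validB w m N pe = true) (vR : validB w m N re = true) (vY : validB w m N ye = true)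
    (hts : ∀ t ∈ ts, validB w m N t = true ∧ permOf w m N t ∈ K ∧ permOf w m N t * permOf w m N pe = permOf w m N pe * permOf w m N t ∧
      permOf w m N t * permOf w m N re = permOf w m N re * permOf w m N t)
    (hZ : permOf w m N ze = permOf w m N re ^ zk)
    (hyZ : permOf w m N ye * permOf w m N ze = permOf w m N ze * permOf w m N ye)
    (hs : ∀ c ∈ K, (∀ a, c (permOf w m N ze a) = permOf w m N ze (c a)) →
      ∃ vf vi, Rep c vf vi ∧ finLeafT w m pe re ye ts kills (baseL (lr.map Prod.fst)) vf vi = true)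
    (hk : killsOK N d (gt w m pe) (gt w m re) (gt w m ye) kills = true)
    {F : Equiv.Perm (Fin N) → Equiv.Perm (Fin N)} (hF : PHom K F)
    (hFP : F (permOf w m N pe) = permOf w m N pe) (hFR : F (permOf w m N re) = permOf w m N re) :
    IsInnerF K F := by
  set P := permOf w m N pe with hP
  set R := permOf w m N re with hRR
  set Y := permOf w m N ye with hY
  set Z := permOf w m N ze with hZZ
  have hfnP : ∀ i : Fin N, gt w m pe i = P i := gt_eq vP
  have hfnR : ∀ i : Fin N, gt w m re i = R i := gt_eq vR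
  have hfnY : ∀ i : Fin N, gt w m ye i = Y i := gt_eq vY
  have hgK := hC.gen_eq
  rw [hgen] at hgK
  have mP : P ∈ K := hgK ▸ permOf_mem_genGroup (by simp)
  have mR : R ∈ K := hgK ▸ permOf_mem_genGroup (by simp)
  have mY : Y ∈ K := hgK ▸ permOf_mem_genGroup (by simp)
  have mZ : Z ∈ K := hZ ▸ K.pow_mem mR zk
  have hfix : ∀ F' : Equiv.Perm (Fin N) → Equiv.Perm (Fin N), PHom K F' → F' P = P → F' R = R → F' Y = Y →
      ∀ x ∈ K, F' x = x := by
    intro F' hF' h1 h2 h3
    refine eq_id_of_fix_gens hF' (S := {x | ∃ e ∈ [pe, re, ye], permOf w m N e = x}) hgK.ge ?_ ?_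
    · rintro _ ⟨e, he, rfl⟩
      rw [← hgK]
      exact permOf_mem_genGroup he
    · rintro _ ⟨e, he, rfl⟩
      simp only [List.mem_cons, List.not_mem_nil, or_false] at he
      rcases he with rfl | rfl | rfl
      · exact h1
      · exact h2
      · exact h3
  have hFZ : F Z = Z := by
    rw [hZ, hF.map_pow mR, hFR]
  have hcomm : F Y * Z = Z * F Y := by
    have h1 := congrArg F hyZ
    rw [hF.mul _ mY _ mZ, hF.mul _ mZ _ mY, hFZ] at h1
    exact h1
  have hmFY : F Y ∈ K := hF.mem _ mY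
  obtain ⟨vf, vi, hrep, hleaf⟩ := hs (F Y) hmFY (fun a => by
      have := congrArg (fun g : Equiv.Perm (Fin N) => g a) hcomm
      simpa [Equiv.Perm.mul_apply] using this)
  have hbase := hC.base_lt
  have hkill : killed (gt w m pe) (gt w m re) vf kills (baseL (lr.map Prod.fst)) = false := by
    refine killed_false hF mP mR mY (fun i => ?_) (fun i => ?_) (fun i => (hrep i).1)
      (killsOK_spec hd hfnP hfnR hfnY hk) hbase
    · rw [hFP]; exact hfnP i
    · rw [hFR]; exact hfnR i
  unfold finLeafT at hleaf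
  rw [hkill] at hleaf
  simp only [Bool.or_false, Bool.or_eq_true, List.any_eq_true] at hleaf
  rcases hleaf with hleaf | ⟨t, htm, hleaf⟩
  · refine ⟨1, K.one_mem, fun x hx => ?_⟩
    have := hfix F hF hFP hFR (hC.eq_of_base hmFY mY (fun b hb hlt => ?_)) x hx
    · rw [this]; group
    · apply Fin.ext
      have h1 := (hrep ⟨b, hlt⟩).1
      simp only at h1
      rw [← h1, eqB_spec hleaf b hb]
      exact hfnY ⟨b, hlt⟩
  · obtain ⟨vT, mT, hTP, hTR⟩ := hts t htm
    set T := permOf w m N t with hT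
    have hFY : F Y = T * Y * T⁻¹ := by
      refine hC.eq_of_base hmFY (K.mul_mem (K.mul_mem mT mY) (K.inv_mem mT)) (fun b hb hlt => ?_)
      apply Fin.ext
      have h1 := (hrep ⟨b, hlt⟩).1
      simp only at h1
      rw [← h1, eqB_spec hleaf b hb]
      exact conj_rep vT vY ⟨b, hlt⟩
    refine ⟨T⁻¹, K.inv_mem mT, fun x hx => ?_⟩
    have hF' : PHom K (conjF T⁻¹ F) := hF.conj (conj_mem_of_mem (K.inv_mem mT))
    refine hfix _ hF' ?_ ?_ ?_ x hx
    · show T⁻¹ * F P * T⁻¹⁻¹ = P
      rw [hFP, inv_inv, mul_assoc, ← hTP]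
      group
    · show T⁻¹ * F R * T⁻¹⁻¹ = R
      rw [hFR, inv_inv, mul_assoc, ← hTR]
      group
    · show T⁻¹ * F Y * T⁻¹⁻¹ = Y
      rw [hFY]
      group

/-- The outer automorphism group has order two, when the outer automorphism maps `π` to the power `π ^ a`, which is not
conjugate to `π` in `K`. -/
theorem card_out_two_tau {pe re ye te ze : Elt} {p r a q zk : Nat} [Fact p.Prime] {lrB : List (Lv × Rule)}
    {kills : List (List Nat × Nat)} {ts : List Elt}
    (hB : ChainFor w m N tw tm K (lrB.map Prod.fst)) (hd : N ≤ 2 ^ d)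
    (hgen : hdG (lrB.map Prod.fst) = [pe, re, ye])
    (vP : validB w m N pe = true) (vR : validB w m N re = true) (vY : validB w m N ye = true)
    (hp2 : ¬ p ^ 2 ∣ Nat.card K)
    (hpow : permOf w m N pe ^ p = 1) (hne : permOf w m N pe ≠ 1)
    (hrel : permOf w m N re * permOf w m N pe = permOf w m N pe ^ r * permOf w m N re)
    (hRq : permOf w m N re ^ q = 1)
    (hexp : ∀ k, ¬ p ∣ k → ∃ j, (k * r ^ j) % p = 1 ∨ (k * r ^ j) % p = a % p)
    (hτP : permOf w m N te * permOf w m N pe = permOf w m N pe ^ a * permOf w m N te)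
    (hτP' : (permOf w m N te)⁻¹ * permOf w m N pe * permOf w m N te ∈ K)
    (hτR : permOf w m N te * permOf w m N re * (permOf w m N te)⁻¹ ∈ K)
    (hτR' : (permOf w m N te)⁻¹ * permOf w m N re * permOf w m N te ∈ K)
    (hτY : permOf w m N te * permOf w m N ye * (permOf w m N te)⁻¹ ∈ K)
    (hτY' : (permOf w m N te)⁻¹ * permOf w m N ye * permOf w m N te ∈ K)
    (hconj : ∀ x ∈ K, x * permOf w m N pe = permOf w m N pe ^ r * x → x ^ q = 1 →
      ∃ c : ℕ, x = permOf w m N pe ^ c * permOf w m N re * (permOf w m N pe ^ c)⁻¹)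
    (hnot : ∀ x ∈ K, x * permOf w m N pe ≠ permOf w m N pe ^ a * x)
    (hts : ∀ t ∈ ts, validB w m N t = true ∧ permOf w m N t ∈ K ∧ permOf w m N t * permOf w m N pe = permOf w m N pe * permOf w m N t ∧
      permOf w m N t * permOf w m N re = permOf w m N re * permOf w m N t)
    (hZ : permOf w m N ze = permOf w m N re ^ zk)
    (hyZ : permOf w m N ye * permOf w m N ze = permOf w m N ze * permOf w m N ye)
    (hsB : ∀ c ∈ K, (∀ a, c (permOf w m N ze a) = permOf w m N ze (c a)) →
      ∃ vf vi, Rep c vf vi ∧ finLeafT w m pe re ye ts kills (baseL (lrB.map Prod.fst)) vf vi = true)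
    (hk : killsOK N d (gt w m pe) (gt w m re) (gt w m ye) kills = true) :
    Nat.card (Out K) = 2 := by
  set P := permOf w m N pe with hP
  set R := permOf w m N re with hRR
  set Y := permOf w m N ye with hY
  set T := permOf w m N te with hT
  have hgK := hB.gen_eq
  rw [hgen] at hgK
  have mP : P ∈ K := hgK ▸ permOf_mem_genGroup (by simp)
  have mR : R ∈ K := hgK ▸ permOf_mem_genGroup (by simp)
  have mY : Y ∈ K := hgK ▸ permOf_mem_genGroup (by simp)
  have hnorm : ∀ Tt : Equiv.Perm (Fin N), Tt * P * Tt⁻¹ ∈ K → Tt * R * Tt⁻¹ ∈ K → Tt * Y * Tt⁻¹ ∈ K →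
      ∀ x ∈ K, Tt * x * Tt⁻¹ ∈ K := by
    intro Tt h1 h2 h3
    have hle : K ≤ K.comap (MulAut.conj Tt).toMonoidHom := by
      conv_lhs => rw [← hgK]
      refine (Subgroup.closure_le _).mpr ?_
      rintro _ ⟨e, he, rfl⟩
      simp only [List.mem_cons, List.not_mem_nil, or_false] at he
      show (MulAut.conj Tt).toMonoidHom _ ∈ K
      simp only [MulEquiv.toMonoidHom_eq_coe, MonoidHom.coe_coe, MulAut.conj_apply]
      rcases he with rfl | rfl | rfl
      · exact h1
      · exact h2
      · exact h3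
    intro x hx
    have := hle hx
    simpa [MulAut.conj_apply] using this
  have hτP1 : T * P * T⁻¹ = P ^ a := by
    rw [hτP]; group
  have hτK : ∀ x ∈ K, T * x * T⁻¹ ∈ K := hnorm T (by rw [hτP1]; exact K.pow_mem mP a) hτR hτY
  have hτK' : ∀ x ∈ K, T⁻¹ * x * T ∈ K := by
    have := hnorm T⁻¹ (by simpa using hτP') (by simpa using hτR') (by simpa using hτY')
    simpa using this
  haveI : Finite K := inferInstance
  refine card_out_two_sigma (A := K) (p := p) (r := r) (a := a) (q := q) (π := ⟨P, mP⟩) (ρ := ⟨R, mR⟩)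
    (conjAut T hτK hτK') hp2 (Subtype.ext hpow) (fun h => hne (congrArg Subtype.val h)) (Subtype.ext hrel)
    (Subtype.ext hRq) hexp (Subtype.ext hτP1) ?_ ?_ ?_
  · rintro ⟨x, hx⟩ h1 h2
    obtain ⟨c, hc⟩ := hconj x hx (congrArg Subtype.val h1) (congrArg Subtype.val h2)
    exact ⟨c, Subtype.ext hc⟩
  · rintro ⟨x, hx⟩ h1
    exact hnot x hx (congrArg Subtype.val h1)
  · intro ψ h1 h2
    apply mem_inn_of_isInnerF
    refine hfinT_of_leaf hB hd hgen vP vR vY hts hZ hyZ hsB hk (pHom_ofAut ψ) ?_ ?_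
    · rw [ofAut_apply ψ mP, h1]
    · rw [ofAut_apply ψ mR, h2]

end Main

end Cfsg.Agent.Lib.Compute.OutFinal3
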