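import Mathlib
import Cfsg.Agent.Lib.Compute.OutFinal2

/-!
# Outer automorphism groups of permutation groups of known order: a permutation centralising `π` and `ρ`, where `π` may
not be conjugate to its inverse
-/

set_option autoImplicit false

namespace Cfsg.Agent.Lib.Compute.OutFinal4

open Cfsg Cfsg.Agent.Lib.Compute.PermCert Cfsg.Agent.Lib.Compute.OutChain Cfsg.Agent.Lib.Compute.OutFinal
open Cfsg.Agent.Lib.Compute.OutFinal2
open Cfsg.Agent.Lib.Compute.OutCert Cfsg.Agent.Lib.Compute.PermOut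

section Group

variable {G : Type*} [Group G] {H : Subgroup G} {F : G → G} {π ρ τ : G} {p r : ℕ}

/-- The version of `inner_or_twist_fix` when `k r ^ j` can only be made `1` or `-1`, and no map inverts `π`. -/
theorem inner_or_twist_ci [Finite H] [Fact p.Prime] (hτH : ∀ x ∈ H, τ * x * τ⁻¹ ∈ H)
    (hπ : π ∈ H) (hρ : ρ ∈ H) (hp2 : ¬ p ^ 2 ∣ Nat.card H)
    (hπp : π ^ p = 1) (hπ1 : π ≠ 1) (hρπ : ρ * π = π ^ r * ρ)
    (hexp : ∀ k, ¬ p ∣ k → ∃ j, (k * r ^ j) % p = 1 ∨ (k * r ^ j) % p = p - 1)
    (hconj : ∀ x ∈ H, x * π = π ^ r * x → ∃ c : ℕ, x = π ^ c * ρ * (π ^ c)⁻¹)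
    (hinv : ∀ F', PHom H F' → F' π = π ^ (p - 1) → F' ρ = ρ → False)
    (hfin : ∀ F', PHom H F' → F' π = π → F' ρ = ρ →
      (∀ x ∈ H, F' x = x) ∨ (∀ x ∈ H, τ * F' x * τ⁻¹ = x))
    (hF : PHom H F) : IsInnerF H F ∨ IsInnerF H (conjF τ F) := by
  obtain ⟨h1, hh1, e, he, h1F⟩ := step_sylow hF hπ hρ hp2 hπp hπ1 hρπ hexp
  have hF1 := hF.conj (conj_mem_of_mem hh1)
  obtain ⟨h2, hh2, h2π, h2ρ⟩ := step_rho hF1 hπ hρ hπp hρπ hconj he (by rw [conjF_apply]; exact h1F)
  have hF2 := hF1.conj (conj_mem_of_mem hh2)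
  rcases he with rfl | rfl
  · rcases hfin _ hF2 (by simpa using h2π) h2ρ with h | h
    · left
      refine IsInnerF.of_conj hh1 (IsInnerF.of_conj hh2 ⟨1, H.one_mem, fun x hx => ?_⟩)
      simpa using h x hx
    · right
      refine ⟨τ * (h2 * h1) * τ⁻¹, hτH _ (H.mul_mem hh2 hh1), fun x hx => ?_⟩
      have := h x hx
      simp only [conjF_apply] at this
      calc τ * (h2 * h1) * τ⁻¹ * conjF τ F x * (τ * (h2 * h1) * τ⁻¹)⁻¹
          = τ * (h2 * (h1 * F x * h1⁻¹) * h2⁻¹) * τ⁻¹ := by
            simp only [conjF_apply]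
            group
        _ = x := this
  · exact (hinv _ hF2 h2π h2ρ).elim

end Group

section Main

variable {w m N tw tm d : Nat} {K : Subgroup (Equiv.Perm (Fin N))}

/-- The leaves of the last search. -/
noncomputable def finLeaf2i (w m : Nat) (pe re ye te : Elt) (kills : List (List Nat × Nat)) (pts : List Nat)
    (vf _vi : Nat → Nat) : Bool :=
  (eqB vf (gt w m ye) pts || eqB vf (fun b => gi w m te (gt w m ye (gt w m te b))) pts ||
    killed (gt w m pe) (gt w m re) vf kills pts) && killed (gi w m pe) (gt w m re) vf kills pts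

/-- The outer automorphism group has order two, when a permutation centralising `π` and `ρ` induces the outer
automorphism, and `π` may not be conjugate to its inverse. -/
theorem card_out_two_ci {pe re ye te ze : Elt} {p r zk : Nat} [Fact p.Prime] {lrB : List (Lv × Rule)}
    {kills : List (List Nat × Nat)}
    (hB : ChainFor w m N tw tm K (lrB.map Prod.fst)) (hd : N ≤ 2 ^ d)
    (hgen : hdG (lrB.map Prod.fst) = [pe, re, ye])
    (vP : validB w m N pe = true) (vR : validB w m N re = true) (vY : validB w m N ye = true)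
    (vT : validB w m N te = true)
    (hp2 : ¬ p ^ 2 ∣ Nat.card K)
    (hpow : permOf w m N pe ^ p = 1) (hne : permOf w m N pe ≠ 1)
    (hrel : permOf w m N re * permOf w m N pe = permOf w m N pe ^ r * permOf w m N re)
    (hexp : ∀ k, ¬ p ∣ k → ∃ j, (k * r ^ j) % p = 1 ∨ (k * r ^ j) % p = p - 1) (hr : ¬ p ∣ r - 1) (hr0 : 1 ≤ r)
    (hτY : permOf w m N te * permOf w m N ye * (permOf w m N te)⁻¹ ∈ K)
    (hτY' : (permOf w m N te)⁻¹ * permOf w m N ye * permOf w m N te ∈ K)
    (hτP : permOf w m N te * permOf w m N pe = permOf w m N pe * permOf w m N te)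
    (hτR : permOf w m N te * permOf w m N re = permOf w m N re * permOf w m N te)
    (hτne : permOf w m N te * permOf w m N ye ≠ permOf w m N ye * permOf w m N te)
    (hZ : permOf w m N ze = permOf w m N re ^ zk)
    (hyZ : permOf w m N ye * permOf w m N ze = permOf w m N ze * permOf w m N ye)
    (hconj : ∀ x ∈ K, x * permOf w m N pe = permOf w m N pe ^ r * x →
      ∃ c : ℕ, x = permOf w m N pe ^ c * permOf w m N re * (permOf w m N pe ^ c)⁻¹)
    (hsB : ∀ c ∈ K, (∀ a, c (permOf w m N ze a) = permOf w m N ze (c a)) →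
      ∃ vf vi, Rep c vf vi ∧ finLeaf2i w m pe re ye te kills (baseL (lrB.map Prod.fst)) vf vi = true)
    (hk : killsOK N d (gt w m pe) (gt w m re) (gt w m ye) kills = true) :
    Nat.card (Out K) = 2 := by
  have hp : p.Prime := Fact.out
  set P := permOf w m N pe with hP
  set R := permOf w m N re with hRR
  set Y := permOf w m N ye with hY
  set T := permOf w m N te with hT
  set Z := permOf w m N ze with hZZ
  have hfnP : ∀ i : Fin N, gt w m pe i = P i := gt_eq vP
  have hfiP : ∀ i : Fin N, gi w m pe i = (P⁻¹ : Equiv.Perm (Fin N)) i := gi_eq vP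
  have hfnR : ∀ i : Fin N, gt w m re i = R i := gt_eq vR
  have hfnY : ∀ i : Fin N, gt w m ye i = Y i := gt_eq vY
  have hfnT : ∀ i : Fin N, gt w m te i = T i := gt_eq vT
  have hfiT : ∀ i : Fin N, gi w m te i = (T⁻¹ : Equiv.Perm (Fin N)) i := gi_eq vT
  have hgK := hB.gen_eq
  rw [hgen] at hgK
  have mP : P ∈ K := hgK ▸ permOf_mem_genGroup (by simp)
  have mR : R ∈ K := hgK ▸ permOf_mem_genGroup (by simp)
  have mY : Y ∈ K := hgK ▸ permOf_mem_genGroup (by simp)
  have mZ : Z ∈ K := hZ ▸ K.pow_mem mR zk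
  have hnorm : ∀ Tt : Equiv.Perm (Fin N), Tt * P = P * Tt → Tt * R = R * Tt → Tt * Y * Tt⁻¹ ∈ K →
      ∀ x ∈ K, Tt * x * Tt⁻¹ ∈ K := by
    intro Tt h1 h2 h3
    have hle : K ≤ K.comap (MulAut.conj Tt).toMonoidHom := by
      conv_lhs => rw [← hgK]
      refine (Subgroup.closure_le _).mpr ?_
      rintro _ ⟨e, he, rfl⟩
      simp only [List.mem_cons, List.not_mem_nil, or_false] at he
      show (MulAut.conj Tt).toMonoidHom _ ∈ K
      simp only [MulEquiv.toMonoidHom_eq_coe, MonoidHom.coe_coe, MulAut.conj_apply]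
      rcases he with rfl | rfl | rfl
      · show Tt * P * Tt⁻¹ ∈ K
        rw [h1]
        simpa using mP
      · show Tt * R * Tt⁻¹ ∈ K
        rw [h2]
        simpa using mR
      · exact h3
    intro x hx
    have := hle hx
    simpa [MulAut.conj_apply] using this
  have hτK : ∀ x ∈ K, T * x * T⁻¹ ∈ K := hnorm T hτP hτR hτY
  have hτK' : ∀ x ∈ K, T⁻¹ * x * T ∈ K := by
    have h1 : T⁻¹ * P = P * T⁻¹ := by
      have : Commute T P := hτP
      exact this.inv_left.eq
    have h2 : T⁻¹ * R = R * T⁻¹ := by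
      have : Commute T R := hτR
      exact this.inv_left.eq
    have := hnorm T⁻¹ h1 h2 (by simpa using hτY')
    simpa using this
  have hfix : ∀ F' : Equiv.Perm (Fin N) → Equiv.Perm (Fin N), PHom K F' → F' P = P → F' R = R → F' Y = Y →
      ∀ x ∈ K, F' x = x := by
    intro F' hF' h1 h2 h3
    refine eq_id_of_fix_gens hF' (S := {x | ∃ e ∈ [pe, re, ye], permOf w m N e = x}) hgK.ge ?_ ?_
    · rintro _ ⟨e, he, rfl⟩
      rw [← hgK]
      exact permOf_mem_genGroup he
    · rintro _ ⟨e, he, rfl⟩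
      simp only [List.mem_cons, List.not_mem_nil, or_false] at he
      rcases he with rfl | rfl | rfl
      · exact h1
      · exact h2
      · exact h3
  -- the leaf for a map `F`
  have hleaf : ∀ F', PHom K F' → F' R = R → ∃ vf vi, Rep (F' Y) vf vi ∧
      finLeaf2i w m pe re ye te kills (baseL (lrB.map Prod.fst)) vf vi = true := by
    intro F hF hFR
    have hFZ : F Z = Z := by
      rw [hZ, hF.map_pow mR, hFR]
    have hcomm : F Y * Z = Z * F Y := by
      have h1 := congrArg F hyZ
      rw [hF.mul _ mY _ mZ, hF.mul _ mZ _ mY, hFZ] at h1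
      exact h1
    exact hsB (F Y) (hF.mem _ mY) (fun a => by
      have := congrArg (fun g : Equiv.Perm (Fin N) => g a) hcomm
      simpa [Equiv.Perm.mul_apply] using this)
  have hbase := hB.base_lt
  have hfin : ∀ F', PHom K F' → F' P = P → F' R = R → (∀ x ∈ K, F' x = x) ∨ (∀ x ∈ K, T * F' x * T⁻¹ = x) := by
    intro F hF hFP hFR
    obtain ⟨vf, vi, hrep, hl⟩ := hleaf F hF hFR
    have hmFY : F Y ∈ K := hF.mem _ mY
    have hkill : killed (gt w m pe) (gt w m re) vf kills (baseL (lrB.map Prod.fst)) = false := by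
      refine killed_false hF mP mR mY (fun i => ?_) (fun i => ?_) (fun i => (hrep i).1)
        (killsOK_spec hd hfnP hfnR hfnY hk) hbase
      · rw [hFP]; exact hfnP i
      · rw [hFR]; exact hfnR i
    unfold finLeaf2i at hl
    rw [hkill] at hl
    simp only [Bool.or_false, Bool.or_eq_true, Bool.and_eq_true] at hl
    rcases hl.1 with h | h
    · left
      refine hfix F hF hFP hFR ?_
      refine hB.eq_of_base hmFY mY (fun b hb hlt => ?_)
      apply Fin.ext
      have h1 := (hrep ⟨b, hlt⟩).1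
      simp only at h1
      rw [← h1, eqB_spec h b hb]
      exact hfnY ⟨b, hlt⟩
    · right
      have hFY : F Y = T⁻¹ * Y * T := by
        refine hB.eq_of_base hmFY (hτK' _ mY) (fun b hb hlt => ?_)
        apply Fin.ext
        have h1 := (hrep ⟨b, hlt⟩).1
        simp only at h1
        rw [← h1, eqB_spec h b hb]
        have h2 : gt w m te b = (T ⟨b, hlt⟩ : Fin N) := hfnT ⟨b, hlt⟩
        rw [h2, hfnY, hfiT]
        rfl
      have hF' : PHom K (conjF T F) := hF.conj hτK
      refine hfix _ hF' ?_ ?_ ?_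
      · show T * F P * T⁻¹ = P
        rw [hFP, hτP]
        group
      · show T * F R * T⁻¹ = R
        rw [hFR, hτR]
        group
      · show T * F Y * T⁻¹ = Y
        rw [hFY]
        group
  have hinv : ∀ F', PHom K F' → F' P = P ^ (p - 1) → F' R = R → False := by
    intro F hF hFP hFR
    obtain ⟨vf, vi, hrep, hl⟩ := hleaf F hF hFR
    have hinv : P ^ (p - 1) = P⁻¹ := by
      rw [eq_inv_iff_mul_eq_one, ← pow_succ, Nat.sub_add_cancel hp.one_le, hpow]
    rw [hinv] at hFP
    have hkill : killed (gi w m pe) (gt w m re) vf kills (baseL (lrB.map Prod.fst)) = false := by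
      refine killed_false hF mP mR mY (fun i => ?_) (fun i => ?_) (fun i => (hrep i).1)
        (killsOK_spec hd hfnP hfnR hfnY hk) hbase
      · rw [hFP]; exact hfiP i
      · rw [hFR]; exact hfnR i
    unfold finLeaf2i at hl
    rw [hkill] at hl
    simp at hl
  haveI hfinK : Finite K := inferInstance
  refine card_out_eq_two (conjAut T hτK hτK') ?_ fun φ => ?_
  · -- the automorphism is not inner
    rintro ⟨h, hh⟩
    have hk : ∀ x (hx : x ∈ K), (h : Equiv.Perm (Fin N)) * x * (h : Equiv.Perm (Fin N))⁻¹ = T * x * T⁻¹ := by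
      intro x hx
      have := congrArg (fun ψ : MulAut K => ((ψ ⟨x, hx⟩ : K) : Equiv.Perm (Fin N))) hh
      simpa [MulAut.conj_apply, conjAut] using this
    have h1 : (h : Equiv.Perm (Fin N)) * P = P * h := by
      have e1 := hk P mP
      have e2 : T * P * T⁻¹ = P := by rw [hτP]; group
      rw [e2] at e1
      calc (h : Equiv.Perm (Fin N)) * P = (h * P * (h : Equiv.Perm (Fin N))⁻¹) * h := by group
        _ = P * h := by rw [e1]
    have h2 : (h : Equiv.Perm (Fin N)) * R = R * h := by
      have e1 := hk R mR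
      have e2 : T * R * T⁻¹ = R := by rw [hτR]; group
      rw [e2] at e1
      calc (h : Equiv.Perm (Fin N)) * R = (h * R * (h : Equiv.Perm (Fin N))⁻¹) * h := by group
        _ = R * h := by rw [e1]
    have h3 := eq_one_of_comm hpow mR hrel hr hr0 hconj h.2 h1 h2
    apply hτne
    have e1 := hk Y mY
    rw [h3] at e1
    have e2 : Y = T * Y * T⁻¹ := by simpa using e1
    calc T * Y = (T * Y * T⁻¹) * T := by group
      _ = Y * T := by rw [← e2]
  · rcases inner_or_twist_ci (π := P) (ρ := R) (τ := T) (p := p) (r := r) hτK mP mR hp2 hpow hne hrel hexp hconj hinv hfin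
      (pHom_ofAut φ) with h | h
    · exact Or.inl (mem_inn_of_isInnerF h)
    · exact Or.inr (mem_inn_of_conj T hτK hτK' h)

end Main

end Cfsg.Agent.Lib.Compute.OutFinal4
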