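import Mathlib
import Cfsg.Agent.Lib.Compute.OutFinal4

/-!
# Outer automorphism groups of permutation groups of known order: no outer automorphisms, `r` generating the units
-/

set_option autoImplicit false

namespace Cfsg.Agent.Lib.Compute.OutFinal5

open Cfsg Cfsg.Agent.Lib.Compute.PermCert Cfsg.Agent.Lib.Compute.OutChain Cfsg.Agent.Lib.Compute.OutFinal
open Cfsg.Agent.Lib.Compute.OutFinal2 Cfsg.Agent.Lib.Compute.OutFinal4
open Cfsg.Agent.Lib.Compute.OutCert Cfsg.Agent.Lib.Compute.PermOut

section Main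

variable {w m N tw tm d : Nat} {K : Subgroup (Equiv.Perm (Fin N))}

/-- The leaves of the last search when `π` is rational: the element is `y`, or it is excluded by the orders of words. -/
noncomputable def finLeaf1r (w m : Nat) (pe re ye : Elt) (kills : List (List Nat × Nat)) (pts : List Nat)
    (vf _vi : Nat → Nat) : Bool :=
  eqB vf (gt w m ye) pts || killed (gt w m pe) (gt w m re) vf kills pts

/-- There are no outer automorphisms. -/
theorem card_out_one_rat {pe re ye ze : Elt} {p r zk : Nat} [Fact p.Prime] {lrB : List (Lv × Rule)}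
    {kills : List (List Nat × Nat)}
    (hB : ChainFor w m N tw tm K (lrB.map Prod.fst)) (hd : N ≤ 2 ^ d)
    (hgen : hdG (lrB.map Prod.fst) = [pe, re, ye])
    (vP : validB w m N pe = true) (vR : validB w m N re = true) (vY : validB w m N ye = true)
    (hp2 : ¬ p ^ 2 ∣ Nat.card K)
    (hpow : permOf w m N pe ^ p = 1) (hne : permOf w m N pe ≠ 1)
    (hrel : permOf w m N re * permOf w m N pe = permOf w m N pe ^ r * permOf w m N re)
    (hexp : ∀ k, ¬ p ∣ k → ∃ j, (k * r ^ j) % p = 1)
    (hZ : permOf w m N ze = permOf w m N re ^ zk)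
    (hyZ : permOf w m N ye * permOf w m N ze = permOf w m N ze * permOf w m N ye)
    (hconj : ∀ x ∈ K, x * permOf w m N pe = permOf w m N pe ^ r * x →
      ∃ c : ℕ, x = permOf w m N pe ^ c * permOf w m N re * (permOf w m N pe ^ c)⁻¹)
    (hsB : ∀ c ∈ K, (∀ a, c (permOf w m N ze a) = permOf w m N ze (c a)) →
      ∃ vf vi, Rep c vf vi ∧ finLeaf1r w m pe re ye kills (baseL (lrB.map Prod.fst)) vf vi = true)
    (hk : killsOK N d (gt w m pe) (gt w m re) (gt w m ye) kills = true) :
    Nat.card (Out K) = 1 := by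
  set P := permOf w m N pe with hP
  set R := permOf w m N re with hRR
  set Y := permOf w m N ye with hY
  set Z := permOf w m N ze with hZZ
  have hfnP : ∀ i : Fin N, gt w m pe i = P i := gt_eq vP
  have hfnR : ∀ i : Fin N, gt w m re i = R i := gt_eq vR
  have hfnY : ∀ i : Fin N, gt w m ye i = Y i := gt_eq vY
  have hgK := hB.gen_eq
  rw [hgen] at hgK
  have mP : P ∈ K := hgK ▸ permOf_mem_genGroup (by simp)
  have mR : R ∈ K := hgK ▸ permOf_mem_genGroup (by simp)
  have mY : Y ∈ K := hgK ▸ permOf_mem_genGroup (by simp)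
  have mZ : Z ∈ K := hZ ▸ K.pow_mem mR zk
  have hfix : ∀ F' : Equiv.Perm (Fin N) → Equiv.Perm (Fin N), PHom K F' → F' P = P → F' R = R → F' Y = Y →
      ∀ x ∈ K, F' x = x := by
    intro F' hF' h1 h2 h3
    refine eq_id_of_fix_gens hF' (S := {x | ∃ e ∈ [pe, re, ye], permOf w m N e = x}) hgK.ge ?_ ?_
    · rintro _ ⟨e, he, rfl⟩
      rw [← hgK]
      exact permOf_mem_genGroup he
    · rintro _ ⟨e, he, rfl⟩
      simp only [List.mem_cons, List.not_mem_nil, or_false] at he
      rcases he with rfl | rfl | rfl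
      · exact h1
      · exact h2
      · exact h3
  have hfin : ∀ F', PHom K F' → F' P = P → F' R = R → ∀ x ∈ K, F' x = x := by
    intro F hF hFP hFR
    have hFZ : F Z = Z := by
      rw [hZ, hF.map_pow mR, hFR]
    have hcomm : F Y * Z = Z * F Y := by
      have h1 := congrArg F hyZ
      rw [hF.mul _ mY _ mZ, hF.mul _ mZ _ mY, hFZ] at h1
      exact h1
    have hmFY : F Y ∈ K := hF.mem _ mY
    obtain ⟨vf, vi, hrep, hleaf⟩ := hsB (F Y) hmFY (fun a => by
        have := congrArg (fun g : Equiv.Perm (Fin N) => g a) hcomm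
        simpa [Equiv.Perm.mul_apply] using this)
    have hbase := hB.base_lt
    have hkill : killed (gt w m pe) (gt w m re) vf kills (baseL (lrB.map Prod.fst)) = false := by
      refine killed_false hF mP mR mY (fun i => ?_) (fun i => ?_) (fun i => (hrep i).1)
        (killsOK_spec hd hfnP hfnR hfnY hk) hbase
      · rw [hFP]; exact hfnP i
      · rw [hFR]; exact hfnR i
    unfold finLeaf1r at hleaf
    rw [hkill] at hleaf
    simp only [Bool.or_false] at hleaf
    refine hfix F hF hFP hFR ?_
    refine hB.eq_of_base hmFY mY (fun b hb hlt => ?_)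
    apply Fin.ext
    have h1 := (hrep ⟨b, hlt⟩).1
    simp only at h1
    rw [← h1, eqB_spec hleaf b hb]
    exact hfnY ⟨b, hlt⟩
  refine card_out_eq_one fun φ => mem_inn_of_isInnerF ?_
  have hF := pHom_ofAut φ
  obtain ⟨h1, hh1, h1F⟩ := step_sylow_one hF mP mR hp2 hpow hne hrel hexp
  have hF1 := hF.conj (conj_mem_of_mem hh1)
  obtain ⟨h2, hh2, h2π, h2ρ⟩ := step_rho (e := 1) hF1 mP mR hpow hrel hconj (Or.inl rfl)
    (by rw [pow_one, conjF_apply]; exact h1F)
  have hF2 := hF1.conj (conj_mem_of_mem hh2)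
  have := hfin _ hF2 (by simpa using h2π) h2ρ
  refine IsInnerF.of_conj hh1 (IsInnerF.of_conj hh2 ⟨1, K.one_mem, fun x hx => ?_⟩)
  simpa using this x hx

end Main

end Cfsg.Agent.Lib.Compute.OutFinal5
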