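import Mathlib
import Cfsg.Agent.Lib.Compute.OutFinal5

/-!
# Outer automorphism groups of permutation groups of known order: the centraliser of `π` may be larger than `⟨π⟩`, all
the elements inducing the same power on `π` being conjugate under the centraliser
-/

set_option autoImplicit false

namespace Cfsg.Agent.Lib.Compute.OutFinal6

open Cfsg Cfsg.Agent.Lib.Compute.PermCert Cfsg.Agent.Lib.Compute.OutChain Cfsg.Agent.Lib.Compute.OutFinal
open Cfsg.Agent.Lib.Compute.OutFinal2 Cfsg.Agent.Lib.Compute.OutFinal4 Cfsg.Agent.Lib.Compute.OutFinal5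
open Cfsg.Agent.Lib.Compute.OutCert Cfsg.Agent.Lib.Compute.PermOut

section Main

variable {w m N tw tm d : Nat} {K : Subgroup (Equiv.Perm (Fin N))}

/-- The leaves of the search of the elements acting like `ρ`: a conjugate of `ρ` by an element of the group commuting
with `π`: a power of `π` times an element of a list. -/
noncomputable def conjLeafV (w m : Nat) (pe re : Elt) (vs : List Elt) (p : Nat) (pts : List Nat) (vf _vi : Nat → Nat) : Bool :=
  (List.range p).any fun c => vs.any fun v =>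
    pts.all fun b => Nat.beq (vf b)
      (iterF (gt w m pe) c (gt w m v (gt w m re (gi w m v (iterF (gt w m pe) (p - c) b)))))

/-- The elements acting like `ρ` on `π` from the search. -/
theorem hconjV_of_search {pe re : Elt} {vs : List Elt} {p r : ℕ} {lr : List (Lv × Rule)}
    (hC : ChainFor w m N tw tm K (lr.map Prod.fst)) (hd : N ≤ 2 ^ d)
    (vP : validB w m N pe = true) (vR : validB w m N re = true)
    (mP : permOf w m N pe ∈ K) (mR : permOf w m N re ∈ K)
    (hvs : ∀ v ∈ vs, validB w m N v = true ∧ permOf w m N v ∈ K ∧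
      permOf w m N v * permOf w m N pe = permOf w m N pe * permOf w m N v)
    (hpow : permOf w m N pe ^ p = 1)
    (hR : rulesOK N (gt w m pe) [] lr = true)
    (hs : searchF w m N tw tm d (iterF (gt w m pe) r)
      (conjLeafV w m pe re vs p (baseL (lr.map Prod.fst))) lr id id = true) :
    ∀ x ∈ K, x * permOf w m N pe = permOf w m N pe ^ r * x →
      ∃ C ∈ K, C * permOf w m N pe = permOf w m N pe * C ∧ x = C * permOf w m N re * C⁻¹ := by
  intro x hx hxr
  set P := permOf w m N pe with hP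
  set R := permOf w m N re with hRR
  have hfnP : ∀ i : Fin N, gt w m pe i = P i := gt_eq vP
  have hfnR : ∀ i : Fin N, gt w m re i = R i := gt_eq vR
  obtain ⟨vf, vi, hrep, hleaf⟩ := search_use hC hd (X := P) (X' := P ^ r) (x := gt w m pe) (x' := iterF (gt w m pe) r)
    hfnP (fun i => by rw [iterF_eq, iter_eq hfnP]) hR hs x hx (fun a => by
      have := congrArg (fun g : Equiv.Perm (Fin N) => g a) hxr
      simpa [Equiv.Perm.mul_apply] using this)
  unfold conjLeafV at hleaf
  rw [List.any_eq_true] at hleaf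
  obtain ⟨c, hc, hleaf⟩ := hleaf
  rw [List.any_eq_true] at hleaf
  obtain ⟨v, hv, hleaf⟩ := hleaf
  obtain ⟨vV, mV, hVP⟩ := hvs v hv
  set V := permOf w m N v with hV
  have hfnV : ∀ i : Fin N, gt w m v i = V i := gt_eq vV
  have hfiV : ∀ i : Fin N, gi w m v i = (V⁻¹ : Equiv.Perm (Fin N)) i := gi_eq vV
  have hcp : c ≤ p := (List.mem_range.1 hc).le
  rw [List.all_eq_true] at hleaf
  have mC : P ^ c * V ∈ K := K.mul_mem (K.pow_mem mP c) mV
  refine ⟨P ^ c * V, mC, ?_, ?_⟩
  · rw [mul_assoc, hVP, ← mul_assoc, ← pow_succ, pow_succ', mul_assoc]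
  refine hC.eq_of_base hx (K.mul_mem (K.mul_mem mC mR) (K.inv_mem mC)) ?_
  intro b hb hlt
  have h1 := Nat.eq_of_beq_eq_true (hleaf b hb)
  have h2 : (P ^ c)⁻¹ = P ^ (p - c) := by
    rw [inv_eq_iff_mul_eq_one, ← pow_add, Nat.add_sub_cancel' hcp, hpow]
  apply Fin.ext
  have h3 := (hrep ⟨b, hlt⟩).1
  simp only at h3
  rw [← h3, h1, iterF_eq, iterF_eq]
  have h4 := iter_eq hfnP (p - c) ⟨b, hlt⟩
  simp only at h4
  rw [h4]
  have e1 := hfiV ((P ^ (p - c)) ⟨b, hlt⟩)
  rw [e1, hfnR, hfnV]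
  have h5 := iter_eq hfnP c (V (R ((V⁻¹ : Equiv.Perm (Fin N)) ((P ^ (p - c)) ⟨b, hlt⟩))))
  rw [h5, mul_inv_rev, h2]
  rfl

/-- The step from `ρ`. -/
theorem step_rho_C {G : Type*} [Group G] {H : Subgroup G} {F : G → G} {π ρ : G} {r : ℕ}
    (hF : PHom H F) (hπ : π ∈ H) (hρ : ρ ∈ H) (hρπ : ρ * π = π ^ r * ρ)
    (hconj : ∀ x ∈ H, x * π = π ^ r * x → ∃ C ∈ H, C * π = π * C ∧ x = C * ρ * C⁻¹)
    (hFπ : F π = π) : ∃ h ∈ H, conjF h F π = π ∧ conjF h F ρ = ρ := by
  have hrel : F ρ * F π = F π ^ r * F ρ := by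
    rw [← hF.mul ρ hρ π hπ, hρπ, hF.mul _ (H.pow_mem hπ r) _ hρ, hF.map_pow hπ]
  rw [hFπ] at hrel
  obtain ⟨C, hC, hCπ, hc⟩ := hconj (F ρ) (hF.mem ρ hρ) hrel
  refine ⟨C⁻¹, H.inv_mem hC, ?_, ?_⟩
  · rw [conjF_apply, hFπ, inv_inv, mul_assoc, ← hCπ, ← mul_assoc, inv_mul_cancel, one_mul]
  · rw [conjF_apply, hc]
    group

/-- There are no outer automorphisms. -/
theorem card_out_one_ratC {pe re ye ze : Elt} {p r zk : Nat} [Fact p.Prime] {lrB : List (Lv × Rule)}
    {kills : List (List Nat × Nat)}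
    (hB : ChainFor w m N tw tm K (lrB.map Prod.fst)) (hd : N ≤ 2 ^ d)
    (hgen : hdG (lrB.map Prod.fst) = [pe, re, ye])
    (vP : validB w m N pe = true) (vR : validB w m N re = true) (vY : validB w m N ye = true)
    (hp2 : ¬ p ^ 2 ∣ Nat.card K)
    (hpow : permOf w m N pe ^ p = 1) (hne : permOf w m N pe ≠ 1)
    (hrel : permOf w m N re * permOf w m N pe = permOf w m N pe ^ r * permOf w m N re)
    (hexp : ∀ k, ¬ p ∣ k → ∃ j, (k * r ^ j) % p = 1)
    (hZ : permOf w m N ze = permOf w m N re ^ zk)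
    (hyZ : permOf w m N ye * permOf w m N ze = permOf w m N ze * permOf w m N ye)
    (hconj : ∀ x ∈ K, x * permOf w m N pe = permOf w m N pe ^ r * x →
      ∃ C ∈ K, C * permOf w m N pe = permOf w m N pe * C ∧ x = C * permOf w m N re * C⁻¹)
    (hsB : ∀ c ∈ K, (∀ a, c (permOf w m N ze a) = permOf w m N ze (c a)) →
      ∃ vf vi, Rep c vf vi ∧ finLeaf1r w m pe re ye kills (baseL (lrB.map Prod.fst)) vf vi = true)
    (hk : killsOK N d (gt w m pe) (gt w m re) (gt w m ye) kills = true) :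
    Nat.card (Out K) = 1 := by
  set P := permOf w m N pe with hP
  set R := permOf w m N re with hRR
  set Y := permOf w m N ye with hY
  set Z := permOf w m N ze with hZZ
  have hfnP : ∀ i : Fin N, gt w m pe i = P i := gt_eq vP
  have hfnR : ∀ i : Fin N, gt w m re i = R i := gt_eq vR
  have hfnY : ∀ i : Fin N, gt w m ye i = Y i := gt_eq vY
  have hgK := hB.gen_eq
  rw [hgen] at hgK
  have mP : P ∈ K := hgK ▸ permOf_mem_genGroup (by simp)
  have mR : R ∈ K := hgK ▸ permOf_mem_genGroup (by simp)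
  have mY : Y ∈ K := hgK ▸ permOf_mem_genGroup (by simp)
  have mZ : Z ∈ K := hZ ▸ K.pow_mem mR zk
  have hfix : ∀ F' : Equiv.Perm (Fin N) → Equiv.Perm (Fin N), PHom K F' → F' P = P → F' R = R → F' Y = Y →
      ∀ x ∈ K, F' x = x := by
    intro F' hF' h1 h2 h3
    refine eq_id_of_fix_gens hF' (S := {x | ∃ e ∈ [pe, re, ye], permOf w m N e = x}) hgK.ge ?_ ?_
    · rintro _ ⟨e, he, rfl⟩
      rw [← hgK]
      exact permOf_mem_genGroup he
    · rintro _ ⟨e, he, rfl⟩
      simp only [List.mem_cons, List.not_mem_nil, or_false] at he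
      rcases he with rfl | rfl | rfl
      · exact h1
      · exact h2
      · exact h3
  have hfin : ∀ F', PHom K F' → F' P = P → F' R = R → ∀ x ∈ K, F' x = x := by
    intro F hF hFP hFR
    have hFZ : F Z = Z := by
      rw [hZ, hF.map_pow mR, hFR]
    have hcomm : F Y * Z = Z * F Y := by
      have h1 := congrArg F hyZ
      rw [hF.mul _ mY _ mZ, hF.mul _ mZ _ mY, hFZ] at h1
      exact h1
    have hmFY : F Y ∈ K := hF.mem _ mY
    obtain ⟨vf, vi, hrep, hleaf⟩ := hsB (F Y) hmFY (fun a => by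
        have := congrArg (fun g : Equiv.Perm (Fin N) => g a) hcomm
        simpa [Equiv.Perm.mul_apply] using this)
    have hbase := hB.base_lt
    have hkill : killed (gt w m pe) (gt w m re) vf kills (baseL (lrB.map Prod.fst)) = false := by
      refine killed_false hF mP mR mY (fun i => ?_) (fun i => ?_) (fun i => (hrep i).1)
        (killsOK_spec hd hfnP hfnR hfnY hk) hbase
      · rw [hFP]; exact hfnP i
      · rw [hFR]; exact hfnR i
    unfold finLeaf1r at hleaf
    rw [hkill] at hleaf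
    simp only [Bool.or_false] at hleaf
    refine hfix F hF hFP hFR ?_
    refine hB.eq_of_base hmFY mY (fun b hb hlt => ?_)
    apply Fin.ext
    have h1 := (hrep ⟨b, hlt⟩).1
    simp only at h1
    rw [← h1, eqB_spec hleaf b hb]
    exact hfnY ⟨b, hlt⟩
  refine card_out_eq_one fun φ => mem_inn_of_isInnerF ?_
  have hF := pHom_ofAut φ
  obtain ⟨h1, hh1, h1F⟩ := step_sylow_one hF mP mR hp2 hpow hne hrel hexp
  have hF1 := hF.conj (conj_mem_of_mem hh1)
  obtain ⟨h2, hh2, h2π, h2ρ⟩ := step_rho_C hF1 mP mR hrel hconj (by rw [conjF_apply]; simpa using h1F)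
  have hF2 := hF1.conj (conj_mem_of_mem hh2)
  have := hfin _ hF2 (by simpa using h2π) h2ρ
  refine IsInnerF.of_conj hh1 (IsInnerF.of_conj hh2 ⟨1, K.one_mem, fun x hx => ?_⟩)
  simpa using this x hx

end Main

end Cfsg.Agent.Lib.Compute.OutFinal6
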