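import Mathlib
import Cfsg.Agent.Lib.Compute.OutFinal3
import Cfsg.Agent.Lib.Compute.TCChain

/-!
# Outer automorphism groups of presented groups: an automorphism given by words in the generators

The automorphism of the group is defined on the generators by words; the relations are checked on a base of a
stabiliser chain only.
-/

set_option autoImplicit false

namespace Cfsg.Agent.Lib.Compute.OutPres

open Cfsg Cfsg.Agent.Lib.Compute.PermCert Cfsg.Agent.Lib.Compute.OutChain Cfsg.Agent.Lib.Compute.OutFinal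
open Cfsg.Agent.Lib.Compute.OutFinal2 Cfsg.Agent.Lib.Compute.OutFinal3 Cfsg.Agent.Lib.Compute.OutSigma
open Cfsg.Agent.Lib.Compute.OutCert Cfsg.Agent.Lib.Compute.PermOut
open Cfsg.Agent.Lib.Compute.ToddCoxeterCore Cfsg.Agent.Lib.Compute.ToddCoxeterPresented
  Cfsg.Agent.Lib.Compute.TCFast Cfsg.Agent.Lib.Compute.TCChain

universe u

/-- The leaves of the last search, with an abstract reader. -/
noncomputable def finLeafTL (L : Nat → Nat → Nat) (pe re ye : Elt) (kills : List (List Nat × Nat)) (pts : List Nat)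
    (vf _vi : Nat → Nat) : Bool :=
  eqB vf (L ye.f) pts || false || killed (L pe.f) (L re.f) vf kills pts

/-- Two words agree on a list of points. -/
noncomputable def wordsAgree (c : Cfg) (bs u v : List ℕ) : Bool :=
  bs.all fun b => Nat.beq (c.walkEnd u b) (c.walkEnd v b)

section

variable {α : Type u} [DecidableEq α] {D : Data α} {c : Cfg} {R : Set (FreeGroup α)}
  (hR : ∀ r, r ∈ R ↔ r ∈ D.rs) (hs : Small D c) (hb : Big D c) (hgens : ∀ a, (a, true) ∈ D.lets)

theorem wordEl_flatMap {G : Type*} [Group G] (el : ℕ → G) (subst : ℕ → List ℕ) (u : List ℕ) :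
    wordEl el (u.flatMap subst) = wordEl (fun x => wordEl el (subst x)) u := by
  induction u with
  | nil => rfl
  | cons x u ih =>
    rw [List.flatMap_cons, wordEl_append, ih, wordEl_cons]

theorem wordEl_replicate {G : Type*} [Group G] (el : ℕ → G) (u : List ℕ) (a : ℕ) :
    wordEl el (List.replicate a u).flatten = wordEl el u ^ a := by
  induction a with
  | zero => simp
  | succ a ih =>
    rw [List.replicate_succ, List.flatten_cons, wordEl_append, ih, pow_succ]

include hs in
theorem elG_val_lt {x : ℕ} (hx : x < c.L) : elG D R x = PresentedGroup.mk R (eltF (D.lets[x]'(hs.hL ▸ hx))) :=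
  dif_pos (hs.hL ▸ hx)

theorem phi_wordEl (u : List ℕ) (hu : ∀ x ∈ u, x < c.L) :
    phiG hR hs hb hgens (wordEl (elG D R) u) = wordEl (permOf (tok hs hb)) u := by
  induction u with
  | nil => simp
  | cons x u ih =>
    rw [wordEl_cons, wordEl_cons, map_mul, ih (fun y hy => hu y (by simp [hy])),
      phi_elG hR hs hb hgens (hu x (by simp))]

theorem phi_wordEl_val (u : List ℕ) (hu : ∀ x ∈ u, x < c.L) (i : Fin c.N) :
    ((phiG hR hs hb hgens (wordEl (elG D R) u) i : Fin c.N) : ℕ) = c.walkEnd u i := by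
  rw [phi_wordEl hR hs hb hgens u hu, wordPerm_val _ u hu]

variable {w m tw tm : Nat} {ls : List Lv}

/-- Two words are the same element when they agree on a base. -/
theorem word_eq (hinj : Function.Injective (phiG hR hs hb hgens))
    (hC : ChainFor w m c.N tw tm (phiG hR hs hb hgens).range ls)
    {u v : List ℕ} (hu : ∀ x ∈ u, x < c.L) (hv : ∀ x ∈ v, x < c.L)
    (h : wordsAgree c (baseL ls) u v = true) : wordEl (elG D R) u = wordEl (elG D R) v := by
  apply hinj
  refine hC.eq_of_base ⟨_, rfl⟩ ⟨_, rfl⟩ fun b hb' hlt => ?_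
  apply Fin.ext
  rw [phi_wordEl_val hR hs hb hgens u hu, phi_wordEl_val hR hs hb hgens v hv]
  have h1 := List.all_eq_true.1 h b hb'
  exact Nat.eq_of_beq_eq_true h1

include hs hgens in
/-- The endomorphism defined by words in the letters. -/
theorem exists_endo (hR : ∀ r, r ∈ R ↔ r ∈ D.rs) (subst : ℕ → List ℕ)
    (hinv : ∀ x, x < c.L → wordEl (elG D R) (subst x ++ subst (c.inv x)) = 1)
    (hrel : ∀ a ∈ D.rels, wordEl (elG D R) (a.flatMap subst) = 1) :
    ∃ Φ : PresentedGroup R →* PresentedGroup R,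
      ∀ u : List ℕ, (∀ x ∈ u, x < c.L) → Φ (wordEl (elG D R) u) = wordEl (elG D R) (u.flatMap subst) := by
  set el' : ℕ → PresentedGroup R := fun x => wordEl (elG D R) (subst x) with hel'
  set f : α → PresentedGroup R := fun a => el' (letterOf D.lets (a, true)) with hf
  set ψ : FreeGroup α →* PresentedGroup R := FreeGroup.lift f with hψ
  have hlet : ∀ a, letterOf D.lets (a, true) < c.L := fun a => by
    rw [hs.hL]
    exact letterOf_lt _ hgens _
  have key : ∀ p, el' (letterOf D.lets p) = ψ (eltF p) := by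
    rintro ⟨a, b⟩
    cases b with
    | true => simp [eltF, hψ, hf]
    | false =>
      have h1 := hs.hinvP _ (hgens a)
      simp only [Bool.not_true] at h1
      rw [← h1]
      have h2 := hinv _ (hlet a)
      rw [wordEl_append] at h2
      have h3 : ψ (eltF (a, false)) = (f a)⁻¹ := by
        simp [eltF, hψ]
      rw [h3]
      exact eq_inv_of_mul_eq_one_left h2
  have hr1 : ∀ r ∈ R, ψ r = 1 := by
    intro r hr
    rw [← wordEl_toLetters' D.lets ψ el' key r]
    rcases hs.hrels2 r ((hR r).1 hr) with h | h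
    · rw [hel', ← wordEl_flatMap]
      exact hrel _ h
    · apply wordEl_of_rot (k := 1)
      rw [hel', ← wordEl_flatMap]
      exact hrel _ h
  refine ⟨PresentedGroup.toGroup (f := f) (rels := R) hr1, fun u hu => ?_⟩
  rw [wordEl_flatMap]
  induction u with
  | nil => simp
  | cons x u ih =>
    rw [wordEl_cons, wordEl_cons, map_mul, ih (fun y hy => hu y (by simp [hy]))]
    congr 1
    have hx := hu x (by simp)
    rw [elG_val_lt hs hx]
    have h1 : PresentedGroup.toGroup (f := f) (rels := R) hr1 (PresentedGroup.mk R (eltF (D.lets[x]'(hs.hL ▸ hx)))) =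
      ψ (eltF (D.lets[x]'(hs.hL ▸ hx))) := rfl
    rw [h1, ← key, letterOf_getElem hs.hnd]

/-- The automorphism defined by words in the letters. -/
theorem exists_aut [Finite (PresentedGroup R)] (hsimple : IsSimpleGroup (PresentedGroup R))
    (hR : ∀ r, r ∈ R ↔ r ∈ D.rs) (hs : Small D c) (hgens : ∀ a, (a, true) ∈ D.lets) (subst : ℕ → List ℕ)
    (hinv : ∀ x, x < c.L → wordEl (elG D R) (subst x ++ subst (c.inv x)) = 1)
    (hrel : ∀ a ∈ D.rels, wordEl (elG D R) (a.flatMap subst) = 1)
    {v : List ℕ} (hv : ∀ x ∈ v, x < c.L) (hne : wordEl (elG D R) (v.flatMap subst) ≠ 1) :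
    ∃ Φ : PresentedGroup R ≃* PresentedGroup R,
      ∀ u : List ℕ, (∀ x ∈ u, x < c.L) → Φ (wordEl (elG D R) u) = wordEl (elG D R) (u.flatMap subst) := by
  obtain ⟨Φ, hΦ⟩ := exists_endo hs hgens hR subst hinv hrel
  have hker : Φ.ker = ⊥ := by
    rcases (Φ.normal_ker).eq_bot_or_eq_top with h | h
    · exact h
    · exfalso
      apply hne
      rw [← hΦ v hv]
      have : wordEl (elG D R) v ∈ Φ.ker := by rw [h]; trivial
      exact this
  have hinj : Function.Injective Φ := (MonoidHom.ker_eq_bot_iff Φ).1 hker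
  have hsurj : Function.Surjective Φ := Finite.injective_iff_surjective.1 hinj
  exact ⟨MulEquiv.ofBijective Φ ⟨hinj, hsurj⟩, hΦ⟩

/-- The outer automorphism group has order two: the automorphism outside the inner ones is given by words. -/
theorem card_out_two_pres {d : Nat} {pe re ye ze : Elt} {p r a q zk : Nat} [Fact p.Prime] {lrB : List (Lv × Rule)}
    {kills : List (List Nat × Nat)} {ts : List Elt} [Finite (PresentedGroup R)]
    (hsimple : IsSimpleGroup (PresentedGroup R)) (hinj : Function.Injective (phiG hR hs hb hgens))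
    (hB : ChainFor w m c.N tw tm (phiG hR hs hb hgens).range (lrB.map Prod.fst)) (hd : c.N ≤ 2 ^ d)
    (hgen : hdG (lrB.map Prod.fst) = [pe, re, ye])
    (vP : validB w m c.N pe = true) (vR : validB w m c.N re = true) (vY : validB w m c.N ye = true)
    (hp2 : ¬ p ^ 2 ∣ Nat.card (phiG hR hs hb hgens).range)
    (hpow : permOf w m c.N pe ^ p = 1) (hne : permOf w m c.N pe ≠ 1)
    (hrel : permOf w m c.N re * permOf w m c.N pe = permOf w m c.N pe ^ r * permOf w m c.N re)
    (hRq : permOf w m c.N re ^ q = 1)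
    (hexp : ∀ k, ¬ p ∣ k → ∃ j, (k * r ^ j) % p = 1 ∨ (k * r ^ j) % p = a % p)
    (hpa : ¬ p ∣ a)
    (subst : ℕ → List ℕ) (hsl : ∀ x, x < c.L → ∀ y ∈ subst x, y < c.L)
    (hinvW : ∀ x, x < c.L → wordsAgree c (baseL (lrB.map Prod.fst)) (subst x ++ subst (c.inv x)) [] = true)
    (hrelL : ∀ u ∈ D.rels, ∀ x ∈ u, x < c.L)
    (hrelW : ∀ u ∈ D.rels, wordsAgree c (baseL (lrB.map Prod.fst)) (u.flatMap subst) [] = true)
    (wP : List ℕ) (hwP : ∀ x ∈ wP, x < c.L)
    (hwPe : (baseL (lrB.map Prod.fst)).all (fun b => Nat.beq (gt w m pe b) (c.walkEnd wP b)) = true)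
    (hσW : wordsAgree c (baseL (lrB.map Prod.fst)) (wP.flatMap subst) (List.replicate a wP).flatten = true)
    (hconj : ∀ x ∈ (phiG hR hs hb hgens).range, x * permOf w m c.N pe = permOf w m c.N pe ^ r * x → x ^ q = 1 →
      ∃ c' : ℕ, x = permOf w m c.N pe ^ c' * permOf w m c.N re * (permOf w m c.N pe ^ c')⁻¹)
    (hnot : ∀ x ∈ (phiG hR hs hb hgens).range, x * permOf w m c.N pe ≠ permOf w m c.N pe ^ a * x)
    (hts : ∀ t ∈ ts, validB w m c.N t = true ∧ permOf w m c.N t ∈ (phiG hR hs hb hgens).range ∧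
      permOf w m c.N t * permOf w m c.N pe = permOf w m c.N pe * permOf w m c.N t ∧
      permOf w m c.N t * permOf w m c.N re = permOf w m c.N re * permOf w m c.N t)
    (hZ : permOf w m c.N ze = permOf w m c.N re ^ zk)
    (hyZ : permOf w m c.N ye * permOf w m c.N ze = permOf w m c.N ze * permOf w m c.N ye)
    (hsB : ∀ x ∈ (phiG hR hs hb hgens).range, (∀ a, x (permOf w m c.N ze a) = permOf w m c.N ze (x a)) →
      ∃ vf vi, Rep x vf vi ∧ finLeafT w m pe re ye ts kills (baseL (lrB.map Prod.fst)) vf vi = true)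
    (hk : killsOK c.N d (gt w m pe) (gt w m re) (gt w m ye) kills = true) :
    Nat.card (Out (phiG hR hs hb hgens).range) = 2 := by
  set φ := phiG hR hs hb hgens with hφ
  set K := φ.range with hK
  set P := permOf w m c.N pe with hP
  set RR := permOf w m c.N re with hRR
  set Y := permOf w m c.N ye with hY
  have hgK := hB.gen_eq
  rw [hgen] at hgK
  have mP : P ∈ K := hgK ▸ permOf_mem_genGroup (by simp)
  have mR : RR ∈ K := hgK ▸ permOf_mem_genGroup (by simp)
  have mY : Y ∈ K := hgK ▸ permOf_mem_genGroup (by simp)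
  have hbase : baseL (lrB.map Prod.fst) = baseL (lrB.map Prod.fst) := rfl
  -- the element `π` as a word
  have hPw : P = φ (wordEl (elG D R) wP) := by
    refine hB.eq_of_base mP ⟨_, rfl⟩ fun b hb' hlt => ?_
    apply Fin.ext
    rw [phi_wordEl_val hR hs hb hgens wP hwP]
    have h1 := Nat.eq_of_beq_eq_true (List.all_eq_true.1 hwPe b hb')
    rw [← gt_eq vP ⟨b, hlt⟩]
    exact h1
  have hflat : ∀ y ∈ wP.flatMap subst, y < c.L := by
    intro y hy
    obtain ⟨x, hx, hy⟩ := List.mem_flatMap.1 hy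
    exact hsl x (hwP x hx) y hy
  have hrep : ∀ y ∈ (List.replicate a wP).flatten, y < c.L := by
    intro y hy
    obtain ⟨l, hl, hy⟩ := List.mem_flatten.1 hy
    rw [List.eq_of_mem_replicate hl] at hy
    exact hwP y hy
  have hpow' : wordEl (elG D R) (wP.flatMap subst) = wordEl (elG D R) wP ^ a := by
    rw [← wordEl_replicate]
    exact word_eq hR hs hb hgens hinj hB hflat hrep hσW
  have hord : orderOf P = p := orderOf_eq_prime hpow hne
  have hPa : P ^ a ≠ 1 := fun h => hpa (hord ▸ orderOf_dvd_of_pow_eq_one h)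
  obtain ⟨Φ, hΦ⟩ := exists_aut hsimple hR hs hgens subst
    (fun x hx => word_eq hR hs hb hgens hinj hB (by
      intro y hy
      rcases List.mem_append.1 hy with hy | hy
      · exact hsl x hx y hy
      · exact hsl _ ((tok hs hb).1 x hx) y hy) (by simp) (hinvW x hx))
    (fun u hu => word_eq hR hs hb hgens hinj hB (by
      intro y hy
      obtain ⟨x, hx, hy⟩ := List.mem_flatMap.1 hy
      exact hsl x (hrelL u hu x hx) y hy) (by simp) (hrelW u hu))
    hwP (by
      intro h
      apply hPa
      rw [hPw, ← map_pow, ← hpow', h, map_one])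
  -- the isomorphism with the permutation group
  let e : PresentedGroup R ≃* K := MonoidHom.ofInjective hinj
  let σ : MulAut K := e.symm.trans (Φ.trans e)
  have heP : (⟨P, mP⟩ : K) = e (wordEl (elG D R) wP) := Subtype.ext hPw
  have hσ : σ ⟨P, mP⟩ = (⟨P, mP⟩ : K) ^ a := by
    rw [heP]
    show e (Φ (e.symm (e (wordEl (elG D R) wP)))) = _
    rw [MulEquiv.symm_apply_apply, hΦ wP hwP, hpow', map_pow]
  refine card_out_two_sigma (A := K) (p := p) (r := r) (a := a) (q := q) (π := ⟨P, mP⟩) (ρ := ⟨RR, mR⟩)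
    σ hp2 (Subtype.ext hpow) (fun h => hne (congrArg Subtype.val h)) (Subtype.ext hrel)
    (Subtype.ext hRq) hexp hσ ?_ ?_ ?_
  · rintro ⟨x, hx⟩ h1 h2
    obtain ⟨c', hc⟩ := hconj x hx (congrArg Subtype.val h1) (congrArg Subtype.val h2)
    exact ⟨c', Subtype.ext hc⟩
  · rintro ⟨x, hx⟩ h1
    exact hnot x hx (congrArg Subtype.val h1)
  · intro ψ h1 h2
    apply mem_inn_of_isInnerF
    refine hfinT_of_leaf hB hd hgen vP vR vY hts hZ hyZ hsB hk (pHom_ofAut ψ) ?_ ?_
    · rw [ofAut_apply ψ mP, h1]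
    · rw [ofAut_apply ψ mR, h2]

end

end Cfsg.Agent.Lib.Compute.OutPres
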