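import Mathlib
import Cfsg.Agent.Lib.Compute.GFModel
import Cfsg.Agent.Lib.Compute.SmallField
import Cfsg.Agent.Lib.Linalg.Basic

/-!
# `PSL₃(4)`: order and centralizer of an element of order 5

`PSL₃(GF4)` has order 20160 and no element of order 15.
-/

set_option autoImplicit false

namespace Cfsg.Agent.Lib.Compute.PSL34

open Matrix
open scoped Pointwise
open Cfsg.Agent.Lib.Compute.GFModel Cfsg.Agent.Lib.Compute.SmallField

/-- The primitive cube root of unity `ω`. -/
def w : GF4 := ⟨0, 1⟩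

/-- `SL₃` over `GF4`. -/
abbrev S3 := SpecialLinearGroup (Fin 3) GF4
/-- `PSL₃` over `GF4`. -/
abbrev P3 := ProjectiveSpecialLinearGroup (Fin 3) GF4

/-- The quotient map. -/
abbrev pi : S3 →* P3 := QuotientGroup.mk' _

theorem pi_surjective : Function.Surjective pi := QuotientGroup.mk'_surjective _

theorem pi_eq_one_iff {A : S3} : pi A = 1 ↔ A ∈ Subgroup.center S3 := by
  rw [← MonoidHom.mem_ker, QuotientGroup.ker_mk']

theorem card_P3 : Nat.card P3 = 20160 := by
  change Nat.card (ProjectiveSpecialLinearGroup (Fin 3) GF4) = 20160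
  have hK : Nat.card GF4 = 4 := by rw [Nat.card_eq_fintype_card, card_GF4]
  have h1 := Cfsg.Agent.Lib.Linalg.Basic.card_PSL_mul (ι := Fin 3) (F := GF4)
  have h2 := Cfsg.Agent.Lib.Linalg.Basic.card_GL_eq_mul_card_SL (ι := Fin 3) (F := GF4)
  have h3 : Nat.card (Matrix.GeneralLinearGroup (Fin 3) GF4) = 181440 := by
    rw [Matrix.card_GL_field, card_GF4]
    simp [Fin.prod_univ_three]
  rw [hK] at h1 h2
  simp only [Fintype.card_fin] at h1
  have hg : Nat.gcd 3 (4 - 1) = 3 := by norm_num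
  rw [hg] at h1
  rw [h3] at h2
  omega

/-- The matrix of an element of order 5. -/
def Y0m : Matrix (Fin 3) (Fin 3) GF4 := !![0, 1, 0; 1, w, 0; 0, 0, 1]

theorem Y0m_det : Y0m.det = 1 := by decide +kernel

/-- An element of order 5 of `SL₃(4)`. -/
def Y0 : S3 := ⟨Y0m, Y0m_det⟩

theorem Y0m_pow : Y0m ^ 5 = 1 := by decide +kernel

theorem Y0_pow : Y0 ^ 5 = 1 := by
  have h : ((Y0 ^ 5 : S3) : Matrix (Fin 3) (Fin 3) GF4) = Y0m ^ 5 :=
    Matrix.SpecialLinearGroup.coe_pow Y0 5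
  exact Subtype.ext (h.trans Y0m_pow)

/-- A central element of `SL₃` has the form `r • 1`. -/
theorem center_scalar {A : S3} (hA : A ∈ Subgroup.center S3) :
    ∃ r : GF4, r ^ 3 = 1 ∧ A.1 = Matrix.scalar (Fin 3) r := by
  obtain ⟨r, hr, h⟩ := Matrix.SpecialLinearGroup.mem_center_iff.mp hA
  exact ⟨r, by simpa using hr, h.symm⟩

theorem mem_center_of_scalar {A : S3} {r : GF4} (hr : r ^ 3 = 1) (h : A.1 = Matrix.scalar (Fin 3) r) :
    A ∈ Subgroup.center S3 :=
  Matrix.SpecialLinearGroup.mem_center_iff.mpr ⟨r, by simpa using hr, h.symm⟩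

theorem pi_Y0_ne : pi Y0 ≠ 1 := by
  intro h
  obtain ⟨r, -, hr⟩ := center_scalar (pi_eq_one_iff.mp h)
  have h01 : Y0.1 0 1 = (Matrix.scalar (Fin 3) r) 0 1 := by rw [hr]
  have h1 : Y0.1 0 1 = 1 := by decide +kernel
  rw [h1] at h01
  simp at h01

theorem order_pi_Y0 : orderOf (pi Y0) = 5 := by
  have : Fact (Nat.Prime 5) := fact_prime5
  exact orderOf_eq_prime (by rw [← map_pow, Y0_pow, map_one]) pi_Y0_ne

theorem L1 : ∀ c f g : GF4, c ≠ 0 → g = c * f → f = c * (g + w * f) → f = 0 ∧ g = 0 := by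
  decide +kernel

theorem L2 : ∀ c g h : GF4, c ≠ 0 → h = c * g → g + h * w = c * h → g = 0 ∧ h = 0 := by
  decide +kernel

/-- A matrix of the shape commuting with `Y0`. -/
def Mx (a b i : GF4) : Matrix (Fin 3) (Fin 3) GF4 := !![a, b, 0; b, a + w * b, 0; 0, 0, i]

theorem Mx_pow : ∀ a b i : GF4, i * (a * (a + w * b) - b * b) = 1 →
    (Mx a b i) ^ 5 = Matrix.scalar (Fin 3) (a * (a + w * b) - b * b) := by
  decide +kernel

theorem cube_one : ∀ r : GF4, r ≠ 0 → r ^ 3 = 1 := by decide +kernel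

/-- The elements of `SL₃(4)` commuting with `Y0` up to a scalar have central fifth power. -/
theorem pow_five_central {X : S3} {c : GF4} (hc : c ≠ 0)
    (h : X.1 * Y0m = Matrix.scalar (Fin 3) c * (Y0m * X.1)) : X ^ 5 ∈ Subgroup.center S3 := by
  have e : ∀ r s, (X.1 * Y0m) r s = c * (Y0m * X.1) r s := fun r s => by
    rw [h]
    simp [Matrix.scalar_apply, Matrix.mul_apply, Matrix.diagonal_apply]
  have e00 := e 0 0
  have e01 := e 0 1
  have e02 := e 0 2
  have e10 := e 1 0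
  have e11 := e 1 1
  have e12 := e 1 2
  have e20 := e 2 0
  have e21 := e 2 1
  have e22 := e 2 2
  simp [Matrix.mul_apply, Fin.sum_univ_three, Y0m] at e00 e01 e02 e10 e11 e12 e20 e21 e22
  obtain ⟨h12, h02⟩ := L1 c _ _ hc e02 e12
  obtain ⟨h20, h21⟩ := L2 c _ _ hc e20 e21
  have hdet : X.1.det = 1 := X.2
  rw [Matrix.det_fin_three, h12, h02, h20, h21] at hdet
  have hdet' : X.1 2 2 * (X.1 0 0 * X.1 1 1 - X.1 0 1 * X.1 1 0) = 1 := by linear_combination hdet
  have hi : X.1 2 2 ≠ 0 := by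
    intro h0
    rw [h0, zero_mul] at hdet'
    exact zero_ne_one hdet'
  have hc1 : c = 1 := by
    have : c * X.1 2 2 = 1 * X.1 2 2 := by rw [one_mul]; exact e22.symm
    exact mul_right_cancel₀ hi this
  subst hc1
  simp only [one_mul] at e00 e01
  have hX : X.1 = Mx (X.1 0 0) (X.1 0 1) (X.1 2 2) := by
    refine Matrix.ext fun r s => ?_
    fin_cases r <;> fin_cases s
    · rfl
    · rfl
    · exact h02
    · exact e00.symm
    · change X.1 1 1 = X.1 0 0 + w * X.1 0 1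
      rw [mul_comm w]; exact e01.symm
    · exact h12
    · exact h20
    · exact h21
    · rfl
  have hN : X.1 2 2 * (X.1 0 0 * (X.1 0 0 + w * X.1 0 1) - X.1 0 1 * X.1 0 1) = 1 := by
    have e1 : X.1 0 0 + w * X.1 0 1 = X.1 1 1 := by rw [mul_comm w]; exact e01
    have e2 : X.1 0 1 * X.1 0 1 = X.1 0 1 * X.1 1 0 := congrArg (X.1 0 1 * ·) e00
    rw [e1, e2]; exact hdet'
  have hNne : X.1 0 0 * (X.1 0 0 + w * X.1 0 1) - X.1 0 1 * X.1 0 1 ≠ 0 := by
    intro h0
    rw [h0, mul_zero] at hN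
    exact zero_ne_one hN
  refine mem_center_of_scalar (cube_one _ hNne) ?_
  have hp : ((X ^ 5 : S3) : Matrix (Fin 3) (Fin 3) GF4) = X.1 ^ 5 :=
    Matrix.SpecialLinearGroup.coe_pow X 5
  rw [hp]
  conv_lhs => rw [hX]
  exact Mx_pow _ _ _ hN

/-- `PSL₃(GF4)` has no element of order 15. -/
theorem no_order_15 (g : P3) : orderOf g ≠ 15 := by
  intro hg
  have : Fact (Nat.Prime 5) := fact_prime5
  -- `y = g ^ 3` has order 5
  have hy : orderOf (g ^ 3) = 5 := by
    rw [orderOf_pow_of_dvd (by norm_num) (by rw [hg]; norm_num), hg]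
  have hcard5 : ∀ x : P3, orderOf x = 5 → ∀ P : Sylow 5 P3, (Subgroup.zpowers x : Subgroup P3) ≤ P →
      (Subgroup.zpowers x : Subgroup P3) = P := by
    intro x hx P hP
    have hcP : Nat.card P = 5 := by
      have h1 := P.card_eq_multiplicity
      rw [card_P3] at h1
      have h2 : (20160 : ℕ).factorization 5 = 1 := by
        have : (20160 : ℕ) = 5 ^ 1 * 4032 := by norm_num
        rw [this, Nat.factorization_mul (by norm_num) (by norm_num), Nat.Prime.factorization_pow (by norm_num)]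
        have h3 : (4032 : ℕ).factorization 5 = 0 :=
          Nat.factorization_eq_zero_of_not_dvd (by norm_num)
        simp [h3]
      rw [h2] at h1
      simpa using h1
    apply Subgroup.eq_of_le_of_card_ge hP
    rw [hcP, Nat.card_zpowers, hx]
  obtain ⟨P, hP⟩ := IsPGroup.exists_le_sylow (p := 5) (P := Subgroup.zpowers (g ^ 3))
    (by
      rw [IsPGroup.iff_card (p := 5)]
      exact ⟨1, by rw [Nat.card_zpowers, hy, pow_one]⟩)
  obtain ⟨P0, hP0⟩ := IsPGroup.exists_le_sylow (p := 5) (P := Subgroup.zpowers (pi Y0))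
    (by
      rw [IsPGroup.iff_card (p := 5)]
      exact ⟨1, by rw [Nat.card_zpowers, order_pi_Y0, pow_one]⟩)
  have e1 := hcard5 _ hy P hP
  have e2 := hcard5 _ order_pi_Y0 P0 hP0
  obtain ⟨t, ht⟩ := MulAction.exists_smul_eq P3 P P0
  -- conjugating, `pi Y0` is a power of `t g t⁻¹`
  have hmem : pi Y0 ∈ MulAut.conj t • (P : Subgroup P3) := by
    have : pi Y0 ∈ ((t • P : Sylow 5 P3) : Subgroup P3) := by
      rw [ht, ← e2]; exact Subgroup.mem_zpowers _
    exact this
  obtain ⟨z, hz, hzY⟩ := (Subgroup.mem_smul_pointwise_iff_exists _ _ _).mp hmem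
  rw [← e1] at hz
  obtain ⟨k, rfl⟩ := Subgroup.mem_zpowers_iff.mp hz
  have hY : pi Y0 = t * ((g ^ 3) ^ k) * t⁻¹ := hzY.symm
  obtain ⟨X, hX⟩ := pi_surjective (t * g * t⁻¹)
  have hcomm : Commute (pi X) (pi Y0) := by
    have h1 : pi Y0 = ((pi X) ^ 3) ^ k := by
      rw [hX, hY, conj_pow, conj_zpow]
    rw [h1]
    exact ((Commute.refl (pi X)).pow_right 3).zpow_right k
  have hcen : X * Y0 * X⁻¹ * Y0⁻¹ ∈ Subgroup.center S3 := by
    rw [← pi_eq_one_iff]
    simp only [map_mul, map_inv]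
    rw [hcomm.eq, mul_inv_cancel_right, mul_inv_cancel]
  obtain ⟨r, hr, hA⟩ := center_scalar hcen
  have hr0 : r ≠ 0 := by
    rintro rfl
    simp at hr
  have hfin : X.1 * Y0m = Matrix.scalar (Fin 3) r * (Y0m * X.1) := by
    rw [← hA]
    have h2 : X * Y0 = (X * Y0 * X⁻¹ * Y0⁻¹) * (Y0 * X) := by group
    exact congrArg Subtype.val h2
  have h5 := pow_five_central hr0 hfin
  have h6 : (t * g * t⁻¹) ^ 5 = 1 := by
    rw [← hX, ← map_pow]
    exact pi_eq_one_iff.mpr h5
  rw [conj_pow] at h6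
  have h7 : g ^ 5 = 1 := by
    have h8 : t⁻¹ * (t * g ^ 5 * t⁻¹) * t = 1 := by rw [h6]; group
    rw [← h8]; group
  have h9 := orderOf_dvd_of_pow_eq_one h7
  rw [hg] at h9
  norm_num at h9

end Cfsg.Agent.Lib.Compute.PSL34
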