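import Mathlib
import Cfsg.Agent.Lib.Compute.GF4

/-!
# Tables for the isomorphism `PSU₄(2) ≅ PSp₄(3)`

A concrete field with three elements, the 40 points of `PG(3,3)` and the 40 non-isotropic points of the
Hermitian space `𝔽₄⁴`, numbered so that collinearity corresponds to orthogonality.
-/

set_option autoImplicit false
set_option maxRecDepth 100000

namespace Cfsg.Agent.Lib.Compute.PSU42

open Cfsg.Agent.Lib.Compute.GF4

/-- The field with three elements, as an enumeration. -/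
inductive F3 : Type
  | z | o | t
  deriving DecidableEq

namespace F3

instance instFintype : Fintype F3 :=
  ⟨⟨[z, o, t], by decide⟩, fun x => by cases x <;> decide⟩

def add : F3 → F3 → F3
  | z, x => x
  | x, z => x
  | o, o => t
  | o, t => z
  | t, o => z
  | t, t => o

def mul : F3 → F3 → F3
  | z, _ => z
  | _, z => z
  | o, x => x
  | x, o => x
  | t, t => o

def neg : F3 → F3
  | z => z
  | o => t
  | t => o

def inv : F3 → F3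
  | z => z
  | o => o
  | t => t

instance instAdd : Add F3 := ⟨add⟩
instance instZero : Zero F3 := ⟨z⟩
instance instNeg : Neg F3 := ⟨neg⟩
instance instMul : Mul F3 := ⟨mul⟩
instance instOne : One F3 := ⟨o⟩

instance instCommRing : CommRing F3 where
  add_assoc := by decide
  zero_add := by decide
  add_zero := by decide
  nsmul := nsmulRec
  zsmul := zsmulRec
  neg_add_cancel := by decide
  add_comm := by decide
  left_distrib := by decide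
  right_distrib := by decide
  zero_mul := by decide
  mul_zero := by decide
  mul_assoc := by decide
  one_mul := by decide
  mul_one := by decide
  mul_comm := by decide

instance instField : Field F3 where
  __ := instCommRing
  inv := inv
  exists_pair_ne := ⟨z, o, by decide⟩
  mul_inv_cancel := by decide
  inv_zero := rfl
  nnqsmul := _
  nnqsmul_def := fun _ _ => rfl
  qsmul := _
  qsmul_def := fun _ _ => rfl

theorem card_eq : Fintype.card F3 = 3 := rfl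

/-- Code of an element. -/
def code : F3 → ℕ
  | z => 0
  | o => 1
  | t => 2

end F3

/-- Every field of cardinality three is isomorphic to `F3`. -/
noncomputable def equivOfCard3 (F : Type*) [Field F] [Fintype F] (hF : Fintype.card F = 3) : F ≃+* F3 :=
  FiniteField.ringEquivOfCardEq (hF.trans F3.card_eq.symm)

/-- Code of an element of `F4`. -/
def code4 : F4 → ℕ
  | F4.o => 0
  | F4.i => 1
  | F4.w => 2
  | F4.v => 3

def T3 : List ℕ := [0, 13, 13, 4, 22, 31, 4, 31, 22, 1, 16, 19, 7, 25, 37, 10, 34, 28, 1, 19, 16, 10, 28, 34, 7, 37, 25, 0, 14, 15, 5, 23, 33, 6, 32, 24, 2, 17, 21, 8, 26, 39, 12, 35, 30, 3, 20, 18, 11, 29, 36, 9, 38, 27, 0, 15, 14, 6, 24, 32, 5, 33, 23, 3, 18, 20, 9, 27, 38, 11, 36, 29, 2, 21, 17, 12, 30, 35, 8, 39, 26]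

def T4 : List ℕ := [0, 3, 3, 3, 2, 0, 0, 0, 2, 0, 0, 0, 2, 0, 0, 0, 1, 0, 0, 0, 0, 13, 18, 20, 0, 17, 19, 15, 0, 21, 14, 16, 1, 0, 0, 0, 0, 16, 21, 14, 0, 20, 13, 18, 0, 15, 17, 19, 1, 0, 0, 0, 0, 19, 15, 17, 0, 14, 16, 21, 0, 18, 20, 13, 0, 0, 0, 0, 0, 4, 11, 9, 0, 8, 6, 10, 0, 12, 7, 5, 0, 31, 38, 36, 22, 0, 0, 0, 30, 0, 0, 0, 26, 0, 0, 0, 0, 34, 32, 39, 25, 0, 0, 0, 24, 0, 0, 0, 29, 0, 0, 0, 0, 37, 35, 33, 28, 0, 0, 0, 27, 0, 0, 0, 23, 0, 0, 0, 0, 0, 0, 0, 0, 5, 12, 7, 0, 9, 4, 11, 0, 10, 8, 6, 0, 33, 37, 35, 23, 0, 0, 0, 28, 0, 0, 0, 27, 0, 0, 0, 0, 36, 31, 38, 26, 0, 0, 0, 22, 0, 0, 0, 30, 0, 0, 0, 0, 39, 34, 32, 29, 0, 0, 0, 25, 0, 0, 0, 24, 0, 0, 0, 0, 0, 0, 0, 0, 6, 10, 8, 0, 7, 5, 12, 0, 11, 9, 4, 0, 32, 39, 34, 24, 0, 0, 0, 29, 0, 0, 0, 25, 0, 0, 0, 0, 35, 33, 37, 27, 0, 0, 0, 23, 0, 0, 0, 28, 0, 0, 0, 0, 38, 36, 31, 30, 0, 0, 0, 26,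 0, 0, 0, 22, 0, 0, 0]

def A3L : List (F3 × F3 × F3 × F3) :=
  [(F3.z, F3.z, F3.z, F3.o), (F3.z, F3.z, F3.o, F3.z), (F3.z, F3.z, F3.o, F3.o), (F3.z, F3.z, F3.o, F3.t), (F3.z, F3.o, F3.z, F3.z), (F3.z, F3.o, F3.z, F3.o), (F3.z, F3.o, F3.z, F3.t), (F3.z, F3.o, F3.o, F3.z), (F3.z, F3.o, F3.o, F3.o), (F3.z, F3.o, F3.o, F3.t), (F3.z, F3.o, F3.t, F3.z), (F3.z, F3.o, F3.t, F3.o), (F3.z, F3.o, F3.t, F3.t), (F3.o, F3.z, F3.z, F3.z), (F3.o, F3.z, F3.z, F3.o), (F3.o, F3.z, F3.z, F3.t), (F3.o, F3.z, F3.o, F3.z), (F3.o, F3.z, F3.o, F3.o), (F3.o, F3.z, F3.o, F3.t), (F3.o, F3.z, F3.t, F3.z), (F3.o, F3.z, F3.t, F3.o), (F3.o, F3.z, F3.t, F3.t), (F3.o, F3.o, F3.z, F3.z), (F3.o, F3.o, F3.z, F3.o), (F3.o, F3.o, F3.z, F3.t), (F3.o, F3.o, F3.o, F3.z), (F3.o, F3.o, F3.o, F3.o), (F3.o, F3.o, F3.o, F3.t), (F3.o, F3.o, F3.t, F3.z), (F3.o, F3.o, F3.t, F3.o), (F3.o, F3.o,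 F3.t, F3.t), (F3.o, F3.t, F3.z, F3.z), (F3.o, F3.t, F3.z, F3.o), (F3.o, F3.t, F3.z, F3.t), (F3.o, F3.t, F3.o, F3.z), (F3.o, F3.t, F3.o, F3.o), (F3.o, F3.t, F3.o, F3.t), (F3.o, F3.t, F3.t, F3.z), (F3.o, F3.t, F3.t, F3.o), (F3.o, F3.t, F3.t, F3.t)]

def A4L : List (F4 × F4 × F4 × F4) :=
  [(F4.o, F4.o, F4.o, F4.i), (F4.o, F4.o, F4.i, F4.o), (F4.o, F4.i, F4.o, F4.o), (F4.i, F4.o, F4.o, F4.o), (F4.i, F4.i, F4.o, F4.i), (F4.i, F4.i, F4.o, F4.w), (F4.i, F4.i, F4.o, F4.v), (F4.i, F4.w, F4.o, F4.v), (F4.i, F4.w, F4.o, F4.i), (F4.i, F4.w, F4.o, F4.w), (F4.i, F4.v, F4.o, F4.w), (F4.i, F4.v, F4.o, F4.v), (F4.i, F4.v, F4.o, F4.i), (F4.i, F4.i, F4.i, F4.o), (F4.i, F4.w, F4.v, F4.o), (F4.i, F4.v, F4.w, F4.o), (F4.i, F4.i, F4.w, F4.o), (F4.i, F4.w, F4.i, F4.o), (F4.i, F4.v, F4.v, F4.o), (F4.i, F4.i, F4.v, F4.o), (F4.i, F4.w, F4.w, F4.o), (F4.i, F4.v, F4.i, F4.o),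 (F4.o, F4.i, F4.i, F4.i), (F4.o, F4.i, F4.i, F4.w), (F4.o, F4.i, F4.i, F4.v), (F4.o, F4.i, F4.w, F4.i), (F4.o, F4.i, F4.w, F4.w), (F4.o, F4.i, F4.w, F4.v), (F4.o, F4.i, F4.v, F4.i), (F4.o, F4.i, F4.v, F4.w), (F4.o, F4.i, F4.v, F4.v), (F4.i, F4.o, F4.i, F4.i), (F4.i, F4.o, F4.i, F4.v), (F4.i, F4.o, F4.i, F4.w), (F4.i, F4.o, F4.w, F4.i), (F4.i, F4.o, F4.w, F4.v), (F4.i, F4.o, F4.w, F4.w), (F4.i, F4.o, F4.v, F4.i), (F4.i, F4.o, F4.v, F4.v), (F4.i, F4.o, F4.v, F4.w)]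

/-- Number of a point from its coordinates over `𝔽₃`. -/
def idq3 (a b c d : F3) : Fin 40 :=
  ⟨(T3.getD (a.code + 3 * b.code + 9 * c.code + 27 * d.code) 0) % 40, Nat.mod_lt _ (by decide)⟩

/-- Number of a point from its coordinates over `𝔽₄`. -/
def idq4 (a b c d : F4) : Fin 40 :=
  ⟨(T4.getD (code4 a + 4 * code4 b + 16 * code4 c + 64 * code4 d) 0) % 40, Nat.mod_lt _ (by decide)⟩

/-- Coordinates of the points over `𝔽₃`. -/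
def A3 (i : Fin 40) : F3 × F3 × F3 × F3 := A3L.getD i.1 (F3.z, F3.z, F3.z, F3.z)

/-- Coordinates of the points over `𝔽₄`. -/
def A4 (i : Fin 40) : F4 × F4 × F4 × F4 := A4L.getD i.1 (F4.o, F4.o, F4.o, F4.o)

theorem idq3_A3 : ∀ i : Fin 40, idq3 (A3 i).1 (A3 i).2.1 (A3 i).2.2.1 (A3 i).2.2.2 = i := by decide +kernel

theorem idq4_A4 : ∀ i : Fin 40, idq4 (A4 i).1 (A4 i).2.1 (A4 i).2.2.1 (A4 i).2.2.2 = i := by decide +kernel

/-- Each nonzero vector over `𝔽₃` is a multiple of its point. -/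
theorem scale3 : ∀ a b c d : F3, (a = F3.z ∧ b = F3.z ∧ c = F3.z ∧ d = F3.z) ∨
    ∃ u : F3, u ≠ F3.z ∧ a = u * (A3 (idq3 a b c d)).1 ∧ b = u * (A3 (idq3 a b c d)).2.1 ∧
      c = u * (A3 (idq3 a b c d)).2.2.1 ∧ d = u * (A3 (idq3 a b c d)).2.2.2 := by decide +kernel

theorem idq3_smul : ∀ u a b c d : F3, u ≠ F3.z → idq3 (u * a) (u * b) (u * c) (u * d) = idq3 a b c d := by
  decide +kernel

/-- Each vector of norm one over `𝔽₄` is a multiple of its point. -/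
theorem scale4 : ∀ a b c d : F4, a * a ^ 2 + b * b ^ 2 + c * c ^ 2 + d * d ^ 2 = 1 →
    ∃ u : F4, u ≠ 0 ∧ a = u * (A4 (idq4 a b c d)).1 ∧ b = u * (A4 (idq4 a b c d)).2.1 ∧
      c = u * (A4 (idq4 a b c d)).2.2.1 ∧ d = u * (A4 (idq4 a b c d)).2.2.2 := by decide +kernel

theorem idq4_smul : ∀ u a b c d : F4, u ≠ 0 → a * a ^ 2 + b * b ^ 2 + c * c ^ 2 + d * d ^ 2 = 1 →
    idq4 (u * a) (u * b) (u * c) (u * d) = idq4 a b c d := by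
  decide +kernel

/-- The points over `𝔽₄` have norm one. -/
theorem norm_A4 : ∀ i : Fin 40, (A4 i).1 * (A4 i).1 ^ 2 + (A4 i).2.1 * (A4 i).2.1 ^ 2 +
    (A4 i).2.2.1 * (A4 i).2.2.1 ^ 2 + (A4 i).2.2.2 * (A4 i).2.2.2 ^ 2 = 1 := by decide +kernel

theorem A3_ne : ∀ i : Fin 40, ¬ ((A3 i).1 = F3.z ∧ (A3 i).2.1 = F3.z ∧ (A3 i).2.2.1 = F3.z ∧ (A3 i).2.2.2 = F3.z) := by
  decide +kernel

/-- The reflection parameter attached to a coefficient of a transvection. -/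
def sOf : F3 → F4
  | F3.t => F4.w
  | _ => F4.v

/-- The table comparing transvections and reflections. -/
theorem tv_eq_rf : ∀ (a b c d e : F3), (a = F3.z ∧ b = F3.z ∧ c = F3.z ∧ d = F3.z) ∨ e = F3.z ∨ ∀ i : Fin 40,
    let x := A3 i
    let k := e * ((x.2.2.1 * a + -(x.1 * c)) + (x.2.2.2 * b + -(x.2.1 * d)))
    let y := A4 i
    let p := A4 (idq3 a b c d)
    let m := (sOf e + 1) * (y.1 * p.1 ^ 2 + y.2.1 * p.2.1 ^ 2 + y.2.2.1 * p.2.2.1 ^ 2 + y.2.2.2 * p.2.2.2 ^ 2)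
    idq3 (x.1 + k * a) (x.2.1 + k * b) (x.2.2.1 + k * c) (x.2.2.2 + k * d) =
      idq4 (y.1 + m * p.1) (y.2.1 + m * p.2.1) (y.2.2.1 + m * p.2.2.1) (y.2.2.2 + m * p.2.2.2) := by
  decide +kernel

end Cfsg.Agent.Lib.Compute.PSU42
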