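import Mathlib
import Cfsg.Prelude.Def_LieClassical
import Cfsg.Agent.Lib.Compute.PSU42Data
import Cfsg.Agent.Lib.Compute.SU3Two
import Cfsg.Agent.Lib.Classical.Symp.Count
import Cfsg.Agent.Lib.Classical.Symp.SimpleMatrix

/-!
# The exceptional isomorphism `PSU₄(2) ≅ PSp₄(3)`

`Sp₄(3)` acts on the 40 points of `PG(3,3)` and `SU₄(2)` acts on the 40 non-isotropic points of `𝔽₄⁴`. With the
numbering of `PSU42Data` every symplectic transvection acts as a (normalised) unitary reflection. Since `Sp₄(3)` is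
generated by transvections, the images in `Sym(40)` are compared by a count of orders.
-/

set_option autoImplicit false
set_option maxRecDepth 100000

namespace Cfsg.Agent.Lib.Compute.PSU42

open Cfsg Cfsg.Agent.Lib.Compute.GF4 Cfsg.Agent.Lib.Classical.Herm Cfsg.Agent.Lib.Classical.Herm.GU Cfsg.Agent.Lib.Classical.Herm.SU
open Cfsg.Agent.Lib.Classical.Symp.Basic
open scoped Matrix

/-! ### The symplectic side -/

abbrev Sp3 : Type := Matrix.symplecticGroup (Fin 2) F3
abbrev V3 : Type := Fin 2 ⊕ Fin 2 → F3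

def pack3 (p : F3 × F3 × F3 × F3) : V3 := Sum.elim ![p.1, p.2.1] ![p.2.2.1, p.2.2.2]

def P3 (i : Fin 40) : V3 := pack3 (A3 i)

def id3 (v : V3) : Fin 40 := idq3 (v (.inl 0)) (v (.inl 1)) (v (.inr 0)) (v (.inr 1))

theorem v3_ext {v w : V3} (h0 : v (.inl 0) = w (.inl 0)) (h1 : v (.inl 1) = w (.inl 1))
    (h2 : v (.inr 0) = w (.inr 0)) (h3 : v (.inr 1) = w (.inr 1)) : v = w := by
  funext x
  rcases x with i | i <;> fin_cases i <;> assumption

theorem id3_P3 (i : Fin 40) : id3 (P3 i) = i := idq3_A3 i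

theorem P3_ne (i : Fin 40) : P3 i ≠ 0 := by
  intro h
  exact A3_ne i ⟨congrFun h (.inl 0), congrFun h (.inl 1), congrFun h (.inr 0), congrFun h (.inr 1)⟩

theorem exists_scale_V3 (v : V3) (hv : v ≠ 0) : ∃ u : F3, u ≠ 0 ∧ v = u • P3 (id3 v) := by
  rcases scale3 (v (.inl 0)) (v (.inl 1)) (v (.inr 0)) (v (.inr 1)) with ⟨h0, h1, h2, h3⟩ | ⟨u, hu, h0, h1, h2, h3⟩
  · exact absurd (v3_ext h0 h1 h2 h3) hv
  · exact ⟨u, hu, v3_ext h0 h1 h2 h3⟩

theorem id3_smul (u : F3) (hu : u ≠ 0) (v : V3) : id3 (u • v) = id3 v := idq3_smul u _ _ _ _ hu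

theorem sp_act_ne (g : Sp3) {v : V3} (hv : v ≠ 0) : g.1 *ᵥ v ≠ 0 := by
  intro h
  apply hv
  have h1 : (g⁻¹ * g : Sp3).1 = 1 := by
    rw [inv_mul_cancel]
    rfl
  have h2 : (g⁻¹ * g : Sp3).1 *ᵥ v = v := by
    rw [h1, Matrix.one_mulVec]
  rw [← h2, Submonoid.coe_mul, ← Matrix.mulVec_mulVec, h, Matrix.mulVec_zero]

def spSmul (g : Sp3) (i : Fin 40) : Fin 40 := id3 (g.1 *ᵥ P3 i)

theorem spSmul_one (i : Fin 40) : spSmul 1 i = i := by
  unfold spSmul
  rw [OneMemClass.coe_one, Matrix.one_mulVec]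
  exact id3_P3 i

theorem spSmul_mul (g h : Sp3) (i : Fin 40) : spSmul (g * h) i = spSmul g (spSmul h i) := by
  obtain ⟨u, hu, e⟩ := exists_scale_V3 (h.1 *ᵥ P3 i) (sp_act_ne h (P3_ne i))
  unfold spSmul
  have h1 : (g * h : Sp3).1 *ᵥ P3 i = u • (g.1 *ᵥ P3 (id3 (h.1 *ᵥ P3 i))) := by
    rw [Submonoid.coe_mul, ← Matrix.mulVec_mulVec, ← Matrix.mulVec_smul, ← e]
  rw [h1, id3_smul u hu]

/-- The action of the symplectic group on the points. -/
def spAct : MulAction Sp3 (Fin 40) where
  smul := spSmul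
  one_smul := spSmul_one
  mul_smul := spSmul_mul

/-- The permutation representation of the symplectic group. -/
def psi : Sp3 →* Equiv.Perm (Fin 40) := @MulAction.toPermHom Sp3 (Fin 40) _ spAct

theorem psi_apply (g : Sp3) (i : Fin 40) : psi g i = id3 (g.1 *ᵥ P3 i) := rfl

/-! ### The unitary side -/

abbrev SU4 : Type := SU 4 F4 2
abbrev V4 : Type := Fin 4 → F4

def P4 (i : Fin 40) : V4 := ![(A4 i).1, (A4 i).2.1, (A4 i).2.2.1, (A4 i).2.2.2]

def id4 (v : V4) : Fin 40 := idq4 (v 0) (v 1) (v 2) (v 3)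

theorem v4_ext {v w : V4} (h0 : v 0 = w 0) (h1 : v 1 = w 1) (h2 : v 2 = w 2) (h3 : v 3 = w 3) : v = w := by
  funext x
  fin_cases x <;> assumption

theorem herm4 (u v : V4) : hermForm 4 F4 2 u v = u 0 * v 0 ^ 2 + u 1 * v 1 ^ 2 + u 2 * v 2 ^ 2 + u 3 * v 3 ^ 2 := by
  simp [hermForm, Fin.sum_univ_four]

theorem herm_P4 (i : Fin 40) : hermForm 4 F4 2 (P4 i) (P4 i) = 1 := by
  rw [herm4]
  exact norm_A4 i

theorem id4_P4 (i : Fin 40) : id4 (P4 i) = i := idq4_A4 i

theorem exists_scale_V4 (v : V4) (hv : hermForm 4 F4 2 v v = 1) : ∃ u : F4, u ≠ 0 ∧ v = u • P4 (id4 v) := by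
  rw [herm4] at hv
  obtain ⟨u, hu, h0, h1, h2, h3⟩ := scale4 (v 0) (v 1) (v 2) (v 3) hv
  exact ⟨u, hu, v4_ext h0 h1 h2 h3⟩

theorem id4_smul (u : F4) (hu : u ≠ 0) (v : V4) (hv : hermForm 4 F4 2 v v = 1) : id4 (u • v) = id4 v := by
  rw [herm4] at hv
  exact idq4_smul u _ _ _ _ hu hv

/-- The matrix of an element of `SU₄`. -/
abbrev mat (g : SU4) : Matrix (Fin 4) (Fin 4) F4 := ((g : Matrix.SpecialLinearGroup (Fin 4) F4) : Matrix (Fin 4) (Fin 4) F4)

theorem herm_mat (g : SU4) (u v : V4) : hermForm 4 F4 2 (mat g *ᵥ u) (mat g *ᵥ v) = hermForm 4 F4 2 u v :=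
  preserves_su g u v

def suSmul (g : SU4) (i : Fin 40) : Fin 40 := id4 (mat g *ᵥ P4 i)

theorem suSmul_one (i : Fin 40) : suSmul 1 i = i := by
  unfold suSmul
  have : mat (1 : SU4) = 1 := rfl
  rw [this, Matrix.one_mulVec]
  exact id4_P4 i

theorem suSmul_mul (g h : SU4) (i : Fin 40) : suSmul (g * h) i = suSmul g (suSmul h i) := by
  have hw : hermForm 4 F4 2 (mat h *ᵥ P4 i) (mat h *ᵥ P4 i) = 1 := by
    rw [herm_mat, herm_P4]
  obtain ⟨u, hu, e⟩ := exists_scale_V4 (mat h *ᵥ P4 i) hw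
  unfold suSmul
  have hm : mat (g * h) = mat g * mat h := rfl
  have h1 : mat (g * h) *ᵥ P4 i = u • (mat g *ᵥ P4 (id4 (mat h *ᵥ P4 i))) := by
    rw [hm, ← Matrix.mulVec_mulVec, ← Matrix.mulVec_smul, ← e]
  rw [h1, id4_smul u hu _ (by rw [herm_mat, herm_P4])]

/-- The action of the unitary group on the non-isotropic points. -/
def suAct : MulAction SU4 (Fin 40) where
  smul := suSmul
  one_smul := suSmul_one
  mul_smul := suSmul_mul

/-- The permutation representation of the unitary group. -/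
def phi : SU4 →* Equiv.Perm (Fin 40) := @MulAction.toPermHom SU4 (Fin 40) _ suAct

theorem phi_apply (g : SU4) (i : Fin 40) : phi g i = id4 (mat g *ᵥ P4 i) := rfl

theorem mulVec_four (M : Matrix (Fin 4) (Fin 4) F4) (a b c d : F4) (i : Fin 4) :
    (M *ᵥ ![a, b, c, d]) i = M i 0 * a + M i 1 * b + M i 2 * c + M i 3 * d := by
  simp [Matrix.mulVec, dotProduct, Fin.sum_univ_four]

theorem F4_pow_four : ∀ c : F4, c ^ 4 = 1 → c = 1 := by decide

/-- `phi` is injective. -/
theorem phi_injective : Function.Injective phi := by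
  rw [injective_iff_map_eq_one]
  intro g hg
  set M := mat g with hM
  have hfix : ∀ i : Fin 40, id4 (M *ᵥ P4 i) = i := fun i => by
    have := congrArg (fun π : Equiv.Perm (Fin 40) => π i) hg
    simpa [phi_apply] using this
  have key : ∀ v : V4, hermForm 4 F4 2 v v = 1 → ∃ c : F4, M *ᵥ v = c • v := by
    intro v hv
    obtain ⟨u, hu, e⟩ := exists_scale_V4 v hv
    have hy : hermForm 4 F4 2 (M *ᵥ P4 (id4 v)) (M *ᵥ P4 (id4 v)) = 1 := by
      rw [hM, herm_mat, herm_P4]
    obtain ⟨u', _, e'⟩ := exists_scale_V4 _ hy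
    rw [hfix] at e'
    refine ⟨u', ?_⟩
    rw [e, Matrix.mulVec_smul, e', smul_comm]
  have hn0 : hermForm 4 F4 2 ![1, 0, 0, 0] ![1, 0, 0, 0] = 1 := by rw [herm4]; decide
  have hn1 : hermForm 4 F4 2 ![0, 1, 0, 0] ![0, 1, 0, 0] = 1 := by rw [herm4]; decide
  have hn2 : hermForm 4 F4 2 ![0, 0, 1, 0] ![0, 0, 1, 0] = 1 := by rw [herm4]; decide
  have hn3 : hermForm 4 F4 2 ![0, 0, 0, 1] ![0, 0, 0, 1] = 1 := by rw [herm4]; decide
  have hn4 : hermForm 4 F4 2 ![1, 1, 1, 0] ![1, 1, 1, 0] = 1 := by rw [herm4]; decide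
  have hn5 : hermForm 4 F4 2 ![0, 1, 1, 1] ![0, 1, 1, 1] = 1 := by rw [herm4]; decide
  obtain ⟨c0, h0⟩ := key _ hn0
  obtain ⟨c1, h1⟩ := key _ hn1
  obtain ⟨c2, h2⟩ := key _ hn2
  obtain ⟨c3, h3⟩ := key _ hn3
  obtain ⟨c4, h4⟩ := key _ hn4
  obtain ⟨c5, h5⟩ := key _ hn5
  have col0 : ∀ i, M i 0 = (c0 • (![1, 0, 0, 0] : V4)) i := fun i => by
    have := congrFun h0 i
    rw [mulVec_four] at this
    simpa using this
  have col1 : ∀ i, M i 1 = (c1 • (![0, 1, 0, 0] : V4)) i := fun i => by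
    have := congrFun h1 i
    rw [mulVec_four] at this
    simpa using this
  have col2 : ∀ i, M i 2 = (c2 • (![0, 0, 1, 0] : V4)) i := fun i => by
    have := congrFun h2 i
    rw [mulVec_four] at this
    simpa using this
  have col3 : ∀ i, M i 3 = (c3 • (![0, 0, 0, 1] : V4)) i := fun i => by
    have := congrFun h3 i
    rw [mulVec_four] at this
    simpa using this
  have row4 : ∀ i, M i 0 + M i 1 + M i 2 = (c4 • (![1, 1, 1, 0] : V4)) i := fun i => by
    have := congrFun h4 i
    rw [mulVec_four] at this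
    simpa using this
  have row5 : ∀ i, M i 1 + M i 2 + M i 3 = (c5 • (![0, 1, 1, 1] : V4)) i := fun i => by
    have := congrFun h5 i
    rw [mulVec_four] at this
    simpa using this
  have e0 : c0 = c4 := by
    have := row4 0
    rw [col0, col1, col2] at this
    simpa using this
  have e1 : c1 = c4 := by
    have := row4 1
    rw [col0, col1, col2] at this
    simpa using this
  have e2 : c2 = c4 := by
    have := row4 2
    rw [col0, col1, col2] at this
    simpa using this
  have e3 : c1 = c5 := by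
    have := row5 1
    rw [col1, col2, col3] at this
    simpa using this
  have e4 : c3 = c5 := by
    have := row5 3
    rw [col1, col2, col3] at this
    simpa using this
  have hc3 : c3 = c4 := by rw [e4, ← e3, e1]
  rw [e0] at col0
  rw [e1] at col1
  rw [e2] at col2
  rw [hc3] at col3
  have hMs : M = Matrix.scalar (Fin 4) c4 := by
    ext i j
    fin_cases j
    · simpa [Matrix.scalar_apply, Matrix.diagonal_apply, Matrix.one_apply] using (by
        have := col0 i
        fin_cases i <;> simpa using this)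
    · simpa [Matrix.scalar_apply, Matrix.diagonal_apply, Matrix.one_apply] using (by
        have := col1 i
        fin_cases i <;> simpa using this)
    · simpa [Matrix.scalar_apply, Matrix.diagonal_apply, Matrix.one_apply] using (by
        have := col2 i
        fin_cases i <;> simpa using this)
    · simpa [Matrix.scalar_apply, Matrix.diagonal_apply, Matrix.one_apply] using (by
        have := col3 i
        fin_cases i <;> simpa using this)
  have hdet : M.det = 1 := g.1.2
  rw [hMs, det_scalar'] at hdet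
  have hc : c4 = 1 := F4_pow_four _ hdet
  apply Subtype.ext
  apply Subtype.ext
  change M = 1
  rw [hMs, hc]
  simp


/-! ### Reflections -/

theorem sq_add' : ∀ a b : F4, (a + b) ^ 2 = a ^ 2 + b ^ 2 := by decide
theorem sq_mul' : ∀ a b : F4, (a * b) ^ 2 = a ^ 2 * b ^ 2 := by decide
theorem sq_sq' : ∀ a : F4, (a ^ 2) ^ 2 = a := by decide

theorem herm_symm4 (u v : V4) : hermForm 4 F4 2 u v = hermForm 4 F4 2 v u ^ 2 := by
  rw [herm4, herm4]
  simp only [sq_add', sq_mul', sq_sq']
  ring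

theorem herm_add_left4 (a b c : V4) : hermForm 4 F4 2 (a + b) c = hermForm 4 F4 2 a c + hermForm 4 F4 2 b c := by
  simp only [herm4, Pi.add_apply]
  ring

theorem herm_add_right4 (a b c : V4) : hermForm 4 F4 2 a (b + c) = hermForm 4 F4 2 a b + hermForm 4 F4 2 a c := by
  simp only [herm4, Pi.add_apply, sq_add']
  ring

theorem herm_smul_left4 (k : F4) (a c : V4) : hermForm 4 F4 2 (k • a) c = k * hermForm 4 F4 2 a c := by
  simp only [herm4, Pi.smul_apply, smul_eq_mul]
  ring

theorem herm_smul_right4 (k : F4) (a c : V4) : hermForm 4 F4 2 a (k • c) = k ^ 2 * hermForm 4 F4 2 a c := by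
  simp only [herm4, Pi.smul_apply, smul_eq_mul, sq_mul']
  ring

/-- The normalised reflection matrix. -/
noncomputable def rfMat (p : V4) (s : F4) : Matrix (Fin 4) (Fin 4) F4 :=
  s⁻¹ • (1 + (s + 1) • Matrix.vecMulVec p (fun i => p i ^ 2))

theorem rfMat_mulVec (p : V4) (s : F4) (x : V4) :
    rfMat p s *ᵥ x = s⁻¹ • (x + ((s + 1) * hermForm 4 F4 2 x p) • p) := by
  unfold rfMat
  rw [Matrix.smul_mulVec, Matrix.add_mulVec, Matrix.one_mulVec, Matrix.smul_mulVec]
  congr 2
  funext i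
  rw [herm4]
  simp only [Matrix.mulVec, dotProduct, Fin.sum_univ_four, Matrix.vecMulVec_apply, Pi.smul_apply, smul_eq_mul]
  ring

theorem rf_params (s : F4) (hs : s = F4.w ∨ s = F4.v) :
    s⁻¹ * (s⁻¹) ^ 2 = 1 ∧ (s + 1) ^ 2 + (s + 1) + (s + 1) ^ 3 = 0 ∧ s⁻¹ ≠ 0 ∧ (s⁻¹) ^ 4 * (1 + (s + 1)) = 1 := by
  rcases hs with rfl | rfl <;> decide

theorem rfMat_preserves (p : V4) (s : F4) (hs : s = F4.w ∨ s = F4.v) (hp : hermForm 4 F4 2 p p = 1) :
    Preserves 2 (rfMat p s) := by
  intro u v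
  obtain ⟨h1, h2, -, -⟩ := rf_params s hs
  rw [rfMat_mulVec, rfMat_mulVec, herm_smul_left4, herm_smul_right4, herm_add_left4, herm_add_right4,
    herm_add_right4, herm_smul_left4, herm_smul_right4, herm_smul_right4, herm_smul_left4, hp,
    herm_symm4 p v]
  set X := hermForm 4 F4 2 u p
  set Y := hermForm 4 F4 2 v p
  set Z := hermForm 4 F4 2 u v
  linear_combination (Z + ((s + 1) ^ 2 + (s + 1) + (s + 1) ^ 3) * X * Y ^ 2) * h1 + (X * Y ^ 2) * h2

theorem rfMat_det (p : V4) (s : F4) (hs : s = F4.w ∨ s = F4.v) (hp : hermForm 4 F4 2 p p = 1) :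
    (rfMat p s).det = 1 := by
  obtain ⟨-, -, -, h4⟩ := rf_params s hs
  have h : (s + 1) • Matrix.vecMulVec p (fun i => p i ^ 2) =
      Matrix.replicateCol Unit ((s + 1) • p) * Matrix.replicateRow Unit (fun i => p i ^ 2) := by
    ext i j
    simp [Matrix.mul_apply, Matrix.vecMulVec_apply]
    ring
  unfold rfMat
  rw [Matrix.det_smul, h, Matrix.det_one_add_replicateCol_mul_replicateRow]
  have h2 : (fun i => p i ^ 2) ⬝ᵥ ((s + 1) • p) = s + 1 := by
    have h3 := hp
    rw [herm4] at h3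
    simp only [dotProduct, Fin.sum_univ_four, Pi.smul_apply, smul_eq_mul]
    linear_combination (s + 1) * h3
  rw [h2]
  simpa using h4

/-- The reflection as an element of `SU₄(2)`. -/
noncomputable def rfEl (p : V4) (s : F4) (hs : s = F4.w ∨ s = F4.v) (hp : hermForm 4 F4 2 p p = 1) : SU4 :=
  mkSU (rfMat p s) (rfMat_det p s hs hp) (rfMat_preserves p s hs hp)

theorem sOf_mem (e : F3) : sOf e = F4.w ∨ sOf e = F4.v := by
  cases e <;> decide

theorem sympTv_eq_one_of_zero {w : V3} {c : F3} (h : w = 0 ∨ c = 0) : sympTransvection 2 w c = 1 := by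
  rcases h with rfl | rfl
  · ext i j
    simp [sympTransvection, Matrix.vecMulVec_apply]
  · simp [sympTransvection]

/-- Each symplectic transvection acts on the points as a reflection. -/
theorem psi_tv (A : Sp3) (w : V3) (c : F3) (hA : A.1 = sympTransvection 2 w c) : psi A ∈ phi.range := by
  by_cases h : w = 0 ∨ c = 0
  · have : A = 1 := Subtype.ext (hA.trans (sympTv_eq_one_of_zero h))
    rw [this, map_one]
    exact one_mem _
  · push Not at h
    obtain ⟨hw, hc⟩ := h
    have hp : hermForm 4 F4 2 (P4 (id3 w)) (P4 (id3 w)) = 1 := herm_P4 _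
    refine ⟨rfEl (P4 (id3 w)) (sOf c) (sOf_mem c) hp, Equiv.ext fun i => ?_⟩
    rw [phi_apply, psi_apply, hA, sympTransvection_mulVec]
    have hmat : mat (rfEl (P4 (id3 w)) (sOf c) (sOf_mem c) hp) = rfMat (P4 (id3 w)) (sOf c) := rfl
    rw [hmat, rfMat_mulVec]
    -- remove the scalar on the unitary side
    have hsn := (rf_params (sOf c) (sOf_mem c)).2.2.1
    have hz : hermForm 4 F4 2 (P4 i + ((sOf c + 1) * hermForm 4 F4 2 (P4 i) (P4 (id3 w))) • P4 (id3 w))
        (P4 i + ((sOf c + 1) * hermForm 4 F4 2 (P4 i) (P4 (id3 w))) • P4 (id3 w)) = 1 := by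
      have h1 := rfMat_preserves (P4 (id3 w)) (sOf c) (sOf_mem c) hp (P4 i) (P4 i)
      rw [rfMat_mulVec, herm_smul_left4, herm_smul_right4, herm_P4] at h1
      have h2 := (rf_params (sOf c) (sOf_mem c)).1
      linear_combination h1 - (hermForm 4 F4 2 (P4 i + ((sOf c + 1) * hermForm 4 F4 2 (P4 i) (P4 (id3 w))) • P4 (id3 w))
        (P4 i + ((sOf c + 1) * hermForm 4 F4 2 (P4 i) (P4 (id3 w))) • P4 (id3 w))) * h2
    rw [id4_smul _ hsn _ hz]
    -- the table
    have htab := tv_eq_rf (w (.inl 0)) (w (.inl 1)) (w (.inr 0)) (w (.inr 1)) c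
    rcases htab with ⟨h0, h1, h2, h3⟩ | h0 | htab
    · exact absurd (v3_ext h0 h1 h2 h3) hw
    · exact absurd h0 hc
    · have h5 := htab i
      have hF : sympForm 2 F3 (P3 i) w = ((A3 i).2.2.1 * w (.inl 0) + -((A3 i).1 * w (.inr 0))) +
          ((A3 i).2.2.2 * w (.inl 1) + -((A3 i).2.1 * w (.inr 1))) := by
        rw [sympForm_apply, Fin.sum_univ_two, sub_eq_add_neg, sub_eq_add_neg]
        rfl
      have hH : hermForm 4 F4 2 (P4 i) (P4 (id3 w)) =
          (A4 i).1 * (A4 (id3 w)).1 ^ 2 + (A4 i).2.1 * (A4 (id3 w)).2.1 ^ 2 +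
          (A4 i).2.2.1 * (A4 (id3 w)).2.2.1 ^ 2 + (A4 i).2.2.2 * (A4 (id3 w)).2.2.2 ^ 2 := herm4 _ _
      rw [hF, hH]
      exact h5.symm

/-- The image of `Sp₄(3)` lies in the image of `SU₄(2)`. -/
theorem range_psi_le : psi.range ≤ phi.range := by
  rw [MonoidHom.range_eq_map, ← closure_sympTvSet (m := 2) (F := F3), MonoidHom.map_closure, Subgroup.closure_le]
  rintro _ ⟨A, ⟨w, c, hA⟩, rfl⟩
  exact psi_tv A w c hA

/-! ### The kernel of `psi` -/

theorem F3_cases : ∀ c : F3, c = 0 ∨ c = 1 ∨ c = -1 := by decide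

theorem center_le_ker : Subgroup.center Sp3 ≤ psi.ker := by
  intro A hA
  rw [MonoidHom.mem_ker]
  ext i
  rw [psi_apply]
  rcases (Cfsg.Agent.Lib.Classical.Symp.SimpleMatrix.center_symplectic_iff A (by norm_num)).1 hA with h | h
  · rw [h, Matrix.one_mulVec, id3_P3]
    rfl
  · rw [h, Matrix.neg_mulVec, Matrix.one_mulVec]
    have : -P3 i = (-1 : F3) • P3 i := by simp
    rw [this, id3_smul _ (by decide), id3_P3]
    rfl

theorem ker_le_center : psi.ker ≤ Subgroup.center Sp3 := by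
  intro g hg
  rw [MonoidHom.mem_ker] at hg
  have hfix : ∀ i : Fin 40, id3 (g.1 *ᵥ P3 i) = i := fun i => by
    have := congrArg (fun π : Equiv.Perm (Fin 40) => π i) hg
    simpa [psi_apply] using this
  have key : ∀ v : V3, v ≠ 0 → ∃ c : F3, g.1 *ᵥ v = c • v := by
    intro v hv
    obtain ⟨u, hu, e⟩ := exists_scale_V3 v hv
    have hy := sp_act_ne g (P3_ne (id3 v))
    obtain ⟨u', _, e'⟩ := exists_scale_V3 _ hy
    rw [hfix] at e'
    refine ⟨u', ?_⟩
    rw [e, Matrix.mulVec_smul, e', smul_comm]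
  classical
  -- the basis vectors
  have hsingle : ∀ j, (Pi.single j 1 : V3) ≠ 0 := fun j h => by
    have := congrFun h j
    simp at this
  choose c hc using fun j => key _ (hsingle j)
  have hcol : ∀ x j, g.1 x j = c j * (Pi.single j 1 : V3) x := fun x j => by
    have := congrFun (hc j) x
    rwa [Matrix.mulVec_single_one] at this
  have hoff : ∀ j k, j ≠ k → c j = c k := by
    intro j k hjk
    have hne : (Pi.single j 1 + Pi.single k 1 : V3) ≠ 0 := by
      intro h
      have := congrFun h j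
      simp [Pi.single_apply, hjk, hjk.symm] at this
    obtain ⟨d, hd⟩ := key _ hne
    rw [Matrix.mulVec_add, hc, hc] at hd
    have h1 := congrFun hd j
    have h2 := congrFun hd k
    simp [Pi.single_apply, hjk, hjk.symm] at h1 h2
    rw [h1, h2]
  have hall : ∀ j k, c j = c k := fun j k => by
    by_cases h : j = k
    · rw [h]
    · exact hoff j k h
  obtain ⟨c0, hc0⟩ : ∃ c0, c0 = c (.inl 0) := ⟨_, rfl⟩
  have hM : g.1 = c0 • (1 : Matrix _ _ F3) := by
    ext x j
    rw [hcol, hall j (.inl 0), ← hc0]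
    simp [Matrix.one_apply, Pi.single_apply, eq_comm]
  rw [Cfsg.Agent.Lib.Classical.Symp.SimpleMatrix.center_symplectic_iff g (by norm_num)]
  rcases F3_cases c0 with h | h | h
  · exfalso
    have hy := sp_act_ne g (P3_ne 0)
    rw [hM, h, zero_smul, Matrix.zero_mulVec] at hy
    exact hy rfl
  · left
    rw [hM, h, one_smul]
  · right
    rw [hM, h, neg_smul, one_smul]

/-! ### The isomorphism over the concrete fields -/

theorem center_SU4 : Subgroup.center SU4 = ⊥ := by
  have h := card_center_SU (F := F4) (q := 2) (n := 4) (by rfl) (by norm_num)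
  exact Subgroup.eq_bot_of_card_eq _ (by simpa using h)

theorem card_SU4 : Nat.card SU4 = 25920 := by
  have h := card_SU (F := F4) (q := 2) (n := 4) (by rfl) (by norm_num)
  have h2 : (∏ i ∈ Finset.range 4, (if Even i then 2 ^ (i + 1) + 1 else 2 ^ (i + 1) - 1)) = 1215 := by decide
  rw [h2] at h
  have h3 : 3 * Nat.card SU4 = 77760 := h
  omega

theorem card_Sp3 : Nat.card Sp3 = 51840 := by
  have h := Cfsg.Agent.Lib.Classical.Symp.Count.card_symplecticGroup (F := F3) (q := 3) (by simp [Nat.card_eq_fintype_card, F3.card_eq]) 2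
  rw [h]
  norm_num [Finset.prod_range_succ]

theorem card_center_Sp3 : Nat.card (Subgroup.center Sp3) = 2 := by
  have h := Cfsg.Agent.Lib.Classical.Symp.SimpleMatrix.card_center_symplecticGroup (F := F3) (q := 3) F3.card_eq 2 (by norm_num)
  simpa using h

theorem ker_psi : psi.ker = Subgroup.center Sp3 := le_antisymm ker_le_center center_le_ker

theorem range_eq : psi.range = phi.range := by
  apply Subgroup.eq_of_le_of_card_ge range_psi_le
  have h1 : Nat.card phi.range = 25920 := by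
    rw [← card_SU4]
    exact Nat.card_congr (MonoidHom.ofInjective phi_injective).symm.toEquiv
  have h2 : Nat.card (Sp3 ⧸ psi.ker) = Nat.card psi.range :=
    Nat.card_congr (QuotientGroup.quotientKerEquivRange psi).toEquiv
  have h3 := Subgroup.card_eq_card_quotient_mul_card_subgroup psi.ker
  rw [ker_psi, card_center_Sp3, card_Sp3] at h3
  rw [ker_psi] at h2
  rw [h1, ← h2]
  omega

/-- The isomorphism over the concrete fields. -/
noncomputable def psuF4F3 : PSU 4 F4 2 ≃* PSp 2 F3 :=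
  ((QuotientGroup.quotientMulEquivOfEq center_SU4).trans QuotientGroup.quotientBot).trans
    (((MonoidHom.ofInjective phi_injective).trans (MulEquiv.subgroupCongr range_eq.symm)).trans
      ((QuotientGroup.quotientKerEquivRange psi).symm.trans (QuotientGroup.quotientMulEquivOfEq ker_psi)))

/-! ### Transport -/

/-- `SU₄(2)` along a ring isomorphism. -/
noncomputable def suF4' {F : Type*} [Field F] [Fintype F] (e : F ≃+* F4) : SU 4 F 2 ≃* SU 4 F4 2 :=
  { toFun := Cfsg.Agent.Lib.Compute.SU3Two.suCongrHom e 4 2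
    invFun := Cfsg.Agent.Lib.Compute.SU3Two.suCongrHom e.symm 4 2
    left_inv := by
      intro g
      apply Subtype.ext
      apply Subtype.ext
      ext i j
      exact e.symm_apply_apply _
    right_inv := by
      intro g
      apply Subtype.ext
      apply Subtype.ext
      ext i j
      exact e.apply_symm_apply _
    map_mul' := map_mul _ }

/-- The symplectic group along an isomorphism of rings. -/
def spCongr' {R S : Type*} [CommRing R] [CommRing S] (e : R ≃+* S) :
    Matrix.symplecticGroup (Fin 2) R ≃* Matrix.symplecticGroup (Fin 2) S where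
  toFun A := ⟨e.mapMatrix A.1, by
    have h := SymplecticGroup.mem_iff.1 A.2
    rw [SymplecticGroup.mem_iff]
    have hJ : e.mapMatrix (Matrix.J (Fin 2) R) = Matrix.J (Fin 2) S := by
      ext (i | i) (j | j) <;> simp [Matrix.J, Matrix.one_apply, apply_ite e]
    have h2 := congrArg e.mapMatrix h
    rw [map_mul, map_mul, hJ] at h2
    have ht : e.mapMatrix (A.1.transpose) = (e.mapMatrix A.1).transpose := by
      ext i j
      rfl
    rwa [ht] at h2⟩
  invFun A := ⟨e.symm.mapMatrix A.1, by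
    have h := SymplecticGroup.mem_iff.1 A.2
    rw [SymplecticGroup.mem_iff]
    have hJ : e.symm.mapMatrix (Matrix.J (Fin 2) S) = Matrix.J (Fin 2) R := by
      ext (i | i) (j | j) <;> simp [Matrix.J, Matrix.one_apply, apply_ite e.symm]
    have h2 := congrArg e.symm.mapMatrix h
    rw [map_mul, map_mul, hJ] at h2
    have ht : e.symm.mapMatrix (A.1.transpose) = (e.symm.mapMatrix A.1).transpose := by
      ext i j
      rfl
    rwa [ht] at h2⟩
  left_inv A := by
    apply Subtype.ext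
    ext i j
    simp
  right_inv A := by
    apply Subtype.ext
    ext i j
    simp
  map_mul' A B := by
    apply Subtype.ext
    exact map_mul e.mapMatrix _ _

/-- **`PSU₄(2) ≅ PSp₄(3)`**. -/
theorem nonempty_psu_equiv_psp {F K : Type*} [Field F] [Fintype F] [Field K] [Fintype K]
    (hF : Fintype.card F = 4) (hK : Fintype.card K = 3) : Nonempty (PSU 4 F 2 ≃* PSp 2 K) := by
  let e₁ : PSU 4 F 2 ≃* PSU 4 F4 2 :=
    QuotientGroup.congr _ _ (suF4' (equivOfCard F hF)) (Cfsg.Agent.Lib.Compute.SmallField.map_center_eq _)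
  let e₂ : PSp 2 K ≃* PSp 2 F3 :=
    QuotientGroup.congr _ _ (spCongr' (equivOfCard3 K hK)) (Cfsg.Agent.Lib.Compute.SmallField.map_center_eq _)
  exact ⟨(e₁.trans psuF4F3).trans e₂.symm⟩

end Cfsg.Agent.Lib.Compute.PSU42
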