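import Cfsg.Agent.Lib.Compute.SchurM12Data
import Cfsg.Agent.Lib.Compute.SchurM11
import Cfsg.Agent.Lib.Fusion.MathieuInH

/-!
# The Schur multiplier of `M12`: the upper bound
-/

set_option autoImplicit false

namespace Cfsg.Agent.Lib.Compute.SchurM12

open Cfsg Cfsg.Agent.Lib.Compute.SchurLin Cfsg.Agent.Lib.Compute.SchurM12Data
open Cfsg.Agent.Lib.Compute.ToddCoxeterCore (wordEl wordEl_nil wordEl_cons wordEl_append)
open Cfsg.Agent.Lib.Compute.Golay Cfsg.Agent.Lib.Compute.GolayFast
open Cfsg.Agent.Lib.Compute.M24 Cfsg.Agent.Lib.Compute.M24Enum Cfsg.Agent.Lib.Compute.M24Norm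
open Cfsg.Agent.Lib.Compute.OutCert Cfsg.Agent.Lib.Compute.M24Out Cfsg.Agent.Lib.Compute.M12Data

theorem hval : ∀ x < 2 * 2, validL (lT.getD x idL) = true := by decide +kernel
theorem hinv : ∀ j < 2, mulL (lT.getD (2 * j) idL) (lT.getD (2 * j + 1) idL) = idL := by decide +kernel

theorem hmem : ∀ j < 2, ofL (lT.getD (2 * j) idL) ∈ Spor.M12 := by
  intro j hj
  have h1 : ∀ j < 2, inM12 (lT.getD (2 * j) idL) = true := by decide +kernel
  exact mem_M12_of_inM12 (h1 j hj) (codes_ofL (hval (2 * j) (by omega)))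

/-- The group `M12`. -/
abbrev G : Type := ↥Spor.M12

/-- The generators. -/
noncomputable abbrev g : ℕ → G := gOf Spor.M12 lT

theorem hgen (h : G) : h ∈ Subgroup.closure (g '' Set.Iio 2) :=
  closure_of_words hmem hval hinv Cfsg.Agent.S2061.gen_le (W := oldW) (by decide +kernel)
    Cfsg.Agent.S2061.gens_valid h

theorem hperf : commutator G = ⊤ := wd.perfect hmem hval hinv hgen

/-- The points. -/
noncomputable def ω (i : ℕ) : GolayPt := idxPt (pl i)

theorem tab : Tab g ω 2 12 t par lt :=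
  tab_of_points hmem hval (by norm_num) hlt hflp hpar hm hinj hev

theorem pl0 : pl 0 = 0 := by decide +kernel

theorem mem_stab (x : G) : x ∈ MulAction.stabilizer G (ω 0) ↔ (x : P) (idxPt 0) = idxPt 0 := by
  rw [MulAction.mem_stabilizer_iff, Subgroup.smul_def]
  unfold ω
  rw [pl0]
  rfl

/-- The stabilizer is `M11`. -/
noncomputable def stabEquiv : MulAction.stabilizer G (ω 0) ≃* ↥Spor.M11 where
  toFun x := ⟨((x : G) : P), (Cfsg.Agent.S2060.mem_M11_iff _).2 ⟨(x : G).2, (mem_stab _).1 x.2⟩⟩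
  invFun y := ⟨⟨(y : P), ((Cfsg.Agent.S2060.mem_M11_iff _).1 y.2).1⟩,
    (mem_stab _).2 ((Cfsg.Agent.S2060.mem_M11_iff _).1 y.2).2⟩
  left_inv _ := rfl
  right_inv _ := rfl
  map_mul' _ _ := rfl

theorem card_stab : Nat.card (MulAction.stabilizer G (ω 0)) = 7920 := by
  rw [Nat.card_congr stabEquiv.toEquiv]
  exact SchurM11.card_G

theorem card_G : Nat.card G = 95040 := by
  have := Cfsg.Agent.Lib.Fusion.MathieuInH.card_M12'
  rw [this]
  norm_num

theorem index_stab : (MulAction.stabilizer G (ω 0)).index = 12 := by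
  have h := (MulAction.stabilizer G (ω 0)).index_mul_card
  rw [card_stab, card_G] at h
  exact Nat.eq_of_mul_eq_mul_right (by norm_num : 0 < 7920) (h.trans (by norm_num))

/-- A cyclic group of order at most two is a quotient of the group of order two. -/
theorem exists_surj {B : Type*} [Group B] (a : B) (ha : a ^ 2 = 1) (h : ∀ b : B, b ∈ Subgroup.zpowers a) :
    ∃ π : Multiplicative (ZMod 2) →* B, Function.Surjective π := by
  have key : ∀ x y : ZMod 2, a ^ (x + y).val = a ^ x.val * a ^ y.val := by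
    intro x y
    have h2 : ∀ x y : ZMod 2, (x + y).val = (x.val + y.val) % 2 := by decide
    rw [h2, ← pow_add, ← pow_eq_pow_mod _ ha]
  refine ⟨{ toFun := fun x => a ^ (Multiplicative.toAdd x).val, map_one' := by simp, map_mul' := ?_ }, ?_⟩
  · intro x y
    exact key _ _
  · intro b
    obtain ⟨k, rfl⟩ := h b
    rcases Int.even_or_odd' k with ⟨m, rfl | rfl⟩
    · refine ⟨Multiplicative.ofAdd 0, ?_⟩
      show a ^ (0 : ZMod 2).val = a ^ (2 * m)
      rw [zpow_mul, zpow_ofNat, ha, one_zpow]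
      simp
    · refine ⟨Multiplicative.ofAdd 1, ?_⟩
      show a ^ (1 : ZMod 2).val = a ^ (2 * m + 1)
      rw [zpow_add, zpow_mul, zpow_ofNat, ha, one_zpow, one_mul, zpow_one]
      have h1 : (1 : ZMod 2).val = 1 := rfl
      rw [h1, pow_one]

/-- The multiplier of `M12` is a quotient of the group of order two. -/
theorem upper (Γ : Type) [Group Γ] [Finite Γ] (σ : Γ →* G) (hstem : IsStemExtension σ) :
    ∃ π : Multiplicative (ZMod 2) →* σ.ker, Function.Surjective π := by
  have hH : commutator Γ = ⊤ := commutator_top_of_stem hstem hperf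
  have hLp : commutator (MulAction.stabilizer G (ω 0)) = ⊤ :=
    commutator_top_of_equiv stabEquiv SchurM11.hperf
  have hLT : TrivMult (MulAction.stabilizer G (ω 0)) :=
    TrivMult.of_equiv stabEquiv SchurM11.trivMult
  obtain ⟨s, hs⟩ := exists_section_of_perfect σ hstem.1 hstem.2.1 (MulAction.stabilizer G (ω 0)) hLp hLT
  obtain ⟨z, rr, c⟩ := exists_cocy_perm hstem wd hmem hval hinv tab hgen s hs
  let _ : CommGroup σ.ker :=
    { (inferInstance : Group σ.ker) with
      mul_comm := fun p q => Subtype.ext (Subgroup.mem_center_iff.mp (hstem.2.1 p.2) (q : Γ)).symm }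
  have hm : ∀ a : σ.ker, a ^ 12 = 1 := by
    intro a
    have h4 := pow_index_of_retr σ hstem.2.1 (by rw [hH]; exact le_top)
      (MulAction.stabilizer G (ω 0)) s hs a
    rwa [Subgroup.index_comap_of_surjective _ hstem.1, index_stab] at h4
  obtain ⟨a, ha, hgenA⟩ := cyclic2_of_packed (B := σ.ker) c (by norm_num) hlt wd.hlet' (fun i hi h0 => by
      obtain ⟨h1, h2, h3⟩ := hpar i hi h0
      exact ⟨by omega, h2, h3⟩) hm (by norm_num) hS hK0 (by norm_num) (by norm_num) hL0 hR
      hC0.1 hC0.2 hK1 hchk hcover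
  exact exists_surj a ha hgenA

end Cfsg.Agent.Lib.Compute.SchurM12
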