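import Cfsg.Agent.Lib.Compute.SchurM12

/-!
# The Schur multiplier of `M12`: a double cover

The group of signed permutations of the twelve coordinates of the ternary code of length 12,
with the map to the group `M12` through the action on the points of a dodecad.
-/

set_option autoImplicit false
set_option maxRecDepth 100000

namespace Cfsg.Agent.Lib.Compute.SchurM12Low

open Cfsg Cfsg.Agent.Lib.Compute.SchurLin Cfsg.Agent.Lib.Compute.SchurM12Data
open Cfsg.Agent.Lib.Compute.SchurM12
open Cfsg.Agent.Lib.Compute.TernaryGolay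
open Cfsg.Agent.Lib.Compute.ToddCoxeterCore (wordEl wordEl_nil wordEl_cons wordEl_append)
open Cfsg.Agent.Lib.Compute.Golay Cfsg.Agent.Lib.Compute.GolayFast
open Cfsg.Agent.Lib.Compute.M24 Cfsg.Agent.Lib.Compute.M24Enum Cfsg.Agent.Lib.Compute.M24Norm
open Cfsg.Agent.Lib.Compute.OutCert Cfsg.Agent.Lib.Compute.M24Out Cfsg.Agent.Lib.Compute.M12Data

/-! ### Signed points -/

theorem iota_valid : validL iotaL = true := by decide +kernel

/-- The negation. -/
noncomputable def ι : P := ofL iotaL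

/-- The point of the dodecad under a signed point. -/
def bP (s : GolayPt) : GolayPt := idxPt (betaL.getD (ptIdx s % 12) 0)

/-- The positive signed point at a position of the array. -/
def sec (p : ArrayPt) : GolayPt := idxPt (idx p).val

/-- The position of the array with a given number. -/
def ptA (i : ℕ) : ArrayPt := (⟨i / 3 % 4, Nat.mod_lt _ (by norm_num)⟩, ((i % 3 : ℕ) : ZMod 3))

theorem ptA_idx : ∀ p : ArrayPt, ptA (idx p).val = p := by decide +kernel

theorem idx_ptA : ∀ i < 12, (idx (ptA i)).val = i := by decide +kernel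

/-- The sign of a signed point. -/
def sg (i : ℕ) : ZMod 3 := if i < 12 then 1 else -1

/-- The functions changing sign under negation. -/
def OddF (f : GolayPt → ZMod 3) : Prop := ∀ s, f (ι s) = - f s

theorem iota_low : ∀ i < 12, iotaL.getD i 0 = i + 12 := by decide +kernel

theorem odd_val {f : GolayPt → ZMod 3} (hf : OddF f) {i : ℕ} (hi : i < 24) :
    f (idxPt i) = sg i * f (sec (ptA (i % 12))) := by
  by_cases h : i < 12
  · have h1 : (idx (ptA (i % 12))).val = i := by
      rw [Nat.mod_eq_of_lt h]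
      exact idx_ptA i h
    simp only [sg, if_pos h, sec, h1, one_mul]
  · have h2 : i - 12 < 12 := by omega
    have h3 : i % 12 = i - 12 := by omega
    have h4 : (idx (ptA (i % 12))).val = i - 12 := by
      rw [h3]
      exact idx_ptA _ h2
    have h5 : idxPt i = ι (idxPt (i - 12)) := by
      unfold ι
      rw [ofL_apply iota_valid (by omega), iota_low _ h2]
      congr 1
      omega
    simp only [sg, if_neg h, sec, h4]
    rw [h5, hf]
    ring

/-! ### The action on the words of the code -/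

/-- The action of a table of signed points on functions on the array. -/
def tL (L : List ℕ) (v : ArrayPt → ZMod 3) : ArrayPt → ZMod 3 := fun p =>
  sg (L.getD (idx p).val 0) * v (ptA (L.getD (idx p).val 0 % 12))

theorem tL_eq {L : List ℕ} (hv : validL L = true) (hlt : ∀ i < 24, L.getD i 0 < 24)
    {f : GolayPt → ZMod 3} (hf : OddF f) :
    (fun p => f (ofL L (sec p))) = tL L (fun p => f (sec p)) := by
  funext p
  have h1 : (idx p).val < 24 := by
    have := (idx p).isLt
    omega
  have h2 : ofL L (sec p) = idxPt (L.getD (idx p).val 0) := ofL_apply hv h1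
  rw [h2, odd_val hf (hlt _ h1)]
  rfl

/-- The table of a letter preserves the code. -/
theorem tL_mem {L : List ℕ} {M : Fin 6 → Fin 6 → ZMod 3}
    (h : ∀ j : Fin 6, ∀ p : ArrayPt, sg (L.getD (idx p).val 0) * B j (idx (ptA (L.getD (idx p).val 0 % 12))) =
      M j 0 * B 0 (idx p) + M j 1 * B 1 (idx p) + M j 2 * B 2 (idx p) + M j 3 * B 3 (idx p) +
        M j 4 * B 4 (idx p) + M j 5 * B 5 (idx p))
    {v : ArrayPt → ZMod 3} (hv : v ∈ ternaryGolayCode) : tL L v ∈ ternaryGolayCode := by
  obtain ⟨c, rfl⟩ := (mem_code_iff v).1 hv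
  rw [mem_code_iff]
  refine ⟨fun k => c 0 * M 0 k + c 1 * M 1 k + c 2 * M 2 k + c 3 * M 3 k + c 4 * M 4 k + c 5 * M 5 k, ?_⟩
  funext p
  simp only [tL, word]
  linear_combination c 0 * h 0 p + c 1 * h 1 p + c 2 * h 2 p + c 3 * h 3 p + c 4 * h 4 p + c 5 * h 5 p

/-- A permutation of the signed points preserving the words of the code. -/
def CodeOK (x : P) : Prop :=
  ∀ f, OddF f → (fun p => f (sec p)) ∈ ternaryGolayCode → (fun p => f (x (sec p))) ∈ ternaryGolayCode

theorem codeOK_mul {x x' : P} (hι : ∀ s, x (ι s) = ι (x s)) (h1 : CodeOK x) (h2 : CodeOK x') :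
    CodeOK (x * x') := by
  intro f hf hc
  have hf' : OddF (fun s => f (x s)) := by
    intro s
    show f (x (ι s)) = - f (x s)
    rw [hι, hf]
  exact h2 _ hf' (h1 f hf hc)

theorem comm_inv {x : P} (hι : ∀ s, x (ι s) = ι (x s)) (s : GolayPt) : x⁻¹ (ι s) = ι (x⁻¹ s) := by
  have h1 := hι (x⁻¹ s)
  have h2 : x (x⁻¹ s) = s := by simp
  rw [h2] at h1
  rw [← h1]
  simp

/-! ### The double cover -/

/-- The invariants of the elements of the double cover. -/
def inv : Subgroup (G × P) where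
  carrier := {y | (∀ s, y.2 (ι s) = ι (y.2 s)) ∧ (∀ s, bP (y.2 s) = ((y.1 : G) : P) (bP s)) ∧
    CodeOK y.2 ∧ CodeOK y.2⁻¹}
  one_mem' := ⟨fun _ => rfl, fun _ => rfl, fun _ _ hc => hc, fun _ _ hc => hc⟩
  mul_mem' := by
    rintro ⟨g₁, x₁⟩ ⟨g₂, x₂⟩ ⟨h1, h2, h3, h4⟩ ⟨h5, h6, h7, h8⟩
    refine ⟨fun s => ?_, fun s => ?_, codeOK_mul h1 h3 h7, ?_⟩
    · show x₁ (x₂ (ι s)) = ι (x₁ (x₂ s))
      rw [h5, h1]
    · show bP (x₁ (x₂ s)) = (g₁ : P) ((g₂ : P) (bP s))
      rw [h2, h6]
    · show CodeOK (x₁ * x₂)⁻¹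
      rw [mul_inv_rev]
      exact codeOK_mul (comm_inv h5) h8 h4
  inv_mem' := by
    rintro ⟨g₁, x₁⟩ ⟨h1, h2, h3, h4⟩
    refine ⟨comm_inv h1, fun s => ?_, h4, ?_⟩
    · show bP (x₁⁻¹ s) = ((g₁ : P))⁻¹ (bP s)
      have h5 := h2 (x₁⁻¹ s)
      have h6 : x₁ (x₁⁻¹ s) = s := by simp
      rw [h6] at h5
      rw [h5]
      simp
    · show CodeOK (x₁⁻¹)⁻¹
      rw [inv_inv]
      exact h3

/-- The signed permutations of the generators. -/
noncomputable def X (j : ℕ) : P := ofL (hL.getD (2 * j) idL)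

/-- The lifts of the generators. -/
noncomputable def lift (j : ℕ) : G × P := (g j, X j)

theorem hvalS : ∀ x < 2 * 2, validL (hL.getD x idL) = true := by decide +kernel
theorem hinvS : ∀ j < 2, mulL (hL.getD (2 * j) idL) (hL.getD (2 * j + 1) idL) = idL := by decide +kernel
theorem hltS : ∀ x < 2 * 2, ∀ i < 24, (hL.getD x idL).getD i 0 < 24 := by decide +kernel

theorem X_inv {j : ℕ} (hj : j < 2) : (X j)⁻¹ = ofL (hL.getD (2 * j + 1) idL) := by
  apply inv_eq_of_mul_eq_one_right
  apply eq_of_toL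
  rw [M24.toL_mul, X, toL_ofL (hvalS _ (by omega)), toL_ofL (hvalS _ (by omega)), hinvS j hj]
  exact toL_one.symm

theorem hcomm : ∀ x < 2 * 2, ∀ i < 24, (hL.getD x idL).getD (iotaL.getD i 0) 0 =
    iotaL.getD ((hL.getD x idL).getD i 0) 0 := by decide +kernel

theorem hpts : ∀ j < 2, ∀ i < 24, betaL.getD ((hL.getD (2 * j) idL).getD i 0 % 12) 0 =
    (lT.getD (2 * j) idL).getD (betaL.getD (i % 12) 0) 0 := by decide +kernel

theorem hbeta : ∀ i < 12, betaL.getD i 0 < 24 := by decide +kernel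

theorem hMM : ∀ e : Fin 4, ∀ j : Fin 6, ∀ p : ArrayPt,
    sg ((hL.getD e.val idL).getD (idx p).val 0) * B j (idx (ptA ((hL.getD e.val idL).getD (idx p).val 0 % 12))) =
      MM e j 0 * B 0 (idx p) + MM e j 1 * B 1 (idx p) + MM e j 2 * B 2 (idx p) + MM e j 3 * B 3 (idx p) +
        MM e j 4 * B 4 (idx p) + MM e j 5 * B 5 (idx p) := by decide +kernel

theorem codeOK_letter {x : ℕ} (hx : x < 4) : CodeOK (ofL (hL.getD x idL)) := by
  intro f hf hc
  rw [tL_eq (hvalS x hx) (hltS x hx) hf]
  exact tL_mem (hMM ⟨x, hx⟩) hc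

theorem lift_mem {j : ℕ} (hj : j < 2) : lift j ∈ inv := by
  have hv := hvalS (2 * j) (by omega)
  refine ⟨fun s => ?_, fun s => ?_, codeOK_letter (by omega), ?_⟩
  · obtain ⟨i, hi, rfl⟩ : ∃ i < 24, s = idxPt i := ⟨ptIdx s, ptIdx_lt s, (idxPt_ptIdx s).symm⟩
    show X j (ι (idxPt i)) = ι (X j (idxPt i))
    have h1 := hltS (2 * j) (by omega) i hi
    have h2 : iotaL.getD i 0 < 24 := by
      have : ∀ i < 24, iotaL.getD i 0 < 24 := by decide +kernel
      exact this i hi
    unfold ι X
    rw [ofL_apply iota_valid hi, ofL_apply hv hi, ofL_apply hv h2, ofL_apply iota_valid h1,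
      hcomm _ (by omega) i hi]
  · obtain ⟨i, hi, rfl⟩ : ∃ i < 24, s = idxPt i := ⟨ptIdx s, ptIdx_lt s, (idxPt_ptIdx s).symm⟩
    show bP (X j (idxPt i)) = ((g j : G) : P) (bP (idxPt i))
    have h1 := hltS (2 * j) (by omega) i hi
    have h3 : i % 12 < 12 := Nat.mod_lt _ (by norm_num)
    unfold bP X
    rw [ofL_apply hv hi, ptIdx_idxPt h1, ptIdx_idxPt hi, coe_gOf hmem hj,
      ofL_apply (hval _ (by omega)) (hbeta _ h3), hpts j hj i hi]
  · show CodeOK (X j)⁻¹
    rw [X_inv hj]
    exact codeOK_letter (by omega)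

/-- The group. -/
noncomputable def Γ₀ : Subgroup (G × P) := Subgroup.closure (lift '' Set.Iio 2)

theorem Γ₀_le : Γ₀ ≤ inv := by
  rw [Γ₀, Subgroup.closure_le]
  rintro _ ⟨j, hj, rfl⟩
  exact lift_mem hj

/-! ### The kernel -/

theorem hbetaInj : ∀ i < 12, ∀ j < 12, betaL.getD i 0 = betaL.getD j 0 → i = j := by decide +kernel

/-- An odd function from a function on the array. -/
noncomputable def oddE (v : ArrayPt → ZMod 3) (s : GolayPt) : ZMod 3 :=
  sg (ptIdx s) * v (ptA (ptIdx s % 12))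

theorem iota_idx : ∀ i < 24, iotaL.getD i 0 = (i + 12) % 24 := by decide +kernel

theorem oddE_odd (v : ArrayPt → ZMod 3) : OddF (oddE v) := by
  intro s
  obtain ⟨i, hi, rfl⟩ : ∃ i < 24, s = idxPt i := ⟨ptIdx s, ptIdx_lt s, (idxPt_ptIdx s).symm⟩
  unfold oddE ι
  rw [ofL_apply iota_valid hi, iota_idx i hi]
  have h1 : (i + 12) % 24 < 24 := Nat.mod_lt _ (by norm_num)
  rw [ptIdx_idxPt h1, ptIdx_idxPt hi]
  have h2 : (i + 12) % 24 % 12 = i % 12 := by omega
  rw [h2]
  by_cases h : i < 12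
  · have h3 : ¬ (i + 12) % 24 < 12 := by omega
    simp only [sg, if_pos h, if_neg h3]
    ring
  · have h3 : (i + 12) % 24 < 12 := by omega
    simp only [sg, if_neg h, if_pos h3]
    ring

theorem oddE_sec (v : ArrayPt → ZMod 3) (p : ArrayPt) : oddE v (sec p) = v p := by
  have h1 : (idx p).val < 12 := (idx p).isLt
  unfold oddE sec
  rw [ptIdx_idxPt (by omega), Nat.mod_eq_of_lt h1, ptA_idx]
  simp [sg, h1]

theorem hι_idx {i : ℕ} (hi : i < 24) : ι (idxPt i) = idxPt ((i + 12) % 24) := by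
  unfold ι
  rw [ofL_apply iota_valid hi, iota_idx i hi]

/-- The only elements over the identity are the identity and the negation. -/
theorem kernel_eq {x : P} (hb : ∀ s, bP (x s) = bP s) (hι : ∀ s, x (ι s) = ι (x s)) (hc : CodeOK x) :
    x = 1 ∨ x = ι := by
  classical
  -- the fibres are preserved
  have hfib : ∀ i < 24, ptIdx (x (idxPt i)) % 12 = i % 12 := by
    intro i hi
    have h1 := hb (idxPt i)
    unfold bP at h1
    rw [ptIdx_idxPt hi] at h1
    have h2 := congrArg ptIdx h1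
    rw [ptIdx_idxPt (hbeta _ (Nat.mod_lt _ (by norm_num))), ptIdx_idxPt (hbeta _ (Nat.mod_lt _ (by norm_num)))] at h2
    exact hbetaInj _ (Nat.mod_lt _ (by norm_num)) _ (Nat.mod_lt _ (by norm_num)) h2
  have hsec : ∀ p, x (sec p) = sec p ∨ x (sec p) = ι (sec p) := by
    intro p
    have h1 : (idx p).val < 12 := (idx p).isLt
    have h2 := hfib _ (show (idx p).val < 24 by omega)
    have h3 := ptIdx_lt (x (idxPt (idx p).val))
    have h4 : x (sec p) = idxPt (ptIdx (x (sec p))) := (idxPt_ptIdx _).symm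
    unfold sec at h4 ⊢
    rw [hι_idx (by omega)]
    have h5 : (idx p).val % 12 = (idx p).val := Nat.mod_eq_of_lt h1
    rw [h5] at h2
    have h6 : ptIdx (x (idxPt (idx p).val)) = (idx p).val ∨ ptIdx (x (idxPt (idx p).val)) = ((idx p).val + 12) % 24 := by
      omega
    rcases h6 with h6 | h6
    · left
      rw [h4, h6]
    · right
      rw [h4, h6]
  -- the signs
  let c : ArrayPt → (ZMod 3)ˣ := fun p => if x (sec p) = sec p then 1 else -1
  have hval' : ∀ v : ArrayPt → ZMod 3, ∀ p, oddE v (x (sec p)) = (c p : ZMod 3) * v p := by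
    intro v p
    by_cases h : x (sec p) = sec p
    · simp only [c, if_pos h]
      rw [h, oddE_sec]
      simp
    · simp only [c, if_neg h]
      rw [(hsec p).resolve_left h, oddE_odd, oddE_sec]
      simp
  have hcode : ∀ v ∈ ternaryGolayCode, monomialMap 1 c v ∈ ternaryGolayCode := by
    intro v hv
    have h1 : (fun p => oddE v (sec p)) = v := funext (oddE_sec v)
    have h2 := hc (oddE v) (oddE_odd v) (by rw [h1]; exact hv)
    convert h2 using 1
    funext p
    rw [hval']
    rfl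
  have hconst := diag_const c hcode
  have hall : ∀ s, s = sec (ptA (ptIdx s % 12)) ∨ s = ι (sec (ptA (ptIdx s % 12))) := by
    intro s
    have hi := ptIdx_lt s
    have h1 : (idx (ptA (ptIdx s % 12))).val = ptIdx s % 12 := idx_ptA _ (Nat.mod_lt _ (by norm_num))
    unfold sec
    rw [h1, hι_idx (by omega)]
    by_cases h : ptIdx s < 12
    · left
      rw [Nat.mod_eq_of_lt h, idxPt_ptIdx]
    · right
      have : (ptIdx s % 12 + 12) % 24 = ptIdx s := by omega
      rw [this, idxPt_ptIdx]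
  by_cases h0 : x (sec (0, 0)) = sec (0, 0)
  · left
    have hc1 : ∀ p, c p = 1 := by
      intro p
      rw [hconst p (0, 0)]
      simp only [c, if_pos h0]
    have hs : ∀ p, x (sec p) = sec p := by
      intro p
      by_contra h
      have := hc1 p
      simp only [c, if_neg h] at this
      exact absurd this (by decide)
    apply Equiv.ext
    intro s
    rcases hall s with h | h
    · generalize ptA (ptIdx s % 12) = p at h
      subst h
      exact hs p
    · generalize ptA (ptIdx s % 12) = p at h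
      subst h
      rw [hι, hs]
      rfl
  · right
    have hc1 : ∀ p, c p = -1 := by
      intro p
      rw [hconst p (0, 0)]
      simp only [c, if_neg h0]
    have hs : ∀ p, x (sec p) = ι (sec p) := by
      intro p
      refine (hsec p).resolve_left fun h => ?_
      have := hc1 p
      simp only [c, if_pos h] at this
      exact absurd this (by decide)
    have hιι : ∀ s, ι (ι s) = s := by
      intro s
      obtain ⟨i, hi, rfl⟩ : ∃ i < 24, s = idxPt i := ⟨ptIdx s, ptIdx_lt s, (idxPt_ptIdx s).symm⟩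
      rw [hι_idx hi, hι_idx (Nat.mod_lt _ (by norm_num))]
      congr 1
      omega
    apply Equiv.ext
    intro s
    rcases hall s with h | h
    · generalize ptA (ptIdx s % 12) = p at h
      subst h
      exact hs p
    · generalize ptA (ptIdx s % 12) = p at h
      subst h
      rw [hι, hs]

/-! ### The stem extension -/

/-- The lifts in the group. -/
noncomputable def gh (j : ℕ) : Γ₀ :=
  if h : j < 2 then ⟨lift j, Subgroup.subset_closure ⟨j, h, rfl⟩⟩ else 1

theorem coe_gh {j : ℕ} (hj : j < 2) : ((gh j : Γ₀) : G × P) = lift j := by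
  unfold gh
  rw [dif_pos hj]

/-- The map to `M12`. -/
noncomputable def σ : Γ₀ →* G := (MonoidHom.fst G P).comp Γ₀.subtype

theorem σ_apply (y : Γ₀) : σ y = (y : G × P).1 := rfl

theorem σ_surj : Function.Surjective σ := by
  rw [← MonoidHom.range_eq_top, eq_top_iff]
  intro h _
  refine (Subgroup.closure_le _).2 ?_ (hgen h)
  rintro _ ⟨j, hj, rfl⟩
  refine ⟨gh j, ?_⟩
  rw [σ_apply, coe_gh hj]
  rfl

theorem ker_cases {y : Γ₀} (hy : y ∈ σ.ker) : (y : G × P).2 = 1 ∨ (y : G × P).2 = ι := by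
  have h1 := Γ₀_le y.2
  have h2 : (y : G × P).1 = 1 := hy
  refine kernel_eq (fun s => ?_) h1.1 h1.2.2.1
  rw [h1.2.1, h2]
  rfl

theorem wordEl_congr {H : Type*} [Group H] {f f' : ℕ → H} (h : ∀ j < 2, f j = f' j) {w : List ℕ}
    (hw : ∀ x ∈ w, x < 2 * 2) : wordEl (ltr f) w = wordEl (ltr f') w := by
  induction w with
  | nil => rfl
  | cons x u ih =>
    have hx : x / 2 < 2 := by
      have := hw x (by simp)
      omega
    rw [wordEl_cons, wordEl_cons, ih fun y hy => hw y (by simp [hy])]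
    congr 1
    unfold ltr
    rw [h _ hx]

theorem hwN : ∀ x ∈ wN, x < 2 * 2 := by decide +kernel

theorem word_fst : wordEl (ltr g) wN = 1 :=
  wordEl_eq_one hmem hval hinv hwN (by decide +kernel)

theorem word_snd : wordEl (ltr X) wN = ι := by
  have hT : ∀ j, ofL (hL.getD (2 * j) idL) ∈ (⊤ : Subgroup P) := fun _ => trivial
  have h1 := toL_wordEl (H := (⊤ : Subgroup P)) (lT := hL) (n := 2) (fun j _ => hT j) hvalS hinvS hwN
  have h2 := map_wordEl_ltr (⊤ : Subgroup P).subtype (gOf ⊤ hL) wN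
  have h3 : wordEl (ltr (fun j => (⊤ : Subgroup P).subtype (gOf ⊤ hL j))) wN = wordEl (ltr X) wN :=
    wordEl_congr (fun j hj => coe_gOf (fun j _ => hT j) hj) hwN
  have h4 : ((wordEl (ltr (gOf (⊤ : Subgroup P) hL)) wN : (⊤ : Subgroup P)) : P) = wordEl (ltr X) wN :=
    h2.trans h3
  rw [h4] at h1
  apply eq_of_toL
  rw [h1]
  unfold ι
  rw [toL_ofL iota_valid]
  decide +kernel

/-- The negation as an element of the group. -/
noncomputable def y₀ : Γ₀ := wordEl (ltr gh) wN

theorem coe_y₀ : (y₀ : G × P) = (1, ι) := by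
  have h1 : (y₀ : G × P) = wordEl (ltr (fun j => Γ₀.subtype (gh j))) wN := map_wordEl_ltr Γ₀.subtype gh wN
  have h2 : wordEl (ltr (fun j => Γ₀.subtype (gh j))) wN = wordEl (ltr lift) wN :=
    wordEl_congr (fun j hj => coe_gh hj) hwN
  rw [h1, h2]
  have h3 := map_wordEl_ltr (MonoidHom.fst G P) lift wN
  have h4 := map_wordEl_ltr (MonoidHom.snd G P) lift wN
  apply Prod.ext
  · exact h3.trans word_fst
  · exact h4.trans word_snd

theorem y₀_mem : y₀ ∈ commutator Γ₀ :=
  wordEl_mem_commutator (n := 2) gh wN hwN (by decide +kernel)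

theorem ι_ne : ι ≠ 1 := by
  intro h
  have h1 := hι_idx (i := 0) (by norm_num)
  rw [h] at h1
  have h2 := congrArg ptIdx h1
  rw [Equiv.Perm.one_apply, ptIdx_idxPt (by norm_num), ptIdx_idxPt (by norm_num)] at h2
  omega

theorem ker_eq {y : Γ₀} (hy : y ∈ σ.ker) : y = 1 ∨ y = y₀ := by
  have h2 : (y : G × P).1 = 1 := hy
  rcases ker_cases hy with h | h
  · left
    apply Subtype.ext
    exact Prod.ext h2 h
  · right
    apply Subtype.ext
    rw [coe_y₀]
    exact Prod.ext h2 h

theorem y₀_ker : y₀ ∈ σ.ker := by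
  show (y₀ : G × P).1 = 1
  rw [coe_y₀]

theorem hstem : IsStemExtension σ := by
  refine ⟨σ_surj, ?_, ?_⟩
  · intro y hy
    rw [Subgroup.mem_center_iff]
    intro z
    have hz := (Γ₀_le z.2).1
    rcases ker_eq hy with rfl | rfl
    · simp
    · apply Subtype.ext
      apply Prod.ext
      · show (z : G × P).1 * (y₀ : G × P).1 = (y₀ : G × P).1 * (z : G × P).1
        rw [coe_y₀]
        simp
      · show (z : G × P).2 * (y₀ : G × P).2 = (y₀ : G × P).2 * (z : G × P).2
        rw [coe_y₀]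
        exact Equiv.ext hz
  · intro y hy
    rcases ker_eq hy with rfl | rfl
    · exact one_mem _
    · exact y₀_mem

theorem y₀_ne : y₀ ≠ 1 := by
  intro h
  have h1 := coe_y₀
  rw [h] at h1
  exact ι_ne (congrArg Prod.snd h1).symm

theorem card_ker : Nat.card σ.ker = 2 := by
  rw [Nat.card_eq_two_iff]
  refine ⟨1, ⟨y₀, y₀_ker⟩, ?_, ?_⟩
  · intro h
    exact y₀_ne (congrArg Subtype.val h).symm
  · ext y
    simp only [Set.mem_insert_iff, Set.mem_singleton_iff, Set.mem_univ, iff_true]
    rcases ker_eq y.2 with h | h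
    · left
      exact Subtype.ext h
    · right
      exact Subtype.ext h

/-- The double cover. -/
theorem lower : ∃ (Γ : Type) (_ : Group Γ) (_ : Finite Γ) (σ : Γ →* G),
    IsStemExtension σ ∧ Nonempty (σ.ker ≃* Multiplicative (ZMod 2)) := by
  refine ⟨Γ₀, inferInstance, inferInstance, σ, hstem, ⟨?_⟩⟩
  have : Fact (Nat.Prime 2) := ⟨Nat.prime_two⟩
  refine mulEquivOfPrimeCardEq (p := 2) card_ker ?_
  rw [Nat.card_eq_fintype_card]
  exact ZMod.card 2

end Cfsg.Agent.Lib.Compute.SchurM12Low
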