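import Cfsg.Agent.Lib.Compute.SchurM24Data
import Cfsg.Agent.Lib.Compute.SchurM23

/-!
# The Schur multiplier of `M24`
-/

set_option autoImplicit false

namespace Cfsg.Agent.Lib.Compute.SchurM24

open Cfsg Cfsg.Agent.Lib.Compute.SchurLin Cfsg.Agent.Lib.Compute.SchurM24Data
open Cfsg.Agent.Lib.Compute.ToddCoxeterCore (wordEl wordEl_nil wordEl_cons wordEl_append)
open Cfsg.Agent.Lib.Compute.Golay Cfsg.Agent.Lib.Compute.GolayFast
open Cfsg.Agent.Lib.Compute.M24 Cfsg.Agent.Lib.Compute.M24Enum Cfsg.Agent.Lib.Compute.M24Norm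
open Cfsg.Agent.Lib.Compute.OutCert Cfsg.Agent.Lib.Compute.M24Out

theorem hval : ∀ x < 2 * 2, validL (lT.getD x idL) = true := by decide +kernel
theorem hinv : ∀ j < 2, mulL (lT.getD (2 * j) idL) (lT.getD (2 * j + 1) idL) = idL := by decide +kernel

theorem hmem : ∀ j < 2, ofL (lT.getD (2 * j) idL) ∈ Cfsg.M24 := by
  intro j hj
  have h1 : ∀ j < 2, inM24 (lT.getD (2 * j) idL) = true := by decide +kernel
  exact mem_M24_of_inM24 (codes_ofL (hval (2 * j) (by omega))) (h1 j hj)

/-- The group `M24`. -/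
abbrev G : Type := ↥Cfsg.M24

/-- The generators. -/
noncomputable abbrev g : ℕ → G := gOf Cfsg.M24 lT

theorem hgen (h : G) : h ∈ Subgroup.closure (g '' Set.Iio 2) :=
  closure_of_words hmem hval hinv Cfsg.Agent.S2064.gen_le (W := oldW) (by decide +kernel)
    Cfsg.Agent.S2064.gens_valid h

theorem hperf : commutator G = ⊤ := wd.perfect hmem hval hinv hgen

/-- The points. -/
noncomputable def ω (i : ℕ) : GolayPt := idxPt (pl i)

theorem tab : Tab g ω 2 24 t par lt :=
  tab_of_points hmem hval (by norm_num) hlt hflp hpar hm hinj hev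

theorem pl0 : pl 0 = 23 := by decide +kernel

theorem mem_stab (x : G) : x ∈ MulAction.stabilizer G (ω 0) ↔ (x : P) (idxPt 23) = idxPt 23 := by
  rw [MulAction.mem_stabilizer_iff, Subgroup.smul_def]
  unfold ω
  rw [pl0]
  rfl

/-- The stabilizer is `M23`. -/
noncomputable def stabEquiv : MulAction.stabilizer G (ω 0) ≃* ↥Spor.M23 where
  toFun x := ⟨((x : G) : P), (Cfsg.Agent.S2063.mem_M23_iff _).2 ⟨(x : G).2, (mem_stab _).1 x.2⟩⟩
  invFun y := ⟨⟨(y : P), ((Cfsg.Agent.S2063.mem_M23_iff _).1 y.2).1⟩,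
    (mem_stab _).2 ((Cfsg.Agent.S2063.mem_M23_iff _).1 y.2).2⟩
  left_inv x := rfl
  right_inv y := rfl
  map_mul' x y := rfl

theorem card_stab : Nat.card (MulAction.stabilizer G (ω 0)) = 10200960 := by
  rw [Nat.card_congr stabEquiv.toEquiv]
  exact SchurM23.card_G

theorem card_G : Nat.card G = 244823040 := Cfsg.Agent.Lib.Sporadic.M24Basic.card_M24

theorem index_stab : (MulAction.stabilizer G (ω 0)).index = 24 := by
  have h := (MulAction.stabilizer G (ω 0)).index_mul_card
  rw [card_stab, card_G] at h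
  exact Nat.eq_of_mul_eq_mul_right (by norm_num : 0 < 10200960) (h.trans (by norm_num))

/-- The multiplier of `M24` is trivial. -/
theorem trivMult : TrivMult G := by
  intro Γ _ _ σ hstem
  have hH : commutator Γ = ⊤ := commutator_top_of_stem hstem hperf
  have hLp : commutator (MulAction.stabilizer G (ω 0)) = ⊤ :=
    commutator_top_of_equiv stabEquiv SchurM23.hperf
  have hLT : TrivMult (MulAction.stabilizer G (ω 0)) :=
    TrivMult.of_equiv stabEquiv SchurM23.trivMult
  obtain ⟨s, hs⟩ := exists_section_of_perfect σ hstem.1 hstem.2.1 (MulAction.stabilizer G (ω 0)) hLp hLT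
  obtain ⟨z, rr, c⟩ := exists_cocy_perm hstem wd hmem hval hinv tab hgen s hs
  let _ : CommGroup σ.ker :=
    { (inferInstance : Group σ.ker) with
      mul_comm := fun p q => Subtype.ext (Subgroup.mem_center_iff.mp (hstem.2.1 p.2) (q : Γ)).symm }
  have hm : ∀ a : σ.ker, a ^ 24 = 1 := by
    intro a
    have h4 := pow_index_of_retr σ hstem.2.1 (by rw [hH]; exact le_top)
      (MulAction.stabilizer G (ω 0)) s hs a
    rwa [Subgroup.index_comap_of_surjective _ hstem.1, index_stab] at h4
  have h := trivial_of_packed (B := σ.ker) c (by norm_num) hlt wd.hlet' (fun i hi h0 => by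
      obtain ⟨h1, h2, h3⟩ := hpar i hi h0
      exact ⟨by omega, h2, h3⟩) hm (by norm_num) hS hK0 (by norm_num) (by norm_num) hL0 hR hchk hcover
  rw [injective_iff_map_eq_one]
  intro a ha
  exact congrArg Subtype.val (h ⟨a, ha⟩)

end Cfsg.Agent.Lib.Compute.SchurM24
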