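/-
The simplicity criterion of a certificate, for a group without a subgroup of index two: a block of half the
degree cannot occur.
-/
import Cfsg.Agent.Lib.Compute.TCChain

set_option autoImplicit false
set_option maxRecDepth 100000

namespace Cfsg.Agent.Lib.Compute.SimpleCrit2

open Cfsg.Agent.Lib.Compute.ToddCoxeterCore Cfsg.Agent.Lib.Compute.ToddCoxeterPresented
  Cfsg.Agent.Lib.Compute.TCFast Cfsg.Agent.Lib.Compute.TCChain

universe u

section Simple

variable {G : Type u} [Group G] [Finite G]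

/-- A normal subgroup either lies in a subgroup or has order divisible by its index, when no proper
sum of suborbit lengths divides the index. -/
theorem primitive_crit2 (H : Subgroup G) {N k : ℕ} (hidx : H.index = N)
    (q : ℕ → G ⧸ H) (sz : ℕ → ℕ)
    (hq : ∀ d, d < k → (MulAction.orbit H (q d)).ncard = sz d)
    (hdist : ∀ d d', d < k → d' < k → d ≠ d' → MulAction.orbit H (q d) ≠ MulAction.orbit H (q d'))
    (hsum : ∑ d ∈ Finset.range k, sz d = N)
    (hk : 0 < k) (h0 : sz 0 = 1) (hpos : ∀ d, 0 < d → d < k → 1 < sz d)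
    (hsub : ∀ D ∈ (Finset.range k).powerset, 0 ∈ D → (∑ d ∈ D, sz d) ∣ N →
      D = {0} ∨ D = Finset.range k ∨ 2 * (∑ d ∈ D, sz d) = N)
    (hno2 : ∀ L : Subgroup G, L.index ≠ 2)
    (M : Subgroup G) [hM : M.Normal] : M ≤ H ∨ N ∣ Nat.card M := by
  classical
  haveI : Fintype (G ⧸ H) := Fintype.ofFinite _
  let x0 : G ⧸ H := ((1 : G) : G ⧸ H)
  have hx0 : ∀ h ∈ H, (h : G) • x0 = x0 := by
    intro h hh
    exact (smul_one_iff H h).2 hh
  let O : ℕ → Set (G ⧸ H) := fun d => MulAction.orbit H (q d)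
  let F : ℕ → Finset (G ⧸ H) := fun d => (O d).toFinset
  have hFcard : ∀ d, d < k → (F d).card = sz d := by
    intro d hd
    rw [← hq d hd, Set.ncard_eq_toFinset_card']
  have hdisj : ∀ d d', d < k → d' < k → d ≠ d' → Disjoint (F d) (F d') := by
    intro d d' hd hd' hne
    rw [Finset.disjoint_left]
    intro y hy hy'
    simp only [F, Set.mem_toFinset, O] at hy hy'
    exact hdist d d' hd hd' hne
      ((MulAction.orbit_eq_iff.2 hy).symm.trans (MulAction.orbit_eq_iff.2 hy'))
  -- the orbits cover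
  have hcover : ∀ y : G ⧸ H, ∃ d, d < k ∧ y ∈ O d := by
    have h1 : ((Finset.range k).biUnion F).card = N := by
      rw [Finset.card_biUnion (fun d hd d' hd' hne => hdisj d d' (Finset.mem_range.1 hd)
        (Finset.mem_range.1 hd') hne), ← hsum]
      exact Finset.sum_congr rfl (fun d hd => hFcard d (Finset.mem_range.1 hd))
    have h2 : (Finset.range k).biUnion F = Finset.univ := by
      apply Finset.eq_univ_of_card
      rw [h1, ← hidx, Subgroup.index, Nat.card_eq_fintype_card]
    intro y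
    have : y ∈ (Finset.range k).biUnion F := by rw [h2]; exact Finset.mem_univ _
    rw [Finset.mem_biUnion] at this
    obtain ⟨d, hd, hy⟩ := this
    exact ⟨d, Finset.mem_range.1 hd, by simpa [F] using hy⟩
  -- the orbit of the base point
  have hOx0 : MulAction.orbit H x0 = {x0} := by
    ext y
    simp only [Set.mem_singleton_iff]
    constructor
    · rintro ⟨⟨h, hh⟩, rfl⟩
      exact hx0 h hh
    · rintro rfl
      exact MulAction.mem_orbit_self _
  obtain ⟨d0, hd0, hxd0⟩ := hcover x0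
  have hOd0 : O d0 = {x0} := by
    rw [← hOx0]
    exact (MulAction.orbit_eq_iff.2 hxd0).symm
  have hd00 : d0 = 0 := by
    by_contra hne
    have h1 := hpos d0 (Nat.pos_of_ne_zero hne) hd0
    have h2 := hq d0 hd0
    have h3 : (MulAction.orbit H (q d0)) = {x0} := hOd0
    rw [h3, Set.ncard_singleton] at h2
    omega
  subst hd00
  have hq0 : q 0 = x0 := by
    have : q 0 ∈ O 0 := MulAction.mem_orbit_self _
    rw [hOd0] at this
    exact this
  -- the block
  let B : Set (G ⧸ H) := MulAction.orbit M x0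
  have hBinv : ∀ h ∈ H, ∀ y ∈ B, (h : G) • y ∈ B := by
    rintro h hh _ ⟨⟨m, hm⟩, rfl⟩
    refine ⟨⟨h * m * h⁻¹, hM.conj_mem m hm h⟩, ?_⟩
    show (h * m * h⁻¹ : G) • x0 = (h : G) • ((m : G) • x0)
    have : (h * m * h⁻¹ : G) • x0 = (h * m : G) • ((h⁻¹ : G) • x0) := by rw [← mul_smul]
    rw [this, hx0 _ (inv_mem hh), ← mul_smul]
  let D : Finset ℕ := (Finset.range k).filter (fun d => q d ∈ B)
  have h0D : 0 ∈ D := by
    simp only [D, Finset.mem_filter, Finset.mem_range]
    refine ⟨hk, ?_⟩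
    rw [hq0]
    exact MulAction.mem_orbit_self _
  have hsubO : ∀ d, d ∈ D → O d ⊆ B := by
    intro d hd
    simp only [D, Finset.mem_filter] at hd
    rintro _ ⟨⟨h, hh⟩, rfl⟩
    exact hBinv h hh _ hd.2
  have hBU : B.toFinset = D.biUnion F := by
    ext y
    simp only [Set.mem_toFinset, Finset.mem_biUnion]
    constructor
    · intro hy
      obtain ⟨d, hd, hyd⟩ := hcover y
      refine ⟨d, ?_, by simpa [F] using hyd⟩
      simp only [D, Finset.mem_filter, Finset.mem_range]
      refine ⟨hd, ?_⟩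
      have h1 : q d ∈ MulAction.orbit H y := by
        rw [MulAction.orbit_eq_iff.2 hyd]
        exact MulAction.mem_orbit_self _
      obtain ⟨⟨h, hh⟩, h2⟩ := h1
      rw [← h2]
      exact hBinv h hh y hy
    · rintro ⟨d, hd, hy⟩
      exact hsubO d hd (by simpa [F] using hy)
  have hBcard : B.ncard = ∑ d ∈ D, sz d := by
    rw [Set.ncard_eq_toFinset_card', hBU, Finset.card_biUnion]
    · apply Finset.sum_congr rfl
      intro d hd
      simp only [D, Finset.mem_filter, Finset.mem_range] at hd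
      exact hFcard d hd.1
    · intro d hd d' hd' hne
      have hd1 : d ∈ D := hd
      have hd2 : d' ∈ D := hd'
      exact hdisj d d' (Finset.mem_range.1 (Finset.mem_filter.1 hd1).1)
        (Finset.mem_range.1 (Finset.mem_filter.1 hd2).1) hne
  -- the block size divides the index
  have hdvd0 : ∃ L' : Subgroup G, B.ncard * L'.index = N := by
    let L : Subgroup G := M ⊔ H
    have hOL : MulAction.orbit L x0 = B := by
      ext y
      constructor
      · rintro ⟨⟨l, hl⟩, rfl⟩
        have hl' : l ∈ ((M ⊔ H : Subgroup G) : Set G) := hl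
        rw [Subgroup.normal_mul] at hl'
        obtain ⟨m, hm, h, hh, rfl⟩ := Set.mem_mul.1 hl'
        refine ⟨⟨m, hm⟩, ?_⟩
        show (m : G) • x0 = (m * h : G) • x0
        rw [mul_smul, hx0 h hh]
      · rintro ⟨⟨m, hm⟩, rfl⟩
        exact ⟨⟨m, (le_sup_left : M ≤ L) hm⟩, rfl⟩
    have hstab : MulAction.stabilizer L x0 = H.subgroupOf L := by
      ext ⟨l, hl⟩
      simp only [MulAction.mem_stabilizer_iff, Subgroup.mem_subgroupOf]
      exact smul_one_iff H l
    have h1 : B.ncard = H.relIndex L := by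
      rw [← hOL, ← MulAction.index_stabilizer, hstab]
      rfl
    rw [h1, ← hidx]
    exact ⟨L, Subgroup.relIndex_mul_index (le_sup_right : H ≤ L)⟩
  have hdvd : B.ncard ∣ N := by
    obtain ⟨L', hL'⟩ := hdvd0
    exact ⟨_, hL'.symm⟩
  have hD := hsub D (Finset.mem_powerset.2 (Finset.filter_subset _ _)) h0D (hBcard ▸ hdvd)
  rcases hD with hD | hD | hD
  · left
    intro m hm
    have hmB : (m : G) • x0 ∈ B := ⟨⟨m, hm⟩, rfl⟩
    have h1 : (m : G) • x0 ∈ B.toFinset := Set.mem_toFinset.2 hmB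
    rw [hBU, hD, Finset.singleton_biUnion] at h1
    have h2 : (m : G) • x0 ∈ O 0 := by simpa [F] using h1
    rw [hOd0] at h2
    exact (smul_one_iff H m).1 h2
  · right
    have h1 : B.ncard = N := by
      rw [hBcard, hD, hsum]
    rw [← h1]
    show (MulAction.orbit M x0).ncard ∣ _
    rw [← MulAction.index_stabilizer]
    exact Subgroup.index_dvd_card _
  · exfalso
    obtain ⟨L', hL'⟩ := hdvd0
    rw [hBcard] at hL'
    have hN0 : N ≠ 0 := by
      rw [← hidx]
      exact Subgroup.index_ne_zero_of_finite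
    have hs0 : 0 < ∑ d ∈ D, sz d := by
      rcases Nat.eq_zero_or_pos (∑ d ∈ D, sz d) with h | h
      · rw [h] at hD
        omega
      · exact h
    apply hno2 L'
    have h9 : (∑ d ∈ D, sz d) * L'.index = (∑ d ∈ D, sz d) * 2 := by
      rw [hL', ← hD, mul_comm]
    exact Nat.eq_of_mul_eq_mul_left hs0 h9

/-- A simplicity criterion. -/
theorem simple_crit2 (H : Subgroup G) {N k : ℕ} (hidx : H.index = N)
    (hcore : ∀ g : G, (∀ x : G ⧸ H, g • x = x) → g = 1)
    (q : ℕ → G ⧸ H) (sz : ℕ → ℕ)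
    (hq : ∀ d, d < k → (MulAction.orbit H (q d)).ncard = sz d)
    (hdist : ∀ d d', d < k → d' < k → d ≠ d' → MulAction.orbit H (q d) ≠ MulAction.orbit H (q d'))
    (hsum : ∑ d ∈ Finset.range k, sz d = N)
    (hk : 0 < k) (h0 : sz 0 = 1) (hpos : ∀ d, 0 < d → d < k → 1 < sz d)
    (hsub : ∀ D ∈ (Finset.range k).powerset, 0 ∈ D → (∑ d ∈ D, sz d) ∣ N →
      D = {0} ∨ D = Finset.range k ∨ 2 * (∑ d ∈ D, sz d) = N)
    (hno2 : ∀ L : Subgroup G, L.index ≠ 2)
    {p a b : ℕ} (hp : p.Prime) (hpN : p ^ a ∣ N) (hpG : ¬ p ^ (a + 1) ∣ Nat.card G) (r : G)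
    (hr : r ^ (p ^ b) = 1) (hne : r ≠ 1)
    (hgen : ∀ M : Subgroup G, M.Normal → r ∈ M → M = ⊤) : IsSimpleGroup G := by
  haveI : Nontrivial G := ⟨⟨r, 1, hne⟩⟩
  refine ⟨fun M hM => ?_⟩
  rcases primitive_crit2 H hidx q sz hq hdist hsum hk h0 hpos hsub hno2 M with h | h
  · left
    rw [eq_bot_iff]
    intro m hm
    rw [Subgroup.mem_bot]
    apply hcore
    intro x
    induction x using QuotientGroup.induction_on with
    | H g =>
      rw [MulAction.Quotient.smul_coe, smul_eq_mul, QuotientGroup.eq]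
      have h1 : g⁻¹ * m⁻¹ * g ∈ M := by
        have := hM.conj_mem _ (inv_mem hm) g⁻¹
        simpa using this
      have h2 := h h1
      simpa [mul_assoc] using h2
  · right
    apply hgen M hM
    -- the image of r in the quotient is trivial
    have h1 : p ^ a ∣ Nat.card M := hpN.trans h
    have h2 := Subgroup.card_mul_index M
    have h3 : ¬ p ∣ M.index := by
      intro h4
      apply hpG
      rw [← h2, pow_succ]
      exact Nat.mul_dvd_mul h1 h4
    let rb : G ⧸ M := (r : G ⧸ M)
    have h4 : rb ^ (p ^ b) = 1 := by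
      show ((r ^ (p ^ b) : G) : G ⧸ M) = 1
      rw [hr]; rfl
    have h5 : orderOf rb ∣ p ^ b := orderOf_dvd_of_pow_eq_one h4
    have h6 : orderOf rb ∣ M.index := by
      have := orderOf_dvd_natCard rb
      rwa [← Subgroup.index] at this
    obtain ⟨c, -, hc⟩ := (Nat.dvd_prime_pow hp).1 h5
    have h7 : orderOf rb = 1 := by
      rcases Nat.eq_zero_or_pos c with h8 | h8
      · rw [hc, h8, pow_zero]
      · exfalso
        apply h3
        rw [hc] at h6
        exact (dvd_pow_self p (by omega)).trans h6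
    have h8 : rb = 1 := orderOf_eq_one_iff.1 h7
    exact (QuotientGroup.eq_one_iff r).1 h8


end Simple

section Cert

variable {α : Type u} [DecidableEq α] {D : Data α} {c : Cfg} {R : Set (FreeGroup α)}
  (hR : ∀ r, r ∈ R ↔ r ∈ D.rs) (hs : Small D c) (hb : Big D c) (hgens : ∀ a, (a, true) ∈ D.lets)

/-- The simplicity of a presented group from a certificate, checked on base points. -/
theorem simple_of_base2 [Finite (PresentedGroup R)] (hinj : Function.Injective (phiG hR hs hb hgens))
    (next0 : List PE) (ls : List Lvl) (hfix0 : fixAll (ev0 c) 0 next0 = true)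
    (hchain : chainChk c.N ls (evN (ev0 c) next0) = true)
    (hle : Nat.card (PresentedGroup R) ≤ c.N * (ls.map (·.n)).prod)
    {k : ℕ} (q : ℕ → PresentedGroup R ⧸ HOf R D.Hs) (sz : ℕ → ℕ)
    (hq : ∀ d, d < k → (MulAction.orbit (HOf R D.Hs) (q d)).ncard = sz d)
    (hdist : ∀ d d', d < k → d' < k → d ≠ d' →
      MulAction.orbit (HOf R D.Hs) (q d) ≠ MulAction.orbit (HOf R D.Hs) (q d'))
    (hsum : ∑ d ∈ Finset.range k, sz d = c.N)
    (hk : 0 < k) (h0 : sz 0 = 1) (hpos : ∀ d, 0 < d → d < k → 1 < sz d)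
    (hsub : ∀ D' ∈ (Finset.range k).powerset, 0 ∈ D' → (∑ d ∈ D', sz d) ∣ c.N →
      D' = {0} ∨ D' = Finset.range k ∨ 2 * (∑ d ∈ D', sz d) = c.N)
    (hno2 : ∀ L : Subgroup (PresentedGroup R), L.index ≠ 2)
    {p a b : ℕ} (hp : p.Prime) (hpN : p ^ a ∣ c.N) (hpG : ¬ p ^ (a + 1) ∣ Nat.card (PresentedGroup R))
    (r : PE) (hr : eqOn (ev0 c) (r.pw (p ^ b)) .one (0 :: ls.map (·.b)) = true)
    (x0 : ℕ) (hx0 : x0 < c.N) (hne : PE.ev (ev0 c) r true x0 ≠ x0)
    (ds : List Dv)
    (hds : ∀ x, x < c.L → eqOn (ev0 c) ((ds.getD x .base).toPE r) (.lt x) (0 :: ls.map (·.b)) = true) :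
    IsSimpleGroup (PresentedGroup R) := by
  refine simple_crit2 (HOf R D.Hs) (b := b) (index_eq hR hs hb hgens)
    (core_trivial hR hs hb hgens hinj) q sz hq hdist hsum hk h0 hpos hsub hno2 hp hpN hpG (r.el (elG D R)) ?_ ?_ ?_
  · have h1 := el_eq_of_base hR hs hb hgens hinj next0 ls hfix0 hchain hle _ _ hr
    rw [PE.el_pw] at h1
    exact h1
  · intro h1
    apply hne
    have hev := ev0_ok hR hs hb hgens
    have h2 := (PE.ev_spec hev r ⟨x0, hx0⟩).1
    rw [← PE.el_map, h1, map_one] at h2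
    exact h2
  · intro M hM hrM
    rw [eq_top_iff]
    intro g _
    apply PresentedGroup.generated_by
    intro a'
    have hx : letterOf D.lets (a', true) < c.L := by
      rw [hs.hL]; exact letterOf_lt _ hgens _
    have h1 := el_eq_of_base hR hs hb hgens hinj next0 ls hfix0 hchain hle _ _ (hds _ hx)
    have h2 := Dv.el_mem (elG D R) r M hrM (ds.getD (letterOf D.lets (a', true)) .base)
    rw [h1] at h2
    have h3 : PE.el (elG D R) (.lt (letterOf D.lets (a', true))) = PresentedGroup.of a' := by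
      show elG D R _ = _
      rw [elG_letterOf hR hs hgens]
      simp [eltF, PresentedGroup.of]
    rwa [h3] at h2


end Cert

end Cfsg.Agent.Lib.Compute.SimpleCrit2
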