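import Mathlib

/-!
# Simplicity from isolated primes

A finite group is simple when it has a set `P` of primes, each dividing the order exactly once, such that for
`p ∈ P` the elements with `g ^ p = 1` generate the group and the only element order divisible by `p` is `p`, and
`|G| ≤ (∏ P) ^ 2`.
-/

set_option autoImplicit false

namespace Cfsg.Agent.Lib.Compute.SimpleSpec

open MulAction

/-- A prime acting without nontrivial fixed points on a normal subgroup of coprime order. -/
theorem card_modEq_one_of_isolated {G : Type*} [Group G] [Finite G] (N : Subgroup G) [N.Normal]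
    (p : ℕ) [Fact p.Prime] (hpN : ¬ p ∣ Nat.card N) (x : G) (hx : orderOf x = p)
    (hiso : ∀ g : G, p ∣ orderOf g → orderOf g = p) : Nat.card N ≡ 1 [MOD p] := by
  classical
  have hpg : IsPGroup p (Subgroup.zpowers x) := by
    refine IsPGroup.of_card (n := 1) ?_
    rw [Nat.card_zpowers, hx, pow_one]
  letI act : MulAction (Subgroup.zpowers x) N :=
    MulAction.compHom N ((MulAut.conjNormal : G →* MulAut N).comp (Subgroup.zpowers x).subtype)
  have hfix : ∀ y : N, y ∈ fixedPoints (Subgroup.zpowers x) N → y = 1 := by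
    intro y hy
    have h1 := hy ⟨x, Subgroup.mem_zpowers x⟩
    have h2 : ((MulAut.conjNormal x) y : N) = y := h1
    have h3 : x * (y : G) * x⁻¹ = y := by
      have := congrArg (Subtype.val) h2
      simpa [MulAut.conjNormal_apply] using this
    have hcomm : Commute (y : G) x := by
      show (y : G) * x = x * y
      rw [mul_inv_eq_iff_eq_mul] at h3
      exact h3.symm
    have hpy : Nat.Coprime (orderOf (y : G)) (orderOf x) := by
      rw [hx, Nat.coprime_comm, Nat.Prime.coprime_iff_not_dvd Fact.out]
      intro hd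
      apply hpN
      exact hd.trans (by rw [Subgroup.orderOf_coe]; exact orderOf_dvd_natCard y)
    have hord := hcomm.orderOf_mul_eq_mul_orderOf_of_coprime hpy
    rw [hx] at hord
    have h4 := hiso _ (by rw [hord]; exact dvd_mul_left _ _)
    rw [hord] at h4
    have hp0 : 0 < p := (Fact.out : p.Prime).pos
    have h5 : orderOf (y : G) = 1 := by
      have : orderOf (y : G) * p = 1 * p := by rw [h4, one_mul]
      exact Nat.eq_of_mul_eq_mul_right hp0 this
    rw [orderOf_eq_one_iff] at h5
    exact Subtype.ext h5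
  have hone : (1 : N) ∈ fixedPoints (Subgroup.zpowers x) N := by
    intro g
    show ((MulAut.conjNormal (g : G)) (1 : N) : N) = 1
    exact map_one _
  have hfp : Nat.card (fixedPoints (Subgroup.zpowers x) N) = 1 := by
    rw [Nat.card_eq_one_iff_unique]
    exact ⟨⟨fun a b => Subtype.ext ((hfix a a.2).trans (hfix b b.2).symm)⟩, ⟨⟨1, hone⟩⟩⟩
  have := hpg.card_modEq_card_fixedPoints N
  rwa [hfp] at this

/-- The simplicity criterion. -/
theorem isSimpleGroup_of_isolated {G : Type*} [Group G] [Finite G] [Nontrivial G] (P : Finset ℕ)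
    (hprime : ∀ p ∈ P, p.Prime) (hp2 : ∀ p ∈ P, ¬ p ^ 2 ∣ Nat.card G) (hdvd : ∀ p ∈ P, p ∣ Nat.card G)
    (hgen : ∀ p ∈ P, Subgroup.closure {g : G | g ^ p = 1} = ⊤)
    (hiso : ∀ p ∈ P, ∀ g : G, p ∣ orderOf g → orderOf g = p)
    (hsmall : Nat.card G ≤ (∏ p ∈ P, p) ^ 2) : IsSimpleGroup G := by
  refine ⟨fun N hN => ?_⟩
  by_cases hbot : N = ⊥
  · exact Or.inl hbot
  right
  by_contra htop
  have hcardN : 0 < Nat.card N := Nat.card_pos
  have hpN : ∀ p ∈ P, ¬ p ∣ Nat.card N := by
    intro p hp hd
    apply htop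
    have hpp := hprime p hp
    have hco : Nat.Coprime p N.index := by
      rw [Nat.Prime.coprime_iff_not_dvd hpp]
      intro hi
      apply hp2 p hp
      rw [← Subgroup.card_mul_index N, pow_two]
      exact mul_dvd_mul hd hi
    have hle : Subgroup.closure {g : G | g ^ p = 1} ≤ N := by
      refine (Subgroup.closure_le _).mpr ?_
      intro g hg
      have hg' : g ^ p = 1 := hg
      have hcop : Nat.Coprime N.index (orderOf g) :=
        (hco.symm).coprime_dvd_right (orderOf_dvd_of_pow_eq_one hg')
      obtain ⟨u, hu⟩ := exists_pow_eq_self_of_coprime hcop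
      rw [← hu]
      exact N.pow_mem (Subgroup.pow_index_mem N g) u
    rw [hgen p hp] at hle
    exact top_le_iff.mp hle
  have hmod : ∀ p ∈ P, p ∣ Nat.card N - 1 := by
    intro p hp
    haveI : Fact p.Prime := ⟨hprime p hp⟩
    obtain ⟨x, hx⟩ := exists_prime_orderOf_dvd_card' (G := G) p (hdvd p hp)
    have := card_modEq_one_of_isolated N p (hpN p hp) x hx (hiso p hp)
    exact (Nat.modEq_iff_dvd' hcardN).mp this.symm
  have hprod1 : (∏ p ∈ P, p) ∣ Nat.card N - 1 :=
    Finset.prod_primes_dvd _ (fun p hp => (hprime p hp).prime) hmod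
  have hcopN : Nat.Coprime (∏ p ∈ P, p) (Nat.card N) := by
    apply Nat.Coprime.prod_left
    intro p hp
    exact (Nat.Prime.coprime_iff_not_dvd (hprime p hp)).mpr (hpN p hp)
  have hprodG : (∏ p ∈ P, p) ∣ Nat.card G :=
    Finset.prod_primes_dvd _ (fun p hp => (hprime p hp).prime) hdvd
  have hmul : (∏ p ∈ P, p) * Nat.card N ∣ Nat.card G :=
    hcopN.mul_dvd_of_dvd_of_dvd hprodG (Subgroup.card_subgroup_dvd_card N)
  have hGpos : 0 < Nat.card G := Nat.card_pos
  have hle := Nat.le_of_dvd hGpos hmul
  set Q := ∏ p ∈ P, p with hQ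
  have hQpos : 0 < Q := by
    rw [hQ]
    exact Finset.prod_pos fun p hp => (hprime p hp).pos
  have hNle : Nat.card N ≤ Q := by
    have h1 : Q * Nat.card N ≤ Q ^ 2 := hle.trans hsmall
    rw [pow_two] at h1
    exact Nat.le_of_mul_le_mul_left h1 hQpos
  have hN1 : 1 < Nat.card N := by
    rw [Finite.one_lt_card_iff_nontrivial]
    exact (Subgroup.nontrivial_iff_ne_bot N).mpr hbot
  have hdle := Nat.le_of_dvd (by omega) hprod1
  omega

end Cfsg.Agent.Lib.Compute.SimpleSpec
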