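import Mathlib

/-!
# Isomorphisms of finite subgroups from parallel multiplication tables

Two families `l₁ : Fin n → G₁`, `l₂ : Fin n → G₂` which are right-multiplied by chosen generators in the same
way, with a spanning tree showing that every index is reached from the identity index, have ranges which are
isomorphic subgroups.  Combined with Sylow's theorem this compares Sylow subgroups of two finite groups by a
finite computation.
-/

set_option autoImplicit false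

namespace Cfsg.Agent.Lib.Compute.TableIso

theorem inv_mem_of_finite {G : Type*} [Group G] [Finite G] (S : Submonoid G) (x : G) (hx : x ∈ S) : x⁻¹ ∈ S := by
  have h1 : x * x ^ (orderOf x - 1) = 1 := by
    rw [← pow_succ', Nat.sub_add_cancel (orderOf_pos x), pow_orderOf_eq_one]
  rw [inv_eq_of_mul_eq_one_right h1]
  exact S.pow_mem hx _

theorem exists_subgroups_equiv {G₁ G₂ : Type*} [Group G₁] [Group G₂] [Finite G₁] [Finite G₂] {n k : ℕ}
    (l₁ : Fin n → G₁) (l₂ : Fin n → G₂) (g : Fin k → Fin n) (r : Fin k → Fin n → Fin n) (e : Fin n)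
    (par : Fin n → Fin n) (gen : Fin n → Fin k) (dep : Fin n → ℕ)
    (he₁ : l₁ e = 1) (he₂ : l₂ e = 1)
    (h₁ : ∀ c i, l₁ i * l₁ (g c) = l₁ (r c i)) (h₂ : ∀ c i, l₂ i * l₂ (g c) = l₂ (r c i))
    (htree : ∀ j, j ≠ e → dep (par j) < dep j ∧ r (gen j) (par j) = j)
    (inj₁ : Function.Injective l₁) (inj₂ : Function.Injective l₂) :
    ∃ (H₁ : Subgroup G₁) (H₂ : Subgroup G₂), Nat.card H₁ = n ∧ Nat.card H₂ = n ∧ Nonempty (H₁ ≃* H₂) := by
  classical
  have key : ∀ (d : ℕ) (j : Fin n), dep j = d → ∀ i, ∃ m, l₁ i * l₁ j = l₁ m ∧ l₂ i * l₂ j = l₂ m := by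
    intro d
    induction d using Nat.strong_induction_on with
    | _ d ih =>
      intro j hj i
      by_cases hje : j = e
      · refine ⟨i, ?_, ?_⟩
        · rw [hje, he₁, mul_one]
        · rw [hje, he₂, mul_one]
      · obtain ⟨hlt, hr⟩ := htree j hje
        obtain ⟨m, hm₁, hm₂⟩ := ih (dep (par j)) (hj ▸ hlt) (par j) rfl i
        refine ⟨r (gen j) m, ?_, ?_⟩
        · calc l₁ i * l₁ j = l₁ i * l₁ (r (gen j) (par j)) := by rw [hr]
            _ = l₁ i * (l₁ (par j) * l₁ (g (gen j))) := by rw [h₁]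
            _ = (l₁ i * l₁ (par j)) * l₁ (g (gen j)) := (mul_assoc _ _ _).symm
            _ = l₁ m * l₁ (g (gen j)) := by rw [hm₁]
            _ = l₁ (r (gen j) m) := h₁ _ _
        · calc l₂ i * l₂ j = l₂ i * l₂ (r (gen j) (par j)) := by rw [hr]
            _ = l₂ i * (l₂ (par j) * l₂ (g (gen j))) := by rw [h₂]
            _ = (l₂ i * l₂ (par j)) * l₂ (g (gen j)) := (mul_assoc _ _ _).symm
            _ = l₂ m * l₂ (g (gen j)) := by rw [hm₂]
            _ = l₂ (r (gen j) m) := h₂ _ _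
  have key' : ∀ i j, ∃ m, l₁ i * l₁ j = l₁ m ∧ l₂ i * l₂ j = l₂ m := fun i j => key _ j rfl i
  let S₁ : Submonoid G₁ :=
    { carrier := Set.range l₁
      one_mem' := ⟨e, he₁⟩
      mul_mem' := by
        rintro _ _ ⟨i, rfl⟩ ⟨j, rfl⟩
        obtain ⟨m, hm, -⟩ := key' i j
        exact ⟨m, hm.symm⟩ }
  let S₂ : Submonoid G₂ :=
    { carrier := Set.range l₂
      one_mem' := ⟨e, he₂⟩
      mul_mem' := by
        rintro _ _ ⟨i, rfl⟩ ⟨j, rfl⟩
        obtain ⟨m, -, hm⟩ := key' i j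
        exact ⟨m, hm.symm⟩ }
  let H₁ : Subgroup G₁ := { S₁ with inv_mem' := fun {x} hx => inv_mem_of_finite S₁ x hx }
  let H₂ : Subgroup G₂ := { S₂ with inv_mem' := fun {x} hx => inv_mem_of_finite S₂ x hx }
  let f₁ : Fin n → H₁ := fun i => ⟨l₁ i, ⟨i, rfl⟩⟩
  let f₂ : Fin n → H₂ := fun i => ⟨l₂ i, ⟨i, rfl⟩⟩
  have b₁ : Function.Bijective f₁ := by
    refine ⟨fun a b h => inj₁ (congrArg Subtype.val h), ?_⟩
    rintro ⟨_, ⟨i, rfl⟩⟩
    exact ⟨i, rfl⟩
  have b₂ : Function.Bijective f₂ := by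
    refine ⟨fun a b h => inj₂ (congrArg Subtype.val h), ?_⟩
    rintro ⟨_, ⟨i, rfl⟩⟩
    exact ⟨i, rfl⟩
  let e₁ : Fin n ≃ H₁ := Equiv.ofBijective f₁ b₁
  let e₂ : Fin n ≃ H₂ := Equiv.ofBijective f₂ b₂
  refine ⟨H₁, H₂, ?_, ?_, ⟨?_⟩⟩
  · rw [← Nat.card_congr e₁, Nat.card_fin]
  · rw [← Nat.card_congr e₂, Nat.card_fin]
  · refine { toEquiv := e₁.symm.trans e₂, map_mul' := ?_ }
    intro x y
    obtain ⟨i, rfl⟩ := e₁.surjective x
    obtain ⟨j, rfl⟩ := e₁.surjective y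
    obtain ⟨m, hm₁, hm₂⟩ := key' i j
    have hxy : e₁ i * e₁ j = e₁ m := Subtype.ext hm₁
    have hs : ∀ a, (e₁.symm.trans e₂).toFun (e₁ a) = e₂ a := fun a => by
      change e₂ (e₁.symm (e₁ a)) = e₂ a
      rw [Equiv.symm_apply_apply]
    rw [hxy, hs, hs, hs]
    exact Subtype.ext hm₂.symm

theorem factorization_two_of {n a m : ℕ} (h : n = 2 ^ a * m) (hm : ¬ 2 ∣ m) : n.factorization 2 = a := by
  have hm0 : m ≠ 0 := by
    rintro rfl
    simp at hm
  subst h
  rw [Nat.factorization_mul (by positivity) hm0, Nat.Prime.factorization_pow Nat.prime_two]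
  simp [Nat.factorization_eq_zero_of_not_dvd hm]

/-- Sylow subgroups of two finite groups are isomorphic once subgroups of the right order are. -/
theorem sylow_nonempty_equiv {p : ℕ} [Fact p.Prime] {G₁ G₂ : Type*} [Group G₁] [Group G₂] [Finite G₁]
    [Finite G₂] (H₁ : Subgroup G₁) (H₂ : Subgroup G₂)
    (c₁ : Nat.card H₁ = p ^ (Nat.card G₁).factorization p) (c₂ : Nat.card H₂ = p ^ (Nat.card G₂).factorization p)
    (φ : H₁ ≃* H₂) (P : Sylow p G₁) (Q : Sylow p G₂) :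
    Nonempty ((P : Subgroup G₁) ≃* (Q : Subgroup G₂)) := by
  have e₁ : (P : Subgroup G₁) ≃* (Sylow.ofCard H₁ c₁ : Subgroup G₁) := P.equiv (Sylow.ofCard H₁ c₁)
  have e₂ : (Q : Subgroup G₂) ≃* (Sylow.ofCard H₂ c₂ : Subgroup G₂) := Q.equiv (Sylow.ofCard H₂ c₂)
  rw [Sylow.coe_ofCard] at e₁ e₂
  exact ⟨(e₁.trans φ).trans e₂.symm⟩

end Cfsg.Agent.Lib.Compute.TableIso
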