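/-
Data for `U₃(4)`: generators of `SU₃(4)` as codes over `GF16`, the conjugates of the first generator,
elements of orders `10` and `15`, and the images of the generators in a `12`-dimensional representation
over `ZMod 5`.
-/
import Mathlib

set_option autoImplicit false
set_option maxRecDepth 100000

namespace Cfsg.Agent.Lib.Compute.U34Data

/-- The first generator. -/
def xc : ℕ := 167839744
/-- The second generator. -/
def yc : ℕ := 15545903640
/-- The inverse of the second generator. -/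
def Yc : ℕ := 15984041354
/-- An element of order `10`. -/
def g10c : ℕ := 15760924869
/-- An element of order `15`. -/
def g15c : ℕ := 66832018167
/-- The conjugates of the first generator. -/
def Tl : List ℕ := [167839744, 15863935330, 2528356226, 12061818259, 9060962128, 13911486066, 12763314835, 13204857632, 8657110274, 10342128195, 16065244706, 4190284675, 8774551810, 3079898786, 4106409443, 1380156066, 2157969409, 2692743169, 12395459216, 16573933856, 12479313456, 4295024848, 4294971408, 1010012066, 12863954243, 12613536848, 12918522371, 12295823168, 4295143570, 1179879330, 14770438145, 10492096915, 14248100338, 12462544704, 13710139682, 2679344290, 13002409475, 909367266, 11552292865, 12563226544, 4295213299, 16082062834, 10710170931, 15126918240, 14098115106, 10781676096, 2996036306, 1060351106, 13928267106, 15762356576, 4123137043, 9111297088, 3388136419, 2629038034, 3321029843, 12847193779, 926148306, 10865587856, 11843686723, 3304199443, 15661671456,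 16439735136, 10848782160, 16473285744, 4295118914, 4295114834, 3504340993, 12346178704, 11961121331, 10609531571, 16807766816, 15093396416, 1112777346, 15530524354, 1330900178, 12796835891, 1598233618, 13339093360, 16740697328, 9398517761, 11383576496, 1702024419, 11017519105, 4295020768, 3214138594, 14449409634, 14182043378, 4089611171, 690154451, 8977094320, 9263139411, 10999798960, 14399055906, 11534548016, 1685235075, 1969390755, 1280515858, 13305543520, 4295192675, 15227603440, 2036472595, 4295225539, 13424066561, 4295110706, 16707117936, 234949888, 9296697411, 8740997890, 13238465728, 15728835520, 15329157490, 623027331, 1952638419, 13861189826, 15446604386, 8640332546, 10426007091, 3287458691, 16122052609, 15628157936, 9936437249, 1769114531, 16843008, 589435667, 10442788179, 12045012563, 14365518450, 12211930704, 8893182512, 16924213249, 218172928, 12195149616, 14466219458, 12985632515, 9669050369, 13980725698, 3063093010, 15480178930, 11484250000,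 16456545728, 3771727873, 4295135410, 3163795330, 16540421104, 2461258466, 1464051330, 4295172131, 134285824, 1547952098, 9145692467, 13086297859, 9363824051, 10643064915, 723704291, 4295000224, 8960325520, 1935856611, 11316445776, 13221676528, 606242211, 1196676834, 13827623666, 842207762, 16014927986, 15110120736, 10224701875, 9347055251, 15644910960, 15194024816, 14503051265, 1447290834, 2545096210, 2070063491, 16841374144, 12128064176, 10693402179, 11400336960, 10375706771, 4223855059, 14198795634, 15981411010, 1802639635, 1668473811, 4295188595, 10949443376, 16723899744, 11994699955, 13136628739, 8673887234, 12645843283, 4295008384, 14131689570, 3421669795, 269484033, 15547247906]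
/-- How they arise from each other. -/
def parL : List (ℕ × ℕ) := [(0,1), (0,2), (1,0), (2,0), (3,1), (3,2), (4,1), (4,2), (5,0), (6,0), (7,0), (8,0), (9,1), (9,2), (10,2), (12,1), (12,2), (13,0), (14,0), (15,0), (16,0), (17,0), (18,1), (18,2), (19,1), (19,2), (20,1), (20,2), (21,1), (21,2), (22,1), (22,2), (23,0), (24,0), (25,0), (26,0), (27,0), (28,0), (29,0), (30,0), (31,0), (32,0), (33,1), (33,2), (34,1), (35,1), (36,1), (36,2), (38,1), (39,1), (39,2), (42,1), (42,2), (43,0), (44,0), (45,0), (46,0), (48,0), (49,0), (50,0), (52,0), (53,0), (54,1), (54,2), (55,1), (55,2), (56,1), (56,2), (57,1), (57,2), (58,1), (58,2), (59,1), (59,2), (60,1), (60,2), (61,1), (61,2), (62,1), (62,2), (63,0), (65,0), (66,0), (67,0), (68,0), (69,0), (70,0), (71,0), (72,0), (73,0), (74,0), (75,0), (76,0), (77,0), (78,0), (80,0), (81,2), (82,1), (82,2), (83,1), (84,1), (85,2), (87,1), (87,2), (88,1), (88,2), (89,1), (89,2), (90,1), (90,2), (92,1), (92,2), (93,1), (93,2), (95,1),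 (95,2), (97,0), (98,0), (100,0), (103,0), (104,0), (105,0), (109,0), (110,0), (114,0), (116,0), (117,1), (117,2), (118,1), (118,2), (119,1), (119,2), (120,1), (120,2), (121,2), (122,1), (122,2), (124,1), (124,2), (125,1), (125,2), (126,1), (126,2), (127,0), (128,0), (129,0), (130,0), (131,0), (132,0), (133,0), (135,0), (137,0), (139,0), (140,0), (142,0), (143,0), (144,1), (145,2), (147,1), (148,1), (150,1), (150,2), (151,1), (151,2), (152,1), (152,2), (153,1), (153,2), (154,1), (154,2), (157,0), (158,0), (159,0), (160,0), (161,0), (162,0), (163,0), (164,0), (165,0), (166,0), (167,0), (168,0), (169,0), (170,0), (171,2), (172,1), (173,1), (175,1), (176,1), (177,1), (177,2), (178,1), (178,2), (180,2)]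
/-- The relators, as in the certificate `TC.U34`. -/
def rsW : List (List (Fin 2 × Bool)) := [[(1,true), (1,true), (1,true)],
  [(0,true), (1,true), (0,true), (1,false), (0,true), (1,true), (0,true), (1,false), (0,true), (1,true), (0,true), (1,false), (0,true), (1,true), (0,true), (1,false), (0,true), (1,true), (0,true), (1,false)],
  [(0,true), (1,true), (0,true), (1,true), (1,true), (0,true), (1,true), (0,true), (1,false), (0,true), (1,true), (0,true), (1,false), (0,true), (1,true), (0,true), (1,false), (0,true), (1,true), (0,true), (1,false)],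
  [(0,true), (1,true), (0,true), (1,true), (1,true), (0,true), (1,true), (0,true), (1,false), (0,true), (1,true), (0,true), (1,false), (0,true), (1,false), (1,false), (0,true), (1,false), (0,true), (1,true), (0,true), (1,false)],
  [(0,true), (1,true), (0,true), (1,true), (0,true), (1,true), (0,true), (1,true), (0,true), (1,true), (0,true), (1,true), (0,true), (1,true), (0,true), (1,true), (0,true), (1,true), (0,true), (1,true), (0,true), (1,true), (0,true), (1,true), (0,true), (1,true)],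
  [(0,true), (1,true), (0,true), (1,true), (0,true), (1,true), (0,true), (1,true), (0,true), (1,true), (0,true), (1,true), (0,true), (1,true), (0,true), (1,true), (0,true), (1,true), (0,true), (1,true), (0,true), (1,true), (0,true), (1,true), (0,true), (1,false), (1,false)],
  [(0,true), (1,true), (0,true), (1,true), (0,true), (1,true), (0,true), (1,true), (0,true), (1,false), (0,true), (1,true), (0,true), (1,false), (0,true), (1,false), (0,true), (1,true), (0,true), (1,true), (0,true), (1,false), (0,true), (1,true), (0,true), (1,false), (0,true), (1,false), (0,true), (1,false), (0,true), (1,false), (0,true), (1,true), (0,true), (1,false)],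
  [(0,true), (1,true), (0,true), (1,true), (0,true), (1,true), (0,true), (1,true), (0,true), (1,false), (0,true), (1,true), (0,true), (1,false), (0,true), (1,false), (0,true), (1,false), (0,true), (1,false), (0,true), (1,true), (0,true), (1,false), (0,true), (1,true), (0,true), (1,true), (0,true), (1,false), (0,true), (1,false), (0,true), (1,true), (0,true), (1,false)],
  [(0,true), (0,true)]]
/-- The image of the first generator. -/
def mX : List (List ℕ) := [[4, 1, 2, 4, 4, 0, 1, 4, 0, 1, 0, 0],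
  [1, 2, 2, 2, 2, 0, 2, 3, 0, 2, 0, 0],
  [1, 4, 3, 1, 1, 0, 3, 2, 0, 3, 0, 0],
  [3, 3, 4, 1, 2, 0, 0, 0, 0, 0, 0, 0],
  [4, 1, 1, 4, 3, 0, 2, 3, 0, 2, 0, 0],
  [3, 3, 0, 3, 3, 2, 3, 3, 0, 0, 2, 2],
  [3, 1, 2, 1, 1, 1, 3, 3, 0, 3, 4, 4],
  [2, 0, 2, 4, 4, 2, 3, 0, 4, 2, 4, 2],
  [3, 3, 3, 1, 1, 2, 2, 2, 4, 0, 3, 3],
  [3, 4, 4, 3, 3, 1, 0, 2, 4, 4, 0, 3],
  [3, 0, 4, 0, 0, 0, 0, 0, 4, 1, 0, 4],
  [1, 0, 4, 3, 3, 4, 3, 0, 0, 4, 1, 0]]
/-- The image of the second generator. -/
def mY : List (List ℕ) := [[0, 4, 4, 2, 0, 4, 3, 4, 0, 3, 0, 0],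
  [2, 2, 2, 2, 0, 1, 0, 2, 1, 4, 1, 1],
  [0, 1, 1, 0, 0, 1, 2, 0, 4, 4, 1, 0],
  [2, 2, 3, 2, 3, 1, 2, 3, 2, 0, 2, 0],
  [3, 1, 3, 3, 4, 0, 1, 2, 0, 4, 0, 4],
  [2, 0, 3, 4, 3, 2, 1, 0, 0, 3, 4, 1],
  [2, 0, 3, 1, 2, 3, 3, 4, 0, 4, 4, 3],
  [3, 3, 1, 0, 4, 1, 2, 4, 2, 4, 4, 0],
  [4, 2, 4, 3, 3, 0, 3, 0, 2, 4, 1, 2],
  [0, 2, 2, 2, 3, 1, 0, 1, 3, 1, 2, 2],
  [2, 2, 4, 0, 2, 3, 2, 2, 0, 4, 4, 0],
  [0, 4, 0, 1, 1, 0, 0, 0, 3, 4, 2, 0]]
/-- The image of the inverse of the second generator. -/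
def mYi : List (List ℕ) := [[3, 4, 4, 2, 4, 4, 3, 0, 1, 0, 2, 3],
  [2, 0, 1, 3, 0, 0, 4, 2, 0, 4, 0, 3],
  [1, 1, 0, 3, 3, 2, 3, 1, 0, 3, 0, 4],
  [4, 4, 3, 3, 2, 2, 2, 3, 3, 2, 3, 0],
  [3, 2, 1, 4, 1, 3, 2, 2, 2, 3, 3, 3],
  [1, 0, 3, 2, 0, 2, 1, 1, 2, 3, 2, 3],
  [0, 0, 1, 3, 0, 2, 4, 0, 3, 0, 0, 3],
  [2, 0, 1, 4, 0, 4, 4, 2, 1, 1, 3, 3],
  [0, 0, 1, 1, 4, 1, 1, 3, 1, 4, 2, 0],
  [3, 1, 2, 4, 3, 1, 2, 0, 1, 4, 3, 3],
  [4, 0, 3, 1, 4, 4, 2, 4, 4, 3, 3, 2],
  [4, 4, 2, 0, 2, 0, 1, 1, 4, 4, 0, 2]]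
/-- A matrix with `D (X Y) = D + 1`. -/
def mD : List (List ℕ) := [[2, 0, 1, 3, 1, 2, 2, 2, 0, 2, 1, 2],
  [3, 1, 2, 4, 2, 4, 0, 4, 1, 3, 0, 3],
  [2, 3, 0, 2, 0, 3, 4, 2, 1, 1, 0, 4],
  [3, 0, 0, 4, 4, 4, 4, 2, 4, 2, 0, 2],
  [3, 1, 3, 1, 1, 0, 4, 3, 2, 0, 1, 2],
  [3, 3, 2, 2, 3, 2, 1, 3, 1, 0, 4, 2],
  [2, 1, 1, 3, 0, 4, 2, 1, 0, 0, 2, 0],
  [3, 4, 2, 3, 3, 1, 4, 3, 1, 2, 4, 0],
  [0, 4, 1, 3, 2, 2, 2, 1, 0, 4, 3, 4],
  [3, 1, 1, 4, 1, 1, 1, 4, 1, 1, 4, 0],
  [4, 3, 1, 1, 2, 4, 1, 1, 1, 0, 2, 0],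
  [4, 3, 0, 1, 2, 2, 0, 4, 1, 1, 2, 1]]
/-- The matrix `D + 1`. -/
def mD1 : List (List ℕ) := [[3, 0, 1, 3, 1, 2, 2, 2, 0, 2, 1, 2],
  [3, 2, 2, 4, 2, 4, 0, 4, 1, 3, 0, 3],
  [2, 3, 1, 2, 0, 3, 4, 2, 1, 1, 0, 4],
  [3, 0, 0, 0, 4, 4, 4, 2, 4, 2, 0, 2],
  [3, 1, 3, 1, 2, 0, 4, 3, 2, 0, 1, 2],
  [3, 3, 2, 2, 3, 3, 1, 3, 1, 0, 4, 2],
  [2, 1, 1, 3, 0, 4, 3, 1, 0, 0, 2, 0],
  [3, 4, 2, 3, 3, 1, 4, 4, 1, 2, 4, 0],
  [0, 4, 1, 3, 2, 2, 2, 1, 1, 4, 3, 4],
  [3, 1, 1, 4, 1, 1, 1, 4, 1, 2, 4, 0],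
  [4, 3, 1, 1, 2, 4, 1, 1, 1, 0, 3, 0],
  [4, 3, 0, 1, 2, 2, 0, 4, 1, 1, 2, 2]]

end Cfsg.Agent.Lib.Compute.U34Data
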